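import Cfsg.Agent.OddLocal.UniquenessTools
import Cfsg.Agent.S3736
import Cfsg.Agent.S3Fpf.Group
import Cfsg.Agent.PQFpf.Local
import Cfsg.Agent.PQFpf.Weights

/-!
Groups of coprime order acting on an elementary abelian group together with an element of prime order
without fixed points there.
-/

set_option autoImplicit false
set_option linter.style.haveILetI false
set_option linter.unusedSectionVars false
set_option maxHeartbeats 1600000

namespace CfsgLib.OddLocal.FixedLine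

open Subgroup Cfsg CfsgLib.OddLocal
open scoped commutatorElement TensorProduct

universe u

variable {X : Type u} [Group X] [Finite X]

theorem le_centralizer_zpowers {K : Subgroup X} {x : X} (h : K ≤ centralizer ({x} : Set X)) :
    K ≤ centralizer (zpowers x : Set X) := fun k hk => mem_centralizer_iff.2 fun a ha => by
  obtain ⟨i, rfl⟩ := mem_zpowers_iff.1 ha
  exact (Commute.zpow_left (mem_centralizer_singleton_iff.1 (h hk)).symm i).eq

theorem centralizer_zpowers_le (x : X) :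
    centralizer (zpowers x : Set X) ≤ centralizer ({x} : Set X) :=
  centralizer_le (Set.singleton_subset_iff.2 (mem_zpowers x))

/-- The action of a group with a nontrivially moved element on a group of coprime order: the group is
generated by fixed points. -/
theorem le_of_frobenius {t l : ℕ} [Fact t.Prime] [Fact l.Prime] (hlt : l ≠ t)
    {N U Y : Subgroup X} (hN : IsPGroup t N) {h : X} (hh : orderOf h = l)
    (hUN : U ≤ normalizer (N : Set X)) (hUc : (Nat.card U).Coprime (Nat.card N))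
    (hhU : h ∈ normalizer (U : Set X)) (hhN : h ∈ normalizer (N : Set X))
    (hnc : U ⊓ centralizer ({h} : Set X) = ⊥)
    (hYU : N ⊓ centralizer (U : Set X) ≤ Y)
    (hYh : ∀ v ∈ U, N ⊓ centralizer ({v * h * v⁻¹} : Set X) ≤ Y) : N ≤ Y := by
  classical
  have hlp : l.Prime := Fact.out
  set Γ := normalizer (N : Set X)
  set Φ := frattini N with hΦ
  haveI : Φ.Characteristic := frattini_characteristic
  haveI : Group.IsNilpotent N := hN.isNilpotent
  obtain ⟨hcm, -⟩ := CfsgLib.PGroupBasic.commutator_pow_le_frattini hN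
  letI : CommGroup (N ⧸ Φ) := { (inferInstance : Group (N ⧸ Φ)) with
    mul_comm := (Normal.quotient_commutative_iff_commutator_le.2 hcm).is_comm.comm }
  let f : N →* N ⧸ Φ := QuotientGroup.mk' Φ
  let τ : Γ → (N ⧸ Φ →* N ⧸ Φ) := fun g =>
    QuotientGroup.map Φ Φ (normalizerMonoidHom N g).toMonoidHom
      (characteristic_iff_le_comap.1 inferInstance _)
  have hτf : ∀ (g : Γ) (y : N), τ g (f y) = f (normalizerMonoidHom N g y) := fun g y => rfl
  have hτmul : ∀ (a b : Γ) (x : N ⧸ Φ), τ (a * b) x = τ a (τ b x) := by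
    intro a b x
    obtain ⟨y, rfl⟩ := QuotientGroup.mk'_surjective Φ x
    show τ (a * b) (f y) = τ a (τ b (f y))
    rw [hτf, hτf, hτf, map_mul]
    rfl
  set S := (Y.subgroupOf N).map f with hS
  set ΦG := Φ.map N.subtype
  have hlift : ∀ A : Subgroup X, A ≤ Γ → (Nat.card A).Coprime (Nat.card N) → N ⊓ centralizer (A : Set X) ≤ Y →
      ∀ x, (∀ g : Γ, (g : X) ∈ A → τ g x = x) → x ∈ S := by
    intro A hA hcop hAY x hx
    obtain ⟨y, rfl⟩ := QuotientGroup.mk'_surjective Φ x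
    have hfix : ∀ a ∈ A, (y : X)⁻¹ * (a * y * a⁻¹) ∈ ΦG := by
      intro a ha
      refine ⟨y⁻¹ * normalizerMonoidHom N ⟨a, hA ha⟩ y, ?_, rfl⟩
      have h2 : f (y⁻¹ * normalizerMonoidHom N ⟨a, hA ha⟩ y) = 1 := by
        rw [map_mul, map_inv, ← hτf]
        exact inv_mul_eq_one.2 (hx ⟨a, hA ha⟩ ha).symm
      exact (QuotientGroup.eq_one_iff _).1 h2
    obtain ⟨c, hc, hcy⟩ := CfsgLib.CoprimeAct.exists_centralizing_mem_coset hA hcop
      (map_subtype_le Φ) (hA.trans (UTool.normalizer_le_normalizer_map N Φ inferInstance)) (Or.inr (by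
        haveI := (hN.to_le (map_subtype_le Φ)).isNilpotent
        infer_instance)) y.2 hfix
    refine ⟨⟨c, hc.1⟩, hAY hc, ?_⟩
    obtain ⟨z, hz, hzy⟩ := hcy
    have e : (⟨c, hc.1⟩ : N) = y * z := Subtype.ext (by
      show c = (y : X) * (z : X)
      rw [show (z : X) = (y : X)⁻¹ * c from hzy, mul_inv_cancel_left])
    rw [e, map_mul, show f z = 1 from (QuotientGroup.eq_one_iff z).2 hz, mul_one]
  suffices hall : ∀ y : N, f y ∈ S by
    have htop : Y.subgroupOf N = ⊤ := frattini_nongenerating (eq_top_iff.2 fun y _ => by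
      obtain ⟨x, hx, hxy⟩ := hall y
      have hz : x⁻¹ * y ∈ Φ := (QuotientGroup.eq_one_iff _).1 (show f (x⁻¹ * y) = 1 by
        rw [map_mul, map_inv, hxy, inv_mul_cancel])
      have := mul_mem_sup hx hz
      rwa [mul_inv_cancel_left] at this)
    exact subgroupOf_eq_top.1 htop
  intro y
  set H : Γ := ⟨h, hhN⟩
  set Us : Subgroup Γ := U.subgroupOf Γ
  haveI : Fintype Us := Fintype.ofFinite Us
  have hcUs : Fintype.card Us = Nat.card U := by
    rw [← Nat.card_eq_fintype_card]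
    exact Nat.card_congr (subgroupOfEquivOfLe hUN).toEquiv
  have hHU : ∀ v : Γ, v ∈ Us → ∀ i : ℕ, H ^ i * v * (H ^ i)⁻¹ ∈ Us := fun v hv i => by
    have h1 := (mem_normalizer_iff.1 (pow_mem hhU i) (v : X)).1 hv
    simpa [Us, mem_subgroupOf] using h1
  let F : ℕ → Us → Us := fun i v =>
    ⟨(v : Γ) * (H ^ i * (v : Γ)⁻¹ * (H ^ i)⁻¹), mul_mem v.2 (hHU _ (inv_mem v.2) i)⟩
  have hcopl : ∀ g : X, orderOf g = l → (Nat.card (zpowers g)).Coprime (Nat.card N) := fun g hg =>
    IsPGroup.coprime_card_of_ne l t hlt _ _ (IsPGroup.of_card (n := 1) (by rw [Nat.card_zpowers, hg, pow_one])) hN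
  have hinner : ∀ v : Us, ∏ i ∈ Finset.range l, τ ((v : Γ) * H ^ i * (v : Γ)⁻¹) (f y) ∈ S := by
    intro v
    set g : Γ := (v : Γ) * H * (v : Γ)⁻¹ with hg
    have hgX : (g : X) = ((v : Γ) : X) * h * ((v : Γ) : X)⁻¹ := rfl
    have hgo : orderOf (g : X) = l := by
      rw [← hh, hgX]
      exact (MulAut.conj ((v : Γ) : X)).orderOf_eq h
    refine hlift (zpowers (g : X)) (zpowers_le.2 g.2) (hcopl _ hgo)
      ((inf_le_inf_left _ (centralizer_zpowers_le _)).trans (hgX ▸ hYh _ v.2)) _ fun g' hg' => ?_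
    have hτg : ∀ j : ℕ, τ (g ^ j) (∏ i ∈ Finset.range l, τ ((v : Γ) * H ^ i * (v : Γ)⁻¹) (f y)) =
        ∏ i ∈ Finset.range l, τ ((v : Γ) * H ^ i * (v : Γ)⁻¹) (f y) := by
      have hone : τ g (∏ i ∈ Finset.range l, τ ((v : Γ) * H ^ i * (v : Γ)⁻¹) (f y)) =
          ∏ i ∈ Finset.range l, τ ((v : Γ) * H ^ i * (v : Γ)⁻¹) (f y) := by
        rw [map_prod]
        have hpow : ∀ i : ℕ, (v : Γ) * H ^ i * (v : Γ)⁻¹ = g ^ i := fun i => by rw [hg, conj_pow]
        simp only [hpow, ← hτmul, ← pow_succ']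
        have hgl : g ^ l = 1 := Subtype.ext (by
          rw [SubmonoidClass.coe_pow, ← hgo, pow_orderOf_eq_one]; rfl)
        obtain ⟨l', rfl⟩ : ∃ l', l = l' + 1 := ⟨l - 1, (Nat.succ_pred_eq_of_pos hlp.pos).symm⟩
        rw [Finset.prod_range_succ (fun i => τ (g ^ (i + 1)) (f y)), Finset.prod_range_succ'
          (fun i => τ (g ^ i) (f y)), hgl, pow_zero]
      intro j
      induction j with
      | zero =>
        obtain ⟨z, hz⟩ := QuotientGroup.mk'_surjective Φ (∏ i ∈ Finset.range l, τ ((v : Γ) * H ^ i * (v : Γ)⁻¹) (f y))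
        rw [← hz, pow_zero]
        show τ 1 (f z) = f z
        rw [hτf, map_one]
        rfl
      | succ j ih => rw [pow_succ', hτmul, ih, hone]
    obtain ⟨j, hj⟩ := (mem_zpowers_iff_mem_range_orderOf.1 hg' |> Finset.mem_image.1).imp fun _ h => h.2
    have e : g' = g ^ j := Subtype.ext (by rw [SubmonoidClass.coe_pow]; exact hj.symm)
    rw [e, hτg]
  have houter : ∀ i : ℕ, ¬ l ∣ i → ∏ v : Us, τ ((v : Γ) * H ^ i * (v : Γ)⁻¹) (f y) ∈ S := by
    intro i hi
    have hFi : Function.Injective (F i) := by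
      intro v w hvw
      have h1 : (v : Γ) * (H ^ i * (v : Γ)⁻¹ * (H ^ i)⁻¹) = (w : Γ) * (H ^ i * (w : Γ)⁻¹ * (H ^ i)⁻¹) :=
        congrArg Subtype.val hvw
      have h2 : Commute ((w : Γ)⁻¹ * (v : Γ)) (H ^ i) := by
        have h3 := congrArg (fun z => (w : Γ)⁻¹ * (z * (H ^ i) * (v : Γ))) h1
        simp only [mul_assoc, inv_mul_cancel, mul_one, inv_mul_cancel_left] at h3
        show (w : Γ)⁻¹ * (v : Γ) * H ^ i = H ^ i * ((w : Γ)⁻¹ * (v : Γ))
        simpa [mul_assoc] using h3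
      have h4 : Commute ((((w : Γ)⁻¹ * (v : Γ) : Γ)) : X) (h ^ i) := by
        simpa [Commute, SemiconjBy] using congrArg Subtype.val h2.eq
      obtain ⟨m, hm⟩ := exists_pow_eq_self_of_coprime (x := h) (n := i)
        (by rw [hh]; exact (hlp.coprime_iff_not_dvd.2 hi).symm)
      have h5 : ((((w : Γ)⁻¹ * (v : Γ) : Γ)) : X) ∈ U ⊓ centralizer ({h} : Set X) :=
        ⟨show (w : Γ)⁻¹ * (v : Γ) ∈ Us from mul_mem (inv_mem w.2) v.2,
          mem_centralizer_singleton_iff.2 (hm ▸ h4.pow_right m).eq⟩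
      rw [hnc, mem_bot] at h5
      exact (Subtype.ext (inv_mul_eq_one.1 (Subtype.ext h5 : (w : Γ)⁻¹ * (v : Γ) = 1))).symm
    have hbij : Function.Bijective (F i) := Finite.injective_iff_bijective.1 hFi
    have e : ∏ v : Us, τ ((v : Γ) * H ^ i * (v : Γ)⁻¹) (f y) = ∏ v : Us, τ ((v : Γ) * H ^ i) (f y) := by
      refine Fintype.prod_bijective (F i) hbij _ _ fun v => ?_
      congr 2
      show (v : Γ) * H ^ i * (v : Γ)⁻¹ = (v : Γ) * (H ^ i * (v : Γ)⁻¹ * (H ^ i)⁻¹) * H ^ i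
      group
    rw [e]
    refine hlift U hUN hUc hYU _ fun g hg => ?_
    rw [map_prod]
    refine Fintype.prod_equiv (Equiv.mulLeft (⟨g, hg⟩ : Us)) _ _ fun v => ?_
    rw [← hτmul, ← mul_assoc]
    rfl
  obtain ⟨l', rfl⟩ : ∃ l', l = l' + 1 := ⟨l - 1, (Nat.succ_pred_eq_of_pos hlp.pos).symm⟩
  have hswap : ∏ v : Us, ∏ i ∈ Finset.range (l' + 1), τ ((v : Γ) * H ^ i * (v : Γ)⁻¹) (f y) ∈ S :=
    prod_mem fun v _ => hinner v
  rw [Finset.prod_comm, Finset.prod_range_succ', mul_comm] at hswap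
  have hrest : ∏ i ∈ Finset.range l', ∏ v : Us, τ ((v : Γ) * H ^ (i + 1) * (v : Γ)⁻¹) (f y) ∈ S := by
    refine prod_mem fun i hi => houter (i + 1) fun hd => ?_
    have := Nat.le_of_dvd (Nat.succ_pos i) hd
    have := Finset.mem_range.1 hi
    omega
  have hq : f y ^ Nat.card U ∈ S := by
    have h0 := (S.mul_mem_cancel_right hrest).1 hswap
    have hτ1 : τ 1 (f y) = f y := by rw [hτf, map_one]; rfl
    simpa [pow_zero, hτ1, Finset.prod_const, hcUs] using h0
  obtain ⟨m, hm⟩ := exists_pow_eq_self_of_coprime (x := f y) (n := Nat.card U)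
    (hUc.coprime_dvd_right ((orderOf_map_dvd f y).trans (orderOf_dvd_natCard y)))
  exact hm ▸ pow_mem hq m

/-- An element of order `r` without fixed points on the elementary abelian `p`-group `V` centralizes
every `s`-group acting faithfully on `V` which it normalizes, all orders being odd. -/
theorem fpf_centralizes {p s r : ℕ} [Fact p.Prime] [Fact s.Prime] [Fact r.Prime]
    (hs : s ≠ 2) (hr : r ≠ 2) (hsp : s ≠ p) (hrp : r ≠ p) (hsr : r ≠ s)
    {V : Subgroup X} (hV : Cfsg.IsElementaryAbelian p V) {x : X} (hx : orderOf x = r)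
    (hxV : x ∈ normalizer (V : Set X)) (hfix : V ⊓ centralizer ({x} : Set X) = ⊥)
    {Q : Subgroup X} (hQ : IsPGroup s Q) (hQV : Q ≤ normalizer (V : Set X))
    (hfaith : Q ⊓ centralizer (V : Set X) = ⊥) (hxQ : x ∈ normalizer (Q : Set X)) :
    Q ≤ centralizer ({x} : Set X) := by
  classical
  suffices ∀ n (Q : Subgroup X), Nat.card Q = n → IsPGroup s Q → Q ≤ normalizer (V : Set X) →
      Q ⊓ centralizer (V : Set X) = ⊥ → x ∈ normalizer (Q : Set X) → Q ≤ centralizer ({x} : Set X) from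
    this _ Q rfl hQ hQV hfaith hxQ
  clear hQ hQV hfaith hxQ Q
  intro n
  induction n using Nat.strongRecOn with | ind n ih => ?_
  rintro Q rfl hQ hQV hfaith hxQ
  by_contra hcon
  set A := zpowers x with hA
  have hAcard : Nat.card A = r := by rw [hA, Nat.card_zpowers, hx]
  have hAQ : A ≤ normalizer (Q : Set X) := zpowers_le.2 hxQ
  have hnt : ⁅Q, A⁆ ≠ ⊥ := fun h => hcon
    ((commutator_eq_bot_iff_le_centralizer.1 h).trans (centralizer_zpowers_le x))
  have hAs : (Nat.card A).Coprime s := hAcard ▸ (Nat.coprime_primes Fact.out Fact.out).2 hsr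
  have hproper : ∀ U : Subgroup X, U < Q → x ∈ normalizer (U : Set X) → U ≤ centralizer ({x} : Set X) :=
    fun U hU hxU => ih _ (CfsgLib.Solvable.card_lt_of_lt hU) U rfl (hQ.to_le hU.le) (hU.le.trans hQV)
      (le_bot_iff.1 (hfaith ▸ inf_le_inf_right _ hU.le)) hxU
  have hsp' := CfsgLib.Signalizer.isPGroup hV
  obtain ⟨hcomm, hshape, hirr, -⟩ := Cfsg.Agent.S3736.result A A Q hQ hAQ le_rfl le_normalizer hAs hnt
    fun U hU hAU => commutator_eq_bot_iff_le_centralizer.2
      (le_centralizer_zpowers (hproper U hU (hAU (mem_zpowers x))))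
  have hQA : (Nat.card A).Coprime (Nat.card Q) := by
    obtain ⟨k, hk⟩ := IsPGroup.iff_card.1 hQ
    rw [hk]; exact hAs.pow_right k
  have hconjfix : ∀ v ∈ Q, V ⊓ centralizer ({v * x * v⁻¹} : Set X) = ⊥ := fun v hv => by
    refine (eq_bot_iff_forall _).2 fun w hw => ?_
    have h1 : v⁻¹ * w * v ∈ V ⊓ centralizer ({x} : Set X) := by
      refine ⟨by simpa using (mem_normalizer_iff.1 (hQV (inv_mem hv)) w).1 hw.1, mem_centralizer_singleton_iff.2 ?_⟩
      have h2 := mem_centralizer_singleton_iff.1 hw.2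
      calc v⁻¹ * w * v * x = v⁻¹ * (w * (v * x * v⁻¹)) * v := by group
        _ = v⁻¹ * (v * x * v⁻¹ * w) * v := by rw [h2]
        _ = x * (v⁻¹ * w * v) := by group
    rw [hfix, mem_bot] at h1
    calc w = v * (v⁻¹ * w * v) * v⁻¹ := by group
      _ = 1 := by rw [h1]; group
  rcases hshape with hel | hspec
  · -- the abelian case
    haveI := hel.1
    have h1 := CfsgLib.CoprimeAct.fixed_inf_commutator_abelian hAQ hQA
    rw [hcomm, inf_right_comm, inf_idem] at h1
    have hQx : Q ⊓ centralizer ({x} : Set X) = ⊥ := le_bot_iff.1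
      (h1 ▸ inf_le_inf_left _ (le_centralizer_zpowers le_rfl))
    have hcop : (Nat.card Q).Coprime (Nat.card V) := IsPGroup.coprime_card_of_ne s p hsp _ _ hQ hsp'
    have hle : V ≤ V ⊓ centralizer (Q : Set X) := le_of_frobenius hrp hsp' hx hQV hcop hxQ hxV hQx
      le_rfl fun v hv => (hconjfix v hv).le.trans bot_le
    have hQbot : Q = ⊥ := le_bot_iff.1 (hfaith ▸ le_inf le_rfl (le_centralizer_iff.1 (hle.trans inf_le_right)))
    exact hnt (by rw [hQbot, commutator_bot_left])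
  -- the special case
  haveI := hV.1
  have hVexp : ∀ v : V, v ^ p = 1 := fun v => Subtype.ext (by rw [SubmonoidClass.coe_pow]; exact hV.2 v v.2)
  letI : CommGroup V := { (inferInstance : Group V) with mul_comm := fun a b => Std.Commutative.comm a b }
  letI instM : Module (ZMod p) (Additive V) :=
    AddCommGroup.zmodModule (n := p) (G := Additive V) (fun v => by
      show Additive.ofMul (Additive.toMul v ^ p) = _
      rw [hVexp]
      rfl)
  have hM : Module (ZMod p) (Additive V) := inferInstance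
  haveI : Module.Finite (ZMod p) (Additive V) := Module.Finite.of_finite
  let k := AlgebraicClosure (ZMod p)
  haveI hchar : CharP k p := charP_of_injective_algebraMap (algebraMap (ZMod p) k).injective p
  let bcA := Module.End.baseChangeHom (ZMod p) k (Additive V)
  let lin : MulAut V →* Module.End (ZMod p) (Additive V) := CfsgLib.S3Fpf.autLin p
  let L : MulAut V →* Module.End k (k ⊗[ZMod p] Additive V) := bcA.toRingHom.toMonoidHom.comp lin
  have hLinj : Function.Injective L :=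
    (LinearMap.baseChangeHom_injective (ZMod p) (Additive V) k).comp (CfsgLib.S3Fpf.autLin_injective p)
  let π₀ : Q →* Module.End k (k ⊗[ZMod p] Additive V) :=
    L.comp ((normalizerMonoidHom V).comp (inclusion hQV))
  have hπ₀inj : ∀ q : Q, π₀ q = 1 → q = 1 := fun q hq => by
    have h1 : normalizerMonoidHom V (inclusion hQV q) = 1 := hLinj (by rw [map_one]; exact hq)
    have h2 : inclusion hQV q ∈ (normalizerMonoidHom V).ker := h1
    rw [normalizerMonoidHom_ker, mem_subgroupOf] at h2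
    exact Subtype.ext (mem_bot.1 (hfaith ▸ ⟨q.2, h2⟩))
  let a : MulAut V := normalizerMonoidHom V ⟨x, hxV⟩
  let Bx := L a
  have har : a ^ r = 1 := by
    rw [← map_pow, show (⟨x, hxV⟩ : normalizer (V : Set X)) ^ r = 1 from Subtype.ext (by
      rw [SubmonoidClass.coe_pow, ← hx, pow_orderOf_eq_one]; rfl), map_one]
  have hsumx : ∑ i : Fin r, Bx ^ (i : ℕ) = 0 := by
    have h0 : ∑ i : Fin r, lin (a ^ (i : ℕ)) = 0 := by
      refine LinearMap.ext fun v => ?_
      obtain ⟨v, rfl⟩ := Additive.ofMul.surjective v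
      rw [LinearMap.sum_apply, LinearMap.zero_apply]
      show ∑ i : Fin r, CfsgLib.S3Fpf.autLin p (a ^ (i : ℕ)) (Additive.ofMul v) = 0
      rw [Finset.sum_congr (s₁ := (Finset.univ : Finset (Fin r))) rfl fun i _ => CfsgLib.S3Fpf.autLin_apply p (a ^ (i : ℕ)) v, ← ofMul_prod]
      have hz : a (∏ i : Fin r, (a ^ (i : ℕ)) v) = ∏ i : Fin r, (a ^ (i : ℕ)) v := by
        haveI : NeZero r := ⟨(Fact.out : r.Prime).ne_zero⟩
        rw [map_prod]
        refine Fintype.prod_equiv (Equiv.addRight (1 : Fin r)) _ _ fun i => ?_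
        rw [Equiv.coe_addRight, Fin.val_add, Fin.val_one', ← MulAut.mul_apply, ← pow_succ',
          Nat.mod_eq_of_lt (Fact.out : r.Prime).one_lt, ← pow_eq_pow_mod _ har]
      have h2 : (((∏ i : Fin r, (a ^ (i : ℕ)) v : V)) : X) ∈ V ⊓ centralizer ({x} : Set X) :=
        ⟨SetLike.coe_mem _, mem_centralizer_singleton_iff.2 (by
          have h3 := congrArg Subtype.val hz
          change x * _ * x⁻¹ = _ at h3
          exact (mul_inv_eq_iff_eq_mul.1 h3).symm)⟩
      rw [hfix, mem_bot] at h2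
      rw [show (∏ i : Fin r, (a ^ (i : ℕ)) v) = 1 from Subtype.ext h2]
      rfl
    have h1 := congrArg bcA h0
    rw [map_sum, map_zero] at h1
    rw [← h1]
    refine Finset.sum_congr rfl fun i _ => ?_
    rw [show Bx ^ (i : ℕ) = L (a ^ (i : ℕ)) from (map_pow L a i).symm]
    rfl
  let b : MulAut Q := normalizerMonoidHom Q ⟨x, hxQ⟩
  have hbr : b ^ r = 1 := by
    rw [← map_pow, show (⟨x, hxQ⟩ : normalizer (Q : Set X)) ^ r = 1 from Subtype.ext (by
      rw [SubmonoidClass.coe_pow, ← hx, pow_orderOf_eq_one]; rfl), map_one]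
  have hcompat₀ : ∀ y : Q, Bx * π₀ y = π₀ (b y) * Bx := fun y => by
    show L a * L _ = L _ * L a
    rw [← map_mul, ← map_mul]
    refine congrArg L (MulEquiv.ext fun v => Subtype.ext ?_)
    show x * ((y : X) * v * (y : X)⁻¹) * x⁻¹ = x * (y : X) * x⁻¹ * (x * v * x⁻¹) * (x * (y : X) * x⁻¹)⁻¹
    group
  -- the centre
  set Z := center Q with hZ
  obtain ⟨-, hZΦ, hZc⟩ := hspec
  haveI : Group.IsNilpotent Q := hQ.isNilpotent
  haveI : Nontrivial Q := (nontrivial_iff_ne_bot Q).2 fun h => hnt (by rw [h, commutator_bot_left])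
  have hZtop : Z ≠ ⊤ := fun h => by
    have : (⊥ : Subgroup Q) = ⊤ := frattini_nongenerating (by rw [bot_sup_eq, hZΦ, ← hZ, h])
    exact bot_ne_top this
  have hmaptop : ∀ K : Subgroup Q, K.map Q.subtype = Q → K = ⊤ := fun K h =>
    map_injective Q.subtype_injective (h.trans (by rw [← MonoidHom.range_eq_map, range_subtype]))
  have hbZ : ∀ z ∈ Z, b z = z := by
    intro z hz
    have hlt : Z.map Q.subtype < Q := lt_of_le_of_ne (map_subtype_le Z) fun h => hZtop (hmaptop _ h)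
    have h := hproper _ hlt (UTool.normalizer_le_normalizer_map Q Z inferInstance hxQ) (mem_map_of_mem Q.subtype hz)
    exact Subtype.ext (mul_inv_eq_iff_eq_mul.2 (mem_centralizer_singleton_iff.1 h).symm)
  have hdvd : ∀ m, m ∣ Nat.card Q → ((m : ℕ) : k) ≠ 0 := by
    intro m hm h0
    obtain ⟨e, he⟩ := IsPGroup.iff_card.1 hQ
    exact hsp ((Nat.prime_dvd_prime_iff_eq Fact.out Fact.out).1
      ((Fact.out : p.Prime).dvd_of_dvd_pow (he ▸ ((CharP.cast_eq_zero_iff k p m).1 h0).trans hm))).symm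
  let ρZ : Z →* Module.End k (k ⊗[ZMod p] Additive V) := π₀.comp Z.subtype
  obtain ⟨z₀, hz₀⟩ : ∃ z₀ : Z, z₀ ≠ 1 := by
    haveI : Nontrivial Z := IsPGroup.center_nontrivial hQ
    exact exists_ne 1
  obtain ⟨ψ, w₀, hw₀, hw₀0, hψ⟩ : ∃ (ψ : Z →* kˣ) (w : _), CfsgLib.PQFpf.IsWeight ρZ ψ w ∧ w ≠ 0 ∧ ψ z₀ ≠ 1 := by
    by_contra hno
    push Not at hno
    exact hz₀ (Subtype.ext (hπ₀inj _ (CfsgLib.PQFpf.eq_one_of_weights ρZ
      (fun a b => congrArg ρZ (Subtype.ext (mem_center_iff.1 b.2 a))) (hdvd _ Z.card_subgroup_dvd_card) z₀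
      fun χ w hw hw0 => hno χ w hw hw0)))
  obtain ⟨W, hWmem⟩ : ∃ W : Submodule k (k ⊗[ZMod p] Additive V),
      ∀ w, w ∈ W ↔ CfsgLib.PQFpf.IsWeight ρZ ψ w :=
    ⟨{ carrier := {w | CfsgLib.PQFpf.IsWeight ρZ ψ w}
       add_mem' := fun {u w} hu hw z => by rw [map_add, hu z, hw z, smul_add]
       zero_mem' := fun z => by rw [map_zero, smul_zero]
       smul_mem' := fun c w hw z => by rw [map_smul, hw z, smul_comm] }, fun w => Iff.rfl⟩
  have hπW : ∀ (q : Q), ∀ w ∈ W, π₀ q w ∈ W := fun q w hw => (hWmem _).2 fun z => by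
    show (π₀ (z : Q) * π₀ q) w = _
    rw [← map_mul, ← mem_center_iff.1 z.2 q, map_mul, Module.End.mul_apply,
      show π₀ (z : Q) w = _ from (hWmem w).1 hw z, map_smul]
  have hBW : ∀ w ∈ W, Bx w ∈ W := fun w hw => (hWmem _).2 fun z => by
    show (π₀ (z : Q) * Bx) w = _
    have h := hcompat₀ (z : Q)
    rw [hbZ _ z.2] at h
    rw [← h, Module.End.mul_apply, show π₀ (z : Q) w = _ from (hWmem w).1 hw z, map_smul]
  let π : Q →* Module.End k W :=
    { toFun := fun q => (π₀ q).restrict (hπW q)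
      map_one' := LinearMap.ext fun w => Subtype.ext (by simp [LinearMap.restrict_apply])
      map_mul' := fun q q' => LinearMap.ext fun w => Subtype.ext (by
        simp [LinearMap.restrict_apply, map_mul]) }
  let B : Module.End k W := Bx.restrict hBW
  have hπ : ∀ q (w : W), ((π q w : W) : k ⊗[ZMod p] Additive V) = π₀ q w := fun q w => rfl
  have hBpow : ∀ (i : ℕ) (w : W), (((B ^ i) w : W) : k ⊗[ZMod p] Additive V) = (Bx ^ i) w := fun i => by
    induction i with
    | zero => exact fun w => rfl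
    | succ i ih => intro w; rw [pow_succ', pow_succ', Module.End.mul_apply, Module.End.mul_apply, ← ih]; rfl
  have hcl : ∀ a b : Q, ⁅a, b⁆ ∈ Z := fun a b => hZc.le (commutator_mem_commutator (mem_top a) (mem_top b))
  have hmul_l : ∀ a b c : Q, (⟨⁅a * b, c⁆, hcl _ _⟩ : Z) = ⟨⁅a, c⁆, hcl _ _⟩ * ⟨⁅b, c⁆, hcl _ _⟩ := fun a b c =>
    Subtype.ext (by
      show ⁅a * b, c⁆ = ⁅a, c⁆ * ⁅b, c⁆
      rw [commutatorElement_mul_left_eq_conj_mul, mem_center_iff.1 (hcl b c) a, mul_inv_cancel_right,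
        mem_center_iff.1 (hcl a c) ⁅b, c⁆])
  have hmul_r : ∀ a b c : Q, (⟨⁅a, b * c⁆, hcl _ _⟩ : Z) = ⟨⁅a, b⁆, hcl _ _⟩ * ⟨⁅a, c⁆, hcl _ _⟩ := fun a b c =>
    Subtype.ext (by
      show ⁅a, b * c⁆ = ⁅a, b⁆ * ⁅a, c⁆
      rw [show ⁅a, b * c⁆ = ⁅a, b⁆ * (b * ⁅a, c⁆ * b⁻¹) by simp [commutatorElement_def, mul_assoc],
        mem_center_iff.1 (hcl a c) b, mul_inv_cancel_right])
  let χ : Q →* (Q →* kˣ) :=
    MonoidHom.mk' (fun u => MonoidHom.mk' (fun v => ψ ⟨⁅u, v⁆, hcl u v⟩) fun v v' => by rw [hmul_r, map_mul])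
      fun u u' => MonoidHom.ext fun v => by
        show ψ ⟨⁅u * u', v⁆, _⟩ = ψ ⟨⁅u, v⁆, _⟩ * ψ ⟨⁅u', v⁆, _⟩
        rw [hmul_l, map_mul]
  have hχl : ∀ u ∈ Z, ∀ v, χ u v = 1 := fun u hu v => by
    show ψ ⟨⁅u, v⁆, _⟩ = 1
    rw [show (⟨⁅u, v⁆, hcl u v⟩ : Z) = 1 from
      Subtype.ext (commutatorElement_eq_one_iff_mul_comm.2 (mem_center_iff.1 hu v).symm), map_one]
  have hχr : ∀ u ∈ Z, ∀ v, χ v u = 1 := fun u hu v => by
    show ψ ⟨⁅v, u⁆, _⟩ = 1
    rw [show (⟨⁅v, u⁆, hcl v u⟩ : Z) = 1 from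
      Subtype.ext (commutatorElement_eq_one_iff_mul_comm.2 (mem_center_iff.1 hu v)), map_one]
  have hbχ : ∀ u v, χ (b u) (b v) = χ u v := fun u v => by
    show ψ ⟨⁅b u, b v⁆, _⟩ = ψ ⟨⁅u, v⁆, _⟩
    refine congrArg ψ (Subtype.ext ?_)
    show ⁅b u, b v⁆ = ⁅u, v⁆
    rw [← map_commutatorElement, hbZ _ (hcl u v)]
  let K : Subgroup Q :=
    { carrier := {u | ∀ y, χ y u = 1}
      one_mem' := fun y => map_one _
      mul_mem' := fun {u v} hu hv y => by rw [map_mul, hu, hv, one_mul]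
      inv_mem' := fun {u} hu y => by rw [map_inv, hu, inv_one] }
  have hKZ : K ≤ Z := by
    have hxK : x ∈ normalizer (K.map Q.subtype : Set X) := by
      refine Uniq.mem_normalizer_of_map_le ?_
      rintro _ ⟨_, ⟨u, hu, rfl⟩, rfl⟩
      refine ⟨b u, fun y => ?_, rfl⟩
      obtain ⟨y', rfl⟩ := b.surjective y
      rw [hbχ]; exact hu y'
    rcases hirr (K.map Q.subtype) (map_mono (hZΦ.le.trans fun u hu => hχr u hu)) (map_subtype_le K)
      (zpowers_le.2 hxK) with h | h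
    · exact (map_injective Q.subtype_injective h).le.trans hZΦ.le
    · exfalso
      have hK := hmaptop _ h
      have hker : commutator Q ≤ ψ.ker.map Z.subtype := by
        rw [_root_.commutator_def, commutator_le]
        intro u _ v _
        exact ⟨⟨⁅u, v⁆, hcl u v⟩, (hK.ge (mem_top v) : v ∈ K) u, rfl⟩
      have h1 := hker (hZc.ge z₀.2)
      obtain ⟨z, hz, hzz⟩ := h1
      exact hψ (by rwa [Subtype.ext hzz] at hz)
  have hscalar : ∀ u ∈ Z, ∃ c : k, π u = c • 1 := by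
    intro u hu
    refine ⟨((ψ ⟨u, hu⟩ : kˣ) : k), LinearMap.ext fun w => Subtype.ext ?_⟩
    exact (hWmem _).1 w.2 ⟨u, hu⟩
  have hrel : ∀ u v, π u * π v = ((χ u v : kˣ) : k) • (π v * π u) := by
    intro u v
    refine LinearMap.ext fun w => Subtype.ext ?_
    show π₀ u (π₀ v w) = ((ψ ⟨⁅u, v⁆, hcl u v⟩ : kˣ) : k) • π₀ v (π₀ u w)
    rw [← Module.End.mul_apply, ← map_mul,
      show u * v = ⁅u, v⁆ * (v * u) by simp [commutatorElement_def, mul_assoc],
      map_mul, Module.End.mul_apply]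
    have h := (hWmem _).1 (hπW (v * u) _ w.2) ⟨⁅u, v⁆, hcl u v⟩
    rw [map_mul, Module.End.mul_apply] at h ⊢
    exact h
  let F : @CfsgLib.PQFpf.FormRep k _ W _ _ Q _ π Z :=
    ⟨χ, hscalar, hrel, hχl, fun u hu => hKZ hu, hχr⟩
  haveI : Nontrivial W := ⟨⟨⟨w₀, (hWmem _).2 hw₀⟩, 0, fun h => hw₀0 (congrArg Subtype.val h)⟩⟩
  obtain ⟨-, h⟩ := CfsgLib.PQFpf.dichotomy hQ F (hdvd _ dvd_rfl) b (Fact.out : r.Prime) hsr
    (fun h => hrp ((Nat.prime_dvd_prime_iff_eq Fact.out Fact.out).1 ((CharP.cast_eq_zero_iff k p r).1 h)).symm) hbr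
    (fun u hu => (hbZ u hu).symm ▸ hu) hbχ B
    (LinearMap.ext fun w => Subtype.ext (by
      rw [hBpow, show Bx ^ r = L (a ^ r) from (map_pow L a r).symm, har, map_one]; rfl))
    (fun y => LinearMap.ext fun w => Subtype.ext (LinearMap.congr_fun (hcompat₀ y) (w : k ⊗[ZMod p] Additive V)))
    (LinearMap.ext fun w => Subtype.ext (by
      rw [LinearMap.sum_apply, AddSubmonoidClass.coe_finsetSum, Finset.sum_congr (s₁ := (Finset.univ : Finset (Fin r))) rfl fun i _ => hBpow (i : ℕ) w,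
        ← LinearMap.sum_apply, hsumx]
      rfl))
  rcases h with htriv | ⟨d, -, hd⟩
  · refine hcon ((le_centralizer_iff.1 (CfsgLib.CoprimeAct.trivial_on_frattini_quotient hAQ
      (hQA.coprime_dvd_right (frattini Q).card_subgroup_dvd_card) fun g hg y hy => ?_)).trans
        (centralizer_zpowers_le x))
    obtain ⟨i, rfl⟩ := (mem_zpowers_iff_mem_range_orderOf.1 hg |> Finset.mem_image.1).imp fun _ h => h.2.symm
    have key : ∀ i : ℕ, ∀ q : Q, q⁻¹ * (b ^ i) q ∈ Z := fun i => by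
      induction i with
      | zero => intro q; simp
      | succ i ih =>
        intro q
        have h1 := mul_mem (ih q) (htriv ((b ^ i) q))
        rw [pow_succ', MulAut.mul_apply]
        simpa [mul_assoc] using h1
    set q : Q := ⟨y, hy⟩⁻¹
    refine ⟨(q⁻¹ * (b ^ i) q)⁻¹, ?_, ?_⟩
    · rw [SetLike.mem_coe, hZΦ]
      exact inv_mem (key i q)
    · show (((q⁻¹ * (b ^ i) q)⁻¹ : Q) : X) = x ^ i * y * (x ^ i)⁻¹ * y⁻¹
      have e : (((b ^ i) ⟨y, hy⟩ : Q) : X) = x ^ i * y * (x ^ i)⁻¹ := by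
        show (((normalizerMonoidHom Q ⟨x, hxQ⟩) ^ i) ⟨y, hy⟩ : X) = _
        rw [← map_pow]
        rfl
      simp [e, q, mul_assoc]
  · have h1 : Odd (s ^ d) := ((Fact.out : s.Prime).odd_of_ne_two hs).pow
    have h2 : Odd r := (Fact.out : r.Prime).odd_of_ne_two hr
    rw [← hd] at h2
    exact (Nat.not_even_iff_odd.2 h2) h1.add_one

end CfsgLib.OddLocal.FixedLine
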