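import Cfsg.Agent.OddLocal.KappaPair

/-!
`Z = K × K*` is cyclic and has exactly two components (BG 14.7).
-/

set_option autoImplicit false
set_option linter.style.haveILetI false
set_option linter.unusedSectionVars false

namespace CfsgLib.OddLocal.Kap

open Subgroup Cfsg CfsgLib.OddLocal
open scoped commutatorElement Pointwise

universe u

variable {G : Type u} [Group G] [Finite G]

variable (hG : Cfsg.IsMinSimpleOddOrder G)
include hG

variable {Z N L N' L' : Subgroup G}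

theorem IsNode.exists_other (h : IsNode Z N L) : ∃ N' L' : Subgroup G, IsNode Z N' L' ∧ N' ≠ N := by
  obtain ⟨p, hp, hd⟩ := Nat.exists_prime_and_dvd (fun e : Nat.card L = 1 => h.ne_bot (eq_bot_of_card_eq _ e))
  obtain ⟨N', L', h', hpσ⟩ := h.exists_sigma hG hp (hd.trans (card_dvd_of_le h.le))
  exact ⟨N', L', h', fun e => (h.hall.2.1 p hp hd).2.2.1 (e ▸ hpσ)⟩

theorem IsNode.star_ne_bot (h : IsNode Z N L) : star N L ≠ ⊥ :=
  fixed_ne_bot hG h.coatom h.hall h.ne_bot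

/-- BG 14.7: exactly two components. -/
theorem IsNode.pair (h : IsNode Z N L) :
    ∃ N' L' : Subgroup G, IsNode Z N' L' ∧ N' ≠ N ∧ L' = star N L ∧ L = star N' L' ∧
      (∀ A B : Subgroup G, IsNode Z A B → A = N ∨ A = N') ∧ (HasOuter N ∨ HasOuter N') := by
  obtain ⟨N₀, L₀, h₀, hout⟩ := h.exists_outer hG
  have hprime := kappa_prime hG h₀.coatom h₀.hall h₀.ne_bot hout
  have hstar : ∀ A B : Subgroup G, IsNode Z A B → A ≠ N₀ → star A B = L₀ := by
    intro A B hA hne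
    refine eq_of_le_of_card_ge (h₀.star_le_hall hG hA hne) ?_
    rcases (Nat.dvd_prime hprime).1 (card_dvd_of_le (h₀.star_le_hall hG hA hne)) with e | e
    · exact absurd (eq_bot_of_card_eq _ e) (hA.star_ne_bot hG)
    · exact e.ge
  obtain ⟨N₁, L₁, h₁, hne⟩ := h₀.exists_other hG
  have hall : ∀ A B : Subgroup G, IsNode Z A B → A = N₀ ∨ A = N₁ := by
    intro A B hA
    by_contra hcon
    push Not at hcon
    have e := hA.star_inf hG h₁ hcon.2
    rw [hstar A B hA hcon.1, hstar N₁ L₁ h₁ hne, inf_idem] at e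
    exact h₀.ne_bot e
  have e₁ : L₀ = star N₁ L₁ := (hstar N₁ L₁ h₁ hne).symm
  have e₀ : L₁ = star N₀ L₀ := by
    refine le_antisymm (le_star_part hG h₀.coatom h₀.hall (h₀.sup_eq.symm ▸ h₁.le) fun p hp hd => ?_)
      (h₁.star_le_hall hG h₀ hne.symm)
    have hdZ := hd.trans (card_dvd_of_le h₁.le)
    rw [h₀.card_eq hG] at hdZ
    exact (hp.dvd_mul.1 hdZ).elim
      (fun h0 => absurd (primes_star hG h₁.coatom p hp (e₁ ▸ h0)) (h₁.hall.2.1 p hp hd).2.2.1)
      (primes_star hG h₀.coatom p hp)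
  rcases hall N L h with rfl | rfl
  · obtain rfl := h.unique hG h₀
    exact ⟨N₁, L₁, h₁, hne, e₀, e₁, hall, Or.inl hout⟩
  · obtain rfl := h.unique hG h₁
    exact ⟨N₀, L₀, h₀, hne.symm, e₁, e₀, fun A B hA => (hall A B hA).symm, Or.inr hout⟩

theorem IsNode.cyclic (h : IsNode Z N L) : IsCyclic L := by
  obtain ⟨N', L', h', -, e', e, -, hout⟩ := h.pair hG
  rcases hout with hout | hout
  · haveI := Fact.mk (kappa_prime hG h.coatom h.hall h.ne_bot hout)
    exact isCyclic_of_prime_card rfl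
  · obtain ⟨E, U, hE, hLE, -⟩ := kappa_data hG h.coatom h.hall h.ne_bot
    haveI := Compl.zgroup_of_hall hG hE hLE fun q hq hd => kappa_rank (h.hall.2.1 q hq hd)
    haveI : Group.IsNilpotent L :=
      CfsgLib.CN.nilpotent_of_le (nilpotent_of_outer hG h'.coatom hout) (e ▸ inf_le_left)
    infer_instance

theorem isNode_self {M H : Subgroup G} (hM : IsCoatom M) (hH : Cfsg.IsPiHallOf (Cfsg.kappa M) H M) (hH1 : H ≠ ⊥) :
    IsNode (H ⊔ star M H) M H := ⟨hM, hH, hH1, rfl⟩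

/-- BG 14.7: Hall `κ(M)`-subgroups are cyclic. -/
theorem kappa_cyclic {M H : Subgroup G} (hM : IsCoatom M) (hH : Cfsg.IsPiHallOf (Cfsg.kappa M) H M) :
    IsCyclic H := by
  by_cases hH1 : H = ⊥
  · subst hH1; infer_instance
  · exact (isNode_self hG hM hH hH1).cyclic hG

theorem star_cyclic {M H : Subgroup G} (hM : IsCoatom M) (hH : Cfsg.IsPiHallOf (Cfsg.kappa M) H M) (hH1 : H ≠ ⊥) :
    IsCyclic ↥(star M H) := by
  obtain ⟨N', L', h', -, e', -, -, -⟩ := (isNode_self hG hM hH hH1).pair hG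
  exact e' ▸ h'.cyclic hG

/-- The partner `M*`. -/
theorem exists_partner {M H : Subgroup G} (hM : IsCoatom M) (hH : Cfsg.IsPiHallOf (Cfsg.kappa M) H M) (hH1 : H ≠ ⊥) :
    ∃ N : Subgroup G, IsCoatom N ∧ Cfsg.IsPiHallOf (Cfsg.kappa N) (star M H) N ∧ H = star N (star M H) ∧ N ≠ M ∧
      (HasOuter M ∨ HasOuter N) := by
  obtain ⟨N', L', h', hne, e', e, -, hout⟩ := (isNode_self hG hM hH hH1).pair hG
  subst e'
  exact ⟨N', h'.coatom, h'.hall, e, hne, hout⟩

/-- The defining property pins the partner down. -/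
theorem partner_node {M H N : Subgroup G} (hM : IsCoatom M) (hH : Cfsg.IsPiHallOf (Cfsg.kappa M) H M) (hH1 : H ≠ ⊥)
    (hN : IsCoatom N) (hNH : Cfsg.IsPiHallOf (Cfsg.kappa N) (star M H) N) (hHe : H = star N (star M H)) :
    IsNode (H ⊔ star M H) N (star M H) ∧ N ≠ M := by
  refine ⟨⟨hN, hNH, fixed_ne_bot hG hM hH hH1, by rw [← hHe, sup_comm]⟩, fun e => ?_⟩
  obtain ⟨p, hp, hd⟩ := Nat.exists_prime_and_dvd (fun e0 : Nat.card H = 1 => hH1 (eq_bot_of_card_eq _ e0))
  rw [e] at hHe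
  exact (hH.2.1 p hp hd).2.2.1 (primes_star hG hM p hp (hHe ▸ hd))

theorem partner_unique {M H N N' : Subgroup G} (hM : IsCoatom M) (hH : Cfsg.IsPiHallOf (Cfsg.kappa M) H M)
    (hH1 : H ≠ ⊥) (hN : IsCoatom N) (hNH : Cfsg.IsPiHallOf (Cfsg.kappa N) (star M H) N)
    (hHe : H = star N (star M H)) (hN' : IsCoatom N') (hN'H : Cfsg.IsPiHallOf (Cfsg.kappa N') (star M H) N')
    (hHe' : H = star N' (star M H)) : N' = N := by
  obtain ⟨h₁, n₁⟩ := partner_node hG hM hH hH1 hN hNH hHe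
  obtain ⟨h₂, n₂⟩ := partner_node hG hM hH hH1 hN' hN'H hHe'
  obtain ⟨P, LP, -, -, -, -, hall, -⟩ := (isNode_self hG hM hH hH1).pair hG
  rcases hall N _ h₁ with e | e
  · exact absurd e n₁
  rcases hall N' _ h₂ with e' | e'
  · exact absurd e' n₂
  rw [e, e']

/-- `Z` is cyclic. -/
theorem sup_cyclic {M H : Subgroup G} (hM : IsCoatom M) (hH : Cfsg.IsPiHallOf (Cfsg.kappa M) H M) (hH1 : H ≠ ⊥) :
    IsCyclic ↥(H ⊔ star M H) := by
  haveI := kappa_cyclic hG hM hH
  haveI := star_cyclic hG hM hH hH1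
  obtain ⟨b, hb⟩ := (Subgroup.isCyclic_iff_exists_zpowers_eq_top H).1 inferInstance
  obtain ⟨a, ha⟩ := (Subgroup.isCyclic_iff_exists_zpowers_eq_top (star M H)).1 inferInstance
  have hbH : b ∈ H := hb.le (mem_zpowers b)
  have haS : a ∈ star M H := ha.le (mem_zpowers a)
  have hc : Commute a b := (mem_centralizer_iff.1 haS.2 b hbH).symm
  have hco : (orderOf a).Coprime (orderOf b) := by
    rw [← Nat.card_zpowers, ← Nat.card_zpowers, ha, hb]
    exact Nat.coprime_of_dvd fun p hp h1 h2 => (hH.2.1 p hp h2).2.2.1 (primes_star hG hM p hp h1)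
  refine (Subgroup.isCyclic_iff_exists_zpowers_eq_top _).2 ⟨a * b, eq_of_le_of_card_ge
    (zpowers_le.2 (mul_mem (mem_sup_right haS) (mem_sup_left hbH))) (le_of_eq ?_)⟩
  rw [card_star_sup hG hM hH, Nat.card_zpowers, hc.orderOf_mul_eq_mul_orderOf_of_coprime hco, ← Nat.card_zpowers,
    ← Nat.card_zpowers, ha, hb, mul_comm]

end CfsgLib.OddLocal.Kap
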