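import Cfsg.Agent.KGroup.Invariant
import Cfsg.Agent.ZJ.FullCenter
import Cfsg.Agent.ZJ.Stable
import Cfsg.Agent.ZJ.Constrained
import Cfsg.Agent.Solvable.Fitting
import Cfsg.Agent.Invol.AbelianSignalizer
import Cfsg.Agent.PLocal.PConstrained

/-!
Consequences of p-stability in solvable groups of odd order.
-/

set_option autoImplicit false
set_option linter.style.haveILetI false

namespace CfsgLib.OddLocal.Stability

open Subgroup
open scoped commutatorElement

universe u

variable {G : Type u} [Group G] [Finite G] {p : ℕ} [Fact p.Prime]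

omit [Finite G] [Fact p.Prime] in
theorem quadratic_of_abelian_normalized {P B : Subgroup G} (hB : IsMulCommutative B)
    (hPB : P ≤ normalizer (B : Set G)) {a : G} (ha : a ∈ B) : ⁅⁅P, zpowers a⁆, zpowers a⁆ = ⊥ := by
  have h1 : ⁅P, zpowers a⁆ ≤ B := commutator_le.2 fun x hx y hy => by
    rw [commutatorElement_def]
    exact mul_mem ((mem_normalizer_iff.1 (hPB hx) y).1 (zpowers_le.2 ha hy)) (inv_mem (zpowers_le.2 ha hy))
  rw [eq_bot_iff]
  refine (commutator_mono h1 (zpowers_le.2 ha)).trans (commutator_le.2 fun x hx y hy => ?_)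
  rw [mem_bot, commutatorElement_eq_one_iff_mul_comm]
  exact congrArg Subtype.val (hB.is_comm.comm ⟨x, hx⟩ ⟨y, hy⟩)

omit [Fact p.Prime] in
/-- An element in the `p`-core modulo the centralizer of a normal `p`-subgroup containing its centralizer. -/
theorem le_pCore_of_pcoreMod {D C : Subgroup G} [D.Normal] (hC : IsPGroup p C)
    (hD : ∀ x ∈ D, ∃ k, x ^ p ^ k ∈ C) : D ≤ Cfsg.pCore p G := by
  refine CfsgLib.Solvable.le_pCore p ‹_› ?_
  rintro ⟨x, hx⟩
  obtain ⟨k, hk⟩ := hD x hx
  obtain ⟨j, hj⟩ := hC ⟨_, hk⟩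
  refine ⟨k + j, Subtype.ext ?_⟩
  have := congrArg Subtype.val hj
  simpa [pow_add, pow_mul] using this

theorem mem_pCore_of_quadratic_odd (hodd : Odd (Nat.card G)) (hp : p ≠ 2)
    (hc : centralizer (Cfsg.pCore p G : Set G) ≤ Cfsg.pCore p G) {B : Subgroup G} (hB : IsMulCommutative B)
    (hFB : Cfsg.pCore p G ≤ normalizer (B : Set G)) : B ≤ Cfsg.pCore p G := by
  haveI : (Cfsg.pCore p G).Normal := CfsgLib.Solvable.pCore_normal p
  intro a ha
  obtain ⟨D, hD, haD, hDp⟩ := CfsgLib.ZJ.pcoreMod_of_quadratic hp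
    (CfsgLib.Invariant.not_involves_qd_of_odd hodd hp) _ (CfsgLib.Solvable.isPGroup_pCore p) a
    (quadratic_of_abelian_normalized hB hFB ha)
  exact le_pCore_of_pcoreMod ((CfsgLib.Solvable.isPGroup_pCore p).to_le hc) hDp haD

omit [Fact p.Prime] in
theorem eq_bot_of_even (hodd : Odd (Nat.card G)) {P : Subgroup G} (hP : IsPGroup 2 P) : P = ⊥ := by
  obtain ⟨k, hk⟩ := IsPGroup.iff_card.1 hP
  refine eq_bot_of_card_eq _ ?_
  have h := hodd.of_dvd_nat P.card_subgroup_dvd_card
  rw [hk] at h ⊢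
  rcases k with _ | k
  · rfl
  · rw [Nat.odd_pow_iff (Nat.succ_ne_zero k)] at h
    exact absurd h (by decide)

theorem selfCentralizing_quotient [Group.IsSolvable G] :
    centralizer (Cfsg.pCore p (G ⧸ Cfsg.pPrimeCore p G) : Set (G ⧸ Cfsg.pPrimeCore p G)) ≤
      Cfsg.pCore p (G ⧸ Cfsg.pPrimeCore p G) :=
  CfsgLib.Fitting.centralizer_pCore_le (CfsgLib.Fitting.pPrimeCore_quotient_eq_bot p)

theorem sylow_map_normalizes (S : Sylow p G) {A : Subgroup G} (hAn : (S : Subgroup G) ≤ normalizer (A : Set G))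
    {H : Type u} [Group H] [Finite H] (f : G →* H) (hf : Function.Surjective f) :
    Cfsg.pCore p H ≤ normalizer ((A.map f : Subgroup H) : Set H) :=
  (CfsgLib.CharP.le_sylow_of_le_normalizer (S.mapSurjective hf) (CfsgLib.Solvable.isPGroup_pCore p)
    (by haveI : (Cfsg.pCore p H).Normal := CfsgLib.Solvable.pCore_normal p; exact le_normalizer_of_normal)).trans
    (((map_mono hAn : (S : Subgroup G).map f ≤ _)).trans (le_normalizer_map f))

theorem abelian_normal_le_pPrimePCore [Group.IsSolvable G] (hodd : Odd (Nat.card G)) (S : Sylow p G)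
    {A : Subgroup G} (hA : A ≤ (S : Subgroup G)) (hAc : IsMulCommutative A)
    (hAn : (S : Subgroup G) ≤ normalizer (A : Set G)) : A ≤ Cfsg.pPrimePCore p G := by
  by_cases hp : p = 2
  · subst hp
    rw [eq_bot_of_even hodd (S.2.to_le hA)]
    exact bot_le
  haveI := hAc
  refine (map_le_iff_le_comap (f := QuotientGroup.mk' (Cfsg.pPrimeCore p G))).1 ?_
  exact mem_pCore_of_quadratic_odd (hodd.of_dvd_nat (card_quotient_dvd_card _)) hp selfCentralizing_quotient
    (Subgroup.map_isMulCommutative A _) (sylow_map_normalizes S hAn _ (QuotientGroup.mk'_surjective _))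

theorem centerThompsonOf_sup_normal [Group.IsSolvable G] (hodd : Odd (Nat.card G)) (S : Sylow p G) :
    (Cfsg.centerThompsonOf p (S : Subgroup G) ⊔ Cfsg.pPrimeCore p G).Normal := by
  set N := Cfsg.pPrimeCore p G
  haveI : N.Normal := CfsgLib.Solvable.pPrimeCore_normal p
  by_cases hp : p = 2
  · subst hp
    have hS : (S : Subgroup G) = ⊥ := eq_bot_of_even hodd S.2
    rw [le_bot_iff.1 ((CfsgLib.ZJ.centerThompsonOf_le (p := 2) (S : Subgroup G)).trans hS.le), bot_sup_eq]
    infer_instance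
  set π := QuotientGroup.mk' N
  have hπ : Function.Surjective π := QuotientGroup.mk'_surjective N
  have hinj : Function.Injective (π.comp (S : Subgroup G).subtype) := by
    rw [injective_iff_map_eq_one]
    intro x hx
    have hxN : (x : G) ∈ (S : Subgroup G) ⊓ N := ⟨x.2, (QuotientGroup.eq_one_iff _).1 hx⟩
    rw [CfsgLib.ZJ.isPGroup_inf_coprime S.2 (CfsgLib.Solvable.coprime_card_pPrimeCore p), mem_bot] at hxN
    exact Subtype.ext hxN
  have hmap : Cfsg.centerThompsonOf p ((S : Subgroup G).map π) =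
      (Cfsg.centerThompsonOf p (S : Subgroup G)).map π := by
    have h1 : Cfsg.centerThompsonOf p (S : Subgroup G) =
        (Cfsg.centerThompsonOf p (⊤ : Subgroup (S : Subgroup G))).map (S : Subgroup G).subtype := by
      rw [← CfsgLib.ZJ.centerThompsonOf_map _ (S : Subgroup G).subtype_injective, ← MonoidHom.range_eq_map,
        range_subtype]
    rw [h1, map_map, ← CfsgLib.ZJ.centerThompsonOf_map _ hinj, ← MonoidHom.range_eq_map, MonoidHom.range_comp,
      range_subtype]
  set Sb := S.mapSurjective hπ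
  set F := Cfsg.pCore p (G ⧸ N)
  have hoddq : Odd (Nat.card (G ⧸ N)) := hodd.of_dvd_nat (card_quotient_dvd_card N)
  set Z := Cfsg.centerThompsonOf p (Sb : Subgroup (G ⧸ N))
  have hZ : IsMulCommutative Z := ⟨⟨fun x y => Subtype.ext (CfsgLib.ZJ.centerThompsonOf_comm x.2 y.2)⟩⟩
  haveI hFn : F.Normal := CfsgLib.Solvable.pCore_normal p
  have hFS : F ≤ (Sb : Subgroup (G ⧸ N)) :=
    CfsgLib.CharP.le_sylow_of_le_normalizer Sb (CfsgLib.Solvable.isPGroup_pCore p) le_normalizer_of_normal
  have hZF : Z ≤ F := mem_pCore_of_quadratic_odd hoddq hp selfCentralizing_quotient hZ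
    (hFS.trans (le_normalizer.trans (CfsgLib.ZJ.normalizer_le_centerThompsonOf _)))
  have hn := CfsgLib.ZJ.inf_centerThompsonOf_normal hp Sb _ (CfsgLib.ZJ.stronglyClosed_self Sb)
    (CfsgLib.ZJ.stableNormal_of_free hp (CfsgLib.Invariant.not_involves_qd_of_odd hoddq hp)) F hFn
    (CfsgLib.Solvable.isPGroup_pCore p)
  rw [inf_eq_right.2 hZF] at hn
  have hn' : ((Cfsg.centerThompsonOf p (S : Subgroup G)).map π).Normal := hmap ▸ hn
  have := hn'.comap π
  rwa [comap_map_eq, QuotientGroup.ker_mk'] at this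

theorem normalizer_stable (hodd : Odd (Nat.card G)) (hp : p ≠ 2) (P A : Subgroup G) (hP : IsPGroup p P)
    (hAN : A ≤ normalizer (P : Set G)) (hquad : ⁅⁅P, A⁆, A⁆ = ⊥) :
    (A.subgroupOf (normalizer (P : Set G))).map
        (QuotientGroup.mk' ((centralizer (P : Set G)).subgroupOf (normalizer (P : Set G))))
      ≤ Cfsg.pCore p _ := by
  rintro _ ⟨⟨a, ha⟩, haA, rfl⟩
  refine CfsgLib.ZJ.isNormalizerPStable_of_free hp (CfsgLib.Invariant.not_involves_qd_of_odd hodd hp) P hP a ha ?_
  exact le_bot_iff.1 ((commutator_mono (commutator_mono le_rfl (zpowers_le.2 (mem_subgroupOf.1 haA)))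
    (zpowers_le.2 (mem_subgroupOf.1 haA))).trans hquad.le)

theorem generated_stable [Group.IsSolvable G] (hodd : Odd (Nat.card G)) (hp : p ≠ 2) (P : Subgroup G) [P.Normal]
    (hP : IsPGroup p P) (S : Set (Subgroup G))
    (hS : ∀ B ∈ S, IsMulCommutative B ∧ IsPGroup p B ∧ P ≤ normalizer (B : Set G)) :
    (sSup S).map (QuotientGroup.mk' (centralizer (P : Set G))) ≤ Cfsg.pCore p (G ⧸ centralizer (P : Set G)) ∧
      (Cfsg.pPrimeCore p G = ⊥ → Cfsg.pCore p G ⊓ centralizer (P : Set G) ≤ P → sSup S ≤ Cfsg.pCore p G) := by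
  set C := centralizer (P : Set G)
  set π := QuotientGroup.mk' C
  have h1 : (sSup S).map π ≤ Cfsg.pCore p (G ⧸ C) := by
    refine map_le_iff_le_comap.2 (sSup_le fun B hB a ha => ?_)
    exact (CfsgLib.ZJ.pcoreMod_iff C a).1 (CfsgLib.ZJ.pcoreMod_of_quadratic hp
      (CfsgLib.Invariant.not_involves_qd_of_odd hodd hp) P hP a
      (quadratic_of_abelian_normalized (hS B hB).1 (hS B hB).2.2 ha))
  refine ⟨h1, fun hO hle => ?_⟩
  haveI hCn : C.Normal := Subgroup.normal_centralizer
  have hCp : IsPGroup p C := by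
    set R := Cfsg.pCore p C
    have hRn : (R.map C.subtype).Normal := by
      haveI : R.Characteristic := characteristic_iff_map_le.2 fun φ => CfsgLib.Solvable.le_pCore p
        ((CfsgLib.Solvable.pCore_normal p).map _ φ.surjective) ((CfsgLib.Solvable.isPGroup_pCore p).map _)
      exact ConjAct.normal_of_characteristic_of_normal
    have hO' : Cfsg.pPrimeCore p C = ⊥ := by
      haveI : (Cfsg.pPrimeCore p C).Characteristic := characteristic_iff_map_le.2 fun φ =>
        CfsgLib.Solvable.le_pPrimeCore p ((CfsgLib.Solvable.pPrimeCore_normal p).map _ φ.surjective)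
          ((CfsgLib.Solvable.coprime_card_pPrimeCore p).coprime_dvd_left (card_map_dvd _ _))
      have h : (Cfsg.pPrimeCore p C).map C.subtype ≤ Cfsg.pPrimeCore p G :=
        CfsgLib.Solvable.le_pPrimeCore p ConjAct.normal_of_characteristic_of_normal (by
          rw [card_map_of_injective C.subtype_injective]
          exact CfsgLib.Solvable.coprime_card_pPrimeCore p)
      rw [hO, le_bot_iff, map_eq_bot_iff_of_injective _ C.subtype_injective] at h
      exact h
    have hRP : ∀ r ∈ R, (r : G) ∈ P := fun r hr => hle ⟨CfsgLib.Solvable.le_pCore p hRn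
      ((CfsgLib.Solvable.isPGroup_pCore p).map _) ⟨r, hr, rfl⟩, r.2⟩
    refine (CfsgLib.Solvable.isPGroup_pCore (G := C) p).of_surjective R.subtype fun c =>
      ⟨⟨c, CfsgLib.Fitting.centralizer_pCore_le hO' (mem_centralizer_iff.2 fun r hr => ?_)⟩, rfl⟩
    exact Subtype.ext (mem_centralizer_iff.1 c.2 _ (hRP r hr))
  intro a ha
  haveI : ((Cfsg.pCore p (G ⧸ C)).comap π).Normal := (CfsgLib.Solvable.pCore_normal p).comap π
  refine le_pCore_of_pcoreMod (D := (Cfsg.pCore p (G ⧸ C)).comap π) hCp (fun x hx => ?_) (h1 ⟨a, ha, rfl⟩)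
  obtain ⟨k, hk⟩ := CfsgLib.Solvable.isPGroup_pCore p ⟨π x, hx⟩
  refine ⟨k, (QuotientGroup.eq_one_iff _).1 ?_⟩
  show π (x ^ p ^ k) = 1
  rw [map_pow]
  exact congrArg Subtype.val hk

theorem invariant_le_core [Group.IsSolvable G] (hp : p ≠ 2) {E L : Subgroup G}
    (hE : Cfsg.IsElementaryAbelian p E)
    (hEmax : ∀ B : Subgroup G, Cfsg.IsElementaryAbelian p B → E ≤ B → B = E) (hL : (Nat.card L).Coprime p)
    (hEL : E ≤ normalizer (L : Set G)) : L ≤ Cfsg.pPrimeCore p G := by
  refine CfsgLib.AbelianSignalizer.le_core hp (CfsgLib.PConstrained.isPConstrained_iff.2 selfCentralizing_quotient)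
    (fun a => ⟨1, Subtype.ext (by simpa using hE.2 a a.2)⟩) (fun x hx hxp => ?_)
    ((Fact.out : p.Prime).coprime_iff_not_dvd.1 hL.symm) hEL
  have hel : Cfsg.IsElementaryAbelian p (E ⊔ zpowers x : Subgroup G) :=
    CfsgLib.Thompson.elab_sup hE (CfsgLib.Thompson.elab_zpowers (by rw [← hxp, pow_orderOf_eq_one]))
      (fun e he => mem_centralizer_iff.2 fun w hw => by
        obtain ⟨i, rfl⟩ := hw
        exact ((show Commute x e from (mem_centralizer_iff.1 hx e he).symm).zpow_left i).eq)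
  rw [← hEmax _ hel le_sup_left]
  exact mem_sup_right (mem_zpowers x)

end CfsgLib.OddLocal.Stability
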