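import Cfsg.Agent.OddLocal.SigmaCompl
import Cfsg.Agent.S1443
import Cfsg.Agent.S1462
import Cfsg.Agent.FGSA.Nilpotent
import Cfsg.Agent.Solvable.CoprimeAbelian
import Cfsg.Agent.FGSA.RankTwoAut

/-!
General facts for maximal subgroups containing a maximal elementary abelian subgroup of order `p ^ 2`.
-/

set_option autoImplicit false
set_option linter.style.haveILetI false
set_option linter.unusedSectionVars false

namespace CfsgLib.OddLocal.Excep

open Subgroup Cfsg CfsgLib.OddLocal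
open scoped Pointwise commutatorElement

universe u

variable {G : Type u} [Group G] [Finite G] {p t : ℕ}

/-- `O_{p'}(X)` inside the ambient group. -/
def opc (p : ℕ) (X : Subgroup G) : Subgroup G := (Cfsg.pPrimeCore p X).map X.subtype

theorem opc_le (p : ℕ) (X : Subgroup G) : opc p X ≤ X := map_subtype_le _

theorem opc_coprime (p : ℕ) (X : Subgroup G) : (Nat.card (opc p X)).Coprime p := by
  rw [opc, card_map_of_injective X.subtype_injective]
  exact CfsgLib.Solvable.coprime_card_pPrimeCore (G := X) p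

theorem opc_subgroupOf (p : ℕ) (X : Subgroup G) : (opc p X).subgroupOf X = Cfsg.pPrimeCore p X := by
  rw [opc, ← comap_subtype, comap_map_eq_self_of_injective X.subtype_injective]

theorem normalizer_le_normalizer_opc (p : ℕ) (X : Subgroup G) :
    normalizer (X : Set G) ≤ normalizer (opc p X : Set G) :=
  UTool.normalizer_le_normalizer_map X _ (PLenZ.characteristic_pPrimeCore p)

theorem le_normalizer_opc (p : ℕ) (X : Subgroup G) : X ≤ normalizer (opc p X : Set G) :=
  le_normalizer.trans (normalizer_le_normalizer_opc p X)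

/-- Inclusion in a normalized subgroup from coprimality with its index. -/
theorem le_of_hall {H K U : Subgroup G} (hHK : H ≤ K) (hn : K ≤ normalizer (H : Set G)) (hUK : U ≤ K)
    (h : (Nat.card U).Coprime (H.relIndex K)) : U ≤ H := by
  haveI : (H.subgroupOf K).Normal := (normal_subgroupOf_iff_le_normalizer hHK).2 hn
  have h' : U.subgroupOf K ≤ H.subgroupOf K := Beta.le_of_coprime_index (by
    rwa [Nat.card_congr (subgroupOfEquivOfLe hUK).toEquiv])
  have := map_mono (f := K.subtype) h'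
  rwa [map_subgroupOf_eq_of_le hUK, map_subgroupOf_eq_of_le hHK] at this

theorem pgroup_le_opc [Fact t.Prime] {p : ℕ} {K U : Subgroup G} (hU : IsPGroup t U) (hUK : U ≤ K)
    (h : ¬ t ∣ (Cfsg.pPrimeCore p K).index) : U ≤ opc p K := by
  refine le_of_hall (opc_le p K) (le_normalizer_opc p K) hUK ?_
  obtain ⟨k, hk⟩ := IsPGroup.iff_card.1 hU
  rw [hk, relIndex, opc_subgroupOf]
  exact ((Fact.out : t.Prime).coprime_iff_not_dvd.2 h).pow_left k

/-- The commutator with a coprime-normalizing subgroup is normalized by everything compatible. -/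
theorem normalizes_commutator {T P : Subgroup G} (hPT : P ≤ normalizer (T : Set G)) :
    T ⊔ centralizer (T : Set G) ⊔ (normalizer (T : Set G) ⊓ normalizer (P : Set G)) ≤
      normalizer ((⁅T, P⁆ : Subgroup G) : Set G) := by
  refine sup_le (sup_le (normalizer_commutator_ge_left _ _) ?_) ?_
  · have hle : ⁅T, P⁆ ≤ T := le_normalizer_iff_commutator_le_left.1 hPT
    exact (centralizer_le hle).trans (centralizer_le_normalizer _)
  · intro g hg
    refine Uniq.mem_normalizer_of_map_le ?_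
    have h1 : T.map (MulAut.conj g).toMonoidHom = T := mem_normalizer_iff_map_conj_eq.1 hg.1
    have h2 : P.map (MulAut.conj g).toMonoidHom = P := mem_normalizer_iff_map_conj_eq.1 hg.2
    rw [map_commutator, h1, h2]

/-- A coprime automorphism group fixing the elements of order `t` of a cyclic `t`-group fixes the group. -/
theorem centralizes_cyclic [Fact t.Prime] (ht2 : t ≠ 2) {A U : Subgroup G} (hU : IsPGroup t U) (hUc : IsCyclic U)
    (hA : A ≤ normalizer (U : Set G)) (hcop : (Nat.card A).Coprime t) {w : G} (hwU : w ∈ U)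
    (hwo : orderOf w = t) (hwA : A ≤ centralizer ({w} : Set G)) : A ≤ centralizer (U : Set G) := by
  refine Cfsg.Agent.S1443.result t ht2 U (zpowers w) A hU (zpowers_le.2 hwU)
    (CfsgLib.Thompson.elab_zpowers (by rw [← hwo, pow_orderOf_eq_one])) hA hcop fun x hx hxo => ?_
  have hxw : zpowers x = zpowers w := UTool.zpowers_eq_of_cyclic hUc hx.1 hwU hxo hwo
  obtain ⟨i, hi⟩ := mem_zpowers_iff.1 (hxw ▸ mem_zpowers x : x ∈ zpowers w)
  intro a ha
  rw [← hi]
  exact mem_centralizer_singleton_iff.2 ((show Commute a w from mem_centralizer_singleton_iff.1 (hwA ha)).zpow_right i).eq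

/-- A subgroup containing a full Sylow subgroup for every prime is everything. -/
theorem le_of_sylows {K C : Subgroup G}
    (h : ∀ r : ℕ, r.Prime → r ∣ Nat.card K → ∃ S : Subgroup G, S ≤ K ⊓ C ∧ ¬ r ∣ S.relIndex K) : K ≤ C := by
  suffices h1 : (K ⊓ C).relIndex K = 1 from (relIndex_eq_one.1 h1).trans inf_le_right
  by_contra hne
  obtain ⟨r, hr, hrd⟩ := Nat.exists_prime_and_dvd hne
  obtain ⟨S, hS, hnd⟩ := h r hr (hrd.trans (relIndex_dvd_card _ _))
  exact hnd (hrd.trans (relIndex_dvd_of_le_left K hS))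

/-- Invariant Sylow subgroups over a given invariant subgroup. -/
theorem exists_inv_sylow [Fact t.Prime] {T K U : Subgroup G} (hTK : T ≤ normalizer (K : Set G))
    (hcop : (Nat.card T).Coprime (Nat.card K)) (hs : Group.IsSolvable T ∨ Group.IsSolvable K) (hUK : U ≤ K)
    (hU : IsPGroup t U) (hUT : T ≤ normalizer (U : Set G)) :
    ∃ R : Subgroup G, U ≤ R ∧ R ≤ K ∧ IsPGroup t R ∧ T ≤ normalizer (R : Set G) ∧ ¬ t ∣ R.relIndex K := by
  obtain ⟨P, hUP, hTP⟩ := CfsgLib.CoprimeAct.exists_invariant_sylow_ge hTK hcop hs t hUK hU hUT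
  refine ⟨_, hUP, map_subtype_le _, P.2.map K.subtype, hTP, ?_⟩
  rw [relIndex, ← comap_subtype, comap_map_eq_self_of_injective K.subtype_injective]
  exact P.not_dvd_index

theorem isPiHallOf_of [Fact t.Prime] {R K : Subgroup G} (hRK : R ≤ K) (hR : IsPGroup t R)
    (hd : ¬ t ∣ R.relIndex K) : Cfsg.IsPiHallOf ({t} : Set ℕ) R K := by
  refine ⟨hRK, fun q hq hqd => ?_, fun q hq hqt => by rw [Set.mem_singleton_iff.1 hqt]; exact hd⟩
  obtain ⟨k, hk⟩ := IsPGroup.iff_card.1 hR
  exact (Nat.prime_dvd_prime_iff_eq hq Fact.out).1 (hq.dvd_of_dvd_pow (hk ▸ hqd))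

/-- Invariant Sylow subgroups are conjugate under fixed points. -/
theorem inv_sylow_conj [Fact t.Prime] {T K R₁ R₂ : Subgroup G} (hTK : T ≤ normalizer (K : Set G))
    (hcop : (Nat.card T).Coprime (Nat.card K)) (hs : Group.IsSolvable K)
    (h₁ : R₁ ≤ K) (h₁' : IsPGroup t R₁) (h₁d : ¬ t ∣ R₁.relIndex K) (h₁T : T ≤ normalizer (R₁ : Set G))
    (h₂ : R₂ ≤ K) (h₂' : IsPGroup t R₂) (h₂d : ¬ t ∣ R₂.relIndex K) (h₂T : T ≤ normalizer (R₂ : Set G)) :
    ∃ c ∈ K ⊓ centralizer (T : Set G), R₁.map (MulAut.conj c).toMonoidHom = R₂ := by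
  obtain ⟨c, hc, hcR⟩ := CfsgLib.InvariantHall.invariant_conj hTK hcop hs
    (isPiHallOf_of h₁ h₁' h₁d) h₁T (isPiHallOf_of h₂ h₂' h₂d) h₂T
  exact ⟨c, hc, hcR⟩

theorem coprime_of_pgroup [Fact t.Prime] {n : ℕ} {R : Subgroup G} (hR : IsPGroup t R) (h : ¬ t ∣ n) :
    (Nat.card R).Coprime n := by
  obtain ⟨k, hk⟩ := IsPGroup.iff_card.1 hR
  exact hk ▸ ((Fact.out : t.Prime).coprime_iff_not_dvd.2 h).pow_left k

theorem le_alphaCore (hG : Cfsg.IsMinSimpleOddOrder G) {K U : Subgroup G} (hK : IsCoatom K) (hUK : U ≤ K)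
    (h : ∀ q : ℕ, q.Prime → q ∣ Nat.card U → q ∈ Cfsg.alpha K) : U ≤ Cfsg.alphaCore K :=
  le_of_hall (map_subtype_le _) (TH.le_normalizer_core K) hUK
    (Nat.coprime_of_dvd fun q hq h1 h2 => (Sig.alpha_core hG hK).1.2.2 q hq (h q hq h1) h2)

theorem le_sigmaCore (hG : Cfsg.IsMinSimpleOddOrder G) {K U : Subgroup G} (hK : IsCoatom K) (hUK : U ≤ K)
    (h : ∀ q : ℕ, q.Prime → q ∣ Nat.card U → q ∈ Cfsg.sigma K) : U ≤ Cfsg.sigmaCore K :=
  le_of_hall (map_subtype_le _) (TH.le_normalizer_core K) hUK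
    (Nat.coprime_of_dvd fun q hq h1 h2 => (Sig.sigma_core hG hK).1.2.2 q hq (h q hq h1) h2)

theorem primes_of_pgroup [Fact t.Prime] {U : Subgroup G} (hU : IsPGroup t U) {π : Set ℕ} (ht : t ∈ π) :
    ∀ q : ℕ, q.Prime → q ∣ Nat.card U → q ∈ π := fun q hq hd => by
  obtain ⟨k, hk⟩ := IsPGroup.iff_card.1 hU
  rwa [(Nat.prime_dvd_prime_iff_eq hq Fact.out).1 (hq.dvd_of_dvd_pow (hk ▸ hd))]

theorem isPGroup_ne_bot_dvd [Fact t.Prime] {U : Subgroup G} (hU : IsPGroup t U) (h1 : U ≠ ⊥) :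
    t ∣ Nat.card U := by
  obtain ⟨k, hk⟩ := IsPGroup.iff_card.1 hU
  exact hk ▸ dvd_pow_self t fun e => h1 (eq_bot_of_card_eq _ (by rw [hk, e, pow_zero]))

theorem mem_alpha_of {K B : Subgroup G} [Fact t.Prime] (hBK : B ≤ K) (hB : ¬ Cfsg.PRankLE t 2 B) :
    t ∈ Cfsg.alpha K := ⟨Fact.out, fun h => hB (Uniq.rankLE_mono hBK h)⟩

/-- Coprime subgroups of `K'` commute modulo `K_α`. -/
theorem commutator_le_alphaCore (hG : Cfsg.IsMinSimpleOddOrder G) {K W P : Subgroup G} (hK : IsCoatom K)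
    (hW : W ≤ ⁅K, K⁆) (hP : P ≤ ⁅K, K⁆) (hcop : (Nat.card W).Coprime (Nat.card P)) :
    ⁅W, P⁆ ≤ Cfsg.alphaCore K := by
  obtain ⟨-, -, hnil⟩ := Sig.alpha_core hG hK
  set O := Cfsg.piCore (Cfsg.alpha K) ↥K
  set f := QuotientGroup.mk' O with hf
  have hKd : ⁅K, K⁆ = (commutator K).map K.subtype := (map_subtype_commutator K).symm
  haveI := hnil
  rw [commutator_le]
  intro w hw x hx
  obtain ⟨w', hw', rfl⟩ := hKd ▸ hW hw
  obtain ⟨x', hx', rfl⟩ := hKd ▸ hP hx
  have ho1 : orderOf (f w') ∣ Nat.card W := (orderOf_map_dvd f w').trans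
    (by rw [← orderOf_coe]; exact W.orderOf_dvd_natCard hw)
  have ho2 : orderOf (f x') ∣ Nat.card P := (orderOf_map_dvd f x').trans
    (by rw [← orderOf_coe]; exact P.orderOf_dvd_natCard hx)
  have hc := CfsgLib.FGSA.commute_of_coprime_orderOf
    (⟨f w', mem_map_of_mem f hw'⟩ : (commutator ↥K).map f) ⟨f x', mem_map_of_mem f hx'⟩
    (by rw [← orderOf_coe, ← orderOf_coe]; exact (hcop.coprime_dvd_left ho1).coprime_dvd_right ho2)
  have hone : f ⁅w', x'⁆ = 1 := by
    rw [map_commutatorElement]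
    exact commutatorElement_eq_one_iff_mul_comm.2 (congrArg Subtype.val hc.eq)
  exact ⟨⁅w', x'⁆, (QuotientGroup.eq_one_iff _).1 hone, map_commutatorElement K.subtype w' x'⟩

/-- A normal subgroup inside `K'` centralizing `K_α` is nilpotent. -/
theorem nilpotent_of_centralizes (hG : Cfsg.IsMinSimpleOddOrder G) {K N : Subgroup G} (hK : IsCoatom K)
    (hN : N ≤ ⁅K, K⁆) (hc : N ≤ centralizer (Cfsg.alphaCore K : Set G)) : Group.IsNilpotent N := by
  obtain ⟨-, -, hnil⟩ := Sig.alpha_core hG hK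
  have hNK : N ≤ K := hN.trans (commutator_le_self K)
  set O := Cfsg.piCore (Cfsg.alpha K) ↥K
  set f := (QuotientGroup.mk' O).comp (inclusion hNK) with hf
  set N' := N.subgroupOf K
  haveI := hnil
  have hle : N'.map (QuotientGroup.mk' O) ≤ (commutator K).map (QuotientGroup.mk' O) := map_mono fun x hx => by
    obtain ⟨y, hy, hyx⟩ := (map_subtype_commutator K).symm ▸ hN (mem_subgroupOf.1 hx)
    rwa [← K.subtype_injective hyx]
  haveI : Group.IsNilpotent (N'.map (QuotientGroup.mk' O)) :=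
    CfsgLib.CN.nilpotent_of_le hnil hle
  let g : N →* N'.map (QuotientGroup.mk' O) := f.codRestrict _ fun x => ⟨inclusion hNK x, x.2, rfl⟩
  refine Subgroup.isNilpotent_of_ker_le_center g fun x hx => ?_
  have hxO : inclusion hNK x ∈ O := (QuotientGroup.eq_one_iff _).1 (congrArg Subtype.val (MonoidHom.mem_ker.1 hx))
  refine mem_center_iff.2 fun y => Subtype.ext ?_
  exact (mem_centralizer_iff.1 (hc y.2) (x : G) ⟨_, hxO, rfl⟩).symm

/-- Transfer of `α`-membership to a maximal subgroup containing the derived-commutator. -/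
theorem alpha_of_sigma (hG : Cfsg.IsMinSimpleOddOrder G) [Fact p.Prime] [Fact t.Prime] (htp : t ≠ p)
    {K P U : Subgroup G} (hK : IsCoatom K) (hp : p ∈ Cfsg.sigma K) (hP : IsPGroup p P) (hPK : P ≤ K)
    (hU : IsPGroup t U) (hUK : U ≤ K) (hPU : P ≤ normalizer (U : Set G)) (h : ⁅U, P⁆ ≠ ⊥) :
    t ∈ Cfsg.alpha K := by
  have hPσ : P ≤ Cfsg.sigmaCore K := le_sigmaCore hG hK hPK (primes_of_pgroup hP hp)
  have hσK := (Sig.sigma_core hG hK).2.2
  have hcop : (Nat.card U).Coprime (Nat.card P) := IsPGroup.coprime_card_of_ne t p htp U P hU hP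
  haveI : Group.IsSolvable P := hG.2.2.2 P (ne_top_of_le_ne_top hK.1 hPK)
  set W := ⁅U, P⁆ with hW
  have hWU : W ≤ U := le_normalizer_iff_commutator_le_left.1 hPU
  have hWα : W ≤ Cfsg.alphaCore K := by
    rw [hW, ← CfsgLib.CoprimeAct.commutator_commutator hPU hcop.symm (Or.inl inferInstance), ← hW]
    refine commutator_le_alphaCore hG hK ?_ (hPσ.trans hσK) (hcop.coprime_dvd_left (card_dvd_of_le hWU))
    refine le_trans ?_ hσK
    exact (commutator_mono hUK hPσ).trans (le_normalizer_iff_commutator_le_right.1 (TH.le_normalizer_core K))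
  exact (Sig.alpha_core hG hK).1.2.1 t Fact.out
    ((isPGroup_ne_bot_dvd (hU.to_le hWU) h).trans (card_dvd_of_le hWα))

/-- A prime of `σ(M) \ α(M)` is not in `α(K)` for any `K`. -/
theorem not_alpha_of_sigma (hG : Cfsg.IsMinSimpleOddOrder G) [Fact t.Prime] {M : Subgroup G} (hM : IsCoatom M)
    (ht : t ∈ Cfsg.sigma M) (hα : t ∉ Cfsg.alpha M) (K : Subgroup G) : t ∉ Cfsg.alpha K := by
  rintro ⟨-, hr⟩
  obtain ⟨E, -, hE, hEc⟩ := Uniq.exists_elementary hr
  obtain ⟨S₀, hS₀⟩ := (CfsgLib.Signalizer.isPGroup hE).exists_le_sylow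
  obtain ⟨S, hSM, -⟩ := Sig.exists_sylow ht
  obtain ⟨g, hg⟩ := MulAction.exists_smul_eq G S₀ S
  refine hα ⟨Fact.out, fun h => ?_⟩
  have hE' : Cfsg.IsElementaryAbelian t (E.map (MulAut.conj g).toMonoidHom) := by
    haveI := hE.1
    refine ⟨Subgroup.map_isMulCommutative E _, ?_⟩
    rintro _ ⟨x, hx, rfl⟩
    rw [← map_pow, hE.2 x hx, map_one]
  have hle : E.map (MulAut.conj g).toMonoidHom ≤ M := by
    refine le_trans (map_mono hS₀) (le_trans (le_of_eq ?_) hSM)
    rw [← hg]; rfl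
  have := Uniq.rankLE_elementary h hle hE'
  rw [card_map_of_injective (MulAut.conj g).injective, hEc] at this
  exact absurd this (not_le.2 (Nat.pow_lt_pow_right (Fact.out : t.Prime).one_lt (by norm_num)))

section Elementary

variable [hp : Fact p.Prime] {A : Subgroup G} (hA : Cfsg.IsElementaryAbelian p A) (hA2 : Nat.card A = p ^ 2)

include hA in
theorem line_of_mem {a : G} (ha : a ∈ A) (ha1 : a ≠ 1) : zpowers a ≤ A ∧ Nat.card (zpowers a) = p :=
  ⟨zpowers_le.2 ha, by rw [Nat.card_zpowers]; exact orderOf_eq_prime (hA.2 a ha) ha1⟩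

include hA2 in
theorem line_sup {Y : Subgroup G} (hYA : Y ≤ A) (hY : Nat.card Y = p) {b : G} (hb : b ∈ A) (hbY : b ∉ Y) :
    Y ⊔ zpowers b = A := by
  have hle : Y ⊔ zpowers b ≤ A := sup_le hYA (zpowers_le.2 hb)
  have hAp : IsPGroup p A := IsPGroup.of_card hA2
  obtain ⟨j, hj⟩ := IsPGroup.iff_card.1 (hAp.to_le hle)
  refine eq_of_le_of_card_ge hle ?_
  have hlt := CfsgLib.Solvable.card_lt_of_lt (lt_of_le_of_ne (le_sup_left : Y ≤ Y ⊔ zpowers b) fun h =>
    hbY (h.ge (mem_sup_right (mem_zpowers b))))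
  rw [hY, hj] at hlt
  conv_lhs at hlt => rw [← pow_one p]
  rw [Nat.pow_lt_pow_iff_right hp.out.one_lt] at hlt
  rw [hA2, hj]
  exact Nat.pow_le_pow_right hp.out.pos hlt

include hA2 in
theorem exists_not_mem {Y : Subgroup G} (hY : Nat.card Y = p) : ∃ b ∈ A, b ∉ Y := by
  by_contra h
  push Not at h
  have := card_le_of_le (h : A ≤ Y)
  rw [hA2, hY] at this
  exact absurd this (not_le.2 (lt_self_pow₀ hp.out.one_lt one_lt_two))

include hA hA2 in
/-- A coprime group is generated by the fixed points of the lines. -/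
theorem le_of_lines {K X : Subgroup G} (hAK : A ≤ normalizer (K : Set G)) (hcop : ¬ p ∣ Nat.card K)
    (h : ∀ Y : Subgroup G, Y ≤ A → Nat.card Y = p → K ⊓ centralizer (Y : Set G) ≤ X) : K ≤ X := by
  haveI := hA.1
  have hAp : IsPGroup p A := IsPGroup.of_card hA2
  conv_lhs => rw [← CfsgLib.CoprimeAct.generated_by_centralizers
    (CfsgLib.Signalizer.not_isCyclic hA hA2.ge) hAK (coprime_of_pgroup hAp hcop)]
  refine iSup₂_le fun a ha => ?_
  obtain ⟨h1, h2⟩ := line_of_mem hA ha.1 ha.2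
  exact (inf_le_inf_left _ (FixedLine.le_centralizer_zpowers le_rfl)).trans (h _ h1 h2)

include hA hA2 in
theorem centralizer_line_sup {Y : Subgroup G} (hYA : Y ≤ A) (hY : Nat.card Y = p) {b : G} (hb : b ∈ A)
    (hbY : b ∉ Y) : centralizer (Y : Set G) ⊓ centralizer ({b} : Set G) = centralizer (A : Set G) := by
  refine le_antisymm ?_ (le_inf (centralizer_le hYA) (centralizer_le (Set.singleton_subset_iff.2 hb)))
  intro x hx
  have hle : A ≤ centralizer ({x} : Set G) := by
    rw [← line_sup hA2 hYA hY hb hbY]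
    exact sup_le (fun y hy => mem_centralizer_singleton_iff.2 (mem_centralizer_iff.1 hx.1 y hy))
      (zpowers_le.2 (mem_centralizer_singleton_iff.2 (mem_centralizer_singleton_iff.1 hx.2).symm))
  exact mem_centralizer_iff.2 fun a ha => mem_centralizer_singleton_iff.1 (hle ha)

include hA hA2 in
theorem normalizes_inf_centralizer {K Y : Subgroup G} (hYA : Y ≤ A) (hAK : A ≤ normalizer (K : Set G)) :
    A ≤ normalizer ((K ⊓ centralizer (Y : Set G) : Subgroup G) : Set G) := by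
  haveI := hA.1
  refine le_trans (le_inf hAK ?_) inf_normalizer_le_normalizer_inf
  refine le_trans (le_trans ?_ (centralizer_le_normalizer _)) (TH.normalizer_le_normalizer_centralizer Y)
  exact (le_centralizer_iff_isMulCommutative.2 hA.1).trans (centralizer_le hYA)

variable (hmax : ∀ B : Subgroup G, Cfsg.IsElementaryAbelian p B → A ≤ B → B = A)

include hA hmax in
theorem mem_of_commute {x : G} (hx : x ^ p = 1) (hc : ∀ a ∈ A, a * x = x * a) : x ∈ A := by
  rw [← hmax (A ⊔ zpowers x) (CfsgLib.Thompson.elab_sup hA (CfsgLib.Thompson.elab_zpowers hx) ?_) le_sup_left]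
  · exact mem_sup_right (mem_zpowers x)
  · intro a ha
    refine mem_centralizer_iff.2 fun y hy => ?_
    obtain ⟨i, rfl⟩ := mem_zpowers_iff.1 hy
    exact ((show Commute x a from (hc a ha).symm).zpow_left i).eq

include hA hA2 hmax in
theorem not_beta (K : Subgroup G) : p ∉ Cfsg.beta K := by
  rintro ⟨-, hid⟩
  obtain ⟨P, hP⟩ := (IsPGroup.of_card hA2 : IsPGroup p A).exists_le_sylow
  obtain ⟨B, -, hB, hlt⟩ := hid.2.2 P A hP hA hA2
  exact hlt.ne (hmax B hB hlt.le).symm

include hA hA2 hmax in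
theorem invariant_le_opc (hG : Cfsg.IsMinSimpleOddOrder G) {X Y : Subgroup G} (hX : X ≠ ⊤) (hAX : A ≤ X)
    (hYX : Y ≤ X) (hY : (Nat.card Y).Coprime p) (hAY : A ≤ normalizer (Y : Set G)) : Y ≤ opc p X := by
  haveI : Group.IsSolvable X := hG.2.2.2 X hX
  have hp2 : p ≠ 2 := CfsgLib.CN.MinSimple.p_ne_two hG
    ((dvd_pow_self p two_ne_zero).trans (hA2 ▸ A.card_subgroup_dvd_card))
  haveI := hA.1
  have hAe : Cfsg.IsElementaryAbelian p (A.subgroupOf X) :=
    ⟨⟨⟨fun a b => Subtype.ext (Subtype.ext (setLike_mul_comm (mem_subgroupOf.1 a.2) (mem_subgroupOf.1 b.2)))⟩⟩,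
      fun a ha => Subtype.ext ((SubmonoidClass.coe_pow a p).trans (hA.2 _ ha))⟩
  have hmax' : ∀ B : Subgroup X, Cfsg.IsElementaryAbelian p B → A.subgroupOf X ≤ B → B = A.subgroupOf X := by
    intro B hB hle
    haveI := hB.1
    have h1 : Cfsg.IsElementaryAbelian p (B.map X.subtype) := by
      refine ⟨Subgroup.map_isMulCommutative B _, ?_⟩
      rintro _ ⟨b, hb, rfl⟩
      rw [← map_pow, hB.2 b hb, map_one]
    have h2 := hmax _ h1 ((map_subgroupOf_eq_of_le hAX).ge.trans (map_mono hle))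
    rw [← h2, ← comap_subtype, comap_map_eq_self_of_injective X.subtype_injective]
  have h := Cfsg.Agent.S1462.result (G := X) p hp2 (PLenOne.proper_pLength hG hX) (A.subgroupOf X) (Y.subgroupOf X) hAe
    hmax' (by rwa [Nat.card_congr (subgroupOfEquivOfLe hYX).toEquiv]) ?_
  · rw [← map_subgroupOf_eq_of_le hYX]
    exact map_mono h
  · intro a ha
    refine mem_normalizer_iff.2 fun y => ?_
    simpa [mem_subgroupOf] using mem_normalizer_iff.1 (hAY (mem_subgroupOf.1 ha)) (y : G)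

include hA hA2 hmax in
/-- An invariant `t`-subgroup meeting an invariant Sylow subgroup lies in one of its conjugates under `C(A)`. -/
theorem le_conj_sylow (hG : Cfsg.IsMinSimpleOddOrder G) [ht : Fact t.Prime] (htp : t ≠ p) {Q R : Subgroup G}
    (hQ : IsPGroup t Q) (hQd : ¬ t ∣ Q.index) (hAQ : A ≤ normalizer (Q : Set G)) (hR : IsPGroup t R)
    (hAR : A ≤ normalizer (R : Set G)) (hne : R ⊓ Q ≠ ⊥) :
    ∃ c ∈ centralizer (A : Set G), R ≤ Q.map (MulAut.conj c).toMonoidHom := by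
  induction hn : Nat.card G - Nat.card ↥(R ⊓ Q) using Nat.strong_induction_on generalizing Q R with
  | _ n ih => ?_
  subst hn
  set D := R ⊓ Q with hD
  by_cases hRQ : R ≤ Q
  · exact ⟨1, one_mem _, hRQ.trans (le_of_eq (TH.map_conj_one Q).symm)⟩
  have hD₁ : D < R := lt_of_le_of_ne inf_le_left fun h => hRQ (inf_eq_left.1 h)
  have hD₂ : D < Q := lt_of_le_of_ne inf_le_right fun h => by
    have hQR : Q ≤ R := inf_eq_right.1 h
    refine hD₁.ne (h.trans (eq_of_le_of_card_ge hQR ?_))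
    refine Nat.le_of_dvd Nat.card_pos ((Nat.Coprime.dvd_mul_right (coprime_of_pgroup hR hQd)).1 ?_)
    rw [Q.card_mul_index]; exact card_subgroup_dvd_card R
  have hAD : A ≤ normalizer (D : Set G) := le_trans (le_inf hAR hAQ) inf_normalizer_le_normalizer_inf
  have hN : normalizer (D : Set G) ≠ ⊤ :=
    CfsgLib.CN.MinSimple.normalizer_ne_top hG (hR.to_le inf_le_left).isNilpotent hne
  have hAN : ∀ X : Subgroup G, A ≤ normalizer (X : Set G) →
      A ≤ normalizer ((X ⊓ normalizer (D : Set G) : Subgroup G) : Set G) := fun X hX =>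
    le_trans (le_inf hX (hAD.trans le_normalizer)) inf_normalizer_le_normalizer_inf
  set O := opc p (normalizer (D : Set G)) with hO
  have hcopt : ∀ X : Subgroup G, IsPGroup t X → (Nat.card X).Coprime p := fun X hX =>
    coprime_of_pgroup hX fun h => htp ((Nat.prime_dvd_prime_iff_eq ht.out hp.out).1 h)
  have hR₁ : R ⊓ normalizer (D : Set G) ≤ O := invariant_le_opc hA hA2 hmax hG hN hAD inf_le_right
    (hcopt _ (hR.to_le inf_le_left)) (hAN R hAR)
  have hQ₁ : Q ⊓ normalizer (D : Set G) ≤ O := invariant_le_opc hA hA2 hmax hG hN hAD inf_le_right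
    (hcopt _ (hQ.to_le inf_le_left)) (hAN Q hAQ)
  have hAO : A ≤ normalizer (O : Set G) := hAD.trans (le_normalizer_opc _ _)
  have hAp : IsPGroup p A := IsPGroup.of_card hA2
  have hcopO : (Nat.card A).Coprime (Nat.card O) :=
    coprime_of_pgroup hAp (hp.out.coprime_iff_not_dvd.1 (opc_coprime p _).symm)
  have hOs : Group.IsSolvable O := hG.2.2.2 O (ne_top_of_le_ne_top hN (opc_le _ _))
  obtain ⟨T, hQT, hTO, hTp, hTA, hTd⟩ :=
    exists_inv_sylow hAO hcopO (Or.inr hOs) hQ₁ (hQ.to_le inf_le_left) (hAN Q hAQ)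
  obtain ⟨T', hRT', hTO', hTp', hTA', hTd'⟩ :=
    exists_inv_sylow hAO hcopO (Or.inr hOs) hR₁ (hR.to_le inf_le_left) (hAN R hAR)
  obtain ⟨k, hk, hkT⟩ := inv_sylow_conj hAO hcopO hOs hTO' hTp' hTd' hTA' hTO hTp hTd hTA
  have hlt₁ := CfsgLib.Solvable.card_lt_of_lt (CfsgLib.Fusion.lt_inf_normalizer hR hD₁)
  have hlt₂ := CfsgLib.Solvable.card_lt_of_lt (CfsgLib.Fusion.lt_inf_normalizer hQ hD₂)
  have hcard : ∀ {X X' Y : Subgroup G}, Nat.card D < Nat.card Y → Y ≤ X → Y ≤ X' →
      Nat.card G - Nat.card ↥(X ⊓ X') < Nat.card G - Nat.card ↥D ∧ X ⊓ X' ≠ ⊥ := by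
    intro X X' Y hlt h1 h2
    have hle : Nat.card Y ≤ Nat.card ↥(X ⊓ X') := card_le_of_le (le_inf h1 h2)
    have hG' : Nat.card ↥(X ⊓ X') ≤ Nat.card G := card_le_card_group _
    refine ⟨by omega, fun h => ?_⟩
    have hb : Nat.card ↥(X ⊓ X') = 1 := by rw [h, card_bot]
    have := Nat.card_pos (α := D)
    omega
  obtain ⟨h1, h1'⟩ := hcard (X := T) (X' := Q) hlt₂ hQT inf_le_left
  obtain ⟨a, ha, hTQ⟩ := ih _ h1 hQ hQd hAQ hTp hTA h1' rfl
  have hAQ' : A ≤ normalizer (Q.map (MulAut.conj a).toMonoidHom : Set G) := fun b hb => by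
    refine Uniq.mem_normalizer_of_map_le ?_
    have h0 : Q.map (MulAut.conj b).toMonoidHom = Q := mem_normalizer_iff_map_conj_eq.1 (hAQ hb)
    rw [TH.map_conj_map_conj, (mem_centralizer_iff.1 ha b hb), ← TH.map_conj_map_conj, h0]
  have hkA : ∀ X : Subgroup G, A ≤ normalizer (X : Set G) →
      A ≤ normalizer (X.map (MulAut.conj k).toMonoidHom : Set G) := fun X hX b hb => by
    refine Uniq.mem_normalizer_of_map_le ?_
    have h0 : X.map (MulAut.conj b).toMonoidHom = X := mem_normalizer_iff_map_conj_eq.1 (hX hb)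
    rw [TH.map_conj_map_conj, (mem_centralizer_iff.1 hk.2 b hb), ← TH.map_conj_map_conj, h0]
  have hsub : (R ⊓ normalizer (D : Set G)).map (MulAut.conj k).toMonoidHom ≤ Q.map (MulAut.conj a).toMonoidHom :=
    ((map_mono hRT').trans hkT.le).trans hTQ
  obtain ⟨h2, h2'⟩ := hcard (X := R.map (MulAut.conj k).toMonoidHom) (X' := Q.map (MulAut.conj a).toMonoidHom)
    (Y := (R ⊓ normalizer (D : Set G)).map (MulAut.conj k).toMonoidHom)
    (by rwa [card_map_of_injective (MulAut.conj k).injective]) (map_mono inf_le_left) hsub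
  have hd' : ¬ t ∣ (Q.map (MulAut.conj a).toMonoidHom).index := by
    rwa [index_map_of_bijective (MulAut.conj a).bijective]
  obtain ⟨b, hb, hRQ'⟩ := ih _ h2 (hQ.map _) hd' hAQ' (hR.map _) (hkA R hAR) h2' rfl
  refine ⟨k⁻¹ * b * a, mul_mem (mul_mem (inv_mem hk.2) hb) ha, ?_⟩
  have h3 := map_mono (f := (MulAut.conj k⁻¹).toMonoidHom) hRQ'
  rw [Uniq.map_conj_inv, TH.map_conj_map_conj, TH.map_conj_map_conj] at h3
  simpa only [mul_assoc] using h3

end Elementary

/-- A subgroup that is not in a unique maximal subgroup is maximal elementary abelian. -/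
theorem maxElem_of_not_unique (hG : Cfsg.IsMinSimpleOddOrder G) [Fact p.Prime] {A : Subgroup G}
    (hA : Cfsg.IsElementaryAbelian p A) (hA2 : Nat.card A = p ^ 2) (hU : ¬ Cfsg.InUniqueMaximal A) :
    ∀ B : Subgroup G, Cfsg.IsElementaryAbelian p B → A ≤ B → B = A := by
  intro B hB hAB
  by_contra hne
  have hlt : p ^ 3 ≤ Nat.card B := by
    obtain ⟨k, hk⟩ := IsPGroup.iff_card.1 (CfsgLib.Signalizer.isPGroup hB)
    have h1 := CfsgLib.Solvable.card_lt_of_lt (lt_of_le_of_ne hAB (Ne.symm hne))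
    rw [hA2, hk] at h1
    rw [hk]
    exact Nat.pow_le_pow_right (Fact.out : p.Prime).pos ((Nat.pow_lt_pow_iff_right (Fact.out : p.Prime).one_lt).1 h1)
  have hB3 : ¬ Cfsg.PRankLE p 2 B := fun h => absurd (hlt.trans (Uniq.rankLE_elementary h le_rfl hB))
    (not_le.2 (Nat.pow_lt_pow_right (Fact.out : p.Prime).one_lt (by norm_num)))
  have hBC : B ≤ centralizer (A : Set G) := fun b hb => mem_centralizer_iff.2 fun a ha =>
    CfsgLib.Signalizer.commute hB (hAB ha) hb
  exact hU (Uniq.connect hG (CfsgLib.Signalizer.isPGroup hB) hB3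
    (UThm.rank_three_unique hG (CfsgLib.Signalizer.isPGroup hB) hB3) hB.1
    (CfsgLib.Signalizer.isPGroup hA) (CfsgLib.Signalizer.not_isCyclic hA hA2.ge)
    (fun h => hB3 (Uniq.rankLE_mono hBC h)))

end CfsgLib.OddLocal.Excep
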