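import Cfsg.Agent.OddLocal.NonabelianUnique

/-!
Nilpotent subgroups of order prime to `σ(M)` are abelian; centralizers of `τ₂(M)`-elements.
-/

set_option autoImplicit false
set_option linter.style.haveILetI false
set_option linter.unusedSectionVars false

namespace CfsgLib.OddLocal.Tau

open Subgroup Cfsg CfsgLib.OddLocal
open scoped commutatorElement

universe u

variable {G : Type u} [Group G] [Finite G] (hG : Cfsg.IsMinSimpleOddOrder G)
include hG

/-- A nilpotent subgroup of order prime to `σ(M)` is abelian. -/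
theorem commutative_of_nilpotent {M N : Subgroup G} (hM : IsCoatom M) (hNM : N ≤ M) (hN : Group.IsNilpotent N)
    (hσ : ∀ p : ℕ, p.Prime → p ∣ Nat.card N → p ∉ Cfsg.sigma M) : IsMulCommutative N := by
  classical
  haveI := hN
  have hsyl : ∀ r : ℕ, r.Prime → ∀ {U : Subgroup G}, IsPGroup r U → U ≤ N → ∃ S : Subgroup G, U ≤ S ∧ S ≤ N ∧
      IsPGroup r S ∧ ¬ r ∣ S.relIndex N := by
    intro r hr U hU hUN
    haveI := Fact.mk hr
    obtain ⟨P, hP⟩ := (hU.comap_subtype (K := N)).exists_le_sylow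
    refine ⟨(P : Subgroup N).map N.subtype, ?_, map_subtype_le _, P.2.map _, ?_⟩
    · rw [← map_subgroupOf_eq_of_le hUN]; exact map_mono hP
    · rw [relIndex, ← comap_subtype, comap_map_eq_self_of_injective N.subtype_injective]
      exact P.not_dvd_index
  have hcop : ∀ (r s : ℕ) {U V : Subgroup G}, r.Prime → s.Prime → r ≠ s → IsPGroup r U → IsPGroup s V → U ≤ N →
      V ≤ N → U ≤ centralizer (V : Set G) := by
    intro r s U V hr hs hrs hU hV hUN hVN x hx
    haveI := Fact.mk hr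
    haveI := Fact.mk hs
    refine mem_centralizer_iff.2 fun y hy => ?_
    exact congrArg Subtype.val (CfsgLib.FGSA.commute_of_coprime_orderOf (⟨y, hVN hy⟩ : N) ⟨x, hUN hx⟩ (by
      rw [← orderOf_coe, ← orderOf_coe]
      exact ((IsPGroup.coprime_card_of_ne s r (Ne.symm hrs) V U hV hU).coprime_dvd_left
        (V.orderOf_dvd_natCard hy)).coprime_dvd_right (U.orderOf_dvd_natCard hx))).eq
  have hcomm : ∀ r : ℕ, r.Prime → r ∣ Nat.card N → ∀ {U : Subgroup G}, IsPGroup r U → U ≤ N →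
      N ≤ centralizer (U : Set G) := by
    intro r hr hrd U hU hUN
    haveI := Fact.mk hr
    obtain ⟨S, hUS, hSN, hSp, hSd⟩ := hsyl r hr hU hUN
    haveI := commutative_of_not_sigma (p := r) hG hM (hσ r hr hrd) hSp (hSN.trans hNM)
    refine Excep.le_of_sylows fun s hs hsd => ?_
    by_cases hsr : s = r
    · subst hsr
      exact ⟨S, le_inf hSN ((le_centralizer_iff_isMulCommutative.2 inferInstance).trans (centralizer_le hUS)), hSd⟩
    · obtain ⟨T, -, hTN, hTp, hTd⟩ := hsyl s hs (IsPGroup.of_bot (p := s)) bot_le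
      exact ⟨T, le_inf hTN (hcop s r hs hr hsr hTp hU hTN hUN), hTd⟩
  refine le_centralizer_iff_isMulCommutative.1 (Excep.le_of_sylows fun r hr hrd => ?_)
  obtain ⟨S, -, hSN, hSp, hSd⟩ := hsyl r hr (IsPGroup.of_bot (p := r)) bot_le
  exact ⟨S, le_inf hSN (le_centralizer_iff.1 (hcomm r hr hrd hSp hSN)), hSd⟩

/-- A subgroup of order prime to `σ(M)` lies in a complement to `M_σ`. -/
theorem exists_complement_of {M X : Subgroup G} (hM : IsCoatom M) (hXM : X ≤ M)
    (hX : ∀ q : ℕ, q.Prime → q ∣ Nat.card X → q ∉ Cfsg.sigma M) :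
    ∃ E : Subgroup G, Cfsg.IsComplIn E (Cfsg.sigmaCore M) M ∧ X ≤ E := by
  haveI : Group.IsSolvable M := hG.2.2.2 M hM.1
  set K := Cfsg.sigmaCore M
  have hKM : K ≤ M := map_subtype_le _
  have hcop := CfsgLib.InvariantHall.coprime_of_isPiHallOf (Sig.sigma_core hG hM).1
  obtain ⟨E₀, hE₀c, hXE₀⟩ := CfsgLib.Hall.hall_dominance (G := M) (a := K.relIndex M) (b := Nat.card K)
    (by rw [mul_comm]; exact (CfsgLib.InvariantHall.relIndex_mul_card hKM).symm)
    hcop.symm (K := X.subgroupOf M)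
    (by rw [Nat.card_congr (subgroupOfEquivOfLe hXM).toEquiv]
        exact Nat.coprime_of_dvd fun q hq h1 h2 => hX q hq h1 ((Sig.sigma_core hG hM).1.2.1 q hq h2))
  set E := E₀.map M.subtype with hEdef
  have hEM : E ≤ M := map_subtype_le _
  have hEc : Nat.card E = K.relIndex M := by rw [hEdef, card_map_of_injective M.subtype_injective, hE₀c]
  have hn : E ≤ normalizer (K : Set G) := hEM.trans (TH.le_normalizer_core M)
  have hdis : E ⊓ K = ⊥ := disjoint_iff.1 (disjoint_of_coprime_natCard (by rw [hEc]; exact hcop.symm))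
  have hsup : E ⊔ K = M := eq_of_le_of_card_ge (sup_le hEM hKM) (by
    rw [CfsgLib.Solvable.card_sup_of_disjoint hn hdis, hEc, mul_comm,
      CfsgLib.InvariantHall.relIndex_mul_card hKM])
  refine ⟨E, ⟨hEM, hKM, hdis, fun m hm => ?_⟩, by
    rw [← map_subgroupOf_eq_of_le hXM]; exact map_mono hXE₀⟩
  rw [← hsup] at hm
  obtain ⟨e, he, k, hk, rfl⟩ := (CfsgLib.Solvable.mem_sup_of_le_normalizer hn).1 hm
  exact ⟨e, he, k, hk, rfl⟩

/-- The centralizer of a `τ₂(M)`-element with fixed points in `M_σ`. -/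
theorem tau_element_centralizer {M : Subgroup G} (hM : IsCoatom M) {x : G} (hxM : x ∈ M) (hx1 : x ≠ 1)
    (hτ : ∀ p : ℕ, p.Prime → p ∣ orderOf x → p ∈ Cfsg.tau2 M) {y : G} (hy : y ∈ Cfsg.sigmaCore M) (hy1 : y ≠ 1)
    (hxy : x * y = y * x) :
    centralizer ({x} : Set G) ≤ M ∧ ∀ L : Subgroup G, IsCoatom L → centralizer ({x} : Set G) ≤ L → L = M := by
  classical
  have hne : orderOf x ≠ 1 := fun h => hx1 (orderOf_eq_one_iff.1 h)
  set p := (orderOf x).minFac with hp_def
  haveI hp : Fact p.Prime := ⟨Nat.minFac_prime hne⟩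
  obtain ⟨-, hpσ, hr2, hr1⟩ := hτ p hp.out (Nat.minFac_dvd _)
  obtain ⟨k, m, hm, hkm⟩ := Nat.exists_eq_pow_mul_and_not_dvd (orderOf_pos x).ne' p hp.out.ne_one
  have hk : k ≠ 0 := fun h => hm (by
    have := Nat.minFac_dvd (orderOf x)
    rwa [← hp_def, hkm, h, pow_zero, one_mul] at this)
  set xp := x ^ m with hxp
  set x' := x ^ p ^ k with hx'
  have hm0 : m ≠ 0 := fun h => hm (h ▸ dvd_zero p)
  have hxpo : orderOf xp = p ^ k := by
    rw [hxp, orderOf_pow' _ hm0, hkm, Nat.gcd_eq_right (dvd_mul_left m _), Nat.mul_div_cancel _ (Nat.pos_of_ne_zero hm0)]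
  have hxpp : IsPGroup p (zpowers xp) := IsPGroup.of_card (n := k) (by rw [Nat.card_zpowers, hxpo])
  obtain ⟨E, hE, hxE⟩ := exists_complement_of hG hM (zpowers_le.2 hxM) (fun q hq hd =>
    (hτ q hq (by rwa [Nat.card_zpowers] at hd)).2.1)
  have hxE' : x ∈ E := hxE (mem_zpowers x)
  obtain ⟨T, hT⟩ := (hxpp.comap_subtype (K := E)).exists_le_sylow
  set S := (T : Subgroup E).map E.subtype with hSdef
  have hSE : S ≤ E := map_subtype_le _
  have hSM : S ≤ M := hSE.trans hE.1
  have hxS : xp ∈ S := ⟨⟨xp, pow_mem hxE' m⟩, hT (show xp ∈ zpowers xp from mem_zpowers xp), rfl⟩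
  obtain ⟨P, hP⟩ : ∃ P : Sylow p M, (P : Subgroup M).map M.subtype = S := by
    have hd : ¬ p ∣ (S.subgroupOf M).index := by
      show ¬ p ∣ S.relIndex M
      rw [← relIndex_mul_relIndex S E M hSE hE.1]
      intro h
      rcases hp.out.dvd_mul.1 h with h | h
      · rw [relIndex, hSdef, ← comap_subtype, comap_map_eq_self_of_injective E.subtype_injective] at h
        exact T.not_dvd_index h
      · have h1 := CfsgLib.InvariantHall.relIndex_mul_card hE.1
        have h2 := CfsgLib.InvariantHall.relIndex_mul_card (show Cfsg.sigmaCore M ≤ M from map_subtype_le _)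
        rw [(Compl.card_eq hG hM hE).1, ← h2, mul_comm] at h1
        rw [Nat.eq_of_mul_eq_mul_right ((Compl.card_eq hG hM hE).1 ▸ Nat.card_pos) h1] at h
        exact hpσ ((Sig.sigma_core hG hM).1.2.1 p hp.out h)
    exact ⟨((T.2.map E.subtype : IsPGroup p S).comap_subtype (K := M)).toSylow hd, map_subgroupOf_eq_of_le hSM⟩
  have hp2 : p ≠ 2 := CfsgLib.CN.MinSimple.p_ne_two hG ((Nat.minFac_dvd _).trans (orderOf_dvd_natCard x))
  have hnc : ¬ IsCyclic S := fun hc => by
    refine hr1 fun B _ hBe => ?_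
    have hBp : IsPGroup p B := fun x => ⟨1, by rw [pow_one]; exact Subtype.ext (hBe x x.2)⟩
    obtain ⟨Q, hQ⟩ := hBp.exists_le_sylow
    haveI : IsCyclic ↥((P : Subgroup M).map M.subtype) := hP.symm ▸ hc
    haveI : IsCyclic (P : Subgroup M) := isCyclic_of_injective
      (((P : Subgroup M).equivMapOfInjective M.subtype M.subtype_injective).toMonoidHom)
      ((P : Subgroup M).equivMapOfInjective M.subtype M.subtype_injective).injective
    haveI : IsCyclic (Q : Subgroup M) := isCyclic_of_injective (Q.equiv P).toMonoidHom (Q.equiv P).injective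
    rw [pow_one]
    exact PLenZ.card_le_of_cyclic_exp (isCyclic_of_le hQ) hBe
  obtain ⟨A, hAS, hA, hA2⟩ := Uniq.exists_sq hp2 (T.2.map E.subtype : IsPGroup p S) hnc
  have hAM : A ≤ M := hAS.trans hSM
  have hAP : A ≤ (P : Subgroup M).map M.subtype := hP.symm ▸ hAS
  have hmax := (Cfsg.Agent.S1408.result hG M hM p hpσ hr2 hr1).2 A hAM hA hA2
  have hcen := hP ▸ central hG hA hA2 hM hAM hpσ hmax hAP
  -- `A` centralizes `x`
  have hpM : p ∣ Nat.card M := (dvd_pow_self p two_ne_zero).trans (hA2 ▸ card_dvd_of_le hAM)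
  have hpβ : p ∉ Cfsg.beta M := fun h => hpσ (Sig.alpha_subset_sigma hG hM h.1)
  have hx'O : x' ∈ Excep.opc p M := by
    refine Excep.le_of_hall (Excep.opc_le p M) (Excep.le_normalizer_opc p M)
      (zpowers_le.2 (pow_mem hxM (p ^ k))) ?_ (mem_zpowers x')
    refine Nat.coprime_of_dvd fun q hq h1 h2 => ?_
    rw [Nat.card_zpowers] at h1
    rw [relIndex, Excep.opc_subgroupOf] at h2
    have hqm : q ∣ m := h1.trans (by
      rw [orderOf_pow' _ (pow_ne_zero _ hp.out.ne_zero), hkm, Nat.gcd_eq_right (dvd_mul_right (p ^ k) m),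
        Nat.mul_div_cancel_left _ (pow_pos hp.out.pos k)])
    have hqx : q ∣ orderOf x := hkm ▸ hqm.trans (dvd_mul_left m _)
    have h3 := (Beta.structure_of_not_beta hG hM hpM hpβ).1 q hq h2
    have h4 : p ≤ q := Nat.minFac_le_of_dvd hq.two_le hqx
    exact hm ((le_antisymm h4 h3) ▸ hqm)
  have hAx : A ≤ centralizer ({x} : Set G) := by
    intro a ha
    have h1 : Commute a xp := mem_centralizer_iff.1 (hcen hxS) a ha
    have h2 : ⁅a, x'⁆ = 1 := by
      have hl : ⁅A, zpowers x'⁆ ≤ Excep.opc p M := (commutator_mono le_rfl (zpowers_le.2 hx'O)).trans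
        (le_normalizer_iff_commutator_le_right.1 (hAM.trans (Excep.le_normalizer_opc p M)))
      have hA' : zpowers x' ≤ normalizer (A : Set G) := (zpowers_le.2 (pow_mem hxE' (p ^ k))).trans
        (complement_normalizes hG hA hA2 hM hAM hpσ hmax hE (hAS.trans hSE))
      have h3 : ⁅A, zpowers x'⁆ ≤ A := le_normalizer_iff_commutator_le_left.1 hA'
      have h4 := (le_inf h3 hl) (commutator_mem_commutator ha (mem_zpowers x'))
      rw [disjoint_iff.1 (disjoint_of_coprime_natCard (H := A) (K := Excep.opc p M) (by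
        rw [hA2]; exact ((Excep.opc_coprime p M).symm).pow_left 2))] at h4
      exact Subgroup.mem_bot.1 h4
    have h2' : Commute a x' := commutatorElement_eq_one_iff_mul_comm.1 h2
    refine mem_centralizer_singleton_iff.2 ?_
    obtain ⟨u, v, huv⟩ : ∃ u v : ℤ, (m : ℤ) * u + ((p ^ k : ℕ) : ℤ) * v = 1 := by
      have hc : Nat.gcd m (p ^ k) = 1 := ((hp.out.coprime_iff_not_dvd.2 hm).pow_left k).symm
      exact ⟨_, _, by rw [← Nat.gcd_eq_gcd_ab, hc, Nat.cast_one]⟩
    have e : x = xp ^ u * x' ^ v := by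
      rw [hxp, hx', ← zpow_natCast x m, ← zpow_natCast x (p ^ k), ← zpow_mul, ← zpow_mul, ← zpow_add, huv, zpow_one]
    rw [e]
    exact ((h1.zpow_right u).mul_right (h2'.zpow_right v)).eq
  -- a line with fixed points
  set x₀ := xp ^ p ^ (k - 1) with hx₀
  have hx₀o : orderOf x₀ = p := by
    rw [hx₀, orderOf_pow' _ (pow_ne_zero _ hp.out.ne_zero), hxpo, Nat.gcd_eq_right (pow_dvd_pow p (Nat.sub_le k 1)),
      Nat.pow_div (Nat.sub_le k 1) hp.out.pos, show k - (k - 1) = 1 by omega, pow_one]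
  have hx₀A : x₀ ∈ A := (omega hG hA hA2 hM hAM hpσ hmax hAP (hP.symm ▸ pow_mem hxS _)).1 (by
    rw [← hx₀o, pow_orderOf_eq_one])
  have hcy : Commute x₀ y := ((show Commute x y from hxy).pow_left m).pow_left _
  have hgood : Cfsg.sigmaCore M ⊓ centralizer (zpowers x₀ : Set G) ≠ ⊥ := fun e => hy1 (Subgroup.mem_bot.1 (e ▸
    (⟨hy, mem_centralizer_iff.2 fun z hz => by
      obtain ⟨i, rfl⟩ := mem_zpowers_iff.1 hz
      exact (hcy.zpow_left i).eq⟩ : y ∈ Cfsg.sigmaCore M ⊓ centralizer (zpowers x₀ : Set G))))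
  have hCx : centralizer ({x} : Set G) ≤ centralizer (zpowers x₀ : Set G) := by
    intro c hc
    refine mem_centralizer_iff.2 fun z hz => ?_
    obtain ⟨i, rfl⟩ := mem_zpowers_iff.1 hz
    have h : Commute x c := (mem_centralizer_singleton_iff.1 hc).symm
    exact (((h.pow_left m).pow_left _).zpow_left i).eq
  refine ⟨hCx.trans ((centralizer_le_normalizer _).trans (good_normalizer_le hG hA hA2 hM hAM hpσ hmax
    (zpowers_le.2 hx₀A) (by rw [Nat.card_zpowers, hx₀o]) hgood)), fun L hL hle => by_contra fun hne' => ?_⟩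
  have h := inter_eq_bot hG hA hA2 hM hAM hpσ hmax hL hne' (hAx.trans hle)
  exact hy1 (Subgroup.mem_bot.1 (h ▸ (⟨hy, hle (mem_centralizer_singleton_iff.2 hxy.symm)⟩ :
    y ∈ Cfsg.sigmaCore M ⊓ L)))

end CfsgLib.OddLocal.Tau
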