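import Cfsg.Agent.OddLocal.ExceptionalPrep

/-!
Maximal subgroups containing an elementary abelian subgroup of order `p ^ 2` none of whose lines has its
normalizer in that maximal subgroup only.
-/

set_option autoImplicit false
set_option linter.style.haveILetI false
set_option linter.unusedSectionVars false

namespace CfsgLib.OddLocal.Excep

open Subgroup Cfsg CfsgLib.OddLocal
open scoped commutatorElement

universe u

variable {G : Type u} [Group G] [Finite G] {p t : ℕ} [hp : Fact p.Prime] {A : Subgroup G}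
  (hG : Cfsg.IsMinSimpleOddOrder G) (hA : Cfsg.IsElementaryAbelian p A) (hA2 : Nat.card A = p ^ 2)

omit hp [Finite G] in
/-- No line of `A` has its normalizer contained in `M` only. -/
def NoLine (p : ℕ) (A M : Subgroup G) : Prop :=
  ∀ A₀ : Subgroup G, A₀ ≤ A → Nat.card A₀ = p →
    ¬ (normalizer (A₀ : Set G) ≤ M ∧ ∀ L : Subgroup G, IsCoatom L → normalizer (A₀ : Set G) ≤ L → L = M)

include hG

theorem normalizer_line_ne_top {Y : Subgroup G} (hY : Nat.card Y = p) : normalizer (Y : Set G) ≠ ⊤ :=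
  CfsgLib.CN.MinSimple.normalizer_ne_top hG (IsPGroup.of_card (p := p) (n := 1) (by rw [hY, pow_one])).isNilpotent
    fun e => by rw [e, card_bot] at hY; exact hp.out.ne_one hY.symm

theorem NoLine.exists_other {M Y : Subgroup G} (h : NoLine p A M) (hYA : Y ≤ A) (hY : Nat.card Y = p) :
    ∃ K : Subgroup G, IsCoatom K ∧ normalizer (Y : Set G) ≤ K ∧ K ≠ M := by
  obtain ⟨L, hL, hNL⟩ := (eq_top_or_exists_le_coatom (normalizer (Y : Set G))).resolve_left (normalizer_line_ne_top hG hY)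
  by_contra hcon
  push Not at hcon
  exact h Y hYA hY ⟨hcon L hL hNL ▸ hNL, hcon⟩

include hA hA2

theorem NoLine.not_unique {M : Subgroup G} (h : NoLine p A M) (hM : IsCoatom M) (hAM : A ≤ M) :
    ¬ Cfsg.InUniqueMaximal A := fun hU => by
  obtain ⟨a, ha, ha1⟩ := (bot_or_exists_ne_one A).resolve_left fun e => by
    rw [e, card_bot] at hA2; exact (Nat.one_lt_pow two_ne_zero hp.out.one_lt).ne hA2
  obtain ⟨hle, hc⟩ := line_of_mem hA ha ha1
  obtain ⟨K, hK, hNK, hKM⟩ := h.exists_other hG hle hc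
  haveI := hA.1
  exact hKM (Uniq.eq_of hU hK (((le_centralizer_iff_isMulCommutative.2 hA.1).trans
    ((centralizer_le hle).trans (centralizer_le_normalizer _))).trans hNK) hM hAM)

variable (hmax : ∀ B : Subgroup G, Cfsg.IsElementaryAbelian p B → A ≤ B → B = A)
include hmax

theorem NoLine.not_alpha {M : Subgroup G} (h : NoLine p A M) (hM : IsCoatom M) (hAM : A ≤ M) :
    p ∉ Cfsg.alpha M := by
  intro hα
  obtain ⟨P, hP⟩ := ((IsPGroup.of_card hA2 : IsPGroup p A).comap_subtype (K := M)).exists_le_sylow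
  set S := (P : Subgroup M).map M.subtype
  have hAS : A ≤ S := by rw [← map_subgroupOf_eq_of_le hAM]; exact map_mono hP
  have hS3 := Sig.sylow_rank hG hα.2 P
  obtain ⟨z, -, hzo, hzc⟩ := exists_central_order (P.2.map M.subtype) le_rfl le_normalizer
    (fun e : S = ⊥ => by
      rw [e, le_bot_iff] at hAS
      rw [hAS, card_bot] at hA2
      exact (Nat.one_lt_pow two_ne_zero hp.out.one_lt).ne hA2)
  have hzA : z ∈ A := mem_of_commute hA hmax (by rw [← hzo, pow_orderOf_eq_one]) fun a ha => (hzc a (hAS ha)).eq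
  obtain ⟨K, hK, hNK, hKM⟩ := h.exists_other hG (zpowers_le.2 hzA) (by rw [Nat.card_zpowers, hzo])
  refine hKM (Uniq.eq_of (UThm.rank_three_unique hG (P.2.map M.subtype) hS3) hK ?_ hM (map_subtype_le _))
  refine le_trans ?_ ((centralizer_le_normalizer _).trans hNK)
  refine FixedLine.le_centralizer_zpowers (x := z) fun s hs => mem_centralizer_singleton_iff.2 (hzc s hs).eq

theorem NoLine.alpha_empty {M : Subgroup G} (h : NoLine p A M) (hM : IsCoatom M) (hAM : A ≤ M) :
    ∀ r, r ∉ Cfsg.alpha M := by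
  intro q hqα
  haveI := Fact.mk hqα.1
  have hAp : IsPGroup p A := IsPGroup.of_card hA2
  have hpα := h.not_alpha hG hA hA2 hmax hM hAM
  have hqp : q ≠ p := fun e => hpα (e ▸ hqα)
  haveI hAs : Group.IsSolvable A := hG.2.2.2 A (ne_top_of_le_ne_top hM.1 hAM)
  have hαM : Cfsg.alphaCore M ≤ M := map_subtype_le _
  obtain ⟨Q, -, hQα, hQp, hAQ, hQd⟩ := exists_inv_sylow (t := q) (hAM.trans (TH.le_normalizer_core M))
    (coprime_of_pgroup hAp fun h => hpα ((Sig.alpha_core hG hM).1.2.1 p hp.out h)) (Or.inl hAs)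
    (bot_le : (⊥ : Subgroup G) ≤ Cfsg.alphaCore M) IsPGroup.of_bot (le_normalizer_bot _)
  have hQd' : ¬ q ∣ Q.index := index_not_dvd hQα hQd ((Sig.alpha_hall hG hM).2 q hqα.1 hqα)
  have hQ3 := rank_of_full hQp hQd' hqα
  have hQu := UThm.rank_three_unique hG hQp hQ3
  have hQM : Q ≤ M := hQα.trans hαM
  have hq2 : q ≠ 2 := CfsgLib.CN.MinSimple.p_ne_two hG
    (((isPGroup_ne_bot_dvd hQp fun e => hQ3 (by
      intro B _ hBe
      have := card_le_of_le (show B.map Q.subtype ≤ (⊥ : Subgroup G) from e ▸ map_subtype_le B)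
      rw [card_map_of_injective Q.subtype_injective, card_bot] at this
      exact this.trans (Nat.one_le_pow _ _ hqα.1.pos)))).trans (card_subgroup_dvd_card _))
  have hcyc : ∀ Y : Subgroup G, Y ≤ A → Nat.card Y = p → IsCyclic ↥(Q ⊓ centralizer (Y : Set G)) := by
    intro Y hYA hY
    by_contra hnc
    obtain ⟨K, hK, hNK, hKM⟩ := h.exists_other hG hYA hY
    have hr : ¬ Cfsg.RankLE 1 ↥(Cfsg.alphaCore M ⊓ centralizer (Y : Set G)) := fun hr => by
      obtain ⟨E, hE, hEe, hEc⟩ := Uniq.exists_sq hq2 (hQp.to_le inf_le_left) hnc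
      have := Uniq.rankLE_elementary (hr q hqα.1) (hE.trans (inf_le_inf_right _ hQα)) hEe
      rw [hEc, pow_one] at this
      exact absurd this (not_le.2 (lt_self_pow₀ hqα.1.one_lt one_lt_two))
    have hU := Sig.centralizer_unique hG hM (hYA.trans hAM) (fun r hr' hd => by
      rw [hY] at hd; rwa [(Nat.prime_dvd_prime_iff_eq hr' hp.out).1 hd]) hr
    exact hKM (Uniq.eq_of hU hK (inf_le_right.trans ((centralizer_le_normalizer _).trans hNK)) hM inf_le_left)
  have hQ1 : Q ≠ ⊥ := fun e => hQd' (by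
    rw [e, index_bot]
    exact (isPGroup_ne_bot_dvd hQp (fun e' => hQ3 (by
      intro B _ hBe
      have := card_le_of_le (show B.map Q.subtype ≤ (⊥ : Subgroup G) from e' ▸ map_subtype_le B)
      rw [card_map_of_injective Q.subtype_injective, card_bot] at this
      exact this.trans (Nat.one_le_pow _ _ hqα.1.pos)))).trans (card_subgroup_dvd_card _))
  have hCQA : Q ⊓ centralizer (A : Set G) = ⊥ := by
    by_contra hne
    obtain ⟨w, hw⟩ := exists_prime_orderOf_dvd_card' q (isPGroup_ne_bot_dvd (hQp.to_le inf_le_left) hne)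
    have hQA : Q ≤ centralizer (A : Set G) := le_of_lines hA hA2 hAQ
      (fun h => hqp ((Nat.prime_dvd_prime_iff_eq hp.out hqα.1).1 (hp.out.dvd_of_dvd_pow
        ((IsPGroup.iff_card.1 hQp).choose_spec ▸ h))).symm) fun Y hYA hY => by
      refine le_centralizer_iff.1 (centralizes_cyclic hq2 (hQp.to_le inf_le_left) (hcyc Y hYA hY)
        (normalizes_inf_centralizer hA hA2 hYA hAQ) (by
          rw [hA2]; exact ((Nat.coprime_primes hp.out hqα.1).2 (Ne.symm hqp)).pow_left 2)
        (w := (w : G)) ⟨w.2.1, centralizer_le hYA w.2.2⟩ (by rw [orderOf_coe, hw]) ?_)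
      exact fun a ha => mem_centralizer_singleton_iff.2 (mem_centralizer_iff.1 w.2.2 a ha)
    obtain ⟨a, ha, ha1⟩ := (bot_or_exists_ne_one A).resolve_left fun e => by
      rw [e, card_bot] at hA2; exact (Nat.one_lt_pow two_ne_zero hp.out.one_lt).ne hA2
    obtain ⟨hle, hc⟩ := line_of_mem hA ha ha1
    have h1 := hcyc _ hle hc
    rw [inf_eq_left.2 (hQA.trans (centralizer_le hle))] at h1
    haveI := h1
    refine hQ3 fun B hB hBe => ?_
    haveI : IsCyclic B := inferInstance
    have := IsCyclic.exponent_eq_card (α := B)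
    rw [← this]
    exact (Nat.le_of_dvd hqα.1.pos (Monoid.exponent_dvd_of_forall_pow_eq_one (G := B) fun b => Subtype.ext (hBe b b.2))).trans
      (Nat.le_self_pow two_ne_zero q)
  have hQp' : ¬ p ∣ Nat.card Q := fun hd => hqp (primes_of_pgroup (π := {q}) hQp rfl p hp.out hd).symm
  obtain ⟨B, hBA, hB, hBQ⟩ : ∃ B : Subgroup G, B ≤ A ∧ Nat.card B = p ∧ Q ⊓ centralizer (B : Set G) ≠ ⊥ := by
    by_contra hall
    push Not at hall
    exact hQ1 (le_bot_iff.1 (le_of_lines hA hA2 hAQ hQp' fun Y hYA hY => (hall Y hYA hY).le))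
  obtain ⟨H, hH, hNH, hHM⟩ := h.exists_other hG hBA hB
  have hqH : q ∉ Cfsg.alpha H := not_alpha_of_meet hG hA hA2 hmax hqp hM hH hHM hQp hQM hQd' hAQ hQu hBA hNH hBQ
  set O₀ := Q ⊓ centralizer (B : Set G) with hO₀
  have hAH : A ≤ H := ((le_centralizer_iff_isMulCommutative.2 hA.1).trans (centralizer_le hBA)).trans
    ((centralizer_le_normalizer _).trans hNH)
  have hO₀p : IsPGroup q O₀ := hQp.to_le inf_le_left
  have hAO₀ : A ≤ normalizer (O₀ : Set G) := normalizes_inf_centralizer hA hA2 hBA hAQ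
  have hO₀A : ⁅O₀, A⁆ ≠ ⊥ := fun e => hBQ (le_bot_iff.1 (hCQA ▸
    le_inf inf_le_left (commutator_eq_bot_iff_le_centralizer.1 e)))
  have hcop' : ∀ X : Subgroup G, IsPGroup q X → (Nat.card X).Coprime p := fun X hX =>
    coprime_of_pgroup hX fun h => hqp ((Nat.prime_dvd_prime_iff_eq hqα.1 hp.out).1 h)
  set O := opc p H
  have hO₀O : O₀ ≤ O := invariant_le_opc hA hA2 hmax hG hH.1 hAH
    (inf_le_right.trans ((centralizer_le_normalizer _).trans hNH)) (hcop' _ hO₀p) hAO₀
  have hAO : A ≤ normalizer (O : Set G) := hAH.trans (le_normalizer_opc p H)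
  obtain ⟨R, hO₀R, hRO, hRp, hAR, hRd⟩ := exists_inv_sylow hAO
    (coprime_of_pgroup hAp (hp.out.coprime_iff_not_dvd.1 (opc_coprime p H).symm)) (Or.inl hAs) hO₀O hO₀p hAO₀
  obtain ⟨c, hc, hRQ⟩ := le_conj_sylow hA hA2 hmax hG hqp hQp hQd' hAQ hRp hAR
    fun e => hBQ (le_bot_iff.1 (e ▸ le_inf hO₀R inf_le_left))
  have hRH : R ≤ H := hRO.trans (opc_le p H)
  have hCRA : R ⊓ centralizer (A : Set G) = ⊥ := by
    refine (eq_bot_iff_forall _).2 fun x hx => ?_
    obtain ⟨y, hy, rfl⟩ := hRQ hx.1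
    have hyC : y ∈ centralizer (A : Set G) := by
      have := mul_mem (mul_mem (inv_mem hc) hx.2) hc
      simpa [mul_assoc] using this
    have : y ∈ (⊥ : Subgroup G) := hCQA ▸ ⟨hy, hyC⟩
    rw [Subgroup.mem_bot.1 this, map_one]
  have hfix : ∀ U : Subgroup G, U ≤ R → A ≤ normalizer (U : Set G) → ⁅U, A⁆ = U := by
    intro U hU hAU
    have h1 := CfsgLib.CoprimeAct.commutator_sup_centralizer hAU (IsPGroup.coprime_card_of_ne p q (Ne.symm hqp) A U hAp (hRp.to_le hU))
      (Or.inl hAs)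
    rwa [le_bot_iff.1 (hCRA ▸ inf_le_inf_right _ hU : U ⊓ centralizer (A : Set G) ≤ ⊥), sup_bot_eq] at h1
  have hRder : R ≤ ⁅H, H⁆ := (hfix R le_rfl hAR).ge.trans (commutator_mono hRH hAH)
  have hRC : R ≤ centralizer (Cfsg.alphaCore H : Set G) := le_of_lines hA hA2 hAR
    (fun hd => hqp (primes_of_pgroup (π := {q}) hRp rfl p hp.out hd).symm) fun Y hYA hY => by
    rw [← hfix _ inf_le_left (normalizes_inf_centralizer hA hA2 hYA hAR)]
    exact commutator_centralizes_alphaCore hG hA hA2 hmax hqp hH hAH hBA hB hNH hO₀p hAO₀ inf_le_right hO₀A hqH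
      (hRp.to_le inf_le_left) (inf_le_left.trans hRH) (normalizes_inf_centralizer hA hA2 hYA hAR) hYA hY inf_le_right
  set N₁ := centralizer (Cfsg.alphaCore H : Set G) ⊓ ⁅H, H⁆
  have hN₁F : N₁ ≤ Cfsg.fittingOf H := Bender.le_fitting (inf_le_right.trans (commutator_le_self H))
    (le_trans (le_inf ((TH.le_normalizer_core H).trans (TH.normalizer_le_normalizer_centralizer _))
      (le_trans (le_inf (normalizer_commutator_ge_left H H) le_rfl) inf_le_left)) inf_normalizer_le_normalizer_inf)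
    (nilpotent_of_centralizes hG hH inf_le_right inf_le_left)
  have hRqc : R ≤ Bender.qc q H := fun x hx => by
    obtain ⟨k, hk⟩ := hRp ⟨x, hx⟩
    obtain ⟨j, -, hj⟩ := (Nat.dvd_prime_pow hqα.1).1 (orderOf_dvd_of_pow_eq_one (congrArg Subtype.val hk))
    exact Bender.mem_qc (hN₁F ⟨hRC hx, hRder hx⟩) hj
  have hfull : ∀ X : Subgroup G, R ≤ X → X ≤ O → IsPGroup q X → R = X := fun X hRX hXO hX => by
    refine eq_of_le_of_card_ge hRX (Nat.le_of_dvd Nat.card_pos ((Nat.Coprime.dvd_mul_right (coprime_of_pgroup hX hRd)).1 ?_))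
    rw [CfsgLib.InvariantHall.relIndex_mul_card hRO]
    exact card_dvd_of_le hXO
  have hReq : R = Bender.qc q H := hfull _ hRqc (invariant_le_opc hA hA2 hmax hG hH.1 hAH (Bender.qc_le q H)
    (hcop' _ (Bender.isPGroup_qc H)) (hAH.trans (Bender.le_normalizer_qc q H))) (Bender.isPGroup_qc H)
  have hR1 : R ≠ ⊥ := fun e => hBQ (le_bot_iff.1 (e ▸ hO₀R))
  have hNR : normalizer (R : Set G) = H := Uniq.coatom_normalizer_eq hG hH hRH (hReq ▸ Bender.le_normalizer_qc q H) hR1
  set Q' := Q.map (MulAut.conj c).toMonoidHom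
  have hAQ' : A ≤ normalizer (Q' : Set G) := fun b hb => by
    refine Uniq.mem_normalizer_of_map_le ?_
    have h0 : Q.map (MulAut.conj b).toMonoidHom = Q := mem_normalizer_iff_map_conj_eq.1 (hAQ hb)
    rw [TH.map_conj_map_conj, (mem_centralizer_iff.1 hc b hb), ← TH.map_conj_map_conj, h0]
  by_cases hRQ' : R = Q'
  · refine hqH (mem_alpha_of hRH ?_)
    rw [hRQ']
    exact rank_of_full (hQp.map _) (by rwa [index_map_of_bijective (MulAut.conj c).bijective]) hqα
  have hlt := CfsgLib.Fusion.lt_inf_normalizer (hQp.map _) (lt_of_le_of_ne hRQ hRQ')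
  refine hlt.ne (hfull _ hlt.le (invariant_le_opc hA hA2 hmax hG hH.1 hAH ((inf_le_right).trans hNR.le)
    (hcop' _ ((hQp.map _).to_le inf_le_left)) ?_) ((hQp.map _).to_le inf_le_left))
  exact le_trans (le_inf hAQ' (hAR.trans le_normalizer)) inf_normalizer_le_normalizer_inf

theorem exists_O [ht : Fact t.Prime] (htp : t ≠ p) {M T : Subgroup G} (hM : IsCoatom M) (hAM : A ≤ M)
    (hαM : ∀ r, r ∉ Cfsg.alpha M) (hT : IsPGroup t T) (hTM : T ≤ M) (hMT : M ≤ normalizer (T : Set G))
    (hTA : ⁅T, A⁆ ≠ ⊥) (hMN : M ≤ (T ⊔ centralizer (T : Set G)) ⊔ (M ⊓ normalizer (A : Set G))) :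
    ∃ O Y : Subgroup G, O ≤ T ∧ Y ≤ A ∧ Nat.card Y = p ∧ O ≤ centralizer (Y : Set G) ∧
      M ≤ normalizer (O : Set G) ∧ ⁅O, A⁆ = O ∧ O ≠ ⊥ := by
  classical
  have hAp : IsPGroup p A := IsPGroup.of_card hA2
  have hAT : A ≤ normalizer (T : Set G) := hAM.trans hMT
  have ht2 : t ≠ 2 := CfsgLib.CN.MinSimple.p_ne_two hG
    ((isPGroup_ne_bot_dvd hT fun e => hTA (by rw [e, commutator_bot_left])).trans (card_subgroup_dvd_card _))
  have hpT : ¬ p ∣ Nat.card T := fun hd => htp (primes_of_pgroup (π := {t}) hT rfl p hp.out hd).symm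
  have hcop : ∀ U : Subgroup G, U ≤ T → (Nat.card A).Coprime (Nat.card U) := fun U hU =>
    IsPGroup.coprime_card_of_ne p t (Ne.symm htp) A U hAp (hT.to_le hU)
  haveI hAs : Group.IsSolvable A := hG.2.2.2 A (ne_top_of_le_ne_top hM.1 hAM)
  by_cases hTC : T ⊓ centralizer (A : Set G) = ⊥
  · let W : Subgroup G :=
      { carrier := {x | x ∈ T ∧ x ^ t = 1 ∧ x ∈ centralizer (T : Set G)}
        one_mem' := ⟨one_mem _, one_pow _, one_mem _⟩
        inv_mem' := fun {x} hx => ⟨inv_mem hx.1, by rw [inv_pow, hx.2.1, inv_one], inv_mem hx.2.2⟩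
        mul_mem' := fun {x y} hx hy => ⟨mul_mem hx.1 hy.1, by
          rw [(show Commute x y from (mem_centralizer_iff.1 hx.2.2 y hy.1).symm).mul_pow, hx.2.1, hy.2.1, one_mul],
          mul_mem hx.2.2 hy.2.2⟩ }
    have hWT : W ≤ T := fun x hx => hx.1
    have hWe : Cfsg.IsElementaryAbelian t W :=
      ⟨⟨⟨fun a b => Subtype.ext (mem_centralizer_iff.1 b.2.2.2 a a.2.1)⟩⟩, fun x hx => hx.2.1⟩
    have hW1 : W ≠ ⊥ := fun e => by
      obtain ⟨z, hzT, hzo, hzc⟩ := exists_central_order hT le_rfl le_normalizer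
        (fun e' : T = ⊥ => hTA (by rw [e', commutator_bot_left]))
      have : z ∈ W := ⟨hzT, by rw [← hzo, pow_orderOf_eq_one], mem_centralizer_iff.2 fun h hh => (hzc h hh).eq⟩
      rw [e, Subgroup.mem_bot] at this
      rw [this, orderOf_one] at hzo
      exact ht.out.ne_one hzo.symm
    have hWn : normalizer (T : Set G) ≤ normalizer (W : Set G) := fun g hg => by
      refine Uniq.mem_normalizer_of_map_le ?_
      rintro _ ⟨x, hx, rfl⟩
      refine ⟨(mem_normalizer_iff.1 hg x).1 hx.1, by rw [← map_pow, hx.2.1, map_one], ?_⟩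
      exact (mem_normalizer_iff.1 (TH.normalizer_le_normalizer_centralizer T hg) x).1 hx.2.2
    have hAW : A ≤ normalizer (W : Set G) := hAT.trans hWn
    have hgood : ∀ X X' : Subgroup G, X ≤ A → Nat.card X = p → X' ≤ A → Nat.card X' = p → X ≠ X' →
        (W ⊓ centralizer (X : Set G)) ⊓ (W ⊓ centralizer (X' : Set G)) = ⊥ := by
      intro X X' hX hXc hX' hX'c hne
      obtain ⟨b, hb, hbX⟩ : ∃ b ∈ X', b ∉ X := by
        by_contra hno
        push Not at hno
        exact hne (eq_of_le_of_card_ge hno (by rw [hXc, hX'c])).symm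
      refine le_bot_iff.1 (hTC ▸ ?_)
      rintro x ⟨⟨hxW, hxX⟩, ⟨-, hxX'⟩⟩
      exact ⟨hWT hxW, (centralizer_line_sup hA hA2 hX hXc (hX' hb) hbX).le
        ⟨hxX, mem_centralizer_singleton_iff.2 (mem_centralizer_iff.1 hxX' b hb).symm⟩⟩
    obtain ⟨Y, hYA, hY, hYW⟩ : ∃ Y : Subgroup G, Y ≤ A ∧ Nat.card Y = p ∧ W ⊓ centralizer (Y : Set G) ≠ ⊥ := by
      by_contra hall
      push Not at hall
      exact hW1 (le_bot_iff.1 (le_of_lines hA hA2 hAW
        (fun hd => hpT (hd.trans (card_dvd_of_le hWT))) fun Y hYA hY => (hall Y hYA hY).le))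
    have hNAY : M ⊓ normalizer (A : Set G) ≤ normalizer (Y : Set G) := by
      intro n hn
      by_contra hnY
      have hne : Y.map (MulAut.conj n).toMonoidHom ≠ Y := fun e => hnY (mem_normalizer_iff_map_conj_eq.2 e)
      have hne2 : Y.map (MulAut.conj (n * n)).toMonoidHom ≠ Y := fun e => hnY (by
        obtain ⟨m, hm⟩ := hG.1.of_dvd_nat (orderOf_dvd_natCard n)
        have h : n = (n * n) ^ (m + 1) := by
          rw [← pow_two, ← pow_mul, show 2 * (m + 1) = orderOf n + 1 by omega, pow_succ, pow_orderOf_eq_one, one_mul]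
        rw [h]; exact pow_mem (mem_normalizer_iff_map_conj_eq.2 e) _)
      have hne12 : Y.map (MulAut.conj (n * n)).toMonoidHom ≠ Y.map (MulAut.conj n).toMonoidHom := fun e => hne (by
        rw [← TH.map_conj_map_conj] at e
        exact map_injective (MulAut.conj n).injective e)
      have hdat : ∀ g ∈ M ⊓ normalizer (A : Set G), Y.map (MulAut.conj g).toMonoidHom ≤ A ∧
          Nat.card (Y.map (MulAut.conj g).toMonoidHom) = p ∧
          W ⊓ centralizer ((Y.map (MulAut.conj g).toMonoidHom : Subgroup G) : Set G) ≠ ⊥ := by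
        intro g hg
        refine ⟨(map_mono hYA).trans (mem_normalizer_iff_map_conj_eq.1 hg.2).le,
          by rw [card_map_of_injective (MulAut.conj g).injective, hY], fun e => hYW ((eq_bot_iff_forall _).2 ?_)⟩
        intro x hx
        have hgx : g * x * g⁻¹ ∈ W ⊓ centralizer ((Y.map (MulAut.conj g).toMonoidHom : Subgroup G) : Set G) := by
          refine ⟨(mem_normalizer_iff.1 (hWn (hMT hg.1)) x).1 hx.1, mem_centralizer_iff.2 ?_⟩
          rintro _ ⟨y, hy, rfl⟩
          simp only [MulEquiv.coe_toMonoidHom, MulAut.conj_apply]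
          calc g * y * g⁻¹ * (g * x * g⁻¹) = g * (y * x) * g⁻¹ := by group
            _ = g * (x * y) * g⁻¹ := by rw [mem_centralizer_iff.1 hx.2 y hy]
            _ = g * x * g⁻¹ * (g * y * g⁻¹) := by group
        rw [e, Subgroup.mem_bot, conj_eq_one_iff] at hgx
        exact hgx
      obtain ⟨h1A, h1c, h1W⟩ := hdat n hn
      obtain ⟨h2A, h2c, h2W⟩ := hdat _ (mul_mem hn hn)
      set Y₁ := Y.map (MulAut.conj n).toMonoidHom
      set Y₂ := Y.map (MulAut.conj (n * n)).toMonoidHom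
      set W₀ := W ⊓ centralizer (Y : Set G)
      set W₁ := W ⊓ centralizer (Y₁ : Set G)
      have hd01 := hgood Y Y₁ hYA hY h1A h1c (Ne.symm hne)
      have hd02 := hgood Y Y₂ hYA hY h2A h2c (Ne.symm hne2)
      have hd12 := hgood Y₁ Y₂ h1A h1c h2A h2c (Ne.symm hne12)
      have hn01 : W₀ ≤ normalizer (W₁ : Set G) := by
        haveI := hWe.1
        exact (inf_le_left.trans (le_centralizer_iff_isMulCommutative.2 hWe.1)).trans
          ((centralizer_le inf_le_left).trans (centralizer_le_normalizer _))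
      have hW01 : W₀ ⊔ W₁ = W := by
        refine eq_of_le_of_card_ge (sup_le inf_le_left inf_le_left) ?_
        rw [CfsgLib.Solvable.card_sup_of_disjoint hn01 hd01]
        refine le_trans (Uniq.rankLE_elementary (rank_le_of_alpha_empty hαM le_rfl) (hWT.trans hTM) hWe) ?_
        rw [pow_two]
        exact Nat.mul_le_mul (Nat.le_of_dvd Nat.card_pos (isPGroup_ne_bot_dvd (hT.to_le (inf_le_left.trans hWT)) hYW))
          (Nat.le_of_dvd Nat.card_pos (isPGroup_ne_bot_dvd (hT.to_le (inf_le_left.trans hWT)) h1W))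
      refine h2W ((eq_bot_iff_forall _).2 fun w hw => ?_)
      obtain ⟨w₀, hw₀, w₁, hw₁, rfl⟩ := (CfsgLib.Solvable.mem_sup_of_le_normalizer hn01).1 (hW01.ge hw.1)
      have hw₀₂ : w₀ ∈ centralizer (Y₂ : Set G) := mem_centralizer_iff.2 fun y hy => by
        have hyA : y ∈ A := h2A hy
        have e0 : y * w₀ * y⁻¹ ∈ W₀ := (mem_normalizer_iff.1 (normalizes_inf_centralizer hA hA2 hYA hAW hyA) w₀).1 hw₀
        have e1 : y * w₁ * y⁻¹ ∈ W₁ := (mem_normalizer_iff.1 (normalizes_inf_centralizer hA hA2 h1A hAW hyA) w₁).1 hw₁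
        have e2 : (y * w₀ * y⁻¹) * (y * w₁ * y⁻¹) = w₀ * w₁ := by
          calc (y * w₀ * y⁻¹) * (y * w₁ * y⁻¹) = y * (w₀ * w₁) * y⁻¹ := by group
            _ = w₀ * w₁ := by rw [mem_centralizer_iff.1 hw.2 y hy, mul_inv_cancel_right]
        have e3 : w₀⁻¹ * (y * w₀ * y⁻¹) = w₁ * (y * w₁ * y⁻¹)⁻¹ := by
          rw [eq_mul_inv_iff_mul_eq, mul_assoc, e2]; group
        have e4 : w₀⁻¹ * (y * w₀ * y⁻¹) ∈ W₀ ⊓ W₁ :=
          mem_inf.2 ⟨W₀.mul_mem (W₀.inv_mem hw₀) e0, e3 ▸ W₁.mul_mem hw₁ (W₁.inv_mem e1)⟩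
        rw [hd01, Subgroup.mem_bot, inv_mul_eq_one] at e4
        exact (mul_inv_eq_iff_eq_mul.1 e4.symm)
      have hw₀1 : w₀ = 1 := Subgroup.mem_bot.1 (hd02 ▸ (show w₀ ∈ W₀ ⊓ (W ⊓ centralizer (Y₂ : Set G)) from
        ⟨hw₀, hw₀.1, hw₀₂⟩))
      rw [hw₀1, one_mul] at hw ⊢
      exact Subgroup.mem_bot.1 (hd12 ▸ (show w₁ ∈ W₁ ⊓ (W ⊓ centralizer (Y₂ : Set G)) from ⟨hw₁, hw⟩))
    refine ⟨W ⊓ centralizer (Y : Set G), Y, inf_le_left.trans hWT, hYA, hY, inf_le_right, ?_, ?_, hYW⟩
    · refine hMN.trans (sup_le (sup_le ?_ ?_) ?_)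
      · refine le_trans ?_ (centralizer_le_normalizer _)
        exact (le_centralizer_iff.1 (fun w hw => hw.1.2.2))
      · exact (centralizer_le (inf_le_left.trans hWT)).trans (centralizer_le_normalizer _)
      · refine le_trans (le_inf ((inf_le_left.trans hMT).trans hWn)
          (hNAY.trans (TH.normalizer_le_normalizer_centralizer Y))) inf_normalizer_le_normalizer_inf
    · have hle : W ⊓ centralizer (Y : Set G) ≤ T := inf_le_left.trans hWT
      have h1 := CfsgLib.CoprimeAct.commutator_sup_centralizer (normalizes_inf_centralizer hA hA2 hYA hAW)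
        (hcop _ hle) (Or.inl hAs)
      rwa [le_bot_iff.1 ((inf_le_inf_right _ hle).trans hTC.le), sup_bot_eq] at h1
  · obtain ⟨w, hw⟩ := exists_prime_orderOf_dvd_card' t (isPGroup_ne_bot_dvd (hT.to_le inf_le_left) hTC)
    obtain ⟨Y, hYA, hY, hnc⟩ : ∃ Y : Subgroup G, Y ≤ A ∧ Nat.card Y = p ∧ ¬ IsCyclic ↥(T ⊓ centralizer (Y : Set G)) := by
      by_contra hall
      push Not at hall
      refine hTA (commutator_eq_bot_iff_le_centralizer.2 (le_of_lines hA hA2 hAT hpT fun Y hYA hY => ?_))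
      refine le_centralizer_iff.1 (centralizes_cyclic ht2 (hT.to_le inf_le_left) (hall Y hYA hY)
        (normalizes_inf_centralizer hA hA2 hYA hAT) (by rw [hA2]; exact ((Nat.coprime_primes hp.out ht.out).2 (Ne.symm htp)).pow_left 2)
        (w := (w : G)) ⟨w.2.1, centralizer_le hYA w.2.2⟩ (by rw [orderOf_coe, hw]) ?_)
      exact fun a ha => mem_centralizer_singleton_iff.2 (mem_centralizer_iff.1 w.2.2 a ha)
    obtain ⟨E, hE, hEe, hEc⟩ := Uniq.exists_sq ht2 (hT.to_le inf_le_left) hnc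
    have hYT : T ≤ centralizer (Y : Set G) := le_centralizer_iff.1 (Cfsg.Agent.S1443.result t ht2 T E Y hT
      (hE.trans inf_le_left) hEe (hYA.trans hAT) (by rw [hY]; exact (Nat.coprime_primes hp.out ht.out).2 (Ne.symm htp))
      fun x hx hxo => by
        have hxE : x ∈ E := by
          have hc : E ≤ centralizer (zpowers x : Set G) := le_centralizer_iff.1 (zpowers_le.2 hx.2)
          have he := CfsgLib.Thompson.elab_sup hEe (CfsgLib.Thompson.elab_zpowers (by rw [← hxo, pow_orderOf_eq_one])) hc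
          have h2 := Uniq.rankLE_elementary (rank_le_of_alpha_empty hαM le_rfl)
            ((sup_le (hE.trans inf_le_left) (zpowers_le.2 hx.1)).trans hTM) he
          exact (eq_of_le_of_card_ge le_sup_left (hEc.symm ▸ h2)).ge (mem_sup_right (mem_zpowers x))
        intro y hy
        exact mem_centralizer_singleton_iff.2 (mem_centralizer_iff.1 (hE hxE).2 y hy))
    refine ⟨⁅T, A⁆, Y, le_normalizer_iff_commutator_le_left.1 hAT, hYA, hY,
      (le_normalizer_iff_commutator_le_left.1 hAT).trans hYT, ?_, ?_, hTA⟩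
    · refine hMN.trans (le_trans ?_ (normalizes_commutator hAT))
      exact sup_le le_sup_left (le_trans (inf_le_inf_right _ hMT) le_sup_right)
    · exact CfsgLib.CoprimeAct.commutator_commutator hAT (hcop T le_rfl) (Or.inl hAs)

theorem NoLine.sigma_mem {M : Subgroup G} (h : NoLine p A M) (hM : IsCoatom M) (hAM : A ≤ M) :
    p ∈ Cfsg.sigma M := by
  by_contra hpσ
  have hαM := h.alpha_empty hG hA hA2 hmax hM hAM
  have hAp : IsPGroup p A := IsPGroup.of_card hA2
  have hpM : p ∣ Nat.card M := (dvd_pow_self p two_ne_zero).trans (hA2 ▸ card_dvd_of_le hAM)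
  obtain ⟨P, hP⟩ := (hAp.comap_subtype (K := M)).exists_le_sylow
  set P' := (P : Subgroup M).map M.subtype with hP'
  have hP'M : P' ≤ M := map_subtype_le _
  have hAP : A ≤ P' := by rw [← map_subgroupOf_eq_of_le hAM]; exact map_mono hP
  have hcen := central_case hG hA hA2 hmax hM hαM hpσ P hAP
  have hPA : P' ≤ normalizer (A : Set G) := le_trans
    (fun x hx => mem_centralizer_iff.2 fun a ha => (hcen a ha x hx).eq.symm) (centralizer_le_normalizer _)
  have hNP : normalizer (P' : Set G) ≤ normalizer (A : Set G) := fun n hn => by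
    refine Uniq.mem_normalizer_of_map_le ?_
    rintro _ ⟨a, ha, rfl⟩
    refine mem_of_commute hA hmax (by rw [← map_pow, hA.2 a ha, map_one]) fun b hb => ?_
    have h1 : n⁻¹ * b * n ∈ P' := (mem_normalizer_iff''.1 hn b).1 (hAP hb)
    simp only [MulEquiv.coe_toMonoidHom, MulAut.conj_apply]
    calc b * (n * a * n⁻¹) = n * ((n⁻¹ * b * n) * a) * n⁻¹ := by group
      _ = n * (a * (n⁻¹ * b * n)) * n⁻¹ := by rw [(hcen a ha _ h1).eq]
      _ = (n * a * n⁻¹) * b := by group
  set F := Cfsg.fittingOf M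
  have hM'F := derived_le_fitting hG hM hαM
  have hN0M : F ⊔ P' ≤ M := sup_le (Bender.fitting_le M) hP'M
  haveI : ((F ⊔ P').subgroupOf M).Normal := Subgroup.Normal.of_commutator_le M fun x hx => by
    refine mem_subgroupOf.2 (le_sup_left (b := P') (hM'F ?_))
    rw [← map_subtype_commutator M]
    exact mem_map_of_mem _ hx
  have hrel : ¬ p ∣ P'.relIndex (F ⊔ P') := fun hd => by
    have h1 := hd.trans (show P'.relIndex (F ⊔ P') ∣ P'.relIndex M by
      rw [← relIndex_mul_relIndex P' (F ⊔ P') M le_sup_right hN0M]; exact dvd_mul_right _ _)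
    rw [relIndex, hP', ← comap_subtype, comap_map_eq_self_of_injective M.subtype_injective] at h1
    exact P.not_dvd_index h1
  have hMF : M ≤ F ⊔ (M ⊓ normalizer (A : Set G)) := by
    refine (frattini_le hN0M ((normal_subgroupOf_iff_le_normalizer hN0M).1 inferInstance) le_sup_right
      (P.2.map _) hrel).trans ?_
    exact sup_le (sup_le le_sup_left ((le_inf hP'M hPA).trans le_sup_right))
      ((inf_le_inf_left _ hNP).trans le_sup_right)
  haveI := Bender.nilpotent_fitting M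
  have hcomm : ∀ (r s : ℕ) [Fact r.Prime] [Fact s.Prime], r ≠ s → Bender.qc s M ≤ centralizer (Bender.qc r M : Set G) := by
    intro r s _ _ hrs x hx
    refine mem_centralizer_iff.2 fun w hw => ?_
    exact congrArg Subtype.val (CfsgLib.FGSA.commute_of_coprime_orderOf
      (⟨w, Bender.qc_le_fitting M hw⟩ : Cfsg.fittingOf M) ⟨x, Bender.qc_le_fitting M hx⟩ (by
        rw [← orderOf_coe, ← orderOf_coe]
        exact ((IsPGroup.coprime_card_of_ne r s hrs _ _ (Bender.isPGroup_qc M)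
          (Bender.isPGroup_qc M)).coprime_dvd_left ((Bender.qc r M).orderOf_dvd_natCard hw)).coprime_dvd_right
          ((Bender.qc s M).orderOf_dvd_natCard hx))).eq
  have hA1 : A ≠ ⊥ := fun e => by
    rw [e, card_bot] at hA2; exact (Nat.one_lt_pow two_ne_zero hp.out.one_lt).ne hA2
  obtain ⟨t₀, ht₀, ht₀p, ht₀A⟩ : ∃ t, t.Prime ∧ t ≠ p ∧ ⁅Bender.qc t M, A⁆ ≠ ⊥ := by
    by_contra hall
    push Not at hall
    haveI hMs : Group.IsSolvable M := hG.2.2.2 M hM.1
    have hqcP : Bender.qc p M ≤ P' := by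
      refine le_trans ?_ (le_of_eq ?_ : P' ⊔ Bender.qc p M ≤ P')
      · exact le_sup_right
      · have hle : P' ⊔ Bender.qc p M ≤ M := sup_le hP'M (Bender.qc_le p M)
        have hpg : IsPGroup p ↥(P' ⊔ Bender.qc p M : Subgroup G) :=
          IsPGroup.to_sup_of_normal_right' (P.2.map _) (Bender.isPGroup_qc M) (hP'M.trans (Bender.le_normalizer_qc p M))
        refine (eq_of_le_of_card_ge le_sup_left ?_).symm
        have hnd : ¬ p ∣ P'.relIndex M := by
          rw [relIndex, hP', ← comap_subtype, comap_map_eq_self_of_injective M.subtype_injective]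
          exact P.not_dvd_index
        refine Nat.le_of_dvd Nat.card_pos ((Nat.Coprime.dvd_mul_right (coprime_of_pgroup hpg hnd)).1 ?_)
        rw [CfsgLib.InvariantHall.relIndex_mul_card hP'M]
        exact card_dvd_of_le hle
    have hAC : F ≤ centralizer (A : Set G) := Bender.fitting_le_of_qc fun r hr => by
      by_cases hrp : r = p
      · subst hrp
        exact fun x hx => mem_centralizer_iff.2 fun a ha => (hcen a ha x (hqcP hx)).eq.symm
      · exact commutator_eq_bot_iff_le_centralizer.1 (hall r hr.out hrp)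
    have hAF : A ≤ F := (le_inf hAM (le_centralizer_iff.1 hAC)).trans (Bender.centralizer_fitting_le hMs)
    have hAqc : A ≤ Bender.qc p M := fun a ha => by
      obtain ⟨k, hk⟩ := hAp ⟨a, ha⟩
      obtain ⟨j, -, hj⟩ := (Nat.dvd_prime_pow hp.out).1 (orderOf_dvd_of_pow_eq_one (congrArg Subtype.val hk))
      exact Bender.mem_qc (hAF ha) hj
    have hMA : M ≤ normalizer (A : Set G) := fun m hm => by
      refine Uniq.mem_normalizer_of_map_le ?_
      rintro _ ⟨a, ha, rfl⟩
      have h1 : (MulAut.conj m).toMonoidHom a ∈ P' :=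
        hqcP ((mem_normalizer_iff.1 (Bender.le_normalizer_qc p M hm) a).1 (hAqc ha))
      exact mem_of_commute hA hmax (by rw [← map_pow, hA.2 a ha, map_one]) fun b hb => (hcen b hb _ h1).eq.symm
    exact hpσ ⟨hp.out, hpM, P, hNP.trans (Uniq.coatom_normalizer_eq hG hM hAM hMA hA1).le⟩
  obtain ⟨q, Q, hq, hqd, hmaxq, hqσ, hQM, hQp, hQn, hQd, hQ1, hNQ, hQle⟩ :=
    exists_top_prime (p := p) hG hM hαM ⟨hp.out, hpM⟩
  haveI := Fact.mk hq
  have hqp : q ≠ p := fun e => hpσ (e ▸ hqσ)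
  obtain ⟨t, ht, htp, htA, htQ⟩ : ∃ t, t.Prime ∧ t ≠ p ∧ ⁅Bender.qc t M, A⁆ ≠ ⊥ ∧ (t ≠ q → ⁅Q, A⁆ = ⊥) := by
    by_cases hQA : ⁅Q, A⁆ = ⊥
    · exact ⟨t₀, ht₀, ht₀p, ht₀A, fun _ => hQA⟩
    · refine ⟨q, hq, hqp, fun e => hQA (le_bot_iff.1 ((commutator_mono (fun x hx => ?_) le_rfl).trans e.le)), fun e => absurd rfl e⟩
      obtain ⟨k, hk⟩ := hQp ⟨x, hx⟩
      obtain ⟨j, -, hj⟩ := (Nat.dvd_prime_pow hq).1 (orderOf_dvd_of_pow_eq_one (congrArg Subtype.val hk))
      exact Bender.mem_qc (Bender.le_fitting hQM hQn hQp.isNilpotent hx) hj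
  haveI := Fact.mk ht
  set T := Bender.qc t M with hT
  have hFT : F ≤ T ⊔ centralizer (T : Set G) := Bender.fitting_le_of_qc fun s hs => by
    by_cases hst : s = t
    · subst hst; exact le_sup_left
    · exact (hcomm t s (Ne.symm hst)).trans le_sup_right
  obtain ⟨O, Y, hOT, hYA, hY, hOY, hMO, hOA, hO1⟩ := exists_O hG hA hA2 hmax htp hM hAM hαM (Bender.isPGroup_qc M)
    (Bender.qc_le t M) (Bender.le_normalizer_qc t M) htA (hMF.trans (sup_le_sup_right hFT _))
  obtain ⟨H, hH, hNH, hHM⟩ := h.exists_other hG hYA hY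
  have hCY : centralizer (Y : Set G) ≤ H := (centralizer_le_normalizer _).trans hNH
  have hAH : A ≤ H := ((le_centralizer_iff_isMulCommutative.2 hA.1).trans (centralizer_le hYA)).trans hCY
  have hOp : IsPGroup t O := (Bender.isPGroup_qc M).to_le hOT
  have hOM : O ≤ M := hOT.trans (Bender.qc_le t M)
  have hOH : O ≤ H := hOY.trans hCY
  have hNO := Uniq.coatom_normalizer_eq hG hM hOM hMO hO1
  have hQH : t ≠ q → Q ≤ H := fun hne =>
    ((commutator_eq_bot_iff_le_centralizer.1 (htQ hne)).trans (centralizer_le hYA)).trans hCY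
  have htα : t ∉ Cfsg.alpha H := by
    by_cases htq : t = q
    · subst htq; exact not_alpha_of_sigma hG hM hqσ (hαM t) H
    · exact no_alpha_below hG hA hA2 hmax hq hM hαM hqσ hmaxq hQp hQn hNQ hH hHM hOp hO1 hOM hMO hOH htq (hQH htq)
  have hAO : A ≤ normalizer (O : Set G) := hAM.trans hMO
  have hOC : O ≤ centralizer (Cfsg.alphaCore H : Set G) := by
    rw [← hOA]
    exact commutator_centralizes_alphaCore hG hA hA2 hmax htp hH hAH hYA hY hNH hOp hAO hOY
      (hOA.symm ▸ hO1) htα hOp hOH hAO hYA hY hOY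
  have hαHM : Cfsg.alphaCore H ≤ M := (le_centralizer_iff.1 hOC).trans ((centralizer_le_normalizer _).trans hNO.le)
  have hαH : ∀ r, r ∉ Cfsg.alpha H := fun s hs => by
    haveI := Fact.mk hs.1
    obtain ⟨S⟩ : Nonempty (Sylow s (Cfsg.alphaCore H)) := inferInstance
    refine hαM s (mem_alpha_of ((map_subtype_le (S : Subgroup (Cfsg.alphaCore H))).trans hαHM)
      (rank_of_full (S.2.map _) ?_ hs))
    refine index_not_dvd (map_subtype_le _) ?_ ((Sig.alpha_hall hG hH).2 s hs.1 hs)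
    rw [relIndex, ← comap_subtype, comap_map_eq_self_of_injective (Cfsg.alphaCore H).subtype_injective]
    exact S.not_dvd_index
  obtain ⟨r, R, hr, hrd, hmaxr, hrσ, hRH, hRp, hRn, hRd, hR1, hNR, hRle⟩ :=
    exists_top_prime (p := p) hG hH hαH ⟨hp.out, (dvd_pow_self p two_ne_zero).trans (hA2 ▸ card_dvd_of_le hAH)⟩
  haveI := Fact.mk hr
  have hqH : q ∣ Nat.card H := by
    by_cases htq : t = q
    · subst htq; exact (isPGroup_ne_bot_dvd hOp hO1).trans (card_dvd_of_le hOH)
    · exact (isPGroup_ne_bot_dvd hQp hQ1).trans (card_dvd_of_le (hQH htq))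
  have hqr := hmaxr q hq hqH
  by_cases hrt : r = t
  · subst hrt
    have htq : r = q := le_antisymm (hmaxq r hr ((isPGroup_ne_bot_dvd hOp hO1).trans (card_dvd_of_le hOM))) hqr
    subst htq
    have hORm : O ≤ R := hRle O hOH hOp
    have hOQ : O ≤ Q := hQle O hOM hOp
    obtain ⟨c, hc, hRQ⟩ := le_conj_sylow hA hA2 hmax hG hqp hQp hQd (hAM.trans hQn) hRp (hAH.trans hRn)
      fun e => hO1 (le_bot_iff.1 (e ▸ le_inf hORm hOQ))
    have hReq := eq_of_full_le (hQp.map _) hRd hRQ
    have hcR : R.map (MulAut.conj c).toMonoidHom = R :=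
      mem_normalizer_iff_map_conj_eq.1 (hRn (hCY (centralizer_le hYA hc)))
    have hQR : Q = R := by
      have : Q.map (MulAut.conj c).toMonoidHom = R.map (MulAut.conj c).toMonoidHom := by rw [hcR, hReq]
      exact map_injective (MulAut.conj c).injective this
    exact hHM (by rw [← hNR, ← hQR, hNQ])
  · have hOF : O ≤ Cfsg.fittingOf H := by
      rw [← hOA]
      exact (commutator_mono hOH hAH).trans (derived_le_fitting hG hH hαH)
    have hRC : R ≤ centralizer (O : Set G) := fun x hx => mem_centralizer_iff.2 fun w hw => by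
      haveI := Bender.nilpotent_fitting H
      exact congrArg Subtype.val (CfsgLib.FGSA.commute_of_coprime_orderOf (⟨w, hOF hw⟩ : Cfsg.fittingOf H)
        ⟨x, Bender.le_fitting hRH hRn hRp.isNilpotent hx⟩ (by
          rw [← orderOf_coe, ← orderOf_coe]
          exact ((IsPGroup.coprime_card_of_ne t r (Ne.symm hrt) _ _ hOp hRp).coprime_dvd_left
            (O.orderOf_dvd_natCard hw)).coprime_dvd_right (R.orderOf_dvd_natCard hx))).eq
    have hRM : R ≤ M := hRC.trans ((centralizer_le_normalizer _).trans hNO.le)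
    have hrq : r = q := le_antisymm (hmaxq r hr ((isPGroup_ne_bot_dvd hRp hR1).trans (card_dvd_of_le hRM))) hqr
    subst hrq
    have hReq := eq_of_full_le hQp hRd (hQle R hRM hRp)
    exact hHM (by rw [← hNR, hReq, hNQ])

theorem NoLine.centralizer_le {M : Subgroup G} (h : NoLine p A M) (hM : IsCoatom M) (hAM : A ≤ M) :
    centralizer (A : Set G) ≤ M := by
  have hαM := h.alpha_empty hG hA hA2 hmax hM hAM
  have hσ := h.sigma_mem hG hA hA2 hmax hM hAM
  have hσF : Cfsg.sigmaCore M ≤ Cfsg.fittingOf M := (Sig.sigma_core hG hM).2.2.trans (derived_le_fitting hG hM hαM)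
  set T := Bender.qc p M
  have hTp : IsPGroup p T := Bender.isPGroup_qc M
  have hmemT : ∀ U : Subgroup G, U ≤ M → IsPGroup p U → U ≤ T := fun U hU hUp x hx => by
    obtain ⟨k, hk⟩ := hUp ⟨x, hx⟩
    obtain ⟨j, -, hj⟩ := (Nat.dvd_prime_pow hp.out).1 (orderOf_dvd_of_pow_eq_one (congrArg Subtype.val hk))
    exact Bender.mem_qc (hσF (le_sigmaCore hG hM hU (primes_of_pgroup hUp hσ) hx)) hj
  have hAT : A ≤ T := hmemT A hAM (IsPGroup.of_card hA2)
  have hA1 : A ≠ ⊥ := fun e => by
    rw [e, card_bot] at hA2; exact (Nat.one_lt_pow two_ne_zero hp.out.one_lt).ne hA2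
  have hMT := Bender.le_normalizer_qc p M
  have key : ∀ a ∈ A, (∀ h ∈ T, Commute h a) → ∀ m ∈ M, m * a * m⁻¹ ∈ A ∧ ∀ h ∈ T, Commute h (m * a * m⁻¹) := by
    intro a ha hac m hm
    have hc : ∀ h ∈ T, Commute h (m * a * m⁻¹) := fun h hh => by
      have h1 : m⁻¹ * h * m ∈ T := (mem_normalizer_iff''.1 (hMT hm) h).1 hh
      calc h * (m * a * m⁻¹) = m * ((m⁻¹ * h * m) * a) * m⁻¹ := by group
        _ = m * (a * (m⁻¹ * h * m)) * m⁻¹ := by rw [(hac _ h1).eq]
        _ = (m * a * m⁻¹) * h := by group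
    exact ⟨mem_of_commute hA hmax (by rw [conj_pow, hA.2 a ha, mul_one, mul_inv_cancel]) fun b hb => (hc b (hAT hb)).eq, hc⟩
  by_cases hall : ∀ a ∈ A, ∀ h ∈ T, Commute h a
  · have hMA : M ≤ normalizer (A : Set G) := fun m hm => Uniq.mem_normalizer_of_map_le (by
      rintro _ ⟨a, ha, rfl⟩; exact (key a ha (hall a ha) m hm).1)
    exact (centralizer_le_normalizer _).trans (Uniq.coatom_normalizer_eq hG hM hAM hMA hA1).le
  exfalso
  obtain ⟨z, hzT, hzo, hzc⟩ := exists_central_order hTp le_rfl le_normalizer fun e => hA1 (le_bot_iff.1 (e ▸ hAT))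
  have hzA : z ∈ A := mem_of_commute hA hmax (by rw [← hzo, pow_orderOf_eq_one]) fun a ha => (hzc a (hAT ha)).eq
  have hMz : M ≤ normalizer (zpowers z : Set G) := fun m hm => Uniq.mem_normalizer_of_map_le (by
    rw [MonoidHom.map_zpowers, zpowers_le]
    obtain ⟨h1, h2⟩ := key z hzA hzc m hm
    by_contra hne
    refine hall fun a ha x hx => ?_
    have hle : A ≤ centralizer ({x} : Set G) := by
      rw [← line_sup hA2 (zpowers_le.2 hzA) (by rw [Nat.card_zpowers, hzo]) h1 hne]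
      exact sup_le (zpowers_le.2 (mem_centralizer_singleton_iff.2 (hzc x hx).eq.symm))
        (zpowers_le.2 (mem_centralizer_singleton_iff.2 (h2 x hx).eq.symm))
    exact (mem_centralizer_singleton_iff.1 (hle ha)).symm)
  have hNz := Uniq.coatom_normalizer_eq hG hM ((zpowers_le.2 hzA).trans hAM) hMz fun e => hp.out.ne_one (by
    rw [← hzo, ← Nat.card_zpowers, e, card_bot])
  exact h _ (zpowers_le.2 hzA) (by rw [Nat.card_zpowers, hzo])
    ⟨hNz.le, fun L hL hNL => ((hM.le_iff).1 (hNz.ge.trans hNL)).resolve_left hL.1⟩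

end CfsgLib.OddLocal.Excep
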