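import Cfsg.Prelude.Def_OddOrderLocal
import Cfsg.Prelude.Def_LieExceptional
import Cfsg.Agent.Solvable.Basics
import Cfsg.Agent.Coprime.Sylow
import Cfsg.Agent.FGSA.Nilpotent
import Cfsg.Agent.Solvable.PGroupBasic

/-!
Quotients of CN-groups by solvable normal subgroups are CN-groups.
-/

set_option autoImplicit false
set_option linter.style.haveILetI false

namespace CfsgLib.CN

open Subgroup

universe u

variable {G : Type u} [Group G] [Finite G]

theorem commute_in {C : Subgroup G} (hC : Group.IsNilpotent C) {a b : G} (ha : a ∈ C) (hb : b ∈ C)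
    (h : (orderOf a).Coprime (orderOf b)) : Commute a b := by
  haveI := hC
  have h' : (orderOf (⟨a, ha⟩ : C)).Coprime (orderOf (⟨b, hb⟩ : C)) := by
    rwa [← orderOf_coe (⟨a, ha⟩ : C), ← orderOf_coe (⟨b, hb⟩ : C)]
  exact congrArg Subtype.val (CfsgLib.FGSA.commute_of_coprime_orderOf (⟨a, ha⟩ : C) ⟨b, hb⟩ h').eq

omit [Finite G] in
theorem nilpotent_of_le {K L : Subgroup G} (hL : Group.IsNilpotent L) (h : K ≤ L) : Group.IsNilpotent K := by
  haveI := hL
  exact (subgroupOfEquivOfLe h).surjective |> fun hs =>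
    Group.nilpotent_of_surjective (subgroupOfEquivOfLe h).toMonoidHom hs

omit [Finite G] in
theorem nilpotent_map {K : Subgroup G} (hK : Group.IsNilpotent K) {H : Type*} [Group H] (f : G →* H) :
    Group.IsNilpotent (K.map f) := by
  haveI := hK
  exact Group.nilpotent_of_surjective (f.subgroupMap K) (f.subgroupMap_surjective K)

variable {p : ℕ} [Fact p.Prime]

theorem coprime_order {Q : Subgroup G} (hQ : IsPGroup p Q) {u y : G} (hu : u ∈ Q) (hy : (orderOf y).Coprime p) :
    (orderOf y).Coprime (orderOf u) := by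
  obtain ⟨k, hk⟩ := IsPGroup.iff_card.1 hQ
  exact (hy.pow_right k).coprime_dvd_right (hk ▸ Q.orderOf_dvd_natCard hu)

/-- The centralizer of an element of prime order modulo a normal elementary abelian `p`-subgroup. -/
theorem nilpotent_centralizer_prime (hCN : Cfsg.IsCNGroup G) {M : Subgroup G} [M.Normal] (hMp : IsPGroup p M)
    (hM : M ≠ ⊥) (hexp : ∀ x ∈ M, x ^ p = 1) {q : ℕ} [Fact q.Prime] {xb : G ⧸ M} (hx : orderOf xb = q) :
    Group.IsNilpotent (centralizer ({xb} : Set (G ⧸ M))) := by
  obtain ⟨g, rfl⟩ := QuotientGroup.mk'_surjective M xb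
  set f := QuotientGroup.mk' M
  by_cases hqp : q = p
  · subst hqp
    set N := (centralizer ({f g} : Set (G ⧸ M))).comap f
    set Q := (zpowers (f g)).comap f
    have hgQ : g ∈ Q := mem_zpowers (f g)
    have hQN : Q ≤ N := comap_mono (zpowers_le.2 (mem_centralizer_singleton_iff.2 rfl))
    have hQp : IsPGroup q Q := (IsPGroup.of_card (n := 1) (by rw [Nat.card_zpowers, hx, pow_one])).comap_of_ker_isPGroup f
      (by rw [QuotientGroup.ker_mk']; exact hMp)
    have hNQ : N ≤ normalizer (Q : Set G) := by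
      refine le_trans (comap_mono (fun y hy => ?_)) (le_normalizer_comap f)
      refine centralizer_le_normalizer _ (mem_centralizer_iff.2 fun z hz => ?_)
      obtain ⟨i, rfl⟩ := mem_zpowers_iff.1 hz
      exact ((show Commute (f g) y from (mem_centralizer_singleton_iff.1 hy).symm).zpow_left i).eq
    have hMQ : M ≤ Q := fun m hm => by
      show f m ∈ zpowers (f g)
      rw [show f m = 1 from (QuotientGroup.eq_one_iff m).2 hm]
      exact one_mem _
    -- a non-identity element of `M` central in `Q`
    obtain ⟨z, hzM, hz1, hzQ⟩ : ∃ z ∈ M, z ≠ 1 ∧ ∀ a ∈ Q, Commute a z := by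
      haveI := hQp.isNilpotent
      haveI : (M.subgroupOf Q).Normal := Subgroup.Normal.subgroupOf ‹_› Q
      have hne : M.subgroupOf Q ≠ ⊥ := fun h => hM (by
        rw [← map_subgroupOf_eq_of_le hMQ, h, Subgroup.map_bot])
      obtain ⟨z, hz, hz1⟩ := (Subgroup.bot_or_exists_ne_one _).resolve_left (CfsgLib.PGroupBasic.inf_center_ne_bot _ hne)
      refine ⟨z, hz.1, fun e => hz1 (Subtype.ext e), fun a ha => ?_⟩
      exact congrArg Subtype.val (mem_center_iff.1 hz.2 ⟨a, ha⟩)
    have hzC : Group.IsNilpotent (centralizer ({z} : Set G)) := hCN z hz1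
    -- elements of order prime to `q` in `N` centralize `Q`
    have hpQ : ∀ y ∈ N, (orderOf y).Coprime q → ∀ a ∈ Q, Commute a y := by
      intro y hy hyq a ha
      haveI : Group.IsSolvable (zpowers y) := inferInstance
      obtain ⟨k, hk⟩ := IsPGroup.iff_card.1 hMp
      obtain ⟨x, hxy, hxg⟩ := CfsgLib.Coprime.exists_commute_mem_coset (zpowers y) M le_normalizer_of_normal
        (by rw [Nat.card_zpowers, hk]; exact hyq.pow_right k) g (fun h hh => by
          rw [← QuotientGroup.ker_mk' M, MonoidHom.mem_ker]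
          obtain ⟨i, rfl⟩ := mem_zpowers_iff.1 hh
          have h1 : Commute (f y ^ i) (f g) :=
            (show Commute (f y) (f g) from mem_centralizer_singleton_iff.1 hy).zpow_left i
          show f (g⁻¹ * (y ^ i * g * (y ^ i)⁻¹)) = 1
          rw [map_mul, map_mul, map_mul, map_inv, map_inv, map_zpow, h1.eq, mul_inv_cancel_right, inv_mul_cancel])
      have hxQ : x ∈ Q := by
        have h := mul_mem hgQ (hMQ hxg)
        rwa [mul_inv_cancel_left] at h
      have hx1 : x ≠ 1 := by
        rintro rfl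
        have h : f g = 1 := (QuotientGroup.eq_one_iff g).2 (by simpa using inv_mem hxg)
        rw [h, orderOf_one] at hx
        exact (Fact.out : q.Prime).one_lt.ne hx
      have hyz : Commute y z := commute_in (hCN x hx1)
        (mem_centralizer_singleton_iff.2 (hxy y (mem_zpowers y)))
        (mem_centralizer_singleton_iff.2 (hzQ x hxQ).symm.eq) (coprime_order hMp hzM hyq)
      exact (commute_in hzC (mem_centralizer_singleton_iff.2 hyz.eq)
        (mem_centralizer_singleton_iff.2 (hzQ a ha).eq) (coprime_order hQp ha hyq)).symm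
    -- an element of `Q` central in a Sylow subgroup of `N`
    obtain ⟨P, hQP⟩ := (hQp.comap_subtype : IsPGroup q (Q.subgroupOf N)).exists_le_sylow
    haveI := P.2.isNilpotent
    haveI : ((Q.subgroupOf N).subgroupOf (P : Subgroup N)).Normal :=
      Subgroup.Normal.subgroupOf ((normal_subgroupOf_iff_le_normalizer hQN).2 hNQ) _
    have hne : (Q.subgroupOf N).subgroupOf (P : Subgroup N) ≠ ⊥ := fun h => hz1 (by
      have hm : (⟨⟨z, hQN (hMQ hzM)⟩, hQP (show z ∈ Q from hMQ hzM)⟩ : (P : Subgroup N)) ∈
          (Q.subgroupOf N).subgroupOf (P : Subgroup N) := hMQ hzM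
      rw [h, mem_bot] at hm
      exact congrArg (fun w : (P : Subgroup N) => ((w : N) : G)) hm)
    obtain ⟨u, hu, hu1⟩ := (Subgroup.bot_or_exists_ne_one _).resolve_left (CfsgLib.PGroupBasic.inf_center_ne_bot _ hne)
    have hu1' : ((u : N) : G) ≠ 1 := fun e => hu1 (Subtype.ext (Subtype.ext e))
    have hNu : N ≤ centralizer ({((u : N) : G)} : Set G) := by
      rw [← subgroupOf_eq_top]
      rw [← index_eq_one]
      by_contra hne1
      obtain ⟨r, hr, hrdvd⟩ := Nat.exists_prime_and_dvd hne1
      haveI := Fact.mk hr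
      have hle : ∀ R : Sylow r N, (∀ y ∈ (R : Subgroup N), Commute ((u : N) : G) y) → False := by
        intro R hR
        refine R.not_dvd_index (hrdvd.trans (index_dvd_of_le fun y hy => ?_))
        exact mem_centralizer_singleton_iff.2 (hR y hy).eq.symm
      by_cases hrq : r = q
      · subst hrq
        exact hle P fun y hy => congrArg (fun w : (P : Subgroup N) => ((w : N) : G))
          (mem_center_iff.1 hu.2 ⟨y, hy⟩).symm
      · obtain ⟨R⟩ := (inferInstance : Nonempty (Sylow r N))
        refine hle R fun y hy => hpQ y y.2 ?_ _ hu.1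
        obtain ⟨k, hk⟩ := IsPGroup.iff_card.1 R.2
        exact (((Nat.coprime_primes hr Fact.out).2 hrq).pow_left k).coprime_dvd_left
          (hk ▸ (orderOf_coe y).symm ▸ (R : Subgroup N).orderOf_dvd_natCard hy)
    have hN : Group.IsNilpotent N := nilpotent_of_le (hCN _ hu1') hNu
    have := nilpotent_map hN f
    rwa [map_comap_eq_self_of_surjective (QuotientGroup.mk'_surjective M)] at this
  · -- a lift of order `q`
    have hgq : g ^ q ∈ M := by
      rw [← QuotientGroup.eq_one_iff]
      show f (g ^ q) = 1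
      rw [map_pow, ← hx, pow_orderOf_eq_one]
    obtain ⟨x, hxdef⟩ : ∃ x, x = g ^ p := ⟨_, rfl⟩
    have hxq : x ^ q = 1 := by rw [hxdef, ← pow_mul, mul_comm, pow_mul]; exact hexp _ hgq
    have hfx : f x = f g ^ p := by rw [hxdef, map_pow]
    obtain ⟨j, hj⟩ := exists_pow_eq_self_of_coprime (x := f g) (n := p)
      (hx.symm ▸ (Nat.coprime_primes Fact.out Fact.out).2 (Ne.symm hqp))
    have hx1 : x ≠ 1 := fun e => by
      rw [← hfx, e, map_one, one_pow] at hj
      rw [← hj, orderOf_one] at hx
      exact (Fact.out : q.Prime).one_lt.ne hx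
    refine nilpotent_of_le (nilpotent_map (hCN x hx1) f) fun wb hwb => ?_
    obtain ⟨w, rfl⟩ := QuotientGroup.mk'_surjective M wb
    have hc : Commute (f x) (f w) := hfx ▸
      (show Commute (f g) (f w) from (mem_centralizer_singleton_iff.1 hwb).symm).pow_left p
    obtain ⟨k, hk⟩ := IsPGroup.iff_card.1 hMp
    obtain ⟨c, hc1, hc2⟩ := CfsgLib.Coprime.exists_commute_mem_coset (zpowers x) M le_normalizer_of_normal
      (by
        rw [Nat.card_zpowers, hk, orderOf_eq_prime hxq hx1]
        exact ((Nat.coprime_primes Fact.out Fact.out).2 hqp).pow_right k) w (fun h hh => by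
        rw [← QuotientGroup.ker_mk' M, MonoidHom.mem_ker]
        obtain ⟨i, rfl⟩ := mem_zpowers_iff.1 hh
        show f (w⁻¹ * (x ^ i * w * (x ^ i)⁻¹)) = 1
        rw [map_mul, map_mul, map_mul, map_inv, map_inv, map_zpow, (hc.zpow_left i).eq, mul_inv_cancel_right,
          inv_mul_cancel])
    refine ⟨c, mem_centralizer_singleton_iff.2 (hc1 x (mem_zpowers x)).symm, ?_⟩
    have : f (w⁻¹ * c) = 1 := (QuotientGroup.eq_one_iff _).2 hc2
    rw [map_mul, map_inv, inv_mul_eq_one] at this
    exact this.symm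

theorem isCNGroup_quotient_abelian (hCN : Cfsg.IsCNGroup G) {M : Subgroup G} [M.Normal] (hMp : IsPGroup p M)
    (hM : M ≠ ⊥) (hexp : ∀ x ∈ M, x ^ p = 1) : Cfsg.IsCNGroup (G ⧸ M) := by
  intro xb hxb
  obtain ⟨q, hq, hqd⟩ := Nat.exists_prime_and_dvd (fun h => hxb (orderOf_eq_one_iff.1 h))
  haveI := Fact.mk hq
  refine nilpotent_of_le (nilpotent_centralizer_prime hCN hMp hM hexp
    (orderOf_pow_orderOf_div (orderOf_pos xb).ne' hqd)) fun y hy => mem_centralizer_singleton_iff.2 ?_
  exact ((show Commute y xb from mem_centralizer_singleton_iff.1 hy).pow_right _).eq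

omit [Finite G] in
theorem isCNGroup_of_equiv {H : Type*} [Group H] (e : G ≃* H) (h : Cfsg.IsCNGroup G) : Cfsg.IsCNGroup H := by
  intro y hy
  obtain ⟨x, rfl⟩ := e.surjective y
  have hx : x ≠ 1 := fun h0 => hy (by rw [h0, map_one])
  refine nilpotent_of_le (nilpotent_map (h x hx) e.toMonoidHom) fun z hz => ?_
  obtain ⟨w, rfl⟩ := e.surjective z
  refine ⟨w, mem_centralizer_singleton_iff.2 (e.injective ?_), rfl⟩
  rw [map_mul, map_mul]
  exact mem_centralizer_singleton_iff.1 hz

theorem isCNGroup_quotient : ∀ (n : ℕ) {G : Type u} [Group G] [Finite G] (H : Subgroup G) [H.Normal],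
    Nat.card H = n → Cfsg.IsCNGroup G → Group.IsSolvable H → Cfsg.IsCNGroup (G ⧸ H) := by
  intro n
  induction n using Nat.strong_induction_on with
  | _ n ih =>
    intro G _ _ H _ hn hCN hs
    by_cases hH : H = ⊥
    · subst hH
      exact isCNGroup_of_equiv QuotientGroup.quotientBot.symm hCN
    obtain ⟨M, hM, hM1, hMH, -, -, p, hp, hexp, hMp⟩ := CfsgLib.Solvable.exists_normal_elementary_le hH hs
    haveI := Fact.mk hp
    haveI := hs
    haveI : (H.map (QuotientGroup.mk' M)).Normal := Normal.map ‹_› _ (QuotientGroup.mk'_surjective M)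
    have hlt : Nat.card (H.map (QuotientGroup.mk' M)) < n := by
      have h := card_mul_index M
      have h1 : Nat.card (H.map (QuotientGroup.mk' M)) * Nat.card M = Nat.card H := by
        rw [← relIndex_bot_left (H := H.map (QuotientGroup.mk' M)), ← relIndex_comap, MonoidHom.comap_bot,
          QuotientGroup.ker_mk', mul_comm, ← relIndex_bot_left (H := M), ← relIndex_bot_left (H := H)]
        exact relIndex_mul_relIndex _ _ _ bot_le hMH
      subst hn
      rw [← h1]
      exact lt_mul_of_one_lt_right Nat.card_pos ((one_lt_card_iff_ne_bot M).2 hM1)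
    exact isCNGroup_of_equiv (QuotientGroup.quotientQuotientEquivQuotient M H hMH)
      (ih _ hlt (H.map (QuotientGroup.mk' M)) rfl (isCNGroup_quotient_abelian hCN hMp hM1 hexp)
        (Group.isSolvable_of_surjective (f := (QuotientGroup.mk' M).subgroupMap H) ((QuotientGroup.mk' M).subgroupMap_surjective H)))

end CfsgLib.CN
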