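import Cfsg.Agent.OddLocal.Exceptional
import Cfsg.Agent.S1416
import Cfsg.Agent.S1442
import Cfsg.Agent.S1443

/-!
Elementary abelian subgroups of order `p ^ 2` that are maximal elementary abelian, in a minimal simple group
of odd order: the Sylow dichotomy and a maximal subgroup containing their normalizers.
-/

set_option autoImplicit false
set_option linter.style.haveILetI false
set_option linter.unusedSectionVars false

namespace CfsgLib.OddLocal.Tau

open Subgroup Cfsg CfsgLib.OddLocal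
open scoped commutatorElement

universe u

section General

variable {G : Type u} [Group G] [Finite G] {p q : ℕ}

/-- In a group of rank at most two an elementary abelian subgroup of order `q ^ 2` is maximal. -/
theorem mem_of_commute_rank [Fact q.Prime] {R E : Subgroup G} (hr : Cfsg.PRankLE q 2 R) (hER : E ≤ R)
    (hE : Cfsg.IsElementaryAbelian q E) (hE2 : Nat.card E = q ^ 2) {x : G} (hxR : x ∈ R) (hx : x ^ q = 1)
    (hc : ∀ e ∈ E, e * x = x * e) : x ∈ E := by
  have hB : Cfsg.IsElementaryAbelian q (E ⊔ zpowers x : Subgroup G) := by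
    refine CfsgLib.Thompson.elab_sup hE (CfsgLib.Thompson.elab_zpowers hx) fun e he => ?_
    refine mem_centralizer_iff.2 fun y hy => ?_
    obtain ⟨i, rfl⟩ := mem_zpowers_iff.1 hy
    exact ((show Commute x e from (hc e he).symm).zpow_left i).eq
  have h := eq_of_le_of_card_ge (le_sup_left : E ≤ E ⊔ zpowers x)
    ((Uniq.rankLE_elementary hr (sup_le hER (zpowers_le.2 hxR)) hB).trans hE2.ge)
  exact h.ge (mem_sup_right (mem_zpowers x))

/-- Coprime action on a group of rank at most two fixing an elementary subgroup of order `q ^ 2`. -/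
theorem centralizes_rank_two [Fact q.Prime] (hq : q ≠ 2) {R E T : Subgroup G} (hR : IsPGroup q R)
    (hr : Cfsg.PRankLE q 2 R) (hER : E ≤ R) (hE : Cfsg.IsElementaryAbelian q E) (hE2 : Nat.card E = q ^ 2)
    (hT : T ≤ normalizer (R : Set G)) (hcop : (Nat.card T).Coprime q) (hET : E ≤ centralizer (T : Set G)) :
    T ≤ centralizer (R : Set G) := by
  refine Cfsg.Agent.S1443.result q hq R E T hR hER hE hT hcop fun x hx hxo t ht => ?_
  exact mem_centralizer_singleton_iff.2 (mem_centralizer_iff.1 (hET (mem_of_commute_rank hr hER hE hE2 hx.1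
    (by rw [← hxo, pow_orderOf_eq_one]) fun e he => mem_centralizer_iff.1 hx.2 e he)) t ht)

/-- A `p`-group normalizing a subgroup of order `p` centralizes it. -/
theorem le_centralizer_of_line [Fact p.Prime] {P X : Subgroup G} (hP : IsPGroup p P) (hX : Nat.card X = p)
    (hPX : P ≤ normalizer (X : Set G)) : P ≤ centralizer (X : Set G) := by
  have hW : IsPGroup p (P ⊔ X : Subgroup G) :=
    IsPGroup.to_sup_of_normal_right' hP (IsPGroup.of_card (n := 1) (by rw [hX, pow_one])) hPX
  obtain ⟨z, hzX, hzo, hzc⟩ := Excep.exists_central_order hW le_sup_right (sup_le hPX le_normalizer)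
    fun e => (Fact.out : p.Prime).ne_one (by rw [← hX, e, card_bot])
  have hz : zpowers z = X := eq_of_le_of_card_ge (zpowers_le.2 hzX) (by rw [Nat.card_zpowers, hzo, hX])
  intro h hh
  rw [← hz]
  refine mem_centralizer_iff.2 fun y hy => ?_
  obtain ⟨i, rfl⟩ := mem_zpowers_iff.1 hy
  exact ((hzc h (mem_sup_left hh)).zpow_right i).eq.symm

end General

section Elementary

variable {G : Type u} [Group G] [Finite G] {p : ℕ} [hp : Fact p.Prime] {A : Subgroup G}
  (hA : Cfsg.IsElementaryAbelian p A) (hA2 : Nat.card A = p ^ 2)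
include hA hA2

theorem ne_bot : A ≠ ⊥ := fun e => by
  rw [e, card_bot] at hA2
  exact (Nat.one_lt_pow two_ne_zero hp.out.one_lt).ne hA2

/-- A `p`-element normalizing `A` and fixing `z` induces a full set of transvections. -/
theorem transvection {P : Subgroup G} (hP : IsPGroup p P) {g z b : G} (hgP : g ∈ P)
    (hgA : g ∈ normalizer (A : Set G)) (hzA : z ∈ A) (hzo : orderOf z = p) (hgz : Commute g z)
    (hgC : g ∉ centralizer (A : Set G)) (hb : b ∈ A) (hbz : b ∉ zpowers z) :
    ∃ n : ℕ, g ^ n * b * (g ^ n)⁻¹ = z * b := by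
  have hcard : Nat.card (zpowers z) = p := by rw [Nat.card_zpowers, hzo]
  have hsup := Excep.line_sup hA2 (zpowers_le.2 hzA) hcard hb hbz
  have hgb : ¬ Commute g b := fun h => hgC (mem_centralizer_iff.2 fun a ha => by
    rw [← hsup] at ha
    have hle : zpowers z ⊔ zpowers b ≤ centralizer ({g} : Set G) := sup_le
      (zpowers_le.2 (mem_centralizer_singleton_iff.2 hgz.eq.symm))
      (zpowers_le.2 (mem_centralizer_singleton_iff.2 h.eq.symm))
    exact mem_centralizer_singleton_iff.1 (hle ha))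
  have h1 : g * b * g⁻¹ ∈ A := (mem_normalizer_iff.1 hgA b).1 hb
  set c := g * b * g⁻¹ * b⁻¹ with hc
  have hcA : c ∈ A := mul_mem h1 (inv_mem hb)
  have hc1 : c ≠ 1 := fun e => hgb (by
    rw [hc, mul_inv_eq_one, mul_inv_eq_iff_eq_mul] at e
    exact e)
  have hcg : ∃ j : ℤ, g * c * g⁻¹ = c ^ j := by
    have hzb : ∀ k l : ℤ, Commute (z ^ k) (b ^ l) := fun k l =>
      (show Commute z b from congrArg Subtype.val (hA.1.is_comm.comm ⟨z, hzA⟩ ⟨b, hb⟩)).zpow_zpow k l
    have hnz : zpowers z ≤ normalizer (zpowers b : Set G) := by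
      refine le_trans ?_ (centralizer_le_normalizer _)
      rintro _ ⟨i, rfl⟩
      refine mem_centralizer_iff.2 fun y hy => ?_
      obtain ⟨l, rfl⟩ := mem_zpowers_iff.1 hy
      exact (hzb i l).eq.symm
    rw [← hsup] at h1
    obtain ⟨u, hu, v, hv, huv⟩ := (CfsgLib.Solvable.mem_sup_of_le_normalizer hnz).1 h1
    obtain ⟨i, rfl⟩ := mem_zpowers_iff.1 hu
    obtain ⟨j, rfl⟩ := mem_zpowers_iff.1 hv
    refine ⟨j, ?_⟩
    have e1 : c = z ^ i * b ^ (j - 1) := by
      rw [hc, ← huv, mul_assoc, zpow_sub_one]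
    have e2 : g * z ^ i * g⁻¹ = z ^ i := by rw [(hgz.zpow_right i).eq, mul_inv_cancel_right]
    rw [e1, ← conj_mul, e2, ← conj_zpow, ← huv, (hzb i j).mul_zpow, (hzb i (j - 1)).mul_zpow, ← zpow_mul,
      ← zpow_mul, ← zpow_mul, ← zpow_mul, ← mul_assoc, ← zpow_add]
    congr 2 <;> ring
  obtain ⟨j, hj⟩ := hcg
  obtain ⟨-, hcc⟩ := Excep.line_of_mem hA hcA hc1
  have hgc : Commute g c := by
    have hn : g ∈ normalizer (zpowers c : Set G) := Uniq.mem_normalizer_of_map_le (by
      rw [MonoidHom.map_zpowers, zpowers_le]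
      exact mem_zpowers_iff.2 ⟨j, hj.symm⟩)
    have := le_centralizer_of_line ((hP.to_le (zpowers_le.2 hgP))) hcc (zpowers_le.2 hn) (mem_zpowers g)
    exact (mem_centralizer_iff.1 this c (mem_zpowers c)).symm
  have hcz : c ∈ zpowers z := by
    by_contra hne
    refine hgC (mem_centralizer_iff.2 fun a ha => ?_)
    rw [← Excep.line_sup hA2 (zpowers_le.2 hzA) hcard hcA hne] at ha
    have hle : zpowers z ⊔ zpowers c ≤ centralizer ({g} : Set G) := sup_le
      (zpowers_le.2 (mem_centralizer_singleton_iff.2 hgz.eq.symm))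
      (zpowers_le.2 (mem_centralizer_singleton_iff.2 hgc.eq.symm))
    exact mem_centralizer_singleton_iff.1 (hle ha)
  have hz : z ∈ zpowers c :=
    (eq_of_le_of_card_ge (zpowers_le.2 hcz) (by rw [hcc, hcard])).ge (mem_zpowers z)
  obtain ⟨n, hn⟩ := (isOfFinOrder_of_finite c).mem_powers_iff_mem_zpowers.2 hz
  refine ⟨n, ?_⟩
  have key : ∀ k : ℕ, g ^ k * b * (g ^ k)⁻¹ = c ^ k * b := by
    intro k
    induction k with
    | zero => simp
    | succ k ih =>
      calc g ^ (k + 1) * b * (g ^ (k + 1))⁻¹ = g * (g ^ k * b * (g ^ k)⁻¹) * g⁻¹ := by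
            rw [pow_succ']; group
        _ = (g * c ^ k * g⁻¹) * (g * b * g⁻¹) := by rw [ih]; group
        _ = c ^ k * (c * b) := by rw [(hgc.pow_right k).eq, mul_inv_cancel_right, hc, inv_mul_cancel_right]
        _ = c ^ (k + 1) * b := by rw [pow_succ]; group
  rw [key, show c ^ n = z from hn]

/-- The line fixed by a transvection is normalized by the normalizer of `A`. -/
theorem normalizer_le_line (hodd : Odd (Nat.card G)) {P : Subgroup G} (hP : IsPGroup p P) {g z : G} (hgP : g ∈ P)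
    (hgA : g ∈ normalizer (A : Set G)) (hzA : z ∈ A) (hzo : orderOf z = p) (hgz : Commute g z)
    (hgC : g ∉ centralizer (A : Set G)) : normalizer (A : Set G) ≤ normalizer (zpowers z : Set G) := by
  intro n hn
  refine Uniq.mem_normalizer_of_map_le ?_
  rw [MonoidHom.map_zpowers, zpowers_le]
  by_contra hbz
  set b := (MulAut.conj n).toMonoidHom z with hb
  have hbA : b ∈ A := (mem_normalizer_iff.1 hn z).1 hzA
  have hbo : orderOf b = p := by rw [hb]; exact (MulEquiv.orderOf_eq (MulAut.conj n) z).trans hzo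
  obtain ⟨k, hk⟩ := transvection hA hA2 hP hgP hgA hzA hzo hgz hgC hbA hbz
  have hzb : z ∉ zpowers b⁻¹ := fun h => hbz (by
    rw [zpowers_inv] at h
    exact (eq_of_le_of_card_ge (zpowers_le.2 h) (by rw [Nat.card_zpowers, Nat.card_zpowers, hzo, hbo])).ge
      (mem_zpowers b))
  obtain ⟨m, hm⟩ := transvection hA hA2 (hP.map (MulAut.conj n).toMonoidHom) (g := n * g * n⁻¹) (z := b⁻¹) (b := z)
    ⟨g, hgP, rfl⟩ (mul_mem (mul_mem hn hgA) (inv_mem hn)) (inv_mem hbA) (by rw [orderOf_inv, hbo])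
    (Commute.inv_right (by
      show Commute (n * g * n⁻¹) (n * z * n⁻¹)
      unfold Commute SemiconjBy
      rw [conj_mul, conj_mul, hgz.eq]))
    (fun h => hgC (mem_centralizer_iff.2 fun a ha => by
      have := mem_centralizer_iff.1 h _ ((mem_normalizer_iff.1 hn a).1 ha)
      rw [conj_mul, conj_mul] at this
      exact mul_left_cancel (mul_right_cancel this))) hzA hzb
  set a := g ^ k with ha
  set h := (n * g * n⁻¹) ^ m with hh
  have haz : a * z * a⁻¹ = z := by rw [(hgz.pow_left k).eq, mul_inv_cancel_right]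
  have hhb : h * b * h⁻¹ = b := by
    have : Commute (n * g * n⁻¹) b := by
      show n * g * n⁻¹ * (n * z * n⁻¹) = n * z * n⁻¹ * (n * g * n⁻¹)
      rw [conj_mul, conj_mul, hgz.eq]
    rw [(this.pow_left m).eq, mul_inv_cancel_right]
  set φ := fun (x y : G) => x * y * x⁻¹
  have hs1 : (a * h * a) * z * (a * h * a)⁻¹ = b⁻¹ := by
    calc (a * h * a) * z * (a * h * a)⁻¹ = a * (h * (a * z * a⁻¹) * h⁻¹) * a⁻¹ := by group
      _ = a * (b⁻¹ * z) * a⁻¹ := by rw [haz, hm]
      _ = (a * b * a⁻¹)⁻¹ * (a * z * a⁻¹) := by group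
      _ = (z * b)⁻¹ * z := by rw [hk, haz]
      _ = b⁻¹ := by group
  have hs2 : (a * h * a) * b * (a * h * a)⁻¹ = z := by
    have hcomm : Commute z b := congrArg Subtype.val (hA.1.is_comm.comm ⟨z, hzA⟩ ⟨b, hbA⟩)
    calc (a * h * a) * b * (a * h * a)⁻¹ = a * (h * (a * b * a⁻¹) * h⁻¹) * a⁻¹ := by group
      _ = a * ((h * z * h⁻¹) * (h * b * h⁻¹)) * a⁻¹ := by rw [hk]; group
      _ = a * (b⁻¹ * (z * b)) * a⁻¹ := by rw [hm, hhb]; group
      _ = z := by rw [hcomm.eq, inv_mul_cancel_left, haz]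
  set x := (a * h * a) * (a * h * a) with hx
  have hxz : x * z * x⁻¹ = z⁻¹ := by
    calc x * z * x⁻¹ = (a * h * a) * ((a * h * a) * z * (a * h * a)⁻¹) * (a * h * a)⁻¹ := by rw [hx]; group
      _ = ((a * h * a) * b * (a * h * a)⁻¹)⁻¹ := by rw [hs1]; group
      _ = z⁻¹ := by rw [hs2]
  have hx2 : Commute (x * x) z := by
    show x * x * z = z * (x * x)
    calc x * x * z = x * (x * z * x⁻¹) * x := by group
      _ = x * z⁻¹ * x := by rw [hxz]
      _ = (x * z * x⁻¹)⁻¹ * (x * x) := by group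
      _ = z * (x * x) := by rw [hxz, inv_inv]
  obtain ⟨l, hl⟩ := hodd.of_dvd_nat (orderOf_dvd_natCard x)
  have hxx : x = (x * x) ^ (l + 1) := by
    rw [← pow_two, ← pow_mul, show 2 * (l + 1) = orderOf x + 1 by omega, pow_succ, pow_orderOf_eq_one, one_mul]
  have hcx : Commute x z := hxx ▸ hx2.pow_left _
  rw [hcx.eq, mul_inv_cancel_right] at hxz
  have h2 : z ^ 2 = 1 := by rw [pow_two]; exact eq_inv_iff_mul_eq_one.1 hxz
  have hp2 : p = 2 := (Nat.prime_dvd_prime_iff_eq hp.out Nat.prime_two).1 (hzo ▸ orderOf_dvd_of_pow_eq_one h2)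
  exact (Nat.not_even_iff_odd.2 hodd) (even_iff_two_dvd.2 (hp2 ▸ (hzo ▸ orderOf_dvd_natCard z)))

variable (hmax : ∀ B : Subgroup G, Cfsg.IsElementaryAbelian p B → A ≤ B → B = A)
include hmax

omit hA2 in
/-- An element centralized by a subgroup above `A` is moved to another one by its normalizer. -/
theorem conj_central {P : Subgroup G} (hAP : A ≤ P) {n a : G} (hn : n ∈ normalizer (P : Set G)) (ha : a ∈ A)
    (hac : ∀ h ∈ P, Commute h a) : n * a * n⁻¹ ∈ A ∧ ∀ h ∈ P, Commute h (n * a * n⁻¹) := by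
  have hc : ∀ h ∈ P, Commute h (n * a * n⁻¹) := fun h hh => by
    have h1 : n⁻¹ * h * n ∈ P := (mem_normalizer_iff''.1 hn h).1 hh
    calc h * (n * a * n⁻¹) = n * ((n⁻¹ * h * n) * a) * n⁻¹ := by group
      _ = n * (a * (n⁻¹ * h * n)) * n⁻¹ := by rw [(hac _ h1).eq]
      _ = (n * a * n⁻¹) * h := by group
  exact ⟨Excep.mem_of_commute hA hmax (by rw [conj_pow, hA.2 a ha, mul_one, mul_inv_cancel])
    fun b hb => (hc b (hAP hb)).eq, hc⟩

omit hA2 in
theorem normalizer_le_of_central {P : Subgroup G} (hAP : A ≤ P) (hPA : P ≤ centralizer (A : Set G)) :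
    normalizer (P : Set G) ≤ normalizer (A : Set G) := fun n hn => Uniq.mem_normalizer_of_map_le (by
  rintro _ ⟨a, ha, rfl⟩
  exact (conj_central hA hmax hAP hn ha fun h hh => (mem_centralizer_iff.1 (hPA hh) a ha).symm).1)

/-- Either `A` is central in a `p`-subgroup above it, or one line is central and invariant. -/
theorem dichotomy (hodd : Odd (Nat.card G)) {P : Subgroup G} (hP : IsPGroup p P) (hAP : A ≤ P) :
    (P ≤ centralizer (A : Set G) ∧ normalizer (P : Set G) ≤ normalizer (A : Set G)) ∨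
      ∃ z ∈ A, orderOf z = p ∧ P ≤ centralizer ({z} : Set G) ∧
        normalizer (P : Set G) ≤ normalizer (zpowers z : Set G) ∧
        normalizer (A : Set G) ≤ normalizer (zpowers z : Set G) ∧
        ∃ g ∈ P, g ∈ normalizer (A : Set G) ∧ g ∉ centralizer (A : Set G) := by
  by_cases hAZ : P ≤ centralizer (A : Set G)
  · exact Or.inl ⟨hAZ, normalizer_le_of_central hA hmax hAP hAZ⟩
  refine Or.inr ?_
  obtain ⟨z, hzP, hzo, hzc⟩ := Excep.exists_central_order hP le_rfl le_normalizer fun e => ne_bot hA hA2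
    (le_bot_iff.1 (hAP.trans e.le))
  have hzA : z ∈ A := Excep.mem_of_commute hA hmax (by rw [← hzo, pow_orderOf_eq_one]) fun a ha => (hzc a (hAP ha)).eq
  have hzZ : ∀ a ∈ A, (∀ h ∈ P, Commute h a) → a ∈ zpowers z := by
    intro a ha hac
    by_contra hne
    refine hAZ fun h hh => mem_centralizer_iff.2 fun x hx => ?_
    have hle : A ≤ centralizer ({h} : Set G) := by
      rw [← Excep.line_sup hA2 (zpowers_le.2 hzA) (by rw [Nat.card_zpowers, hzo]) ha hne]
      exact sup_le (zpowers_le.2 (mem_centralizer_singleton_iff.2 (hzc h hh).eq.symm))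
        (zpowers_le.2 (mem_centralizer_singleton_iff.2 (hac h hh).eq.symm))
    exact mem_centralizer_singleton_iff.1 (hle hx)
  have hlt : P ⊓ centralizer (A : Set G) < P := lt_of_le_of_ne inf_le_left fun e => hAZ fun h hh => (e.ge hh).2
  obtain ⟨g, hg, hgC⟩ := SetLike.exists_of_lt (CfsgLib.Fusion.lt_inf_normalizer hP hlt)
  have hgA : g ∈ normalizer (A : Set G) := Uniq.mem_normalizer_of_map_le (by
    rintro _ ⟨a, ha, rfl⟩
    haveI := hA.1
    have haC : a ∈ P ⊓ centralizer (A : Set G) := ⟨hAP ha, le_centralizer_iff_isMulCommutative.2 hA.1 ha⟩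
    have h1 := (mem_normalizer_iff.1 hg.2 a).1 haC
    exact Excep.mem_of_commute hA hmax (by rw [← map_pow, hA.2 a ha, map_one])
      fun b hb => mem_centralizer_iff.1 h1.2 b hb)
  refine ⟨z, hzA, hzo, fun h hh => mem_centralizer_singleton_iff.2 (hzc h hh).eq, fun n hn => ?_,
    normalizer_le_line hA hA2 hodd hP hg.1 hgA hzA hzo (hzc g hg.1) fun h => hgC ⟨hg.1, h⟩,
    g, hg.1, hgA, fun h => hgC ⟨hg.1, h⟩⟩
  refine Uniq.mem_normalizer_of_map_le ?_
  rw [MonoidHom.map_zpowers, zpowers_le]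
  obtain ⟨h1, h2⟩ := conj_central hA hmax hAP hn hzA hzc
  exact hzZ _ h1 h2

/-- A maximal subgroup with `p` in `σ` containing the normalizer of `A`. -/
theorem exists_sigma_over (hG : Cfsg.IsMinSimpleOddOrder G) :
    ∃ H : Subgroup G, IsCoatom H ∧ p ∈ Cfsg.sigma H ∧ normalizer (A : Set G) ≤ H ∧ A ≤ H := by
  obtain ⟨P, hAP⟩ := (IsPGroup.of_card hA2 : IsPGroup p A).exists_le_sylow
  have key : ∀ Y : Subgroup G, Y ≤ A → Y ≠ ⊥ → normalizer ((P : Subgroup G) : Set G) ≤ normalizer (Y : Set G) →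
      normalizer (A : Set G) ≤ normalizer (Y : Set G) →
      ∃ H : Subgroup G, IsCoatom H ∧ p ∈ Cfsg.sigma H ∧ normalizer (A : Set G) ≤ H ∧ A ≤ H := by
    intro Y hYA hY1 h1 h2
    obtain ⟨H, hH, hNH⟩ := (eq_top_or_exists_le_coatom (normalizer (Y : Set G))).resolve_left
      (CfsgLib.CN.MinSimple.normalizer_ne_top hG ((IsPGroup.of_card hA2 : IsPGroup p A).to_le hYA).isNilpotent hY1)
    have hAH : A ≤ H := (le_normalizer.trans h2).trans hNH
    exact ⟨H, hH, Excep.mem_sigma_of_sylow P ((le_normalizer.trans h1).trans hNH) (h1.trans hNH)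
      ((dvd_pow_self p two_ne_zero).trans (hA2 ▸ card_dvd_of_le hAH)), h2.trans hNH, hAH⟩
  rcases dichotomy hA hA2 hmax hG.1 P.2 hAP with ⟨-, h⟩ | ⟨z, hzA, hzo, -, h1, h2, -⟩
  · exact key A le_rfl (ne_bot hA hA2) h le_rfl
  · exact key (zpowers z) (zpowers_le.2 hzA) (fun e => hp.out.ne_one (by rw [← hzo, ← Nat.card_zpowers, e, card_bot])) h1 h2

end Elementary

end CfsgLib.OddLocal.Tau
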