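import Cfsg.Agent.OddLocal.KappaBeta
import Cfsg.Agent.OddLocal.TauTwoBase
import Cfsg.Agent.S1443

/-!
BG 14.12: the partner `M*` of `M` and a second maximal subgroup over `K U` when `U ≠ 1`.
-/

set_option autoImplicit false
set_option linter.style.haveILetI false
set_option linter.unusedSectionVars false

namespace CfsgLib.OddLocal.Kap

open Subgroup Cfsg CfsgLib.OddLocal
open scoped commutatorElement Pointwise

universe u

variable {G : Type u} [Group G] [Finite G]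
variable (hG : Cfsg.IsMinSimpleOddOrder G)
variable {M K U : Subgroup G} (hM : IsCoatom M) (hKU : Cfsg.IsSigmaDecomposition M K U) (hK1 : K ≠ ⊥)
variable {N : Subgroup G} (hN : IsCoatom N) (hNK : Cfsg.IsPiHallOf (Cfsg.kappa N) (star M K) N)
  (hKe : K = star N (star M K))
variable {q : ℕ} [hq : Fact q.Prime] {k : G} (hk : k ∈ K) (hko : orderOf k = q)

section Partner

include hG hM hKU hK1 hN hNK hKe hk hko

/-- The centralizer of an element of prime order of `K` lies only in `M*`. -/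
theorem centralizer_le_partner : centralizer ({k} : Set G) ≤ N ∧
    ∀ L : Subgroup G, IsCoatom L → centralizer ({k} : Set G) ≤ L → L = N := by
  have hk' : k ∈ star N (star M K) := hKe ▸ hk
  exact (fixed_centralizer hG hN hNK (fixed_ne_bot hG hM hKU.hall hK1) hk' hko).1

theorem partner_sigma : k ∈ Cfsg.sigmaCore N ∧ q ∈ Cfsg.sigma N ∧ q ∉ Cfsg.sigma M ∧ q ∈ Cfsg.kappa M := by
  have hk' : k ∈ star N (star M K) := hKe ▸ hk
  have hκ := hKU.hall.2.1 q hq.out (dvd_of_mem hk hko)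
  exact ⟨hk'.1, mem_sigma_of_mem_core hG hN hq.out hk'.1 hko, hκ.2.2.1, hκ⟩

/-- A maximal subgroup containing `k` with `q` in its `σ` is `M*`. -/
theorem eq_partner {L : Subgroup G} (hL : IsCoatom L) (hkL : k ∈ L) (hqL : q ∈ Cfsg.sigma L) : L = N := by
  obtain ⟨hkN, hqN, -, -⟩ := partner_sigma hG hM hKU hK1 hN hNK hKe hk hko
  obtain ⟨g, rfl⟩ := conj_of_common hG hN hL hqN hqL
  have hk1 : k ≠ 1 := fun e => hq.out.ne_one (by rw [← hko, e, orderOf_one])
  rcases conjugate_over hG hN hkN hk1 hkL with h | ⟨-, -, -, hn, -⟩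
  · exact h
  · exact absurd (centralizer_le_partner hG hM hKU hK1 hN hNK hKe hk hko).1 hn

/-- An element of `K` fixing a point of `L_σ` puts `q` in `κ(L)`. -/
theorem kappa_of_fixed {L : Subgroup G} (hL : IsCoatom L) (hkL : k ∈ L) (hqL : q ∉ Cfsg.sigma L) {x : G}
    (hx : x ∈ Cfsg.sigmaCore L) (hx1 : x ≠ 1) (hkx : Commute k x) : q ∈ Cfsg.kappa L := by
  refine (mem_kappa_or_tau_two hG hL hkL hko hqL hx hx1 hkx).resolve_right fun hτ => hqL ?_
  have hk1 : k ≠ 1 := fun e => hq.out.ne_one (by rw [← hko, e, orderOf_one])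
  have h := Tau.tau_element_centralizer hG hL hkL hk1
    (fun r hr hd => by rw [hko] at hd; exact (Nat.prime_dvd_prime_iff_eq hr hq.out).1 hd ▸ hτ) hx hx1 hkx.eq
  rw [(centralizer_le_partner hG hM hKU hK1 hN hNK hKe hk hko).2 L hL h.1]
  exact (partner_sigma hG hM hKU hK1 hN hNK hKe hk hko).2.1

/-- A maximal subgroup with `q` in its `κ` is conjugate to `M`. -/
theorem conj_of_kappa {L : Subgroup G} (hL : IsCoatom L) (hqL : q ∈ Cfsg.kappa L) :
    ∃ g : G, L = M.map (MulAut.conj g).toMonoidHom := by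
  obtain ⟨g, h | h⟩ := kappa_class hG hM hKU.hall hK1 hN hNK hKe hL ⟨q, hqL⟩
  · exact ⟨g, h⟩
  · exact absurd (h ▸ (sigma_map_iff g).2 (partner_sigma hG hM hKU hK1 hN hNK hKe hk hko).2.1) hqL.2.2.1

/-- No prime is in `σ(M)` and `σ(M*)`. -/
theorem partner_disjoint {p : ℕ} (hp : p ∈ Cfsg.sigma M) : p ∉ Cfsg.sigma N := fun hpN => by
  obtain ⟨-, hqN, hqM, -⟩ := partner_sigma hG hM hKU hK1 hN hNK hKe hk hko
  rcases sigma_eq_or_disjoint hG hM hN with h | h
  · exact hqM (h ▸ hqN)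
  · exact h p hpN hp

/-- `U` meets `M*` trivially. -/
theorem meet_partner : U ⊓ N = ⊥ := by
  obtain ⟨hkN, -, -, -⟩ := partner_sigma hG hM hKU hK1 hN hNK hKe hk hko
  have hk1 : k ≠ 1 := fun e => hq.out.ne_one (by rw [← hko, e, orderOf_one])
  have hkN' : k ∈ N := map_subtype_le _ hkN
  have hkM : k ∈ M := hKU.hall.1 hk
  set W := U ⊓ N
  have hWn : k ∈ normalizer (W : Set G) :=
    inf_normalizer_le_normalizer_inf ⟨hKU.normal hk, le_normalizer hkN'⟩
  have hWN : W ≤ Cfsg.sigmaCore N := by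
    set f : W → W := fun u => ⟨(u : G) * k * (u : G)⁻¹ * k⁻¹, by
      rw [show (u : G) * k * (u : G)⁻¹ * k⁻¹ = (u : G) * (k * (u : G)⁻¹ * k⁻¹) by group]
      exact W.mul_mem u.2 ((mem_normalizer_iff.1 hWn _).1 (W.inv_mem u.2))⟩
    have hinj : Function.Injective f := fun u v h => by
      have h' : (u : G) * k * (u : G)⁻¹ * k⁻¹ = (v : G) * k * (v : G)⁻¹ * k⁻¹ := congrArg Subtype.val h
      have h1 : (v : G)⁻¹ * u ∈ U ⊓ centralizer ({k} : Set G) := by
        refine ⟨U.mul_mem (U.inv_mem v.2.1) u.2.1, mem_centralizer_singleton_iff.2 ?_⟩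
        calc (v : G)⁻¹ * u * k = (v : G)⁻¹ * ((u : G) * k * (u : G)⁻¹ * k⁻¹) * k * u := by group
          _ = k * ((v : G)⁻¹ * u) := by rw [h']; group
      rw [decomp_fpf hG hM hKU hk hk1, Subgroup.mem_bot, inv_mul_eq_one] at h1
      exact Subtype.ext h1.symm
    intro u hu
    obtain ⟨v, hv⟩ := (Finite.injective_iff_surjective.1 hinj) ⟨u, hu⟩
    have e : (v : G) * k * (v : G)⁻¹ * k⁻¹ = u := congrArg Subtype.val hv
    rw [← e]
    exact (Cfsg.sigmaCore N).mul_mem ((mem_normalizer_iff.1 (TH.le_normalizer_core N v.2.2) k).1 hkN)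
      ((Cfsg.sigmaCore N).inv_mem hkN)
  refine le_bot_iff.1 fun u hu => ?_
  have hco : (Nat.card (Cfsg.sigmaCore M)).Coprime (Nat.card (Cfsg.sigmaCore N)) :=
    Nat.coprime_of_dvd fun p hp h1 h2 => partner_disjoint hG hM hKU hK1 hN hNK hKe hk hko
      ((Sig.sigma_core hG hM).1.2.1 p hp h1) ((Sig.sigma_core hG hN).1.2.1 p hp h2)
  have huS : u ∈ star N (star M K) := by
    refine ⟨hWN hu, mem_centralizer_iff.2 fun y hy => ?_⟩
    have hyN : y ∈ N := hNK.1 hy
    have hc : ⁅y, u⁆ ∈ Cfsg.sigmaCore M ⊓ Cfsg.sigmaCore N := by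
      refine ⟨?_, ?_⟩
      · rw [commutatorElement_def, show y * u * y⁻¹ * u⁻¹ = y * (u * y⁻¹ * u⁻¹) by group]
        exact (Cfsg.sigmaCore M).mul_mem hy.1
          ((mem_normalizer_iff.1 (TH.le_normalizer_core M (hKU.compl.1 hu.1)) _).1 ((Cfsg.sigmaCore M).inv_mem hy.1))
      · rw [commutatorElement_def]
        exact (Cfsg.sigmaCore N).mul_mem ((mem_normalizer_iff.1 (TH.le_normalizer_core N hyN) u).1 (hWN hu)) ((Cfsg.sigmaCore N).inv_mem (hWN hu))
    rw [disjoint_iff.1 (disjoint_of_coprime_natCard hco), Subgroup.mem_bot] at hc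
    exact commutatorElement_eq_one_iff_mul_comm.1 hc
  rw [← hKe] at huS
  have h1 : u ∈ U ⊓ (K ⊔ Cfsg.sigmaCore M) := ⟨hu.1, mem_sup_left huS⟩
  rwa [hKU.compl.2.2.1] at h1

end Partner

section Over

variable (hnU : U ≠ ⊥) {H : Subgroup G} (hH : IsCoatom H) (hnc : ∀ g : G, H ≠ M.map (MulAut.conj g).toMonoidHom)
  (hne : H ≠ N) (hkH : k ∈ H)
include hG hM hKU hK1 hN hNK hKe hk hko hH hne hkH

theorem over_not_sigma : q ∉ Cfsg.sigma H := fun h =>
  hne (eq_partner hG hM hKU hK1 hN hNK hKe hk hko hH hkH h)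

theorem over_disjoint {p : ℕ} (hp : p ∈ Cfsg.sigma H) : p ∉ Cfsg.sigma N := fun hpN => by
  rcases sigma_eq_or_disjoint hG hN hH with h | h
  · exact over_not_sigma hG hM hKU hK1 hN hNK hKe hk hko hH hne hkH
      (h ▸ (partner_sigma hG hM hKU hK1 hN hNK hKe hk hko).2.1)
  · exact h p hp hpN

include hnc hnU

/-- Such a subgroup has no primes in `κ`. -/
theorem over_kappa : Cfsg.kappa H = ∅ := by
  by_contra h
  obtain ⟨g, e | e⟩ := kappa_class hG hM hKU.hall hK1 hN hNK hKe hH (Set.nonempty_iff_ne_empty.2 h)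
  · exact hnc g e
  · exact over_not_sigma hG hM hKU hK1 hN hNK hKe hk hko hH hne hkH
      (e ▸ (sigma_map_iff g).2 (partner_sigma hG hM hKU hK1 hN hNK hKe hk hko).2.1)

/-- `k` acts without fixed points on `H_σ`. -/
theorem over_fpf : Cfsg.sigmaCore H ⊓ centralizer ({k} : Set G) = ⊥ := by
  by_contra h
  obtain ⟨x, hx, hx1⟩ := (bot_or_exists_ne_one _).resolve_left h
  have hκ := kappa_of_fixed hG hM hKU hK1 hN hNK hKe hk hko hH hkH
    (over_not_sigma hG hM hKU hK1 hN hNK hKe hk hko hH hne hkH) hx.1 hx1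
    (show Commute k x from (mem_centralizer_singleton_iff.1 hx.2).symm)
  rw [over_kappa hG hM hKU hK1 hN hNK hKe hk hko hnU hH hnc hne hkH] at hκ
  exact hκ

/-- A subgroup without fixed points for `k` centralizes `H_σ`. -/
theorem over_kills {V : Subgroup G} (hV : V ≤ H) (hkV : k ∈ normalizer (V : Set G))
    (hfp : V ⊓ centralizer ({k} : Set G) = ⊥)
    (hcop : (Nat.card V).Coprime (Nat.card (Cfsg.sigmaCore H))) :
    Cfsg.sigmaCore H ≤ centralizer (V : Set G) :=
  frobenius_kills (solvable_le hG hH (map_subtype_le _))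
    (solvable_le hG hH (sup_le hV (zpowers_le.2 hkH))) hko
    (not_dvd_core hG hH hq.out (over_not_sigma hG hM hKU hK1 hN hNK hKe hk hko hH hne hkH)) hcop
    (hV.trans (TH.le_normalizer_core H)) (TH.le_normalizer_core H hkH) hkV hfp
    (by rw [over_fpf hG hM hKU hK1 hN hNK hKe hk hko hnU hH hnc hne hkH]; exact bot_le)

/-- An element of prime order outside `σ(H)` centralizing `H_σ` is of a prime in `τ₂(H)`. -/
theorem over_tau_two {t : ℕ} [Fact t.Prime] {v : G} (hvH : v ∈ H) (hvo : orderOf v = t) (htσ : t ∉ Cfsg.sigma H)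
    {x : G} (hx : x ∈ Cfsg.sigmaCore H) (hx1 : x ≠ 1) (hvx : Commute v x) : t ∈ Cfsg.tau2 H :=
  (mem_kappa_or_tau_two hG hH hvH hvo htσ hx hx1 hvx).resolve_left fun h => by
    rw [over_kappa hG hM hKU hK1 hN hNK hKe hk hko hnU hH hnc hne hkH] at h
    exact h

/-- A plane of a prime in `τ₂(H)` in a complement containing `k` is centralized by `k`, and its normalizer lies
in `M*`. -/
theorem over_plane {E A : Subgroup G} (hE : Cfsg.IsComplIn E (Cfsg.sigmaCore H) H) (hkE : k ∈ E) {s : ℕ}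
    [hs : Fact s.Prime] (hτ : s ∈ Cfsg.tau2 H) (hAE : A ≤ E) (hA : Cfsg.IsElementaryAbelian s A)
    (hA2 : Nat.card A = s ^ 2) : A ≤ centralizer ({k} : Set G) ∧ normalizer (A : Set G) ≤ N := by
  obtain ⟨-, hsσ, hr2, hr1⟩ := id hτ
  have hsH : s ∉ Cfsg.sigma H := hsσ
  obtain ⟨hideal, hmaxA⟩ := Cfsg.Agent.S1408.result hG H hH s hsσ hr2 hr1
  have hmax := hmaxA A (hAE.trans hE.1) hA hA2
  obtain ⟨L, hL, hsL, hNL, hAL⟩ := Tau.exists_sigma_over hA hA2 hmax hG
  obtain ⟨⟨hEA, hlines⟩, -, -⟩ := Cfsg.Agent.S1418.result hG H hH E hE s hτ A ⟨hAE, hA, hA2⟩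
  have hkA : k ∈ normalizer (A : Set G) := hEA hkE
  have hkL : k ∈ L := hNL hkA
  obtain ⟨hkN, -, -, -⟩ := partner_sigma hG hM hKU hK1 hN hNK hKe hk hko
  have hA1 : A ≠ ⊥ := fun e => by
    rw [e, card_bot] at hA2
    exact (Nat.one_lt_pow two_ne_zero hs.out.one_lt).ne hA2
  by_cases hqL : q ∈ Cfsg.sigma L
  · obtain rfl := eq_partner hG hM hKU hK1 hN hNK hKe hk hko hL hkL hqL
    refine ⟨?_, hNL⟩
    by_cases hsq : q = s
    · subst hsq
      haveI := hA.1
      exact (le_centralizer_iff_isMulCommutative.2 hA.1).trans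
        (centralizer_le (Set.singleton_subset_iff.2 ((hlines (zpowers k) (zpowers_le.2 hkE)
          (by rw [Nat.card_zpowers, hko])) (mem_zpowers k))))
    · have hσ' := (Sig.sigma_core hG hL).2.2
      refine npc_centralizes hG hL hsL.2.1 (fun hβ => hideal hβ.2) (hσ' hkN)
        (fun h => hsq ((Nat.prime_dvd_prime_iff_eq hs.out hq.out).1 (hko ▸ h)).symm) (IsPGroup.of_card hA2) ?_ hkA
      exact (Excep.le_sigmaCore hG hL hAL fun r hr hd => by
        rw [hA2] at hd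
        exact (Nat.prime_dvd_prime_iff_eq hr hs.out).1 (hr.dvd_of_dvd_pow hd) ▸ hsL).trans hσ'
  exfalso
  have hfp : A ⊓ centralizer ({k} : Set G) = ⊥ := by
    by_contra h
    obtain ⟨z, hz, hz1⟩ := (bot_or_exists_ne_one _).resolve_left h
    have hzL : z ∈ Cfsg.sigmaCore L := Excep.le_sigmaCore hG hL hAL (fun r hr hd => by
      rw [hA2] at hd
      exact (Nat.prime_dvd_prime_iff_eq hr hs.out).1 (hr.dvd_of_dvd_pow hd) ▸ hsL) hz.1
    have hκ := kappa_of_fixed hG hM hKU hK1 hN hNK hKe hk hko hL hkL hqL hzL hz1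
      (show Commute k z from (mem_centralizer_singleton_iff.1 hz.2).symm)
    obtain ⟨g, rfl⟩ := conj_of_kappa hG hM hKU hK1 hN hNK hKe hk hko hL hκ
    have hsM : s ∈ Cfsg.sigma M := (sigma_map_iff g).1 hsL
    exact hideal (sigma_subset_beta hG hM hKU hK1 hnU hsM).2
  have h := over_kills hG hM hKU hK1 hN hNK hKe hk hko hnU hH hnc hne hkH (hAE.trans hE.1) hkA hfp (by
    rw [hA2]; exact (hs.out.coprime_iff_not_dvd.2 (not_dvd_core hG hH hs.out hsH)).pow_left 2)
  have h' := (Cfsg.Agent.S1417.result hG H hH s hτ A ⟨hAE.trans hE.1, hA, hA2⟩).2.2.2.1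
  rw [inf_eq_left.2 h] at h'
  exact Tau.sigmaCore_ne_bot hG hH (one_lt_card_coatom hG hH) h'

end Over

end CfsgLib.OddLocal.Kap
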