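import Cfsg.Agent.OddLocal.TauTwoLines

/-!
A complement to `M_σ` whose `τ₁ ∪ τ₃` elements act without fixed points: the abelian normal subgroup above
all fixed-point stabilizers and the fixed-point free subgroup of full exponent.
-/

set_option autoImplicit false
set_option linter.style.haveILetI false
set_option linter.unusedSectionVars false

namespace CfsgLib.OddLocal.Tau

open Subgroup Cfsg CfsgLib.OddLocal
open scoped commutatorElement Pointwise

universe u

variable {G : Type u} [Group G] [Finite G]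

/-- The order of a join of pairwise centralizing subgroups divides the product of their orders. -/
theorem card_sup_dvd_prod {ι : Type*} [DecidableEq ι] (F : Finset ι) (f : ι → Subgroup G)
    (hc : ∀ i ∈ F, ∀ j ∈ F, i ≠ j → f i ≤ centralizer (f j : Set G)) :
    Nat.card ↥(F.sup f) ∣ ∏ i ∈ F, Nat.card (f i) := by
  induction F using Finset.induction with
  | empty => simp
  | @insert a s ha ih =>
    rw [Finset.sup_insert, Finset.prod_insert ha]
    have h1 : f a ≤ normalizer ((s.sup f : Subgroup G) : Set G) :=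
      (le_centralizer_iff.1 (Finset.sup_le fun j hj => hc j (Finset.mem_insert_of_mem hj) a
        (Finset.mem_insert_self a s) fun e => ha (e ▸ hj))).trans (centralizer_le_normalizer _)
    exact (CfsgLib.Solvable.card_sup_dvd h1).trans (mul_dvd_mul_left _
      (ih fun i hi j hj => hc i (Finset.mem_insert_of_mem hi) j (Finset.mem_insert_of_mem hj)))

/-- A `p`-element is conjugate into any subgroup of index prime to `p`. -/
theorem exists_conj_mem {p : ℕ} [Fact p.Prime] {E H : Subgroup G} (hHE : H ≤ E) (hd : ¬ p ∣ H.relIndex E) {e : G}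
    (he : e ∈ E) {k : ℕ} (heo : orderOf e = p ^ k) : ∃ x ∈ E, x * e * x⁻¹ ∈ H := by
  obtain ⟨R⟩ : Nonempty (Sylow p H) := inferInstance
  set S := (R : Subgroup H).map H.subtype
  have hSH : S ≤ H := map_subtype_le _
  have hSd : ¬ p ∣ S.relIndex E := by
    rw [← relIndex_mul_relIndex S H E hSH hHE]
    refine fun h => ((Fact.out : p.Prime).dvd_mul.1 h).elim (fun h1 => ?_) hd
    rw [relIndex, ← comap_subtype, comap_map_eq_self_of_injective H.subtype_injective] at h1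
    exact R.not_dvd_index h1
  obtain ⟨Q, hQ⟩ := ((IsPGroup.of_card (n := k) (by rw [Nat.card_zpowers, heo]) :
    IsPGroup p (zpowers e)).comap_subtype (K := E)).exists_le_sylow
  obtain ⟨n, hn⟩ := MulAction.exists_smul_eq E Q (((R.2.map H.subtype).comap_subtype (K := E)).toSylow hSd)
  have h : MulAut.conj n ⟨e, he⟩ ∈ ((n • Q : Sylow p E) : Subgroup E) := by
    rw [Sylow.coe_subgroup_smul]
    exact smul_mem_pointwise_smul _ _ _ (hQ (show (⟨e, he⟩ : E) ∈ (zpowers e).comap E.subtype from mem_zpowers e))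
  rw [hn] at h
  exact ⟨n, n.2, hSH h⟩

variable (hG : Cfsg.IsMinSimpleOddOrder G)
include hG

variable {M E : Subgroup G} (hM : IsCoatom M) (hE : Cfsg.IsComplIn E (Cfsg.sigmaCore M) M)
  (hfix : ∀ e ∈ E, e ≠ 1 → (∀ q : ℕ, q.Prime → q ∣ orderOf e → q ∈ Cfsg.tau1 M ∪ Cfsg.tau3 M) →
    Cfsg.sigmaCore M ⊓ centralizer ({e} : Set G) = ⊥)
include hM hE hfix

/-- An element with a nontrivial fixed point in `M_σ` has order with all primes in `τ₂(M)`. -/
theorem tau_two_of_fixed {e x : G} (he : e ∈ E) (hx : x ∈ Cfsg.sigmaCore M) (hx1 : x ≠ 1) (hc : Commute e x) {q : ℕ}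
    (hq : q.Prime) (hqd : q ∣ orderOf e) : q ∈ Cfsg.tau2 M := by
  haveI := Fact.mk hq
  have hqE : q ∣ Nat.card E := hqd.trans (by rw [← Nat.card_zpowers]; exact card_dvd_of_le (zpowers_le.2 he))
  set f := e ^ (orderOf e / q)
  have hfo : orderOf f = q := orderOf_pow_orderOf_div (orderOf_pos e).ne' hqd
  have hno : q ∉ Cfsg.tau1 M ∪ Cfsg.tau3 M := fun h => hx1 (mem_bot.1 ((hfix f (pow_mem he _)
    (fun e' => hq.ne_one (by rw [← hfo, e', orderOf_one]))
    (fun r hr hrd => (Nat.prime_dvd_prime_iff_eq hr hq).1 (hfo ▸ hrd) ▸ h)).le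
    ⟨hx, mem_centralizer_singleton_iff.2 (hc.symm.pow_right _).eq⟩))
  rcases tau_cases hG hM hE hq hqE with h | h | h
  · exact absurd (Or.inl h) hno
  · exact h
  · exact absurd (Or.inr h) hno

omit hfix in
/-- In the abelian case the full `p`-subgroup is normal in `E`. -/
theorem abelian_full_normal {p : ℕ} [Fact p.Prime] (hp : p ∈ Cfsg.tau2 M)
    (hab : ∀ S : Sylow p G, IsMulCommutative (S : Subgroup G)) {T : Subgroup G} (hT : IsPGroup p T) (hTE : T ≤ E)
    (hTd : ¬ p ∣ T.relIndex E) : IsMulCommutative T ∧ E ≤ normalizer (T : Set G) := by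
  obtain ⟨A, T', hA, hA2, hT', hAT', hle, hTE', hTd'⟩ := exists_sylow_data hG hM hE hp hT hTE
  have e : T = T' := eq_of_le_of_card_ge hle (Nat.le_of_dvd Nat.card_pos
    ((Nat.Coprime.dvd_mul_right (Excep.coprime_of_pgroup hT' hTd)).1 (by
      rw [CfsgLib.InvariantHall.relIndex_mul_card hTE]
      exact card_dvd_of_le hTE')))
  subst e
  exact ⟨(tau_two_sylow hG hM hE hp hA hA2 hT hAT' hTE hTd).1,
    (central_sylow hG hM hE hp hA hA2 hT hAT' hTE hTd hab).2.2⟩

/-- The abelian normal subgroup above the stabilizers of points of `M_σ`. -/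
theorem exists_abelian_normal :
    ∃ A₀ : Subgroup G, A₀ ≤ E ∧ E ≤ normalizer (A₀ : Set G) ∧ IsMulCommutative A₀ ∧
      ∀ x ∈ Cfsg.sigmaCore M, x ≠ 1 → E ⊓ centralizer ({x} : Set G) ≤ A₀ := by
  classical
  by_cases hall : ∀ p : ℕ, ∀ _ : Fact p.Prime, p ∈ Cfsg.tau2 M → ∀ S : Sylow p G, IsMulCommutative (S : Subgroup G)
  · set 𝒯 : Set (Subgroup G) := {T | ∃ p : ℕ, p.Prime ∧ p ∈ Cfsg.tau2 M ∧ IsPGroup p T ∧ T ≤ E ∧ ¬ p ∣ T.relIndex E}
    have hn : ∀ T ∈ 𝒯, IsMulCommutative T ∧ E ≤ normalizer (T : Set G) := by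
      rintro T ⟨p, hp, hpτ, hT, hTE, hTd⟩
      haveI := Fact.mk hp
      exact abelian_full_normal hG hM hE hpτ (hall p ⟨hp⟩ hpτ) hT hTE hTd
    have hle : sSup 𝒯 ≤ E := sSup_le fun T ⟨p, _, _, _, hTE, _⟩ => hTE
    refine ⟨sSup 𝒯, hle, fun n hn' => Uniq.mem_normalizer_of_map_le ?_, ?_, fun x hx hx1 e ⟨he, hec⟩ => ?_⟩
    · rw [map_le_iff_le_comap]
      refine sSup_le fun T hT => map_le_iff_le_comap.1 ?_
      exact (le_of_eq (mem_normalizer_iff_map_conj_eq.1 ((hn T hT).2 hn'))).trans (le_sSup hT)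
    · refine le_centralizer_iff_isMulCommutative.1 (sSup_le fun T hT => le_centralizer_iff.1 (sSup_le fun U hU => ?_))
      obtain ⟨p, hp, hpτ, hTp, hTE, hTd⟩ := id hT
      obtain ⟨q, hq, hqτ, hUq, hUE, hUd⟩ := id hU
      haveI := Fact.mk hp
      haveI := Fact.mk hq
      by_cases hpq : p = q
      · subst hpq
        have e : U ≤ T := Excep.le_of_hall hTE (hn T hT).2 hUE (Excep.coprime_of_pgroup hUq hTd)
        exact e.trans (le_centralizer_iff_isMulCommutative.2 (hn T hT).1)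
      · have hd : U ⊓ T = ⊥ := disjoint_iff.1
          (IsPGroup.disjoint_of_ne q p (Ne.symm hpq) U T hUq hTp)
        refine commutator_eq_bot_iff_le_centralizer.1 (le_bot_iff.1 (hd ▸ le_inf ?_ ?_))
        · exact le_normalizer_iff_commutator_le_left.1 (hTE.trans (hn U hU).2)
        · rw [commutator_comm]
          exact le_normalizer_iff_commutator_le_left.1 (hUE.trans (hn T hT).2)
    · refine PrimeFit.le_of_prime_power (D := zpowers e) (fun t ht b hb ⟨j, hj⟩ => ?_) (mem_zpowers e)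
      haveI := Fact.mk ht
      by_cases hj0 : j = 0
      · rw [hj0, pow_zero, orderOf_eq_one_iff] at hj
        exact hj ▸ one_mem _
      have hbE : b ∈ E := zpowers_le.2 he hb
      have hte : t ∣ orderOf e := (dvd_pow_self t hj0).trans (hj ▸ orderOf_dvd_of_mem_zpowers hb)
      have hτ := tau_two_of_fixed hG hM hE hfix he hx hx1 (mem_centralizer_singleton_iff.1 hec) ht hte
      obtain ⟨A, T, -, -, hT, -, hle', hTE, hTd⟩ := exists_sylow_data hG hM hE hτ
        (IsPGroup.of_card (n := j) (by rw [Nat.card_zpowers, hj]) : IsPGroup t (zpowers b)) (zpowers_le.2 hbE)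
      exact le_sSup (show T ∈ 𝒯 from ⟨t, ht, hτ, hT, hTE, hTd⟩) (hle' (mem_zpowers b))
  -- a nonabelian Sylow subgroup: `τ₂(M) = {p}`
  push Not at hall
  obtain ⟨p, hpf, hpτ, S₀, hS₀⟩ := hall
  haveI := hpf
  have hS : ∀ S : Sylow p G, ¬ IsMulCommutative (S : Subgroup G) := fun S hc => hS₀ (by
    haveI := hc
    exact ⟨⟨fun x y => (S₀.equiv S).injective (by rw [map_mul, map_mul]; exact mul_comm' _ _)⟩⟩)
  obtain ⟨hpp, hpσ, hr2, hr1⟩ := id hpτ
  obtain ⟨A, T, hA, hA2, hT, hAT, -, hTE, hTd⟩ :=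
    exists_sylow_data hG hM hE hpτ (IsPGroup.of_bot : IsPGroup p (⊥ : Subgroup G)) bot_le
  have hAE : A ≤ E := hAT.trans hTE
  have hAM : A ≤ M := hAE.trans hE.1
  have hmax := (Cfsg.Agent.S1408.result hG M hM p hpσ hr2 hr1).2 A hAM hA hA2
  obtain ⟨⟨hEA, hlines⟩, ⟨hCA, hNME, -⟩, -⟩ := Cfsg.Agent.S1418.result hG M hM E hE p hpτ A ⟨hAE, hA, hA2⟩
  obtain ⟨B, hBA, hB, -, hMB, hrest⟩ := unique_good hA hA2 hG hM hAM hpσ hmax hr2 hS
  refine ⟨B, hBA.trans hAE, hE.1.trans hMB, ?_, fun x hx hx1 e ⟨he, hec⟩ => ?_⟩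
  · haveI := IsPGroup.of_card (n := 1) (by rw [hB, pow_one]) (p := p) (G := B)
    haveI : IsCyclic B := isCyclic_of_prime_card hB
    infer_instance
  have hprimes : ∀ r : ℕ, r.Prime → r ∣ orderOf e → r = p := fun r hr hrd => by
    have h := tau_two_of_fixed hG hM hE hfix he hx hx1 (mem_centralizer_singleton_iff.1 hec) hr hrd
    rwa [tau_singleton hA hA2 hG hM hAM hpσ hmax hr2 hS hpτ, Set.mem_singleton_iff] at h
  obtain ⟨k, hk⟩ : ∃ k, orderOf e = p ^ k :=
    ⟨_, Nat.eq_prime_pow_of_unique_prime_dvd (orderOf_pos e).ne' fun hd hdd => hprimes _ hd hdd⟩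
  rcases k with - | k
  · rw [pow_zero, orderOf_eq_one_iff] at hk
    exact hk ▸ one_mem _
  -- the bottom of `e` is `B`
  set w := e ^ p ^ k with hw
  have hwo : orderOf w = p := by
    rw [hw, orderOf_pow' _ (pow_ne_zero _ hpp.ne_zero), hk, Nat.gcd_eq_right (pow_dvd_pow p (Nat.le_succ k)),
      pow_succ, Nat.mul_div_cancel_left _ (pow_pos hpp.pos _)]
  have hwA : zpowers w ≤ A :=
    hlines _ (zpowers_le.2 (pow_mem he _)) (by rw [Nat.card_zpowers, hwo])
  have hwB : zpowers w = B := by_contra fun hne => hx1 (mem_bot.1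
    ((hrest _ hwA (by rw [Nat.card_zpowers, hwo]) hne).1.le ⟨hx, mem_centralizer_iff.2 fun y hy => by
      obtain ⟨i, rfl⟩ := mem_zpowers_iff.1 hy
      exact (((show Commute e x from mem_centralizer_singleton_iff.1 hec).pow_left _).zpow_left i).eq⟩))
  rcases k with - | k
  · rw [hw, pow_zero, pow_one] at hwB
    exact hwB ▸ mem_zpowers e
  exfalso
  set y := e ^ p ^ k with hy
  have hyp : y ^ p = w := by rw [hw, hy, ← pow_mul, ← pow_succ]
  obtain ⟨A', T', hA', hA'2, hT', hA'T', hyT', hT'E, hT'd⟩ := exists_sylow_data hG hM hE hpτ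
    (IsPGroup.of_card (n := k + 1 + 1) (by rw [Nat.card_zpowers, hk]) : IsPGroup p (zpowers e)) (zpowers_le.2 he)
  have hA'A : A' = A := eq_of_le_of_card_ge (fun a ha => by
    by_cases ha1 : a = 1
    · exact ha1 ▸ one_mem _
    · exact hlines _ (zpowers_le.2 (hT'E (hA'T' ha))) (Excep.line_of_mem hA' ha ha1).2 (mem_zpowers a))
    (by rw [hA2, hA'2])
  subst hA'A
  obtain ⟨hT'c, hT'A, hT'M⟩ := tau_two_sylow hG hM hE hpτ hA hA2 hT' hA'T' hT'E hT'd
  set P := (hT'.comap_subtype (K := M)).toSylow hT'M with hP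
  have hPmap : (P : Subgroup M).map M.subtype = T' := map_subgroupOf_eq_of_le (hT'E.trans hE.1)
  obtain ⟨Ps, hPs⟩ := hT'.exists_le_sylow
  obtain ⟨g, z, hgP, hgA, -, hgM, -⟩ :=
    nonabelian_data hA hA2 hG hM hAM hpσ hmax hr2 hS P (hPmap ▸ hA'T') Ps (hPmap ▸ hPs)
  obtain ⟨C, hC, hCp⟩ := (abelian_structure hG hA hA2 hM hAM hpσ hmax hr2 (hPmap.symm ▸ hA'T' : _ ≤ _) Ps
    (hPmap.symm ▸ hPs)).2 (hS Ps)
  rw [hPmap] at hCp
  -- `g` normalizes `T'`
  have hinf : (Ps : Subgroup G) ⊓ centralizer (A' : Set G) ≤ T' := by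
    have hle : T' ≤ (Ps : Subgroup G) ⊓ centralizer (A' : Set G) := le_inf hPs hT'A
    have hXE : (Ps : Subgroup G) ⊓ centralizer (A' : Set G) ≤ E := inf_le_right.trans (hCA.trans hNME.le)
    have hXp : IsPGroup p ↥((Ps : Subgroup G) ⊓ centralizer (A' : Set G)) := Ps.2.to_le inf_le_left
    refine (eq_of_le_of_card_ge hle (Nat.le_of_dvd Nat.card_pos
      ((Nat.Coprime.dvd_mul_right (Excep.coprime_of_pgroup hXp hT'd)).1 ?_))).ge
    rw [CfsgLib.InvariantHall.relIndex_mul_card hT'E]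
    exact card_dvd_of_le hXE
  have hyT : y ∈ T' := pow_mem (hyT' (mem_zpowers e)) _
  have hgy : g * y * g⁻¹ ∈ T' := hinf ⟨(Ps : Subgroup G).mul_mem ((Ps : Subgroup G).mul_mem hgP (hPs hyT)) ((Ps : Subgroup G).inv_mem hgP),
    (mem_normalizer_iff.1 (TH.normalizer_le_normalizer_centralizer _ hgA) y).1 (hT'A hyT)⟩
  have hgw : g * w * g⁻¹ ∈ C := by
    rw [← hyp, ← conj_pow]
    exact hCp _ hgy
  have hgwo : orderOf (g * w * g⁻¹) = p := ((MulAut.conj g).orderOf_eq w).trans hwo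
  have heq : zpowers (g * w * g⁻¹) = zpowers w :=
    UTool.zpowers_eq_of_cyclic hC hgw (hyp ▸ hCp y hyT) hgwo hwo
  have hgB : g ∈ normalizer (B : Set G) := by
    refine Uniq.mem_normalizer_of_map_le ?_
    rw [← hwB, MonoidHom.map_zpowers, zpowers_le]
    exact heq ▸ mem_zpowers (g * w * g⁻¹)
  exact hgM (good_normalizer_le hG hA hA2 hM hAM hpσ hmax hBA hB (fun h => hx1 (mem_bot.1 (h.le
    ⟨hx, mem_centralizer_iff.2 fun b hb => by
      rw [← hwB] at hb
      obtain ⟨i, rfl⟩ := mem_zpowers_iff.1 hb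
      exact (((show Commute e x from mem_centralizer_singleton_iff.1 hec).pow_left _).zpow_left i).eq⟩))) hgB)

/-- A `τ₁`-generator normalizing full subgroups for all primes in `τ₂(M)`. -/
theorem exists_tau_data :
    ∃ E₃ : Subgroup G, Cfsg.IsPiHallOf (Cfsg.tau3 M) E₃ E ∧ E ≤ normalizer (E₃ : Set G) ∧
    ∃ g : G, Cfsg.IsPiHallOf (Cfsg.tau1 M) (zpowers g) E ∧
    ∃ T : ℕ → Subgroup G, (∀ p ∈ Cfsg.tau2 M, IsPGroup p (T p) ∧ T p ≤ E ∧ ¬ p ∣ (T p).relIndex E ∧
        g ∈ normalizer (T p : Set G)) ∧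
      ∀ p ∈ Cfsg.tau2 M, ∀ q ∈ Cfsg.tau2 M, p ≠ q → T p ≤ centralizer (T q : Set G) := by
  classical
  haveI hEs : Group.IsSolvable E := hG.2.2.2 E (ne_top_of_le_ne_top hM.1 hE.1)
  obtain ⟨E₃, h3⟩ := CfsgLib.InvariantHall.exists_isPiHallOf (π := Cfsg.tau3 M) (G := E) inferInstance
  obtain ⟨E₁, h1⟩ := CfsgLib.InvariantHall.exists_isPiHallOf (π := Cfsg.tau1 M) (G := E) inferInstance
  obtain ⟨-, -, h3n⟩ := (Compl.tau_structure hG hM hE).2 E₃ h3
  obtain ⟨g₀, hg₀⟩ := (isCyclic_iff_exists_zpowers_eq_top.1 ((Compl.tau_structure hG hM hE).1 E₁ h1))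
  have hgen : zpowers (g₀ : G) = E₁ := by
    rw [show (g₀ : G) = E₁.subtype g₀ from rfl, ← MonoidHom.map_zpowers, hg₀, ← MonoidHom.range_eq_map,
      range_subtype]
  refine ⟨E₃, h3, h3n, ?_⟩
  by_cases hall : ∀ p : ℕ, ∀ _ : Fact p.Prime, p ∈ Cfsg.tau2 M → ∀ S : Sylow p G, IsMulCommutative (S : Subgroup G)
  · have hex : ∀ p : ℕ, ∃ T : Subgroup G, p ∈ Cfsg.tau2 M →
        IsPGroup p T ∧ T ≤ E ∧ ¬ p ∣ T.relIndex E ∧ E ≤ normalizer (T : Set G) := by
      intro p
      by_cases hp : p ∈ Cfsg.tau2 M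
      · haveI := Fact.mk hp.1
        obtain ⟨-, T, -, -, hT, -, -, hTE, hTd⟩ :=
          exists_sylow_data hG hM hE hp (IsPGroup.of_bot : IsPGroup p (⊥ : Subgroup G)) bot_le
        exact ⟨T, fun _ => ⟨hT, hTE, hTd, (abelian_full_normal hG hM hE hp (hall p ⟨hp.1⟩ hp) hT hTE hTd).2⟩⟩
      · exact ⟨⊥, fun h => absurd h hp⟩
    choose T hT using hex
    refine ⟨g₀, (by rw [hgen]; exact h1), T, fun p hp => ⟨(hT p hp).1, (hT p hp).2.1, (hT p hp).2.2.1,
      (hT p hp).2.2.2 (h1.1 g₀.2)⟩, fun p hp q hq hpq => ?_⟩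
    haveI := Fact.mk hp.1
    haveI := Fact.mk hq.1
    have hd : T p ⊓ T q = ⊥ := disjoint_iff.1 (IsPGroup.disjoint_of_ne p q hpq _ _ (hT p hp).1 (hT q hq).1)
    refine commutator_eq_bot_iff_le_centralizer.1 (le_bot_iff.1 (hd ▸ le_inf ?_ ?_))
    · exact le_normalizer_iff_commutator_le_left.1 ((hT q hq).2.1.trans (hT p hp).2.2.2)
    · rw [commutator_comm]
      exact le_normalizer_iff_commutator_le_left.1 ((hT p hp).2.1.trans (hT q hq).2.2.2)
  push Not at hall
  obtain ⟨p, hpf, hpτ, S₀, hS₀⟩ := hall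
  haveI := hpf
  have hS : ∀ S : Sylow p G, ¬ IsMulCommutative (S : Subgroup G) := fun S hc => hS₀ (by
    haveI := hc
    exact ⟨⟨fun x y => (S₀.equiv S).injective (by rw [map_mul, map_mul]; exact mul_comm' _ _)⟩⟩)
  obtain ⟨hpp, hpσ, hr2, hr1⟩ := id hpτ
  obtain ⟨A, T, hA, hA2, hT, hAT, -, hTE, hTd⟩ :=
    exists_sylow_data hG hM hE hpτ (IsPGroup.of_bot : IsPGroup p (⊥ : Subgroup G)) bot_le
  have hAM : A ≤ M := (hAT.trans hTE).trans hE.1
  have hmax := (Cfsg.Agent.S1408.result hG M hM p hpσ hr2 hr1).2 A hAM hA hA2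
  have hsing := tau_singleton hA hA2 hG hM hAM hpσ hmax hr2 hS hpτ
  set D := E₃ ⊔ T with hD
  have hnil := Compl.nilpotent_derived hG hM hE
  have hder : ⁅E, E⁆ ≤ D := by
    refine Excep.le_of_sylows fun r hr hrd => ?_
    haveI := Fact.mk hr
    obtain ⟨R⟩ : Nonempty (Sylow r ↥⁅E, E⁆) := inferInstance
    refine ⟨(R : Subgroup ↥⁅E, E⁆).map _, le_inf (map_subtype_le _) ?_, by
      rw [relIndex, ← comap_subtype, comap_map_eq_self_of_injective (⁅E, E⁆).subtype_injective]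
      exact R.not_dvd_index⟩
    set R' := (R : Subgroup ↥⁅E, E⁆).map (⁅E, E⁆).subtype
    have hR'E : R' ≤ E := (map_subtype_le _).trans (commutator_le_self E)
    have hrσ := (Compl.card_eq hG hM hE).2.2 r hr (hrd.trans (card_dvd_of_le (commutator_le_self E)))
    have hrM := (Compl.dvd_derived_iff hG hM hE hrσ).2 hrd
    rcases tau_cases hG hM hE hr (hrd.trans (card_dvd_of_le (commutator_le_self E))) with h | h | h
    · exact absurd hrM h.2.2.2.1
    · rw [hsing, Set.mem_singleton_iff] at h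
      subst h
      haveI := hnil
      haveI : (R : Subgroup ↥⁅E, E⁆).Normal := inferInstance
      haveI : (R : Subgroup ↥⁅E, E⁆).Characteristic := R.characteristic_of_normal inferInstance
      have hn : E ≤ normalizer (R' : Set G) := fun e he =>
        UTool.normalizer_le_normalizer_map _ _ inferInstance (normalizer_commutator_ge_left E E he)
      have hW : IsPGroup r (R' ⊔ T : Subgroup G) :=
        IsPGroup.to_sup_of_normal_left' (R.2.map _) hT (hTE.trans hn)
      refine le_trans ?_ le_sup_right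
      refine le_sup_left.trans (eq_of_le_of_card_ge (le_sup_right : T ≤ R' ⊔ T) (Nat.le_of_dvd Nat.card_pos
        ((Nat.Coprime.dvd_mul_right (Excep.coprime_of_pgroup hW hTd)).1 ?_))).ge
      rw [CfsgLib.InvariantHall.relIndex_mul_card hTE]
      exact card_dvd_of_le (sup_le hR'E hTE)
    · exact le_trans (Excep.le_of_hall h3.1 h3n hR'E (Excep.coprime_of_pgroup (R.2.map _) (h3.2.2 r hr h)))
        le_sup_left
  have hDE : D ≤ E := sup_le h3.1 hTE
  have hDn : E ≤ normalizer (D : Set G) :=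
    le_normalizer_iff_commutator_le_left.2 ((commutator_mono hDE le_rfl).trans hder)
  have hTdD : ¬ p ∣ T.relIndex D := fun h =>
    hTd (h.trans (Dvd.intro _ (relIndex_mul_relIndex T D E le_sup_right hDE)))
  have hfr : E ≤ E₃ ⊔ (E ⊓ normalizer (T : Set G)) :=
    (Excep.frattini_le hDE hDn (le_sup_right : T ≤ D) hT hTdD).trans
      (sup_le (sup_le le_sup_left ((le_inf hTE le_normalizer).trans le_sup_right)) le_sup_right)
  obtain ⟨x, hxE, hx⟩ := conj_into_of_product (π := Cfsg.tau1 M) hEs inf_le_left h3.1 h3n hfr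
    (fun r hr hr1 hd => hr1.2.2.2.1 (h3.2.1 r hr hd).2.2.1) h1.1 h1.2.1
  set φ := (MulAut.conj x).toMonoidHom
  have hgen' : zpowers (φ g₀) = E₁.map φ := by rw [← MonoidHom.map_zpowers, hgen]
  have h1' : Cfsg.IsPiHallOf (Cfsg.tau1 M) (E₁.map φ) E := by
    have eE : E.map φ = E := mem_normalizer_iff_map_conj_eq.1 (le_normalizer hxE)
    refine ⟨(map_mono h1.1).trans eE.le, fun r hr hd => h1.2.1 r hr ?_, fun r hr hr1 hd => h1.2.2 r hr hr1 ?_⟩
    · rwa [card_map_of_injective (MulAut.conj x).injective] at hd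
    · rw [← eE] at hd
      rwa [relIndex_map_map_of_injective _ _ (f := φ) (MulAut.conj x).injective] at hd
  refine ⟨φ g₀, (by rw [hgen']; exact h1'), fun _ => T, fun q hq => ?_, fun q hq q' hq' hne => ?_⟩
  · rw [hsing, Set.mem_singleton_iff] at hq
    subst hq
    exact ⟨hT, hTE, hTd, (hx ⟨g₀, g₀.2, rfl⟩).2⟩
  · rw [hsing, Set.mem_singleton_iff] at hq hq'
    exact absurd (hq.trans hq'.symm) hne

/-- A subgroup of full exponent acting without fixed points. -/
theorem exists_fpf_exponent :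
    ∃ E₀ : Subgroup G, E₀ ≤ E ∧ Monoid.exponent E₀ = Monoid.exponent E ∧
      ∀ e ∈ E₀, e ≠ 1 → Cfsg.sigmaCore M ⊓ centralizer ({e} : Set G) = ⊥ := by
  classical
  obtain ⟨E₃, h3, h3n, g, h1, T, hT, hTc⟩ := exists_tau_data hG hM hE hfix
  have hgE : g ∈ E := h1.1 (mem_zpowers g)
  set F := (Nat.card E).primeFactors.filter (· ∈ Cfsg.tau2 M) with hF
  have hmem : ∀ {p}, p ∈ F → p ∈ Cfsg.tau2 M := fun h => (Finset.mem_filter.1 h).2
  have hex : ∀ p : ℕ, ∃ (y : G) (a : ℕ), p ∈ F → y ∈ T p ∧ orderOf y = p ^ (a + 1) ∧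
      (∀ t ∈ T p, t ^ p ^ (a + 1) = 1) ∧ g ∈ normalizer (zpowers y : Set G) ∧
      Cfsg.sigmaCore M ⊓ centralizer ({y ^ p ^ a} : Set G) = ⊥ := by
    intro p
    by_cases hp : p ∈ F
    · haveI := Fact.mk (hmem hp).1
      obtain ⟨hTp, hTE, hTd, hgT⟩ := hT p (hmem hp)
      obtain ⟨A, T', hA, hA2, hT', hAT', hle, hTE', hTd'⟩ := exists_sylow_data hG hM hE (hmem hp) hTp hTE
      have e : T p = T' := eq_of_le_of_card_ge hle (Nat.le_of_dvd Nat.card_pos
        ((Nat.Coprime.dvd_mul_right (Excep.coprime_of_pgroup hT' hTd)).1 (by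
          rw [CfsgLib.InvariantHall.relIndex_mul_card hTE]
          exact card_dvd_of_le hTE')))
      rw [← e] at hAT'
      obtain ⟨y, a, h⟩ := exists_good_cyclic hG hM hE (hmem hp) hA hA2 hTp hAT' hTE hTd hgE
        (fun q hq hd => h1.2.1 q hq (by rwa [Nat.card_zpowers])) hfix hgT
      exact ⟨y, a, fun _ => h⟩
    · exact ⟨1, 0, fun h => absurd h hp⟩
  choose y a hy using hex
  set f : ℕ → Subgroup G := fun p => zpowers (y p) with hf
  set Y := F.sup f with hY
  have hfc : ∀ i ∈ F, ∀ j ∈ F, i ≠ j → f i ≤ centralizer (f j : Set G) := fun i hi j hj hne =>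
    (zpowers_le.2 (hy i hi).1).trans ((hTc i (hmem hi) j (hmem hj) hne).trans
      (centralizer_le (zpowers_le.2 (hy j hj).1)))
  have hfE : ∀ i ∈ F, f i ≤ E := fun i hi => zpowers_le.2 ((hT i (hmem hi)).2.1 (hy i hi).1)
  have hgY : zpowers g ≤ normalizer (Y : Set G) := by
    refine zpowers_le.2 (Uniq.mem_normalizer_of_map_le ?_)
    rw [map_le_iff_le_comap]
    refine Finset.sup_le fun i hi => map_le_iff_le_comap.1 ?_
    exact (le_of_eq (mem_normalizer_iff_map_conj_eq.1 (hy i hi).2.2.2.1)).trans (Finset.le_sup (f := f) hi)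
  set W := zpowers g ⊔ Y with hW
  have hWE : W ≤ E := sup_le h1.1 (Finset.sup_le hfE)
  set E₀ := W ⊔ E₃ with hE₀
  have hle : E₀ ≤ E := sup_le hWE h3.1
  have hcard : Nat.card E₀ ∣ Nat.card (zpowers g) * (∏ i ∈ F, Nat.card (f i)) * Nat.card E₃ :=
    (CfsgLib.Solvable.card_sup_dvd (hWE.trans h3n)).trans (mul_dvd_mul_right
      ((CfsgLib.Solvable.card_sup_dvd hgY).trans (mul_dvd_mul_left _ (card_sup_dvd_prod F f hfc))) _)
  refine ⟨E₀, hle, Nat.dvd_antisymm (Monoid.exponent_dvd_of_forall_pow_eq_one fun x => Subtype.ext ?_) ?_, ?_⟩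
  · have h := congrArg Subtype.val (Monoid.pow_exponent_eq_one (⟨x, hle x.2⟩ : E))
    simpa using h
  · refine Monoid.exponent_dvd_of_forall_pow_eq_one fun x => orderOf_dvd_iff_pow_eq_one.1 ?_
    refine (Nat.dvd_iff_prime_pow_dvd_dvd _ _).2 fun q k hq hd => ?_
    haveI := Fact.mk hq
    by_cases hk : k = 0
    · rw [hk, pow_zero]; exact one_dvd _
    set e := (x : G) ^ (orderOf (x : G) / q ^ k)
    have hd' : q ^ k ∣ orderOf (x : G) := by rwa [Subgroup.orderOf_coe]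
    have heo : orderOf e = q ^ k := orderOf_pow_orderOf_div (orderOf_pos _).ne' hd'
    have heE : e ∈ E := pow_mem x.2 _
    have hdvd : ∀ H : Subgroup G, H ≤ E₀ → ∀ z ∈ E, z * e * z⁻¹ ∈ H → q ^ k ∣ Monoid.exponent E₀ := by
      intro H hH z _ hz
      have h := Monoid.order_dvd_exponent (⟨z * e * z⁻¹, hH hz⟩ : E₀)
      rwa [← Subgroup.orderOf_coe, Subgroup.coe_mk, show orderOf (z * e * z⁻¹) = orderOf e from
        (MulAut.conj z).orderOf_eq e, heo] at h
    have hqE : q ∣ Nat.card E := (dvd_pow_self q hk).trans (hd.trans (orderOf_dvd_natCard x))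
    rcases tau_cases hG hM hE hq hqE with h | h | h
    · obtain ⟨z, hz, hze⟩ := exists_conj_mem h1.1 (h1.2.2 q hq h) heE heo
      exact hdvd _ (le_sup_left.trans le_sup_left) z hz hze
    · have hqF : q ∈ F := Finset.mem_filter.2 ⟨Nat.mem_primeFactors.2 ⟨hq, hqE, Nat.card_pos.ne'⟩, h⟩
      obtain ⟨z, hz, hze⟩ := exists_conj_mem (hT q h).2.1 (hT q h).2.2.1 heE heo
      have h2 := orderOf_dvd_of_pow_eq_one ((hy q hqF).2.2.1 _ hze)
      rw [show orderOf (z * e * z⁻¹) = orderOf e from (MulAut.conj z).orderOf_eq e, heo, ← (hy q hqF).2.1] at h2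
      have hyE₀ : y q ∈ E₀ := mem_sup_left (mem_sup_right ((Finset.le_sup hqF : f q ≤ Y) (mem_zpowers _)))
      exact h2.trans (Subgroup.orderOf_mk (y q) hyE₀ ▸ Monoid.order_dvd_exponent (⟨y q, hyE₀⟩ : E₀))
    · exact hdvd _ le_sup_right 1 (one_mem _) (by
        rw [one_mul, inv_one, mul_one]
        exact Excep.le_of_hall h3.1 h3n (zpowers_le.2 heE) (by
          rw [Nat.card_zpowers, heo]
          exact (hq.coprime_iff_not_dvd.2 (h3.2.2 q hq h)).pow_left k) (mem_zpowers e))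
  intro e he he1
  obtain ⟨q, hq, hqd⟩ := Nat.exists_prime_and_dvd (n := orderOf e) fun h => he1 (orderOf_eq_one_iff.1 h)
  haveI := Fact.mk hq
  set u := e ^ (orderOf e / q)
  have huo : orderOf u = q := orderOf_pow_orderOf_div (orderOf_pos e).ne' hqd
  have huE : u ∈ E₀ := pow_mem he _
  refine le_bot_iff.1 ((le_inf inf_le_left fun c hc => ?_ :
    Cfsg.sigmaCore M ⊓ centralizer ({e} : Set G) ≤ Cfsg.sigmaCore M ⊓ centralizer ({u} : Set G)).trans (le_of_eq ?_))
  · exact mem_centralizer_singleton_iff.2 ((show Commute c e from mem_centralizer_singleton_iff.1 hc.2).pow_right _).eq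
  have hqE : q ∣ Nat.card E := hqd.trans (by rw [← Nat.card_zpowers]; exact card_dvd_of_le (zpowers_le.2 (hle he)))
  by_cases hq13 : q ∈ Cfsg.tau1 M ∪ Cfsg.tau3 M
  · exact hfix u (hle huE) (fun h => hq.ne_one (by rw [← huo, h, orderOf_one]))
      fun r hr hrd => (Nat.prime_dvd_prime_iff_eq hr hq).1 (huo ▸ hrd) ▸ hq13
  have hq2 : q ∈ Cfsg.tau2 M := by
    rcases tau_cases hG hM hE hq hqE with h | h | h
    · exact absurd (Or.inl h) hq13
    · exact h
    · exact absurd (Or.inr h) hq13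
  have hqF : q ∈ F := Finset.mem_filter.2 ⟨Nat.mem_primeFactors.2 ⟨hq, hqE, Nat.card_pos.ne'⟩, hq2⟩
  obtain ⟨hyT, hyo, -, -, hyfix⟩ := hy q hqF
  have hyle : f q ≤ E₀ := ((Finset.le_sup hqF : f q ≤ Y).trans le_sup_right).trans le_sup_left
  have hfull : ¬ q ∣ (f q).relIndex E₀ := by
    intro hd
    have h2 : (f q).relIndex E₀ ∣ Nat.card (zpowers g) * (∏ i ∈ F.erase q, Nat.card (f i)) * Nat.card E₃ := by
      refine (Nat.mul_dvd_mul_iff_left (Nat.card_pos (α := f q))).1 ?_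
      rw [CfsgLib.InvariantHall.relIndex_mul_card hyle]
      refine hcard.trans (dvd_of_eq ?_)
      rw [← Finset.mul_prod_erase F _ hqF]
      ring
    rcases hq.dvd_mul.1 (hd.trans h2) with h | h
    · rcases hq.dvd_mul.1 h with h | h
      · exact hq13 (Or.inl (h1.2.1 q hq h))
      · obtain ⟨i, hi, hid⟩ := (Nat.Prime.prime hq).dvd_finset_prod_iff _ |>.1 h
        have hiF := (Finset.mem_erase.1 hi).2
        rw [Nat.card_zpowers, (hy i hiF).2.1] at hid
        exact (Finset.mem_erase.1 hi).1 ((Nat.prime_dvd_prime_iff_eq hq (hmem hiF).1).1 (hq.dvd_of_dvd_pow hid)).symm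
    · exact hq13 (Or.inr (h3.2.1 q hq h))
  obtain ⟨z, hz, hzu⟩ := exists_conj_mem hyle hfull huE (k := 1) (by rw [pow_one, huo])
  have hwo : orderOf (y q ^ q ^ a q) = q := by
    rw [orderOf_pow' _ (pow_ne_zero _ hq.ne_zero), hyo, Nat.gcd_eq_right (pow_dvd_pow q (Nat.le_succ _)),
      pow_succ, Nat.mul_div_cancel_left _ (pow_pos hq.pos _)]
  have heq : zpowers (z * u * z⁻¹) = zpowers (y q ^ q ^ a q) :=
    UTool.zpowers_eq_of_cyclic inferInstance hzu (pow_mem (mem_zpowers _) _)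
      (((MulAut.conj z).orderOf_eq u).trans huo) hwo
  refine (eq_bot_iff_forall _).2 fun c ⟨hcσ, hcu⟩ => ?_
  have hzM : z ∈ normalizer (Cfsg.sigmaCore M : Set G) := TH.le_normalizer_core M (hE.1 (hle hz))
  have h : z * c * z⁻¹ ∈ Cfsg.sigmaCore M ⊓ centralizer ({y q ^ q ^ a q} : Set G) := by
    refine ⟨(mem_normalizer_iff.1 hzM c).1 hcσ, mem_centralizer_singleton_iff.2 ?_⟩
    obtain ⟨i, hi⟩ := mem_zpowers_iff.1 (heq.ge (mem_zpowers _))
    rw [← hi]
    have hcu' : Commute c u := mem_centralizer_singleton_iff.1 hcu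
    exact ((hcu'.map (MulAut.conj z).toMonoidHom).zpow_right i).eq
  rw [hyfix, mem_bot, conj_eq_one_iff] at h
  exact h

end CfsgLib.OddLocal.Tau
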