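import Cfsg.Agent.OddLocal.FixedPointFree
import Cfsg.Agent.FGSA.RankTwoSolvable

/-!
An element of prime order acting coprimely without fixed points on the Fitting subgroup has its commutator
inside the Fitting subgroup.
-/

set_option autoImplicit false
set_option linter.style.haveILetI false
set_option linter.unusedSectionVars false

namespace CfsgLib.OddLocal.PrimeFit

open Subgroup Cfsg CfsgLib.OddLocal
open scoped commutatorElement

universe u

variable {G : Type u} [Group G] [Finite G]

/-- A subgroup is normalized by everything normalizing its elements of prime power order. -/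
theorem le_of_prime_power {D T : Subgroup G}
    (h : ∀ (t : ℕ), t.Prime → ∀ b ∈ D, (∃ j : ℕ, orderOf b = t ^ j) → b ∈ T) : D ≤ T := by
  haveI : ∀ t : Nat.Primes, Fact (t : ℕ).Prime := fun t => ⟨t.2⟩
  have h1 := CfsgLib.Solvable.iSup_sylow_eq_top (G := D) fun t => (default : Sylow (t : ℕ) D)
  have h2 : (⊤ : Subgroup D) ≤ T.subgroupOf D := by
    rw [← h1]
    refine iSup_le fun t b hb => h t t.2 b b.2 ?_
    obtain ⟨j, hj⟩ := IsPGroup.iff_orderOf.1 (default : Sylow (t : ℕ) D).2 ⟨b, hb⟩
    exact ⟨j, by rwa [orderOf_mk, ← orderOf_coe] at hj⟩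
  exact fun b hb => h2 (mem_top (⟨b, hb⟩ : D))

/-- A subgroup containing one Sylow subgroup and all elements of coprime prime power order is everything. -/
theorem le_of_sylow {D T : Subgroup G} {s : ℕ} [Fact s.Prime] (S : Sylow s D) (hS : ∀ a ∈ (S : Subgroup D), (a : G) ∈ T)
    (h : ∀ (t : ℕ), t.Prime → t ≠ s → ∀ b ∈ D, (∃ j : ℕ, orderOf b = t ^ j) → b ∈ T) : D ≤ T := by
  refine le_of_prime_power fun t ht b hb hbj => ?_
  by_cases hts : t = s
  swap
  · exact h t ht hts b hb hbj
  suffices htop : T.subgroupOf D = ⊤ from subgroupOf_eq_top.1 htop hb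
  refine index_eq_one.1 (not_not.1 fun hne => ?_)
  obtain ⟨q, hq, hqd⟩ := Nat.exists_prime_and_dvd hne
  haveI := Fact.mk hq
  by_cases hqs : q = s
  · subst hqs
    exact S.not_dvd_index (hqd.trans (index_dvd_of_le fun a ha => mem_subgroupOf.2 (hS a ha)))
  · obtain ⟨P⟩ : Nonempty (Sylow q D) := inferInstance
    refine P.not_dvd_index (hqd.trans (index_dvd_of_le fun a ha => mem_subgroupOf.2 (h q hq hqs a a.2 ?_)))
    obtain ⟨j, hj⟩ := IsPGroup.iff_orderOf.1 P.2 ⟨a, ha⟩
    exact ⟨j, by rwa [orderOf_mk, ← orderOf_coe] at hj⟩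

theorem centralizes_normal [Group.IsSolvable G] (hodd : Odd (Nat.card G)) {K : Subgroup G} [K.Normal] {x : G}
    {r : ℕ} [Fact r.Prime] (hx : orderOf x = r) (hKr : (Nat.card K).Coprime r) (hgen : K ⊔ zpowers x = ⊤)
    (hfix : Cfsg.fittingOf K ⊓ centralizer ({x} : Set G) = ⊥) {q : ℕ} [Fact q.Prime] :
    ∀ (n : ℕ) (W : Subgroup G), Nat.card W = n → W.Normal → W ≤ Cfsg.fittingOf K → IsPGroup q W →
      ∀ d ∈ ⁅K, zpowers x⁆, (orderOf d).Coprime q → d ∈ centralizer (W : Set G) := by
  intro n
  induction n using Nat.strongRecOn with | ind n ih => ?_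
  intro W hn hWn hWF hWq d hd hdq
  subst hn
  by_cases hW1 : W = ⊥
  · rw [hW1]
    exact mem_centralizer_iff.2 fun v hv => by rw [mem_bot.1 hv]; simp
  haveI := hWn
  obtain ⟨M, ⟨hMn, hMW⟩, hMmax⟩ := (Set.toFinite {M : Subgroup G | M.Normal ∧ M < W}).exists_maximalFor id
    _ ⟨⊥, inferInstance, bot_lt_iff_ne_bot.2 hW1⟩
  haveI := hMn
  have hWK : W ≤ K := hWF.trans (map_subtype_le _)
  have hMc := ih _ (CfsgLib.Solvable.card_lt_of_lt hMW) M rfl hMn (hMW.le.trans hWF) (hWq.to_le hMW.le) d hd hdq
  let f := QuotientGroup.mk' M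
  have hf : Function.Surjective f := QuotientGroup.mk'_surjective M
  set V := W.map f with hV
  haveI hVn : V.Normal := hWn.map f hf
  have hV1 : V ≠ ⊥ := fun h => hMW.not_ge (by
    rwa [hV, Subgroup.map_eq_bot_iff, QuotientGroup.ker_mk'] at h)
  have hmin : ∀ U : Subgroup (G ⧸ M), U.Normal → U ≤ V → U = ⊥ ∨ U = V := by
    intro U hU hUV
    have hle : U.comap f ≤ W := by
      refine (comap_mono hUV).trans ?_
      rw [comap_map_eq, QuotientGroup.ker_mk']
      exact sup_le le_rfl hMW.le
    by_cases he : U.comap f = W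
    · exact Or.inr (by rw [hV, ← he, map_comap_eq_self_of_surjective hf])
    refine Or.inl ?_
    have hge : M ≤ U.comap f := by
      conv_lhs => rw [← QuotientGroup.ker_mk' M]
      exact ker_le_comap _ _
    have heq : U.comap f ≤ M := hMmax ⟨hU.comap f, lt_of_le_of_ne hle he⟩ hge
    rw [← map_comap_eq_self_of_surjective hf U, Subgroup.map_eq_bot_iff, QuotientGroup.ker_mk']
    exact heq
  haveI : Group.IsSolvable (G ⧸ M) := Group.isSolvable_of_surjective hf
  have hVq : IsPGroup q V := hWq.map f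
  have hVel : Cfsg.IsElementaryAbelian q V := by
    obtain ⟨hc, s, hs, hpow, -⟩ := CfsgLib.Solvable.minimal_normal_elementary hV1 hmin inferInstance
    refine ⟨hc, fun v hv => ?_⟩
    have hsq : s = q := by
      obtain ⟨w, hw, hw1⟩ := (bot_or_exists_ne_one V).resolve_left hV1
      obtain ⟨j, hj⟩ := IsPGroup.iff_orderOf.1 hVq ⟨w, hw⟩
      rw [orderOf_mk] at hj
      have hd' : orderOf w ∣ s := orderOf_dvd_of_pow_eq_one (hpow w hw)
      rcases (Nat.dvd_prime hs).1 hd' with h | h
      · exact absurd (orderOf_eq_one_iff.1 h) hw1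
      · exact (Nat.prime_dvd_prime_iff_eq hs Fact.out).1 (hs.dvd_of_dvd_pow (dvd_of_eq (h.symm.trans hj)))
    exact hsq ▸ hpow v hv
  have hqK : q ∣ Nat.card K := ((hWq.card_eq_or_dvd).resolve_left fun h => hW1 (eq_bot_of_card_eq _ h)).trans
    (card_dvd_of_le hWK)
  have hrq : r ≠ q := fun h => (Fact.out : r.Prime).one_lt.ne'
    (Nat.eq_one_of_dvd_coprimes hKr (h ▸ hqK) dvd_rfl)
  have hr2 : r ≠ 2 := fun h => (Nat.not_even_iff_odd.2 hodd)
    (even_iff_two_dvd.2 (h ▸ hx ▸ orderOf_dvd_natCard x))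
  have hxM : x ∉ M := fun h => (Fact.out : r.Prime).one_lt.ne' (Nat.eq_one_of_dvd_coprimes hKr
    (hx ▸ K.orderOf_dvd_natCard (hWK (hMW.le h))) dvd_rfl)
  have hfx : orderOf (f x) = r := orderOf_eq_prime (by rw [← map_pow, ← hx, pow_orderOf_eq_one, map_one])
    fun h => hxM ((QuotientGroup.eq_one_iff x).1 h)
  haveI : (K.map f).Normal := Subgroup.Normal.map inferInstance f hf
  have hfixV : V ⊓ centralizer ({f x} : Set (G ⧸ M)) = ⊥ := by
    refine (eq_bot_iff_forall _).2 ?_
    rintro _ ⟨⟨w, hw, rfl⟩, hwc⟩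
    have hxn : zpowers x ≤ normalizer (W : Set G) := by rw [normalizer_eq_top]; exact le_top
    have hxc : (Nat.card (zpowers x)).Coprime (Nat.card W) := by
      rw [Nat.card_zpowers, hx]
      exact (hKr.coprime_dvd_left (card_dvd_of_le hWK)).symm
    obtain ⟨c, hc, hwc'⟩ := CfsgLib.CoprimeAct.exists_centralizing_mem_coset hxn hxc hMW.le
      (by rw [normalizer_eq_top]; exact le_top) (Or.inl inferInstance) hw fun a ha => by
        refine (QuotientGroup.eq_one_iff _).1 (show f (w⁻¹ * (a * w * a⁻¹)) = 1 from ?_)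
        obtain ⟨i, rfl⟩ := mem_zpowers_iff.1 ha
        have hcomm : Commute (f w) (f x) := mem_centralizer_singleton_iff.1 hwc
        rw [map_mul, map_mul, map_mul, map_inv, map_inv, map_zpow, (hcomm.zpow_right i).symm.eq,
          mul_inv_cancel_right, inv_mul_cancel]
    have hc1 : c ∈ Cfsg.fittingOf K ⊓ centralizer ({x} : Set G) :=
      ⟨hWF hc.1, FixedLine.centralizer_zpowers_le x hc.2⟩
    rw [hfix, mem_bot] at hc1
    rw [hc1, mul_one] at hwc'
    exact (QuotientGroup.eq_one_iff w).2 (inv_mem_iff.1 hwc')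
  have hnorm : ∀ (T : Subgroup (G ⧸ M)) (S : Subgroup (G ⧸ M)) [S.Normal], T ≤ normalizer (S : Set (G ⧸ M)) :=
    fun T S _ => by rw [normalizer_eq_top]; exact le_top
  have hgen' : K.map f ⊔ zpowers (f x) = ⊤ := by
    rw [← MonoidHom.map_zpowers, ← Subgroup.map_sup, hgen, map_top_of_surjective f hf]
  have hcen := Fpf.commutator_centralizes hr2 hrq hVel hfx (hnorm (zpowers (f x)) V (mem_zpowers _)) hfixV
    (K := K.map f) (hodd.of_dvd_nat ((card_subgroup_dvd_card _).trans M.card_quotient_dvd_card))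
    (hKr.coprime_dvd_left (card_map_dvd _ _)) (hnorm _ V) (hnorm (zpowers (f x)) (K.map f) (mem_zpowers _))
    (Or.inr fun U hU hKU hxU => hmin U (normalizer_eq_top_iff.1 (top_le_iff.1 (hgen'.ge.trans
      (sup_le hKU (zpowers_le.2 hxU))))) hU)
  have hfd : f d ∈ centralizer (V : Set (G ⧸ M)) := by
    refine hcen ?_
    rw [← MonoidHom.map_zpowers, ← map_commutator]
    exact mem_map_of_mem f hd
  have hdn : zpowers d ≤ normalizer (W : Set G) := by rw [normalizer_eq_top]; exact le_top
  have hdc : (Nat.card (zpowers d)).Coprime (Nat.card W) := by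
    obtain ⟨j, hj⟩ := IsPGroup.iff_card.1 hWq
    rw [Nat.card_zpowers, hj]
    exact hdq.pow_right j
  refine mem_centralizer_iff.2 fun w hw => ?_
  obtain ⟨c, hc, hwc⟩ := CfsgLib.CoprimeAct.exists_centralizing_mem_coset hdn hdc hMW.le
    (by rw [normalizer_eq_top]; exact le_top) (Or.inl inferInstance) (show w ∈ W from hw) fun a ha => by
      refine (QuotientGroup.eq_one_iff _).1 (show f (w⁻¹ * (a * w * a⁻¹)) = 1 from ?_)
      obtain ⟨i, rfl⟩ := mem_zpowers_iff.1 ha
      have hcomm : Commute (f w) (f d) := mem_centralizer_iff.1 hfd (f w) (mem_map_of_mem f hw)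
      rw [map_mul, map_mul, map_mul, map_inv, map_inv, map_zpow, (hcomm.zpow_right i).symm.eq,
        mul_inv_cancel_right, inv_mul_cancel]
  have hcd : Commute c d := mem_centralizer_singleton_iff.1 (FixedLine.centralizer_zpowers_le d hc.2)
  have hmd : Commute (w⁻¹ * c) d := mem_centralizer_iff.1 hMc _ hwc
  have hwd : Commute (c * (w⁻¹ * c)⁻¹) d := hcd.mul_left hmd.inv_left
  simpa [mul_assoc] using hwd.eq

theorem commutator_le_fitting [Group.IsSolvable G] (hodd : Odd (Nat.card G)) {K : Subgroup G} [K.Normal] {x : G}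
    {r : ℕ} [Fact r.Prime] (hx : orderOf x = r) (hKr : (Nat.card K).Coprime r) (hgen : K ⊔ zpowers x = ⊤)
    (hfix : Cfsg.fittingOf K ⊓ centralizer ({x} : Set G) = ⊥) : ⁅K, zpowers x⁆ ≤ Cfsg.fittingOf K := by
  set D := ⁅K, zpowers x⁆ with hD
  have hDK : D ≤ K := le_normalizer_iff_commutator_le_left.1 (by rw [normalizer_eq_top]; exact le_top)
  set F := Cfsg.fittingOf K with hF
  let Oq : ℕ → Subgroup G := fun q => (Cfsg.pCore q K).map K.subtype
  have hOn : ∀ q : ℕ, (Oq q).Normal := fun q => by
    haveI := PLenZ.characteristic_pCore (X := K) q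
    exact inferInstance
  have hOF : ∀ q : ℕ, q.Prime → Oq q ≤ F := fun q hq => by
    haveI := Fact.mk hq
    exact map_mono (CfsgLib.Solvable.pCore_le_fittingSubgroup q)
  have hcen : ∀ (q : ℕ), q.Prime → ∀ d ∈ D, (orderOf d).Coprime q → d ∈ centralizer (Oq q : Set G) := by
    intro q hq
    haveI := Fact.mk hq
    exact centralizes_normal hodd hx hKr hgen hfix _ (Oq q) rfl (hOn q) (hOF q hq)
      ((CfsgLib.Solvable.isPGroup_pCore q).map _)
  have hFsup : ∀ T : Subgroup G, (∀ q : ℕ, q.Prime → Oq q ≤ T) → F ≤ T := by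
    intro T hT
    rw [hF, fittingOf, CfsgLib.Solvable.fittingSubgroup_eq_iSup_pCore, Subgroup.map_iSup]
    exact iSup_le fun q => hT q q.2
  haveI hDn : (D.subgroupOf K).Normal :=
    (normal_subgroupOf_iff_le_normalizer hDK).2 (normalizer_commutator_ge_left _ _)
  set C := D ⊓ centralizer (F : Set G) with hC
  haveI hFn : F.Normal := by
    haveI hnF : Group.IsNilpotent (Cfsg.fittingSubgroup K) := CfsgLib.Solvable.isNilpotent_fittingSubgroup
    haveI : (Cfsg.fittingSubgroup K).Characteristic := characteristic_iff_map_le.2 fun φ =>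
      CfsgLib.Solvable.le_fittingSubgroup (Subgroup.Normal.map inferInstance _ φ.surjective)
        (Group.nilpotent_of_mulEquiv ((Cfsg.fittingSubgroup K).equivMapOfInjective φ.toMonoidHom φ.injective))
    rw [hF, fittingOf]
    exact inferInstance
  have hCF : C ≤ F := by
    intro c hc
    refine ⟨⟨c, hDK hc.1⟩, CfsgLib.Fitting.centralizer_fittingSubgroup_le_of_solvable
      (mem_centralizer_iff.2 fun y hy => Subtype.ext ?_), rfl⟩
    exact mem_centralizer_iff.1 hc.2 y ⟨y, hy, rfl⟩
  have hDC : D ≤ normalizer (C : Set G) := fun g hg => by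
    refine Uniq.mem_normalizer_of_map_le ?_
    rintro _ ⟨c, hc, rfl⟩
    exact ⟨D.mul_mem (D.mul_mem hg hc.1) (D.inv_mem hg),
      ((normal_centralizer (H := F))).conj_mem c hc.2 g⟩
  have hnil : Group.IsNilpotent D := by
    refine ((Group.isNilpotent_of_finite_tfae (G := D)).out 0 3).2 ?_
    intro s hs S
    haveI := hs
    set S' := (S : Subgroup D).map D.subtype
    have hS'D : S' ≤ D := map_subtype_le _
    have hselem : ∀ a ∈ S', ∀ q : ℕ, q.Prime → q ≠ s → (orderOf a).Coprime q := by
      intro a ha q hq hne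
      obtain ⟨j, hj⟩ := IsPGroup.iff_orderOf.1 (S.2.map D.subtype) ⟨a, ha⟩
      rw [orderOf_mk] at hj
      rw [hj]
      exact ((Nat.coprime_primes hs.out hq).2 hne.symm).pow_left j
    have hCS : C ≤ normalizer (S' : Set G) := by
      refine le_of_prime_power fun t ht c hc ⟨j, hj⟩ => ?_
      haveI := Fact.mk ht
      by_cases hts : t = s
      · subst hts
        refine le_normalizer ?_
        haveI hCn : (C.subgroupOf D).Normal := (normal_subgroupOf_iff_le_normalizer inf_le_left).2 hDC
        haveI : IsMulCommutative (C.subgroupOf D) := ⟨⟨fun u v => Subtype.ext (Subtype.ext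
          (mem_centralizer_iff.1 v.2.2 _ (hCF u.2)))⟩⟩
        obtain ⟨P, hP⟩ := (IsPGroup.of_card (n := j) (p := t) (by
          rw [Nat.card_zpowers, ← hj]
          exact (orderOf_injective (D.subtype.comp (C.subgroupOf D).subtype)
            (D.subtype_injective.comp (Subgroup.subtype_injective _)) _).symm) :
          IsPGroup t (zpowers (⟨⟨c, hc.1⟩, hc⟩ : C.subgroupOf D))).exists_le_sylow
        haveI : (P : Subgroup (C.subgroupOf D)).Normal := inferInstance
        haveI := Sylow.characteristic_of_normal P inferInstance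
        have hle : (P : Subgroup (C.subgroupOf D)).map (C.subgroupOf D).subtype ≤ (S : Subgroup D) := by
          obtain ⟨g, hg⟩ := MulAction.exists_smul_eq D
            (Classical.choose ((P.2.map (C.subgroupOf D).subtype).exists_le_sylow)) S
          have hT := Classical.choose_spec ((P.2.map (C.subgroupOf D).subtype).exists_le_sylow)
          intro y hy
          have hy' : g⁻¹ * y * g ∈ (P : Subgroup (C.subgroupOf D)).map (C.subgroupOf D).subtype := by
            have := (inferInstance : ((P : Subgroup (C.subgroupOf D)).map (C.subgroupOf D).subtype).Normal).conj_mem y hy g⁻¹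
            simpa using this
          rw [← hg, Sylow.coe_subgroup_smul]
          have := smul_mem_pointwise_smul _ (MulAut.conj g) _ (hT hy')
          simpa [mul_assoc] using this
        exact ⟨⟨c, hc.1⟩, hle ⟨⟨⟨c, hc.1⟩, hc⟩, hP (mem_zpowers _), rfl⟩, rfl⟩
      · have hcO : c ∈ Oq t := by
          obtain ⟨y, hy, he⟩ := hCF hc
          exact ⟨y, CfsgLib.FGSA.RankTwoSolvable.mem_pCore_of_mem_fitting ht (j := j)
            (by rw [← orderOf_coe, ← hj, ← he]; rfl) hy, he⟩
        refine centralizer_le_normalizer _ (mem_centralizer_iff.2 fun a ha => ?_)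
        exact (mem_centralizer_iff.1 (hcen t ht a (hS'D ha) (hselem a ha t ht hts)) c hcO).symm
    have hSn : D ≤ normalizer (S' : Set G) := by
      refine le_of_sylow S (fun a ha => le_normalizer (show (a : G) ∈ S' from ⟨a, ha, rfl⟩))
        fun t ht hts b hb ⟨j, hj⟩ => ?_
      haveI := Fact.mk ht
      have hbS : ∀ a ∈ S', b * a * b⁻¹ ∈ C ⊔ S' := by
        intro a ha
        have hz : b * a * b⁻¹ * a⁻¹ ∈ C := by
          refine ⟨D.mul_mem (D.mul_mem (D.mul_mem hb (hS'D ha)) (D.inv_mem hb)) (D.inv_mem (hS'D ha)), ?_⟩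
          refine le_centralizer_iff.1 (hFsup (centralizer ((zpowers (b * a * b⁻¹ * a⁻¹) : Subgroup G) : Set G))
            fun q hq => le_centralizer_iff.1 (zpowers_le.2 ?_)) (mem_zpowers _)
          haveI := hOn q
          have hn := (normal_centralizer (H := Oq q))
          by_cases hqs : q = s
          · have hb' := hcen q hq b hb (hj ▸ ((Nat.coprime_primes ht hq).2 (hqs ▸ hts)).pow_left j)
            rw [mul_assoc, mul_assoc]
            exact mul_mem hb' (by simpa [mul_assoc] using hn.conj_mem _ (inv_mem hb') a)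
          · have ha' := hcen q hq a (hS'D ha) (hselem a ha q hq hqs)
            exact mul_mem (hn.conj_mem _ ha' b) (inv_mem ha')
        have := mul_mem (mem_sup_left hz : _ ∈ C ⊔ S') (mem_sup_right ha)
        rwa [inv_mul_cancel_right] at this
      -- `S'` is the only Sylow subgroup of `C ⊔ S'`
      refine Uniq.mem_normalizer_of_map_le ?_
      rintro _ ⟨a, ha, rfl⟩
      set J := C ⊔ S'
      haveI hn : (S'.subgroupOf J).Normal :=
        (normal_subgroupOf_iff_le_normalizer le_sup_right).2 (sup_le hCS le_normalizer)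
      have hJD : J ≤ D := sup_le inf_le_left hS'D
      have hidx : ¬ (s : ℕ) ∣ (S'.subgroupOf J).index := by
        intro hd
        refine S.not_dvd_index (hd.trans ?_)
        show S'.relIndex J ∣ _
        rw [show (S : Subgroup D).index = S'.relIndex D from ?_]
        · exact Dvd.intro _ (relIndex_mul_relIndex _ _ _ le_sup_right hJD)
        · rw [relIndex, ← comap_subtype, comap_map_eq_self_of_injective D.subtype_injective]
      let P : Sylow s J := ((S.2.map D.subtype).comap_subtype (K := J)).toSylow hidx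
      haveI : (P : Subgroup J).Normal := hn
      haveI := Sylow.unique_of_normal P inferInstance
      obtain ⟨i, hi⟩ := IsPGroup.iff_orderOf.1 (S.2.map D.subtype) ⟨a, ha⟩
      rw [orderOf_mk] at hi
      obtain ⟨T, hT⟩ := (IsPGroup.of_card (n := i) (p := s) (by
        rw [Nat.card_zpowers, orderOf_mk, ← hi]
        exact (MulAut.conj b).orderOf_eq a) :
        IsPGroup s (zpowers (⟨b * a * b⁻¹, hbS a ha⟩ : J))).exists_le_sylow
      rw [Subsingleton.elim T P] at hT
      exact hT (mem_zpowers _)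
    have e : (S : Subgroup D) = S'.subgroupOf D := (comap_map_eq_self_of_injective D.subtype_injective _).symm
    rw [e]
    exact (normal_subgroupOf_iff_le_normalizer hS'D).2 hSn
  rw [← map_subgroupOf_eq_of_le hDK]
  exact map_mono (CfsgLib.Solvable.le_fittingSubgroup hDn
    (Group.nilpotent_of_mulEquiv (subgroupOfEquivOfLe hDK).symm))

end CfsgLib.OddLocal.PrimeFit
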