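import Cfsg.Agent.OddLocal.SigmaBasic
import Cfsg.Agent.FGSB.OrderPFix

/-!
Centralizers of `α(M)'`-subgroups meeting `M_α` in rank two.
-/

set_option autoImplicit false
set_option linter.style.haveILetI false
set_option linter.unusedSectionVars false

namespace CfsgLib.OddLocal.Sig

open Subgroup Cfsg CfsgLib.OddLocal

universe u

variable {G : Type u} [Group G] [Finite G]

theorem exists_member {p : ℕ} [Fact p.Prime] (hG : Cfsg.IsMinSimpleOddOrder G) {P E C : Subgroup G}
    (hP : IsPGroup p P) (hP3 : ¬ Cfsg.PRankLE p 2 P) (hEP : E ≤ P) (hE : Cfsg.IsElementaryAbelian p E)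
    (hE2 : Nat.card E = p ^ 2) {X : Subgroup G} (hXP : X ≤ normalizer (P : Set G)) (hX : (Nat.card X).Coprime p)
    (hEX : E ≤ centralizer (X : Set G)) (hC : P ⊓ centralizer (X : Set G) ≤ C) :
    ∃ L : Subgroup G, L ≤ C ∧ L ≤ P ∧ Cfsg.InUniqueMaximal L := by
  have hp : p.Prime := Fact.out
  by_cases h3 : Cfsg.PRankLE p 2 ↥(centralizer (E : Set G))
  swap
  · obtain ⟨B, hB, hBe, hBc⟩ := Uniq.exists_elementary h3
    have hB3 : ¬ Cfsg.PRankLE p 2 B := fun h => by
      have h1 := Uniq.rankLE_elementary h le_rfl hBe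
      rw [hBc] at h1
      exact absurd h1 (not_le.2 (Nat.pow_lt_pow_right hp.one_lt (by norm_num)))
    exact ⟨E, (le_inf hEP hEX).trans hC, hEP,
      Uniq.connect hG (CfsgLib.Signalizer.isPGroup hBe) hB3 (UThm.rank_three_unique hG (CfsgLib.Signalizer.isPGroup hBe) hB3)
        hBe.1 (CfsgLib.Signalizer.isPGroup hE) (CfsgLib.Signalizer.not_isCyclic hE hE2.ge) h3⟩
  have hp2 : p ≠ 2 := CfsgLib.CN.MinSimple.p_ne_two hG
    (dvd_trans (hE2 ▸ dvd_pow_self p (by norm_num)) E.card_subgroup_dvd_card)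
  -- `X` centralizes the elements of order `p` of `C_P(E)`
  set D := P ⊓ centralizer (E : Set G) with hD
  have hXD : X ≤ normalizer (D : Set G) :=
    (le_inf hXP ((le_centralizer_iff.1 hEX).trans ((centralizer_le_normalizer _).trans
      (TH.normalizer_le_normalizer_centralizer E)))).trans inf_normalizer_le_normalizer_inf
  have hDX : D ≤ centralizer (X : Set G) := by
    intro d hd
    refine mem_centralizer_iff.2 fun x hx => ?_
    refine (CfsgLib.OrderPFix.commute_of_commute_small (hP.to_le inf_le_left)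
      (hX.coprime_dvd_left (X.orderOf_dvd_natCard hx)) (hXD hx) (fun t ht hsmall => ?_) d hd).eq
    have htE : t ∈ E := by
      by_contra htE
      have hte : Cfsg.IsElementaryAbelian p (zpowers t) := CfsgLib.Thompson.elab_zpowers (by
        rcases hsmall with h | ⟨h, -⟩
        · rw [← h, pow_orderOf_eq_one]
        · exact absurd h hp2)
      have hsup := CfsgLib.Thompson.elab_sup hE hte fun a ha => mem_centralizer_iff.2 fun b hb => by
        obtain ⟨i, rfl⟩ := mem_zpowers_iff.1 hb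
        have hat : Commute a t := mem_centralizer_iff.1 ht.2 a ha
        exact (hat.zpow_right i).eq.symm
      have hle : E ⊔ zpowers t ≤ centralizer (E : Set G) :=
        sup_le (le_centralizer_iff_isMulCommutative.2 hE.1) (zpowers_le.2 ht.2)
      have h1 := Uniq.rankLE_elementary h3 hle hsup
      exact htE ((eq_of_le_of_card_ge (le_sup_left : E ≤ E ⊔ zpowers t) (hE2 ▸ h1)).ge (mem_sup_right (mem_zpowers t)))
    exact mem_centralizer_iff.1 (hEX htE) x hx
  have hbot := CfsgLib.CoprimeAct.p_times_q_aux _ p E X P rfl (CfsgLib.Signalizer.isPGroup hE) hX hP hEX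
    (hEP.trans le_normalizer) hXP hDX
  have hPC : P ≤ centralizer (X : Set G) := by
    rw [commutator_eq_bot_iff_le_centralizer] at hbot
    exact hbot
  exact ⟨P, (le_inf le_rfl hPC).trans hC, le_rfl, UThm.rank_three_unique hG hP hP3⟩

/-- `C_M(X)` lies only in `M` if `X` is an `α(M)'`-subgroup with `C(X)` of rank two in `M_α`. -/
theorem centralizer_unique (hG : Cfsg.IsMinSimpleOddOrder G) {M : Subgroup G} (hM : IsCoatom M)
    {X : Subgroup G} (hXM : X ≤ M) (hXα : ∀ p : ℕ, p.Prime → p ∣ Nat.card X → p ∉ Cfsg.alpha M)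
    (hr : ¬ Cfsg.RankLE 1 ↥(Cfsg.alphaCore M ⊓ Subgroup.centralizer (X : Set G))) :
    Cfsg.InUniqueMaximal (M ⊓ Subgroup.centralizer (X : Set G)) := by
  haveI : Group.IsSolvable M := hG.2.2.2 M hM.1
  unfold Cfsg.RankLE at hr
  push Not at hr
  obtain ⟨p, hp, hr⟩ := hr
  haveI := Fact.mk hp
  obtain ⟨E, hE, hEe, hEc⟩ := Uniq.exists_elementary hr
  obtain ⟨hαh, -, -⟩ := alpha_core hG hM
  obtain ⟨hEα, hEX⟩ := le_inf_iff.1 hE
  have hpα : p ∈ Cfsg.alpha M := hαh.2.1 p hp ((dvd_pow_self p (by norm_num)).trans (hEc ▸ card_dvd_of_le hEα))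
  have hXn : X ≤ normalizer (Cfsg.alphaCore M : Set G) := hXM.trans (TH.le_normalizer_core M)
  have hcop : (Nat.card X).Coprime (Nat.card (Cfsg.alphaCore M)) :=
    Nat.coprime_of_dvd fun r hr h1 h2 => hXα r hr h1 (hαh.2.1 r hr h2)
  have hαle : Cfsg.alphaCore M ≤ M := map_subtype_le _
  haveI hXs : Group.IsSolvable X := hG.2.2.2 X (ne_top_of_le_ne_top hM.1 hXM)
  obtain ⟨P, hEP, hXP⟩ := CfsgLib.CoprimeAct.exists_invariant_sylow_ge hXn hcop (Or.inl hXs) p hEα
    (CfsgLib.Signalizer.isPGroup hEe) ((le_centralizer_iff.1 hEX).trans (centralizer_le_normalizer _))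
  set P' := (P : Subgroup (Cfsg.alphaCore M)).map (Cfsg.alphaCore M).subtype
  have hP'M : P' ≤ M := (map_subtype_le _).trans hαle
  have hP3 : ¬ Cfsg.PRankLE p 2 P' := by
    obtain ⟨S, hS⟩ := ((P.2.map (Cfsg.alphaCore M).subtype).comap_subtype (K := M)).exists_le_sylow
    have hidx : ¬ p ∣ P'.relIndex M := by
      rw [← relIndex_mul_relIndex P' (Cfsg.alphaCore M) M (map_subtype_le _) hαle]
      intro hd
      rcases (Nat.Prime.dvd_mul hp).1 hd with h | h
      · rw [relIndex, ← comap_subtype, comap_map_eq_self_of_injective (Cfsg.alphaCore M).subtype_injective] at h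
        exact P.not_dvd_index h
      · exact hαh.2.2 p hp hpα h
    have heq : P'.subgroupOf M = (S : Subgroup M) := by
      refine le_antisymm hS ((relIndex_eq_one (H := P'.subgroupOf M)).1 ?_)
      obtain ⟨k, hk⟩ := S.2.index ((P'.subgroupOf M).subgroupOf (S : Subgroup M))
      refine Nat.eq_one_of_dvd_coprimes (((hp.coprime_iff_not_dvd.2 hidx)).pow_left k) hk.dvd ?_
      exact relIndex_dvd_index_of_le hS
    have h := sylow_rank hG hpα.2 S
    rwa [← heq, map_subgroupOf_eq_of_le hP'M] at h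
  obtain ⟨L, hLC, -, hLU⟩ := exists_member hG (P.2.map (Cfsg.alphaCore M).subtype) hP3 hEP hEe hEc hXP
    (Nat.coprime_comm.1 (hp.coprime_iff_not_dvd.2 fun h => hXα p hp h hpα)) hEX
    (C := M ⊓ centralizer (X : Set G)) (inf_le_inf hP'M le_rfl)
  exact Uniq.mono hLU hLC (ne_top_of_le_ne_top hM.1 inf_le_left)

end CfsgLib.OddLocal.Sig
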