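import Cfsg.Agent.OddLocal.CyclicSylowAction
import Cfsg.Agent.OddLocal.PrimeActionFitting
import Cfsg.Agent.Solvable.CoprimeAbelian
import Cfsg.Agent.S1406
import Cfsg.Agent.S1408
import Cfsg.Agent.S1409

/-!
A prime common to `σ(M)` and `σ(H)` forbids the primes of `τ₁(M)` in the derived subgroup of `H`.
-/

set_option autoImplicit false
set_option linter.style.haveILetI false
set_option linter.unusedSectionVars false

namespace CfsgLib.OddLocal.Tau

open Subgroup Cfsg CfsgLib.OddLocal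
open scoped commutatorElement Pointwise

universe u

variable {G : Type u} [Group G] [Finite G]

/-- The derived subgroup of a product with a normal factor. -/
theorem derived_le_sup {L N U : Subgroup G} (hNL : N ≤ L) (hUL : U ≤ L) (hn : L ≤ normalizer (N : Set G))
    (hLe : L ≤ N ⊔ U) : ⁅L, L⁆ ≤ N ⊔ ⁅U, U⁆ := by
  haveI : (N.subgroupOf L).Normal := (normal_subgroupOf_iff_le_normalizer hNL).2 hn
  set f := QuotientGroup.mk' (N.subgroupOf L)
  set U₀ := U.subgroupOf L
  have htop : U₀.map f = ⊤ := eq_top_iff.2 fun x _ => by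
    obtain ⟨y, rfl⟩ := QuotientGroup.mk'_surjective (N.subgroupOf L) x
    have hy : (y : G) ∈ U ⊔ N := sup_comm N U ▸ hLe y.2
    obtain ⟨a, ha, b, hb, e⟩ := (CfsgLib.Solvable.mem_sup_of_le_normalizer (hUL.trans hn)).1 hy
    refine ⟨⟨a, hUL ha⟩, ha, ?_⟩
    rw [show y = ⟨a, hUL ha⟩ * ⟨b, hNL hb⟩ from Subtype.ext e.symm, map_mul,
      show f ⟨b, hNL hb⟩ = 1 from (QuotientGroup.eq_one_iff _).2 hb, mul_one]
  have h1 : (commutator L).map f ≤ (⁅U₀, U₀⁆).map f := by
    rw [map_commutator, htop, _root_.commutator_def, map_commutator]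
    exact commutator_mono le_top le_top
  rw [map_le_iff_le_comap, comap_map_eq, QuotientGroup.ker_mk'] at h1
  have h2 := map_mono (f := L.subtype) h1
  rw [_root_.commutator_def, map_commutator, ← MonoidHom.range_eq_map, range_subtype, Subgroup.map_sup,
    map_commutator, map_subgroupOf_eq_of_le hUL, map_subgroupOf_eq_of_le hNL] at h2
  exact h2.trans (sup_comm _ _).le

/-- A prime missing both factors misses the derived subgroup of the product. -/
theorem not_dvd_derived {r : ℕ} (hr : r.Prime) {L N U : Subgroup G} (hNL : N ≤ L) (hUL : U ≤ L)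
    (hn : L ≤ normalizer (N : Set G)) (hLe : L ≤ N ⊔ U) (h1 : ¬ r ∣ Nat.card N)
    (h2 : ¬ r ∣ Nat.card ↥⁅U, U⁆) : ¬ r ∣ Nat.card ↥⁅L, L⁆ := fun h => by
  have h3 := CfsgLib.Solvable.card_sup_mul_card_inf
    (((commutator_le_self U).trans hUL).trans hn : ⁅U, U⁆ ≤ normalizer (N : Set G))
  have h4 : r ∣ Nat.card ↥⁅U, U⁆ * Nat.card N :=
    h3 ▸ ((h.trans (card_dvd_of_le ((derived_le_sup hNL hUL hn hLe).trans (sup_comm _ _).le))).trans (dvd_mul_right _ _))
  rcases hr.dvd_mul.1 h4 with h5 | h5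
  · exact h2 h5
  · exact h1 h5

/-- A coprime subgroup centralizing a full `p`-subgroup lies in `O_{p'}`. -/
theorem le_opc_of_centralizes {p q : ℕ} [Fact p.Prime] [Fact q.Prime] (hqp : q ≠ p) {H S U : Subgroup G}
    (hs : Group.IsSolvable H) (hS : IsPGroup p S) (hSH : S ≤ H) (hSd : ¬ p ∣ S.relIndex H)
    (hU : IsPGroup q U) (hUH : U ≤ H) (hUS : U ≤ centralizer (S : Set G)) : U ≤ Excep.opc p H := by
  haveI := hs
  intro x hx
  refine ⟨⟨x, hUH hx⟩, ?_, rfl⟩
  set O := Cfsg.pPrimeCore p ↥H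
  haveI : O.Normal := CfsgLib.Solvable.pPrimeCore_normal p
  set f := QuotientGroup.mk' O
  have hf : Function.Surjective f := QuotientGroup.mk'_surjective O
  let S₀ : Sylow p H := (hS.comap_subtype (K := H)).toSylow hSd
  have hle : Cfsg.pCore p (H ⧸ O) ≤ (S.subgroupOf H).map f :=
    CfsgLib.CharP.le_sylow_of_le_normalizer (S₀.mapSurjective hf) (CfsgLib.Solvable.isPGroup_pCore p)
      (by haveI : (Cfsg.pCore p (H ⧸ O)).Normal := CfsgLib.Solvable.pCore_normal p; exact le_normalizer_of_normal)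
  have hc : f ⟨x, hUH hx⟩ ∈ centralizer (Cfsg.pCore p (H ⧸ O) : Set (H ⧸ O)) := mem_centralizer_iff.2 fun y hy => by
    obtain ⟨s, hs', rfl⟩ := hle hy
    rw [← map_mul, ← map_mul]
    exact congrArg f (Subtype.ext (mem_centralizer_iff.1 (hUS hx) (s : G) hs'))
  have hmem := Stability.selfCentralizing_quotient hc
  obtain ⟨k, hk⟩ := CfsgLib.Solvable.isPGroup_pCore p ⟨_, hmem⟩
  obtain ⟨j, hj⟩ := hU ⟨x, hx⟩
  have h1 : orderOf (f ⟨x, hUH hx⟩) ∣ p ^ k := orderOf_dvd_of_pow_eq_one (congrArg Subtype.val hk)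
  have h2 : orderOf (f ⟨x, hUH hx⟩) ∣ q ^ j := (orderOf_map_dvd f _).trans
    (orderOf_dvd_of_pow_eq_one (Subtype.ext (show x ^ q ^ j = (1 : G) from congrArg Subtype.val hj)))
  exact (QuotientGroup.eq_one_iff _).1 (orderOf_eq_one_iff.1 (Nat.eq_one_of_dvd_coprimes
    (((Nat.coprime_primes Fact.out Fact.out).2 (Ne.symm hqp)).pow k j) h1 h2))

/-- A fixed-point-free pair moving a `p`-group leaves a fixed elementary subgroup of rank two. -/
theorem exists_rank_two_fixed {p l : ℕ} [hp : Fact p.Prime] [hl : Fact l.Prime] (hp2 : p ≠ 2) (hlp : l ≠ p)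
    {T U : Subgroup G} (hT : IsPGroup p T) {h a : G} (hh : orderOf h = l) (hUT : U ≤ normalizer (T : Set G))
    (hcop : (Nat.card U).Coprime (Nat.card T)) (hhU : h ∈ normalizer (U : Set G))
    (hhT : h ∈ normalizer (T : Set G)) (hnc : U ⊓ centralizer ({h} : Set G) = ⊥) (ha : a ∈ T)
    (hao : orderOf a = p) (haU : U ≤ centralizer ({a} : Set G)) (hah : Commute h a)
    (hmove : ¬ U ≤ centralizer (T : Set G)) :
    ∃ v ∈ U, ∃ B : Subgroup G, B ≤ T ⊓ centralizer ({v * h * v⁻¹} : Set G) ∧ Cfsg.IsElementaryAbelian p B ∧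
      Nat.card B = p ^ 2 := by
  by_contra hall
  obtain ⟨D, hDc, hDe, hfaith⟩ := CfsgLib.FGSA.RankTwoAut.exists_faithful hp2 hT
  set D' := D.map T.subtype with hD'
  have hND : normalizer (T : Set G) ≤ normalizer (D' : Set G) := UTool.normalizer_le_normalizer_map T D hDc
  have hD'T : D' ≤ T := map_subtype_le _
  refine hmove ?_
  have hle : D' ≤ centralizer (U : Set G) := by
    refine FixedLine.le_of_frobenius hlp (hT.to_le hD'T) hh (hUT.trans hND)
      (hcop.coprime_dvd_right (card_dvd_of_le hD'T)) hhU (hND hhT) hnc inf_le_right fun v hv => ?_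
    rintro d ⟨hd, hdc⟩
    by_cases hd1 : d = 1
    · rw [hd1]; exact one_mem _
    have hdo : orderOf d = p := by
      obtain ⟨d', hd', rfl⟩ := hd
      refine orderOf_eq_prime ?_ hd1
      show (T.subtype d') ^ p = 1
      rw [← map_pow, hDe d' hd', map_one]
    have hav : Commute v a := (show Commute v a from mem_centralizer_singleton_iff.1 (haU hv))
    have haC : a ∈ T ⊓ centralizer ({v * h * v⁻¹} : Set G) :=
      ⟨ha, mem_centralizer_singleton_iff.2 ((((hav.mul_left hah).mul_left hav.inv_left)).eq.symm)⟩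
    have hcyc : IsCyclic ↥(T ⊓ centralizer ({v * h * v⁻¹} : Set G)) := by
      by_contra hc
      obtain ⟨B, hB, hBe, hB2⟩ := Uniq.exists_sq hp2 (hT.to_le inf_le_left) hc
      exact hall ⟨v, hv, B, hB, hBe, hB2⟩
    have e : zpowers d = zpowers a := UTool.zpowers_eq_of_cyclic hcyc ⟨hD'T hd, hdc⟩ haC hdo hao
    refine mem_centralizer_iff.2 fun y hy => ?_
    obtain ⟨i, hi⟩ := mem_zpowers_iff.1 (e ▸ mem_zpowers d : d ∈ zpowers a)
    rw [← hi]
    exact ((show Commute y a from mem_centralizer_singleton_iff.1 (haU hy)).zpow_right i).eq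
  intro u hu
  have hf : normalizerMonoidHom T ⟨u, hUT hu⟩ = 1 := by
    refine hfaith _ ?_ fun d hd => Subtype.ext ?_
    · have hpT : p ∣ Nat.card T := by rw [← hao, ← orderOf_mk a ha]; exact orderOf_dvd_natCard _
      refine ((hcop.coprime_dvd_right hpT).coprime_dvd_left ?_)
      refine (orderOf_map_dvd (normalizerMonoidHom T) _).trans ?_
      rw [orderOf_mk, ← orderOf_mk u hu]
      exact orderOf_dvd_natCard _
    · show u * (d : G) * u⁻¹ = d
      exact mul_inv_eq_iff_eq_mul.2 (mem_centralizer_iff.1 (hle (mem_map_of_mem T.subtype hd)) u hu)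
  refine mem_centralizer_iff.2 fun x hx => ?_
  have := congrArg Subtype.val (DFunLike.congr_fun hf ⟨x, hx⟩)
  exact (mul_inv_eq_iff_eq_mul.1 this).symm

variable (hG : Cfsg.IsMinSimpleOddOrder G)
include hG

/-- Two independent fixed points in `H_α` force rank two. -/
theorem rank_two_of_fixed {p l : ℕ} [Fact p.Prime] [hl : Fact l.Prime] {H B : Subgroup G} (hH : IsCoatom H)
    {n : G} (hn : orderOf n = l) (hnH : n ∈ H) (hlσ : l ∉ Cfsg.sigma H) (hB : Cfsg.IsElementaryAbelian p B)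
    (hB2 : Nat.card B = p ^ 2) (hBle : B ≤ Cfsg.alphaCore H ⊓ centralizer ({n} : Set G)) :
    ¬ Cfsg.PRankLE l 1 H := by
  have hXc : Nat.card (zpowers n) = l := by rw [Nat.card_zpowers, hn]
  have hle : Cfsg.alphaCore H ⊓ centralizer ({n} : Set G) ≤ Cfsg.alphaCore H ⊓ centralizer (zpowers n : Set G) :=
    inf_le_inf_left _ (FixedLine.le_centralizer_zpowers le_rfl)
  have hu := Cfsg.Agent.S1406.result hG H hH (zpowers n) (zpowers_le.2 hnH)
    (fun r hr hd h => hlσ ((Nat.prime_dvd_prime_iff_eq hr hl.out).1 (hXc ▸ hd) ▸ Sig.alpha_subset_sigma hG hH h))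
    (fun h => absurd (Uniq.rankLE_elementary (h p Fact.out) (hBle.trans hle) hB)
      (by rw [hB2]; exact not_le.2 (Nat.pow_lt_pow_right (Fact.out : p.Prime).one_lt one_lt_two)))
  have hN : normalizer (zpowers n : Set G) ≤ H :=
    Uniq.le_of_uniq hu hH inf_le_left (Excep.normalizer_line_ne_top hG hXc)
      (inf_le_right.trans (centralizer_le_normalizer _))
  exact (Cfsg.Agent.S1409.result hG H hH l hlσ _ hXc hN).1.2

/-- With `q ∈ σ(M) ∩ σ(H)`, a prime outside `σ(M)` prime to `M'` is prime to `H'`. -/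
theorem not_dvd_derived_of_common {p q : ℕ} [hp : Fact p.Prime] [hq : Fact q.Prime] {M H : Subgroup G}
    (hM : IsCoatom M) (hH : IsCoatom H) (hqM : q ∈ Cfsg.sigma M) (hqH : q ∈ Cfsg.sigma H) (hpM : p ∣ Nat.card M)
    (hpσ : p ∉ Cfsg.sigma M) (hpd : ¬ p ∣ Nat.card ↥⁅M, M⁆) : ¬ p ∣ Nat.card ↥⁅H, H⁆ := by
  classical
  intro hpH'
  obtain ⟨T₀, hT₀M, hN₀⟩ := Sig.exists_sylow hqM
  obtain ⟨TG, hTH, hNH⟩ := Sig.exists_sylow hqH
  obtain ⟨c, hc⟩ := MulAction.exists_smul_eq G T₀ TG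
  set T := (TG : Subgroup G) with hTdef
  have hT : IsPGroup q T := TG.2
  have hTd : ¬ q ∣ T.index := TG.not_dvd_index
  have hT1 : T ≠ ⊥ := Sig.sylow_ne_bot hqH TG
  have hTc : T = (T₀ : Subgroup G).map (MulAut.conj c).toMonoidHom := by
    rw [hTdef, ← hc, Sylow.coe_subgroup_smul, CfsgLib.SZ.conj_smul_eq_map]
  set M₁ := M.map (MulAut.conj c).toMonoidHom with hM₁def
  have hM₁ : IsCoatom M₁ := Uniq.coatom_conj hM c
  have hcd : ¬ p ∣ Nat.card ↥⁅M₁, M₁⁆ := by
    rwa [hM₁def, ← map_commutator, card_map_of_injective (f := (MulAut.conj c).toMonoidHom) (MulAut.conj c).injective]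
  have hHM : H ≠ M₁ := fun e => hcd (e ▸ hpH')
  have hNe : normalizer (T : Set G) = (normalizer ((T₀ : Subgroup G) : Set G)).map (MulAut.conj c).toMonoidHom := by
    rw [hTc]
    exact (map_equiv_normalizer_eq _ _).symm
  set N := normalizer (T : Set G) with hNdef
  have hNM₁ : N ≤ M₁ := hNe.le.trans (map_mono hN₀)
  have hTM₁ : T ≤ M₁ := le_normalizer.trans hNM₁
  have hTN : T ≤ N := le_normalizer
  have hqαH : q ∉ Cfsg.alpha H := fun h =>
    hHM (Uniq.eq_of (UThm.rank_three_unique hG hT (Excep.rank_of_full hT hTd h)) hH hTH hM₁ hTM₁)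
  have hqαM : q ∉ Cfsg.alpha M := fun h => hHM (Uniq.eq_of (UThm.rank_three_unique hG hT
    (Excep.rank_of_full hT hTd h)) hH hTH hM₁ hTM₁)
  have hTab : IsMulCommutative T := by
    by_contra h
    exact hHM (Uniq.eq_of (nonabelian_unique hG hT h) hH hTH hM₁ hTM₁)
  have hpN : p ∣ Nat.card N := by
    rw [hNe, card_map_of_injective (f := (MulAut.conj c).toMonoidHom) (MulAut.conj c).injective]
    have hTK : (T₀ : Subgroup G) ≤ Cfsg.sigmaCore M :=
      Excep.le_sigmaCore hG hM hT₀M (Excep.primes_of_pgroup T₀.2 hqM)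
    have hfr := Excep.frattini_le (map_subtype_le _) (TH.le_normalizer_core M) hTK T₀.2
      fun h => T₀.not_dvd_index (h.trans (Dvd.intro _ (relIndex_mul_index hTK)))
    have h1 := CfsgLib.Solvable.card_sup_mul_card_inf
      ((inf_le_left : M ⊓ normalizer ((T₀ : Subgroup G) : Set G) ≤ M).trans
        (TH.le_normalizer_core (σ := Cfsg.sigma M) M))
    have h2 : p ∣ Nat.card ↥(M ⊓ normalizer ((T₀ : Subgroup G) : Set G)) * Nat.card (Cfsg.sigmaCore M) :=
      h1 ▸ ((hpM.trans (card_dvd_of_le (hfr.trans (sup_comm _ _).le))).trans (dvd_mul_right _ _))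
    rcases hp.out.dvd_mul.1 h2 with h | h
    · exact h.trans (card_dvd_of_le inf_le_right)
    · exact absurd ((Sig.sigma_core hG hM).1.2.1 p hp.out h) hpσ
  have hN' : ¬ p ∣ Nat.card ↥⁅N, N⁆ := fun h => hcd (h.trans (card_dvd_of_le (commutator_mono hNM₁ hNM₁)))
  have hTHd : ¬ q ∣ T.relIndex H := fun h => hTd (h.trans (Dvd.intro _ (relIndex_mul_index hTH)))
  have hfrα := frattini_alpha hG hH hqH hT hTH hTHd
  have hαn : H ≤ normalizer (Cfsg.alphaCore H : Set G) := TH.le_normalizer_core H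
  have hαH : Cfsg.alphaCore H ≤ H := map_subtype_le _
  have hdU : ¬ p ∣ Nat.card ↥⁅H ⊓ N, H ⊓ N⁆ := fun h =>
    hN' (h.trans (card_dvd_of_le (commutator_mono inf_le_right inf_le_right)))
  by_cases hpα : p ∈ Cfsg.alpha H
  swap
  · exact not_dvd_derived hp.out hαH inf_le_left hαn hfrα
      (fun h => hpα ((Sig.alpha_core hG hH).1.2.1 p hp.out h)) hdU hpH'
  have hp2 : p ≠ 2 := CfsgLib.CN.MinSimple.p_ne_two hG (hpM.trans M.card_subgroup_dvd_card)
  have hqp : q ≠ p := fun e => hqαH (e ▸ hpα)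
  have hHs : Group.IsSolvable H := hG.2.2.2 H hH.1
  have hTα : T ⊓ Cfsg.alphaCore H = ⊥ := disjoint_iff.1 (disjoint_of_coprime_natCard
    (Excep.coprime_of_pgroup hT fun h => hqαH ((Sig.alpha_core hG hH).1.2.1 q hq.out h)))
  set O := Excep.opc p H with hO
  have hOn : H ≤ normalizer (O : Set G) := Excep.le_normalizer_opc p H
  suffices hTO : T ≤ O by
    have hfr := Excep.frattini_le (Excep.opc_le p H) hOn hTO hT
      fun h => hTd (h.trans (Dvd.intro _ (relIndex_mul_index hTO)))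
    exact not_dvd_derived hp.out (Excep.opc_le p H) inf_le_left hOn hfr
      (hp.out.coprime_iff_not_dvd.1 (Excep.opc_coprime p H).symm) hdU hpH'
  -- the elements of `N` centralizing `T` modulo `O`
  let Γ₀ : Subgroup G :=
    { carrier := {n | n ∈ N ∧ ∀ t ∈ T, ⁅t, n⁆ ∈ O}
      one_mem' := ⟨one_mem _, fun t _ => by simp⟩
      mul_mem' := fun {a b} ha hb => ⟨mul_mem ha.1 hb.1, fun t ht => by
        have e : ⁅t, a * b⁆ = ⁅t, a⁆ * (a * ⁅t, b⁆ * a⁻¹) := by
          simp only [commutatorElement_def]; group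
        rw [e]
        exact mul_mem (ha.2 t ht) ((mem_normalizer_iff.1 (hOn (hNH ha.1)) _).1 (hb.2 t ht))⟩
      inv_mem' := fun {a} ha => ⟨inv_mem ha.1, fun t ht => by
        have e : ⁅t, a⁻¹⁆ = a⁻¹ * (⁅t, a⁆)⁻¹ * a⁻¹⁻¹ := by
          simp only [commutatorElement_def]; group
        rw [e]
        exact (mem_normalizer_iff.1 (hOn (inv_mem (hNH ha.1))) _).1 (inv_mem (ha.2 t ht))⟩ }
  have hkey : ∀ (l : ℕ), l.Prime → ∀ n ∈ N, (∃ j : ℕ, orderOf n = l ^ j) → n ∈ Γ₀ := by
    intro l hl n hn ⟨j, hj⟩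
    refine ⟨hn, fun t ht => ?_⟩
    haveI := Fact.mk hl
    by_cases hn1 : n = 1
    · rw [hn1]; simp
    have hnp : IsPGroup l (zpowers n) := IsPGroup.of_card (n := j) (by rw [Nat.card_zpowers, hj])
    have htn : ⁅t, n⁆ ∈ T := by
      rw [commutatorElement_def]
      have := mul_mem ht ((mem_normalizer_iff.1 hn _).1 (inv_mem ht))
      simpa [mul_assoc] using this
    by_cases hlq : l = q
    · subst hlq
      have hnT : n ∈ T := Excep.le_of_hall hTN le_rfl (zpowers_le.2 hn)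
        (Excep.coprime_of_pgroup hnp fun h => hTd (h.trans (Dvd.intro _ (relIndex_mul_index hTN))))
        (mem_zpowers n)
      have e : ⁅t, n⁆ = 1 := commutatorElement_eq_one_iff_mul_comm.2
        (congrArg Subtype.val (hTab.is_comm.comm ⟨t, ht⟩ ⟨n, hnT⟩))
      rw [e]; exact one_mem _
    have hnH : n ∈ H := hNH hn
    suffices h : ⁅t, n⁆ ∈ Cfsg.alphaCore H ∨ ⁅t, n⁆ ∈ O by
      rcases h with h | h
      · have : ⁅t, n⁆ ∈ T ⊓ Cfsg.alphaCore H := ⟨htn, h⟩
        rw [hTα, mem_bot] at this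
        rw [this]; exact one_mem _
      · exact h
    by_cases hlp : l = p
    · left
      subst hlp
      have hnα : n ∈ Cfsg.alphaCore H := Excep.le_alphaCore hG hH (zpowers_le.2 hnH)
        (Excep.primes_of_pgroup hnp hpα) (mem_zpowers n)
      rw [commutatorElement_def]
      exact mul_mem ((mem_normalizer_iff.1 (hαn (hTH ht)) _).1 hnα) (inv_mem hnα)
    by_cases hlH : l ∈ Cfsg.sigma H
    · exact Or.inl (Excep.commutator_le_alphaCore hG hH (Sig.le_derived hG hH hqH hT hTH)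
        (Sig.le_derived hG hH hlH hnp (zpowers_le.2 hnH))
        (IsPGroup.coprime_card_of_ne q l (Ne.symm hlq) _ _ hT hnp)
        (commutator_mem_commutator ht (mem_zpowers n)))
    by_cases hlM : l ∈ Cfsg.sigma M
    · obtain ⟨n₀, hn₀, rfl⟩ := hNe.le hn
      obtain ⟨t₀, ht₀, rfl⟩ := hTc.le ht
      have hn₀p : IsPGroup l (zpowers n₀) := IsPGroup.of_card (n := j) (by
        rw [Nat.card_zpowers, ← hj]
        exact ((MulAut.conj c).orderOf_eq n₀).symm)
      have h0 : ⁅t₀, n₀⁆ ∈ Cfsg.alphaCore M := Excep.commutator_le_alphaCore hG hM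
        (Sig.le_derived hG hM hqM T₀.2 hT₀M) (Sig.le_derived hG hM hlM hn₀p (zpowers_le.2 (hN₀ hn₀)))
        (IsPGroup.coprime_card_of_ne q l (Ne.symm hlq) _ _ T₀.2 hn₀p)
        (commutator_mem_commutator ht₀ (mem_zpowers n₀))
      have h1 : ⁅t₀, n₀⁆ ∈ (T₀ : Subgroup G) := by
        rw [commutatorElement_def]
        have := mul_mem ht₀ ((mem_normalizer_iff.1 hn₀ _).1 (inv_mem ht₀))
        simpa [mul_assoc] using this
      have h2 : ⁅t₀, n₀⁆ = 1 := mem_bot.1 ((disjoint_iff.1 (disjoint_of_coprime_natCard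
        (Excep.coprime_of_pgroup T₀.2 fun h => hqαM ((Sig.alpha_core hG hM).1.2.1 q hq.out h)))).le ⟨h1, h0⟩)
      left
      rw [← map_commutatorElement, h2, map_one]
      exact one_mem _
    right
    have hl2 : l ≠ 2 := CfsgLib.CN.MinSimple.p_ne_two hG (by
      rcases j with _ | j
      · exact absurd (orderOf_eq_one_iff.1 (by rw [hj, pow_zero])) hn1
      exact ((dvd_pow_self l (Nat.succ_ne_zero j)).trans (hj ▸ orderOf_dvd_natCard n)))
    have hlH' : l ∣ Nat.card H := by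
      refine ((Excep.isPGroup_ne_bot_dvd hnp fun e => hn1 ?_).trans (card_dvd_of_le (zpowers_le.2 hnH)))
      exact zpowers_eq_bot.1 e
    -- `H` has rank one at `l`
    have hr1 : Cfsg.PRankLE l 1 H := by
      by_contra h1
      have h2 : Cfsg.PRankLE l 2 H := by_contra fun h => hlH (Sig.alpha_subset_sigma hG hH ⟨hl, h⟩)
      obtain ⟨B, hBH, hB, hB2⟩ : ∃ B : Subgroup G, B ≤ H ∧ Cfsg.IsElementaryAbelian l B ∧ Nat.card B = l ^ 2 :=
        Uniq.exists_elementary h1
      have hTK : T ≤ Cfsg.sigmaCore H := Excep.le_sigmaCore hG hH hTH (Excep.primes_of_pgroup hT hqH)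
      obtain ⟨g, hgH, hg⟩ := conj_into_of_product (π := {l}) hHs (inf_le_left : H ⊓ N ≤ H) (map_subtype_le _)
        (TH.le_normalizer_core H) (Excep.frattini_le (map_subtype_le _) (TH.le_normalizer_core H) hTK hT
          fun h => hTd (h.trans (Dvd.intro _ (relIndex_mul_index hTK))))
        (fun r hr hrl h => hlH (Set.mem_singleton_iff.1 hrl ▸ (Sig.sigma_core hG hH).1.2.1 r hr h))
        hBH (Excep.primes_of_pgroup (IsPGroup.of_card hB2) rfl)
      have hB' := elementary_map hB (MulAut.conj g).toMonoidHom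
      have hB'2 : Nat.card (B.map (MulAut.conj g).toMonoidHom) = l ^ 2 := by
        rw [card_map_of_injective (f := (MulAut.conj g).toMonoidHom) (MulAut.conj g).injective, hB2]
      have hbot := inter_eq_bot hG hB' hB'2 hH (hg.trans inf_le_left) hlH
        ((Cfsg.Agent.S1408.result hG H hH l hlH h2 h1).2 _ (hg.trans inf_le_left) hB' hB'2)
        hM₁ (Ne.symm hHM) ((hg.trans inf_le_right).trans hNM₁)
      exact hT1 (le_bot_iff.1 (hbot ▸ le_inf hTK hTM₁))
    obtain ⟨i, rfl⟩ : ∃ i, j = i + 1 := ⟨j - 1, (Nat.succ_pred_eq_of_ne_zero fun h0 =>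
      hn1 (orderOf_eq_one_iff.1 (by rw [h0, pow_zero] at hj; exact hj))).symm⟩
    set n₁ := n ^ l ^ i with hn₁def
    have hn₁o : orderOf n₁ = l := by
      rw [hn₁def, orderOf_pow' _ (pow_ne_zero _ hl.ne_zero), hj,
        Nat.gcd_eq_right (pow_dvd_pow l (Nat.le_succ i)), pow_succ, Nat.mul_div_cancel_left _ (pow_pos hl.pos _)]
    have hn₁N : n₁ ∈ N := pow_mem hn _
    obtain ⟨E, hE, hnE⟩ := exists_complement_of hG hH (zpowers_le.2 hnH)
      (fun r hr hd => (Excep.primes_of_pgroup (π := {l}) hnp rfl r hr hd : r = l) ▸ hlH)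
    obtain ⟨S₀, hS₀⟩ := (hnp.comap_subtype (K := E)).exists_le_sylow
    set S := (S₀ : Subgroup E).map E.subtype
    have hnS : n ∈ S := by
      rw [show S = _ from rfl]
      exact ⟨⟨n, hnE (mem_zpowers n)⟩, hS₀ (mem_zpowers n : n ∈ zpowers n), rfl⟩
    have hlE : l ∣ Nat.card E := by
      refine ((Excep.isPGroup_ne_bot_dvd hnp fun e => hn1 ?_).trans (card_dvd_of_le hnE))
      exact zpowers_eq_bot.1 e
    have hSc : IsCyclic S := ((S₀ : Subgroup E).equivMapOfInjective E.subtype E.subtype_injective).isCyclic.1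
      (Compl.cyclic_sylow hG hE hlE hr1 S₀.2)
    have hact := cyclic_action hG hH hE (S₀.2.map _) (map_subtype_le _) (by
      rw [relIndex, ← comap_subtype, comap_map_eq_self_of_injective E.subtype_injective]
      exact S₀.not_dvd_index) hSc (pow_mem hnS _) hn₁o
    have hcopT : (Nat.card (zpowers n₁)).Coprime (Nat.card T) := IsPGroup.coprime_card_of_ne l q hlq _ _
      (IsPGroup.of_card (n := 1) (by rw [Nat.card_zpowers, hn₁o, pow_one])) hT
    set U := ⁅T, zpowers n₁⁆ with hUdef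
    have hn₁T : zpowers n₁ ≤ normalizer (T : Set G) := zpowers_le.2 hn₁N
    have hUT : U ≤ T := le_normalizer_iff_commutator_le_left.1 hn₁T
    suffices hUO : U ≤ O by
      obtain ⟨z, hz, d, hd, rfl⟩ := CfsgLib.CoprimeAct.exists_mul_of_mem hn₁T hcopT
        (Or.inl (hG.2.2.2 _ (ne_top_of_le_ne_top hH.1 (zpowers_le.2 (hNH hn₁N))))) ht
      have hTK : T ≤ Cfsg.sigmaCore H := Excep.le_sigmaCore hG hH hTH (Excep.primes_of_pgroup hT hqH)
      have hdn : Commute d n := (mem_centralizer_iff.1 (hact ⟨hTK hd.1, mem_centralizer_singleton_iff.2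
        ((mem_centralizer_iff.1 hd.2 n₁ (mem_zpowers n₁)).symm)⟩) n hnS).symm
      have e : ⁅z * d, n⁆ = z * ⁅d, n⁆ * z⁻¹ * ⁅z, n⁆ := by simp only [commutatorElement_def]; group
      rw [e, commutatorElement_eq_one_iff_mul_comm.2 hdn.eq, mul_one, mul_inv_cancel, one_mul, commutatorElement_def]
      have := mul_mem (hUO hz) ((mem_normalizer_iff.1 (hOn hnH) _).1 (inv_mem (hUO hz)))
      simpa [mul_assoc] using this
    have hUn₁ : n₁ ∈ normalizer (U : Set G) :=
      normalizer_commutator_ge_right T (zpowers n₁) (mem_zpowers n₁)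
    have hnc : U ⊓ centralizer ({n₁} : Set G) = ⊥ := by
      haveI := hTab
      refine le_bot_iff.1 (le_trans ?_ (CfsgLib.CoprimeAct.fixed_inf_commutator_abelian hn₁T hcopT).le)
      exact le_inf (le_inf (inf_le_left.trans hUT) (inf_le_right.trans (FixedLine.le_centralizer_zpowers le_rfl))) inf_le_left
    set C := Cfsg.alphaCore H ⊓ centralizer (T : Set G) with hC
    have hpC : p ∣ Nat.card C := by
      obtain ⟨a, ha⟩ := exists_prime_orderOf_dvd_card' p hpN
      have haα : (a : G) ∈ Cfsg.alphaCore H := Excep.le_alphaCore hG hH (zpowers_le.2 (hNH a.2))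
        (Excep.primes_of_pgroup (IsPGroup.of_card (n := 1) (by rw [Nat.card_zpowers, orderOf_coe, ha, pow_one])) hpα)
        (mem_zpowers _)
      have haC : (a : G) ∈ C := ⟨haα, mem_centralizer_iff.2 fun y hy => by
        have h1 : ⁅y, (a : G)⁆ ∈ T ⊓ Cfsg.alphaCore H := by
          refine ⟨?_, ?_⟩ <;> rw [commutatorElement_def]
          · have := mul_mem hy ((mem_normalizer_iff.1 a.2 _).1 (inv_mem hy))
            simpa [mul_assoc] using this
          · exact (Cfsg.alphaCore H).mul_mem ((mem_normalizer_iff.1 (hαn (hTH hy)) _).1 haα)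
              ((Cfsg.alphaCore H).inv_mem haα)
        rw [hTα, mem_bot, commutatorElement_eq_one_iff_mul_comm] at h1
        exact h1⟩
      rw [← ha, ← orderOf_coe, ← orderOf_mk (a : G) haC]
      exact orderOf_dvd_natCard _
    have hlC : ¬ l ∣ Nat.card C := fun h => hlH (Sig.alpha_subset_sigma hG hH
      ((Sig.alpha_core hG hH).1.2.1 l hl (h.trans (card_dvd_of_le inf_le_left))))
    have hn₁p : IsPGroup l (zpowers n₁) := IsPGroup.of_card (n := 1) (by rw [Nat.card_zpowers, hn₁o, pow_one])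
    have hn₁C : zpowers n₁ ≤ normalizer (C : Set G) := (le_inf ((zpowers_le.2 (hNH hn₁N)).trans hαn)
      (hn₁T.trans (TH.normalizer_le_normalizer_centralizer _))).trans inf_normalizer_le_normalizer_inf
    obtain ⟨Y, -, hYC, hY, hn₁Y, hYd⟩ := Excep.exists_inv_sylow (t := p) hn₁C
      (Excep.coprime_of_pgroup hn₁p hlC)
      (Or.inl (hG.2.2.2 _ (ne_top_of_le_ne_top hH.1 (zpowers_le.2 (hNH hn₁N))))) bot_le IsPGroup.of_bot
      le_normalizer_of_normal
    have hY1 : Y ≠ ⊥ := fun e => hYd (by rw [e, relIndex_bot_left]; exact hpC)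
    have hYT : Y ≤ centralizer (T : Set G) := hYC.trans inf_le_right
    have hYn : Y ≤ centralizer (zpowers n₁ : Set G) := by
      refine commutator_eq_bot_iff_le_centralizer.1 (by_contra fun hb => hN' ?_)
      exact (Excep.isPGroup_ne_bot_dvd (hY.to_le (le_normalizer_iff_commutator_le_left.1 hn₁Y)) hb).trans
        (card_dvd_of_le (commutator_mono (hYT.trans (centralizer_le_normalizer _)) hn₁T))
    obtain ⟨a, ha⟩ := exists_prime_orderOf_dvd_card' p (Excep.isPGroup_ne_bot_dvd hY hY1)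
    have hUY : U ≤ centralizer (Y : Set G) := hUT.trans (le_centralizer_iff.1 hYT)
    set Γ := U ⊔ zpowers n₁
    have hΓH : Γ ≤ H := sup_le (hUT.trans hTH) (zpowers_le.2 (hNH hn₁N))
    have hΓY : Γ ≤ normalizer (Y : Set G) := sup_le (hUY.trans (centralizer_le_normalizer _)) hn₁Y
    have hΓc : (Nat.card Γ).Coprime (Nat.card (Cfsg.alphaCore H)) := by
      refine Nat.coprime_of_dvd fun r hr h1 h2 => ?_
      have h3 := CfsgLib.Solvable.card_sup_mul_card_inf (zpowers_le.2 hUn₁ : zpowers n₁ ≤ normalizer (U : Set G))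
      have h4 : r ∣ Nat.card (zpowers n₁) * Nat.card U :=
        h3 ▸ ((h1.trans (card_dvd_of_le (sup_comm U (zpowers n₁)).le)).trans (dvd_mul_right _ _))
      have hrα := (Sig.alpha_core hG hH).1.2.1 r hr h2
      rcases hr.dvd_mul.1 h4 with h | h
      · exact hlH ((Excep.primes_of_pgroup (π := {l}) hn₁p rfl r hr h : r = l) ▸ Sig.alpha_subset_sigma hG hH hrα)
      · exact hqαH ((Excep.primes_of_pgroup (π := {q}) (hT.to_le hUT) rfl r hr h : r = q) ▸ hrα)
    obtain ⟨S', hYS, hS'K, hS', hΓS, hS'd⟩ := Excep.exists_inv_sylow (t := p) (hΓH.trans hαn) hΓc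
      (Or.inl (hG.2.2.2 Γ (ne_top_of_le_ne_top hH.1 hΓH))) (hYC.trans inf_le_left) hY hΓY
    have hS'H : ¬ p ∣ S'.relIndex H := fun h => by
      rw [← relIndex_mul_relIndex S' _ H hS'K hαH] at h
      rcases hp.out.dvd_mul.1 h with h' | h'
      · exact hS'd h'
      · exact (Sig.alpha_core hG hH).1.2.2 p hp.out hpα h'
    by_cases hUS : U ≤ centralizer (S' : Set G)
    · exact le_opc_of_centralizes hqp hHs hS' (hS'K.trans hαH) hS'H (hT.to_le hUT) (hUT.trans hTH) hUS
    exfalso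
    obtain ⟨v, hv, B, hB, hBe, hB2⟩ := exists_rank_two_fixed hp2 hlp hS' hn₁o (le_sup_left.trans hΓS)
      (IsPGroup.coprime_card_of_ne q p hqp _ _ (hT.to_le hUT) hS') hUn₁ (hΓS (mem_sup_right (mem_zpowers n₁)))
      hnc (hYS a.2) (by rw [orderOf_coe, ha])
      (fun x hx => mem_centralizer_singleton_iff.2 ((mem_centralizer_iff.1 (hUY hx) a a.2).symm))
      (mem_centralizer_iff.1 (hYn a.2) n₁ (mem_zpowers n₁)) hUS
    exact rank_two_of_fixed hG hH (n := v * n₁ * v⁻¹) (((MulAut.conj v).orderOf_eq n₁).trans hn₁o)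
      (mul_mem (mul_mem (hTH (hUT hv)) (hNH hn₁N)) (inv_mem (hTH (hUT hv)))) hlH hBe hB2
      (hB.trans (inf_le_inf_right _ hS'K)) hr1
  have hNΓ : N ≤ Γ₀ := PrimeFit.le_of_prime_power hkey
  have hTNO : ⁅T, N⁆ ≤ O := commutator_le.2 fun t ht n hn => (hNΓ hn).2 t ht
  refine le_trans ?_ hTNO
  -- `T` lies in the derived subgroup of `N`
  have hT' : T ≤ ⁅N, N⁆ := by
    haveI : ((Cfsg.alphaCore H).subgroupOf H).Normal := (normal_subgroupOf_iff_le_normalizer hαH).2 hαn
    have hKU : (Cfsg.alphaCore H).subgroupOf H ⊔ N.subgroupOf H = ⊤ := by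
      rw [← subgroupOf_sup hαH hNH]
      exact subgroupOf_eq_top.2 (hfrα.trans (sup_le_sup_left inf_le_right _))
    intro t ht
    have h1 := Supp.inf_commutator_le (G := H) hKU (H := T.subgroupOf H) (fun x hx => hTN hx) (by
      rw [Nat.card_congr (subgroupOfEquivOfLe hTH).toEquiv, Nat.card_congr (subgroupOfEquivOfLe hαH).toEquiv]
      exact Excep.coprime_of_pgroup hT fun h => hqαH ((Sig.alpha_core hG hH).1.2.1 q hq.out h))
    obtain ⟨y, hy, hye⟩ : t ∈ (commutator H).map H.subtype :=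
      (map_subtype_commutator H).symm ▸ Sig.le_derived hG hH hqH hT hTH ht
    have h2 := mem_map_of_mem H.subtype (h1 ⟨(show (y : G) ∈ T by rw [show (y : G) = t from hye]; exact ht : y ∈ T.subgroupOf H), hy⟩)
    rw [map_commutator, map_subgroupOf_eq_of_le hNH, hye] at h2
    exact h2
  haveI : (T.subgroupOf N).Normal := (normal_subgroupOf_iff_le_normalizer hTN).2 le_rfl
  obtain ⟨L₀, hL₀⟩ := exists_right_complement'_of_coprime (N := T.subgroupOf N) (by
    rw [Nat.card_congr (subgroupOfEquivOfLe hTN).toEquiv]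
    exact Excep.coprime_of_pgroup hT fun h => hTd (h.trans (Dvd.intro _ (relIndex_mul_index hTN))))
  set L := L₀.map N.subtype
  have hLN : L ≤ N := map_subtype_le _
  have hdec : ∀ y ∈ N, ∃ t ∈ T, ∃ l ∈ L, y = t * l := by
    intro y hy
    obtain ⟨⟨⟨t, ht⟩, ⟨l, hl⟩⟩, e⟩ := hL₀.2 ⟨y, hy⟩
    exact ⟨(t : G), ht, (l : G), mem_map_of_mem _ hl, (congrArg Subtype.val e).symm⟩
  set Z := ⁅T, N⁆ with hZ
  set W := Z ⊔ ⁅L, L⁆ with hW
  have hWN : W ≤ N := sup_le (commutator_le.2 fun a ha b hb => by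
      rw [commutatorElement_def]; exact mul_mem (mul_mem (mul_mem (hTN ha) hb) (inv_mem (hTN ha))) (inv_mem hb))
    ((commutator_le_self L).trans hLN)
  have hconj : ∀ t ∈ T, ∀ w ∈ W, t * w * t⁻¹ ∈ W := fun t ht w hw => by
    have e : t * w * t⁻¹ = ⁅t, w⁆ * w := by rw [commutatorElement_def]; group
    rw [e]
    exact mul_mem (mem_sup_left (commutator_mem_commutator ht (hWN hw))) hw
  have hder : ⁅N, N⁆ ≤ W := commutator_le.2 fun x hx y hy => by
    obtain ⟨t, ht, l, hl, rfl⟩ := hdec x hx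
    have h1 : ⁅t, y⁆ ∈ W := mem_sup_left (commutator_mem_commutator ht hy)
    have h2 : ⁅l, y⁆ ∈ W := by
      obtain ⟨t', ht', l', hl', rfl⟩ := hdec y hy
      have e : ⁅l, t' * l'⁆ = ⁅t', l⁆⁻¹ * (t' * ⁅l, l'⁆ * t'⁻¹) := by simp only [commutatorElement_def]; group
      rw [e]
      exact mul_mem (inv_mem (mem_sup_left (commutator_mem_commutator ht' (hLN hl))))
        (hconj _ ht' _ (mem_sup_right (commutator_mem_commutator hl hl')))
    have e : ⁅t * l, y⁆ = t * ⁅l, y⁆ * t⁻¹ * ⁅t, y⁆ := by simp only [commutatorElement_def]; group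
    rw [e]
    exact mul_mem (hconj _ ht _ h2) h1
  have hZT : Z ≤ T := le_normalizer_iff_commutator_le_left.1 le_rfl
  intro t ht
  have h1 : t ∈ Z ⊔ L := (sup_le_sup_left (commutator_le_self L) Z) (hder (hT' ht))
  obtain ⟨l, hl, z, hz, e⟩ := (CfsgLib.Solvable.mem_sup_of_le_normalizer
    (hLN.trans (normalizer_commutator_ge_right T N) : L ≤ normalizer (Z : Set G))).1 (sup_comm Z L ▸ h1)
  have hlT : l ∈ T := by
    rw [show l = t * z⁻¹ by rw [← e]; group]
    exact mul_mem ht (inv_mem (hZT hz))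
  obtain ⟨l₀, hl₀, rfl⟩ := hl
  have hl1 : l₀ = 1 := mem_bot.1 (hL₀.disjoint.le_bot ⟨hlT, hl₀⟩)
  rw [← e, hl1, map_one, one_mul]
  exact hz

end CfsgLib.OddLocal.Tau
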