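import Cfsg.Agent.OddLocal.SigmaPrimeAbelian
import Cfsg.Agent.PLocal.OddPGroup

/-!
Elements of order `p` of `M`, `p ∈ σ(M)`, with uniqueness of the maximal subgroup above their centralizer.
-/

set_option autoImplicit false
set_option linter.style.haveILetI false
set_option linter.unusedSectionVars false

namespace CfsgLib.OddLocal.Tau

open Subgroup Cfsg CfsgLib.OddLocal
open scoped commutatorElement Pointwise

universe u

variable {G : Type u} [Group G] [Finite G] {p : ℕ} [hp : Fact p.Prime]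

/-- A `p`-group modulo a normal subgroup of order `p` centralizes each normal subgroup of order `p` there. -/
theorem commutator_mem_line {P W L : Subgroup G} (hP : IsPGroup p P) (hW2 : Nat.card W = p ^ 2)
    (hWP : P ≤ normalizer (W : Set G)) (hWsub : W ≤ P) (hL : Nat.card L = p) (hLW : L ≤ W)
    (hPL : P ≤ normalizer (L : Set G)) {h w : G} (hh : h ∈ P) (hw : w ∈ W) : ⁅h, w⁆ ∈ L := by
  classical
  haveI : (L.subgroupOf P).Normal := (normal_subgroupOf_iff_le_normalizer (hLW.trans hWsub)).2 hPL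
  let f : P →* P ⧸ L.subgroupOf P := QuotientGroup.mk' _
  set Wb := (W.subgroupOf P).map f with hWb
  have hWbn : Wb.Normal := by
    haveI : (W.subgroupOf P).Normal := (normal_subgroupOf_iff_le_normalizer hWsub).2 hWP
    exact Subgroup.Normal.map inferInstance f (QuotientGroup.mk'_surjective _)
  have hWbc : Nat.card Wb = p := by
    have h1 := Subgroup.relIndex_ker (f := f) (W.subgroupOf P)
    rw [QuotientGroup.ker_mk'] at h1
    have h2 := CfsgLib.InvariantHall.relIndex_mul_card
      (show L.subgroupOf P ≤ W.subgroupOf P from fun x hx => hLW hx)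
    rw [h1, Nat.card_congr (subgroupOfEquivOfLe (hLW.trans hWsub)).toEquiv,
      Nat.card_congr (subgroupOfEquivOfLe hWsub).toEquiv, hL, hW2, pow_two] at h2
    exact Nat.eq_of_mul_eq_mul_left hp.out.pos h2
  have hcen := le_centralizer_of_line (P := (⊤ : Subgroup (P ⧸ L.subgroupOf P)))
    ((hP.of_surjective f (QuotientGroup.mk'_surjective _)).to_subgroup ⊤) hWbc
    (by haveI := hWbn; rw [normalizer_eq_top])
  have hc := mem_centralizer_iff.1 (hcen (mem_top (f ⟨h, hh⟩))) _
    (mem_map_of_mem f (show (⟨w, hWsub hw⟩ : P) ∈ W.subgroupOf P from hw))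
  have h1 : f ⁅(⟨h, hh⟩ : P), ⟨w, hWsub hw⟩⁆ = 1 := by
    rw [map_commutatorElement, commutatorElement_eq_one_iff_mul_comm]
    exact hc.symm
  have h2 : ⁅(⟨h, hh⟩ : P), ⟨w, hWsub hw⟩⁆ ∈ L.subgroupOf P := (QuotientGroup.eq_one_iff _).1 h1
  exact h2

/-- In a `p`-group of rank at least three, an element of order `p` of the derived subgroup has centralizer of
rank at least three. -/
theorem rank_centralizer_derived (hp2 : p ≠ 2) {P X : Subgroup G} (hP : IsPGroup p P)
    (hr : ¬ Cfsg.PRankLE p 2 P) (hX : Nat.card X = p) (hXP : X ≤ ⁅P, P⁆) :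
    ¬ Cfsg.PRankLE p 2 ↥(P ⊓ centralizer (X : Set G)) := by
  classical
  have hnc : ¬ IsCyclic P := fun hc => hr fun E _ hEe => by
    haveI := hc
    exact (PLenZ.card_le_of_cyclic_exp inferInstance hEe).trans (Nat.le_self_pow two_ne_zero p)
  obtain ⟨W₀, -, hW₀n, ⟨hW₀c, hW₀e⟩, hW₀card⟩ :=
    CfsgLib.OddPGroup.exists_normal_elementary hp2 hP (⊤ : Subgroup P) inferInstance
      (fun h => hnc (Subgroup.topEquiv.isCyclic.mp h))
  set W := W₀.map P.subtype with hWdef
  have hWP : W ≤ P := map_subtype_le _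
  have hW2 : Nat.card W = p ^ 2 := by rw [hWdef, card_map_of_injective P.subtype_injective, hW₀card]
  have hWe : Cfsg.IsElementaryAbelian p W := by
    haveI := hW₀c
    refine ⟨Subgroup.map_isMulCommutative W₀ _, ?_⟩
    rintro _ ⟨x, hx, rfl⟩
    rw [← map_pow, hW₀e x hx, map_one]
  have hWn : P ≤ normalizer (W : Set G) := by
    have h : W.subgroupOf P = W₀ := by
      rw [hWdef, ← comap_subtype, comap_map_eq_self_of_injective P.subtype_injective]
    exact (normal_subgroupOf_iff_le_normalizer hWP).1 (h.symm ▸ hW₀n)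
  obtain ⟨z, hzW, hzo, hzc⟩ := Excep.exists_central_order hP hWP hWn fun e => by
    rw [e, card_bot] at hW2; exact (Nat.one_lt_pow two_ne_zero hp.out.one_lt).ne hW2
  have hz : Nat.card (zpowers z) = p := by rw [Nat.card_zpowers, hzo]
  have hPz : P ≤ normalizer (zpowers z : Set G) := le_trans (fun h hh => mem_centralizer_iff.2 fun y hy => by
    obtain ⟨i, rfl⟩ := mem_zpowers_iff.1 hy
    exact ((hzc h hh).zpow_right i).eq.symm) (centralizer_le_normalizer _)
  have hWab : ∀ a ∈ W, ∀ b ∈ W, Commute a b := fun a ha b hb =>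
    congrArg Subtype.val (hWe.1.is_comm.comm ⟨a, ha⟩ ⟨b, hb⟩)
  obtain ⟨w, hw, hwz⟩ := Excep.exists_not_mem hW2 hz
  have hmem : ∀ h ∈ P, ⁅h, w⁆ ∈ zpowers z := fun h hh =>
    commutator_mem_line hP hW2 hWn hWP hz (zpowers_le.2 hzW) hPz hh hw
  let f : P →* G := MonoidHom.mk' (fun h => ⁅(h : G), w⁆) fun a b => by
    obtain ⟨i, hi⟩ := mem_zpowers_iff.1 (hmem b b.2)
    have hab : Commute (a : G) ⁅(b : G), w⁆ := hi ▸ (hzc a a.2).zpow_right i
    have hca : Commute ⁅(b : G), w⁆ ⁅(a : G), w⁆ :=
      hWab _ (zpowers_le.2 hzW (hmem b b.2)) _ (zpowers_le.2 hzW (hmem a a.2))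
    calc ⁅((a * b : P) : G), w⁆ = (a : G) * ⁅(b : G), w⁆ * (a : G)⁻¹ * ⁅(a : G), w⁆ := by
          rw [Subgroup.coe_mul, commutatorElement_def, commutatorElement_def, commutatorElement_def]; group
      _ = ⁅(a : G), w⁆ * ⁅(b : G), w⁆ := by rw [hab.eq, mul_inv_cancel_right, hca.eq]
  have hker : ∀ h : P, f h = 1 → (h : G) ∈ centralizer (W : Set G) := fun h hh => by
    have h1 : Commute (h : G) w := commutatorElement_eq_one_iff_mul_comm.1 hh
    have hle : W ≤ centralizer ({(h : G)} : Set G) := by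
      rw [← Excep.line_sup hW2 (zpowers_le.2 hzW) hz hw hwz]
      exact sup_le (zpowers_le.2 (mem_centralizer_singleton_iff.2 (hzc h h.2).eq.symm))
        (zpowers_le.2 (mem_centralizer_singleton_iff.2 h1.eq.symm))
    exact mem_centralizer_iff.2 fun y hy => (mem_centralizer_singleton_iff.1 (hle hy))
  have hrange : ∀ a b : P, Commute (f a) (f b) := fun a b =>
    hWab _ (zpowers_le.2 hzW (hmem a a.2)) _ (zpowers_le.2 hzW (hmem b b.2))
  have hder : ⁅P, P⁆ ≤ centralizer (W : Set G) := by
    rw [commutator_le]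
    intro a ha b hb
    refine hker ⁅(⟨a, ha⟩ : P), ⟨b, hb⟩⁆ ?_
    rw [map_commutatorElement, commutatorElement_eq_one_iff_mul_comm]
    exact (hrange _ _).eq
  have hXC : X ≤ centralizer (W : Set G) := hXP.trans hder
  have hXP' : X ≤ P := hXP.trans (commutator_le_self P)
  haveI : IsMulCommutative X := by
    haveI := isCyclic_of_prime_card (α := X) hX
    infer_instance
  have hXe : Cfsg.IsElementaryAbelian p X := by
    refine ⟨inferInstance, fun x hx => ?_⟩
    have h := pow_card_eq_one' (G := X) (x := ⟨x, hx⟩)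
    rw [hX] at h
    exact congrArg Subtype.val h
  haveI := hWe.1
  intro hr2
  by_cases hXW : X ≤ W
  · obtain ⟨Y, hYP, hY, hYc⟩ := Uniq.exists_elementary hr
    let g : Y →* G := f.comp (Subgroup.inclusion hYP)
    have hgle : Nat.card g.range ≤ p := by
      rw [← hz]
      refine card_le_of_le ?_
      rintro _ ⟨y, rfl⟩
      exact hmem y (hYP y.2)
    have hk := g.ker.card_mul_index
    rw [Subgroup.index_ker, hYc] at hk
    set Y' := g.ker.map Y.subtype with hY'
    have hY'c : p ^ 2 ≤ Nat.card Y' := by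
      rw [hY', card_map_of_injective Y.subtype_injective]
      refine Nat.le_of_mul_le_mul_right ?_ hp.out.pos
      calc p ^ 2 * p = Nat.card g.ker * Nat.card g.range := by rw [hk]; ring
        _ ≤ Nat.card g.ker * p := Nat.mul_le_mul_left _ hgle
    have hY'C : Y' ≤ P ⊓ centralizer (W : Set G) := by
      rintro _ ⟨y, hy, rfl⟩
      exact ⟨hYP y.2, hker _ (MonoidHom.mem_ker.1 hy)⟩
    have hY'e : Cfsg.IsElementaryAbelian p Y' := CfsgLib.Signalizer.of_le hY (map_subtype_le _)
    have hle : Y' ⊔ W ≤ P ⊓ centralizer (X : Set G) := by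
      refine sup_le (hY'C.trans (inf_le_inf_left _ (centralizer_le hXW))) (le_inf hWP ?_)
      exact (le_centralizer_iff_isMulCommutative.2 hWe.1).trans (centralizer_le hXW)
    have he := CfsgLib.Thompson.elab_sup hY'e hWe (hY'C.trans inf_le_right)
    have hc := Uniq.rankLE_elementary hr2 hle he
    by_cases hWY : W ≤ Y
    · have hYC : Y ≤ P ⊓ centralizer (X : Set G) := by
        haveI := hY.1
        exact le_inf hYP ((le_centralizer_iff_isMulCommutative.2 hY.1).trans (centralizer_le (hXW.trans hWY)))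
      have := Uniq.rankLE_elementary hr2 hYC hY
      rw [hYc] at this
      exact absurd this (not_le.2 (Nat.pow_lt_pow_right hp.out.one_lt (by norm_num)))
    · have hne : Y' ≠ Y' ⊔ W := fun e => hWY ((le_sup_right.trans e.ge).trans (map_subtype_le _))
      exact absurd hc (not_le.2 (lt_of_le_of_lt hY'c (CfsgLib.Solvable.card_lt_of_lt (lt_of_le_of_ne le_sup_left hne))))
  · have hle : W ⊔ X ≤ P ⊓ centralizer (X : Set G) :=
      sup_le (le_inf hWP (le_centralizer_iff.1 hXC))
        (le_inf hXP' (le_centralizer_iff_isMulCommutative.2 inferInstance))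
    have he := CfsgLib.Thompson.elab_sup hWe hXe (le_centralizer_iff.1 hXC)
    have hc := Uniq.rankLE_elementary hr2 hle he
    have hne : W ≠ W ⊔ X := fun e => hXW (le_sup_right.trans e.ge)
    rw [← hW2] at hc
    exact absurd hc (not_le.2 (CfsgLib.Solvable.card_lt_of_lt (lt_of_le_of_ne le_sup_left hne)))

variable (hG : Cfsg.IsMinSimpleOddOrder G)
include hG

/-- The derived subgroup of a nonabelian Sylow subgroup of rank two is central. -/
theorem derived_central_rank_two (Ps : Sylow p G) (hr : Cfsg.PRankLE p 2 (Ps : Subgroup G))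
    (hna : ¬ IsMulCommutative (Ps : Subgroup G)) {c : G} (hc : c ∈ ⁅(Ps : Subgroup G), (Ps : Subgroup G)⁆)
    {h : G} (hh : h ∈ (Ps : Subgroup G)) : Commute h c := by
  obtain ⟨R₁, hR₁, -, -, hcen, hle⟩ := rank_two_sylow hG Ps hr hna
  exact hcen c (hle hc) h hh

/-- Above the centralizer of suitable elements of order `p` there is only `M`. -/
theorem order_p_unique {M : Subgroup G} (hM : IsCoatom M) (hpσ : p ∈ Cfsg.sigma M) {X : Subgroup G} (hXM : X ≤ M)
    (hX : Nat.card X = p) {P : Subgroup G} (hP : IsPGroup p P) (hPM : P ≤ Cfsg.sigmaCore M)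
    (hPd : ¬ p ∣ P.relIndex (Cfsg.sigmaCore M))
    (h : p ∈ Cfsg.beta M ∨ X ≤ ⁅Cfsg.sigmaCore M, Cfsg.sigmaCore M⁆) :
    (centralizer (X : Set G) ≤ M ∧ ∀ L : Subgroup G, IsCoatom L → centralizer (X : Set G) ≤ L → L = M) ∧
      Cfsg.InUniqueMaximal P := by
  classical
  have hp2 : p ≠ 2 := CfsgLib.CN.MinSimple.p_ne_two hG (hX ▸ X.card_subgroup_dvd_card)
  set K := Cfsg.sigmaCore M with hK
  have hKM : K ≤ M := map_subtype_le _
  have hXp : IsPGroup p X := IsPGroup.of_card (n := 1) (by rw [hX, pow_one])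
  have hXK : X ≤ K := Excep.le_sigmaCore hG hM hXM (Excep.primes_of_pgroup hXp hpσ)
  obtain ⟨S₀, hS₀⟩ := (hXp.comap_subtype (K := K)).exists_le_sylow
  set S := (S₀ : Subgroup K).map K.subtype with hSdef
  have hXS : X ≤ S := by rw [← map_subgroupOf_eq_of_le hXK]; exact map_mono hS₀
  have hSp : IsPGroup p S := S₀.2.map _
  have hSK : S ≤ K := map_subtype_le _
  have hSd : ¬ p ∣ S.index := Excep.index_not_dvd hSK (by
    rw [relIndex, hSdef, ← comap_subtype, comap_map_eq_self_of_injective K.subtype_injective]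
    exact S₀.not_dvd_index) ((Sig.sigma_core hG hM).2.1.2 p hp.out hpσ)
  have hSM : S ≤ M := hSK.trans hKM
  have hPu : Cfsg.InUniqueMaximal S → Cfsg.InUniqueMaximal P := by
    intro hu
    have hd : ¬ p ∣ (P.subgroupOf K).index := hPd
    obtain ⟨c, hc⟩ := MulAction.exists_smul_eq K S₀ ((hP.comap_subtype (K := K)).toSylow hd)
    have e : P = S.map (MulAut.conj (c : G)).toMonoidHom := by
      have h1 : ((c • S₀ : Sylow p K) : Subgroup K) = P.subgroupOf K := congrArg Sylow.toSubgroup hc
      have h2 := congrArg (Subgroup.map K.subtype) h1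
      rw [map_subgroupOf_eq_of_le hPM] at h2
      rw [← h2, hSdef]
      show ((MulAut.conj c • (S₀ : Subgroup K))).map K.subtype = _
      rw [CfsgLib.SZ.conj_smul_map, CfsgLib.SZ.conj_smul_eq_map]
      rfl
    rw [e]
    exact Uniq.conj hu c
  have hfin : ∀ L₀ : Subgroup G, L₀ ≤ centralizer (X : Set G) → L₀ ≤ M → Cfsg.InUniqueMaximal L₀ →
      centralizer (X : Set G) ≤ M ∧ ∀ L : Subgroup G, IsCoatom L → centralizer (X : Set G) ≤ L → L = M := by
    intro L₀ hle hM' hu
    have hX1 : X ≠ ⊥ := fun e => hp.out.ne_one (by rw [← hX, e, card_bot])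
    exact ⟨Uniq.le_of_uniq hu hM hM' (Uniq.centralizer_ne_top hG hX1) hle,
      fun L hL hCL => Uniq.eq_of hu hL (hle.trans hCL) hM hM'⟩
  by_cases hβ : p ∈ Cfsg.beta M
  · have hr : ¬ Cfsg.PRankLE p 2 S := Excep.rank_of_full hSp hSd hβ.1
    refine ⟨?_, hPu (UThm.rank_three_unique hG hSp hr)⟩
    obtain ⟨z, hzS, hzo, hzc⟩ := Excep.exists_central_order hSp le_rfl le_normalizer fun e : S = ⊥ => hr
      fun B _ _ => by
        refine (card_le_card_group B).trans ?_
        rw [e, card_bot]
        exact Nat.one_le_pow _ _ hp.out.pos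
    -- an elementary subgroup of order `p ^ 2` centralizing `X`
    obtain ⟨E, hES, hEX, hE, hE2⟩ : ∃ E : Subgroup G, E ≤ S ∧ E ≤ centralizer (X : Set G) ∧
        Cfsg.IsElementaryAbelian p E ∧ Nat.card E = p ^ 2 := by
      have hnc : ¬ IsCyclic ↥(S ⊓ centralizer (X : Set G)) := fun hc => by
        haveI := hc
        by_cases hzX : z ∈ X
        · have : S ≤ centralizer (X : Set G) := by
            have e : zpowers z = X := eq_of_le_of_card_ge (zpowers_le.2 hzX) (by rw [hX, Nat.card_zpowers, hzo])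
            intro s hs
            rw [← e]
            refine mem_centralizer_iff.2 fun y hy => ?_
            obtain ⟨i, rfl⟩ := mem_zpowers_iff.1 hy
            exact ((hzc s hs).zpow_right i).eq.symm
          refine hr fun B _ hBe => ?_
          haveI : IsCyclic S := by rwa [inf_eq_left.2 this] at hc
          exact (PLenZ.card_le_of_cyclic_exp inferInstance hBe).trans (Nat.le_self_pow two_ne_zero p)
        · obtain ⟨x, hx, hx1⟩ := (bot_or_exists_ne_one X).resolve_left fun e => hp.out.ne_one (by rw [← hX, e, card_bot])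
          haveI : IsCyclic X := isCyclic_of_prime_card hX
          have hxo : orderOf x = p := by
            have h := pow_card_eq_one' (G := X) (x := ⟨x, hx⟩)
            rw [hX] at h
            exact orderOf_eq_prime (congrArg Subtype.val h) hx1
          have hxC : x ∈ S ⊓ centralizer (X : Set G) :=
            ⟨hXS hx, le_centralizer_iff_isMulCommutative.2 inferInstance hx⟩
          have hzC : z ∈ S ⊓ centralizer (X : Set G) :=
            ⟨hzS, mem_centralizer_iff.2 fun y hy => (hzc y (hXS hy)).eq⟩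
          exact hzX ((zpowers_le.2 hx) ((UTool.zpowers_eq_of_cyclic hc hzC hxC hzo hxo).le (mem_zpowers z)))
      obtain ⟨E, hE, hEe, hEc⟩ := Uniq.exists_sq hp2 (hSp.to_le inf_le_left) hnc
      exact ⟨E, hE.trans inf_le_left, hE.trans inf_le_right, hEe, hEc⟩
    obtain ⟨T, hT⟩ := hSp.exists_le_sylow
    obtain ⟨B, -, hB, hlt⟩ := hβ.2.2.2 T E (hES.trans hT) hE hE2
    have hB3 : ¬ Cfsg.PRankLE p 2 B := fun h => absurd (Uniq.rankLE_elementary h le_rfl hB)
      (not_le.2 (hE2 ▸ CfsgLib.Solvable.card_lt_of_lt hlt))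
    have hBC : B ≤ centralizer (E : Set G) := fun b hb => mem_centralizer_iff.2 fun a ha =>
      CfsgLib.Signalizer.commute hB (hlt.le ha) hb
    have hXE : X ≤ centralizer (E : Set G) := le_centralizer_iff.1 hEX
    obtain ⟨L, hL, hCL⟩ := (eq_top_or_exists_le_coatom (centralizer (E : Set G))).resolve_left
      (Uniq.centralizer_ne_top hG (ne_bot hE hE2))
    have hCM := centralizer_le_coatom hG hE hE2 hM (hES.trans hSM)
    have hBu := UThm.rank_three_unique hG (CfsgLib.Signalizer.isPGroup hB) hB3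
    have hBE : B ≤ M := hBC.trans hCM
    -- `E` is unique, hence so is `C(X)`
    have hEu : Cfsg.InUniqueMaximal E := Uniq.connect hG (CfsgLib.Signalizer.isPGroup hB) hB3 hBu hB.1
      (CfsgLib.Signalizer.isPGroup hE) (CfsgLib.Signalizer.not_isCyclic hE hE2.ge)
      (fun h => hB3 (Uniq.rankLE_mono hBC h))
    exact hfin E hEX (hES.trans hSM) hEu
  · have hX' : X ≤ ⁅K, K⁆ := h.resolve_left hβ
    have hpM : p ∣ Nat.card M := hpσ.2.1
    obtain ⟨k, hk⟩ := Beta.npc_index (Beta.npc_sigma hG hM hp.out hpM hβ)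
    set O := Excep.opc p K with hO
    have hsup : K ≤ O ⊔ S := by
      refine (eq_of_le_of_card_ge (sup_le (Excep.opc_le p K) hSK) (Nat.le_of_dvd Nat.card_pos ?_)).ge
      have h1 := CfsgLib.InvariantHall.relIndex_mul_card (Excep.opc_le p K)
      have hdis : S ⊓ O = ⊥ := disjoint_iff.1 (disjoint_of_coprime_natCard (Excep.coprime_of_pgroup hSp
        (hp.out.coprime_iff_not_dvd.1 (Excep.opc_coprime p K).symm)))
      rw [sup_comm, CfsgLib.Solvable.card_sup_of_disjoint (hSK.trans (Excep.le_normalizer_opc p K)) hdis]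
      rw [← h1, mul_comm (Nat.card O)]
      refine Nat.mul_dvd_mul_right ?_ _
      rw [relIndex, Excep.opc_subgroupOf, hk]
      obtain ⟨n, hn⟩ := IsPGroup.iff_card.1 hSp
      rw [hn]
      have h2 := S.card_mul_index
      have h3 : p ^ k ∣ Nat.card G := by
        refine dvd_trans ?_ K.card_subgroup_dvd_card
        rw [← h1, relIndex, Excep.opc_subgroupOf, hk]
        exact dvd_mul_left _ _
      rw [← h2, hn] at h3
      exact (Nat.Coprime.dvd_mul_right ((hp.out.coprime_iff_not_dvd.2 hSd).pow_left k)).1 h3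
    have hXder : X ≤ ⁅S, S⁆ := UTool.le_commutator_of_sup (Excep.le_normalizer_opc p K) (Excep.opc_coprime p K)
      (Excep.opc_le p K) hSK hsup hXp hXS hX'
    have hSna : ¬ IsMulCommutative S := fun hc => hp.out.ne_one (by
      haveI := hc
      have e : ⁅S, S⁆ = ⊥ := commutator_eq_bot_iff_le_centralizer.2 (le_centralizer_iff_isMulCommutative.2 hc)
      have hb : X ≤ ⊥ := e ▸ hXder
      rw [← hX, le_bot_iff.1 hb, card_bot])
    have hSu := nonabelian_unique hG hSp hSna
    refine ⟨?_, hPu hSu⟩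
    by_cases hr : Cfsg.PRankLE p 2 S
    · refine hfin S (fun s hs => mem_centralizer_iff.2 fun x hx => ?_) hSM hSu
      exact (derived_central_rank_two hG (hSp.toSylow hSd) hr hSna (hXder hx) hs).eq.symm
    · exact hfin _ inf_le_right (inf_le_left.trans hSM)
        (UThm.rank_three_unique hG (hSp.to_le inf_le_left) (rank_centralizer_derived hp2 hSp hr hX hXder))

end CfsgLib.OddLocal.Tau
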