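import Cfsg.Agent.OddLocal.KappaDichotomy
import Cfsg.Agent.S1423

/-!
`σ(M)` and `σ(L)` are disjoint for non-conjugate maximal subgroups (BG 13.9).
-/

set_option autoImplicit false
set_option linter.style.haveILetI false
set_option linter.unusedSectionVars false

namespace CfsgLib.OddLocal.Kap

open Subgroup Cfsg CfsgLib.OddLocal
open scoped commutatorElement Pointwise

universe u

variable {G : Type u} [Group G] [Finite G]

variable (hG : Cfsg.IsMinSimpleOddOrder G)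
include hG

theorem tau_two_empty_of_not_nilpotent {M : Subgroup G} (hM : IsCoatom M)
    (hnil : ¬ Group.IsNilpotent (Cfsg.sigmaCore M)) {t : ℕ} : t ∉ Cfsg.tau2 M := fun ht => by
  haveI := Fact.mk ht.1
  obtain ⟨B, hBM, hB, hB2⟩ := Uniq.exists_elementary ht.2.2.2
  exact hnil (Cfsg.Agent.S1417.result hG M hM t ht B ⟨hBM, hB, hB2⟩).1

theorem mem_kappa_of_not_nilpotent {M : Subgroup G} (hM : IsCoatom M)
    (hnil : ¬ Group.IsNilpotent (Cfsg.sigmaCore M)) {t : ℕ} [ht : Fact t.Prime] {u : G} (hu : u ∈ M)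
    (huo : orderOf u = t) (htσ : t ∉ Cfsg.sigma M) : t ∈ Cfsg.kappa M := by
  have hne : Cfsg.sigmaCore M ⊓ centralizer ({u} : Set G) ≠ ⊥ := fun e =>
    hnil (nilpotent_of_fpf hG hM hu huo e)
  obtain ⟨x, hx, hx1⟩ := (bot_or_exists_ne_one _).resolve_left hne
  exact (mem_kappa_or_tau_two hG hM hu huo htσ hx.1 hx1
    (show Commute u x from (mem_centralizer_singleton_iff.1 hx.2).symm)).resolve_right
    (tau_two_empty_of_not_nilpotent hG hM hnil)

omit hG in
theorem sylow_in_meet {M L : Subgroup G} {p : ℕ} [Fact p.Prime] (hpL : p ∈ Cfsg.sigma L) (P : Sylow p G)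
    (hPL : (P : Subgroup G) ≤ L) (hNP : normalizer ((P : Subgroup G) : Set G) ≤ M) :
    normalizer ((P : Subgroup G) : Set G) ≤ M ⊓ L :=
  le_inf hNP (Sig.normalizer_sylow_le hpL P hPL)

/-- The normalizer of a Sylow subgroup for a common prime: no prime outside `σ(M)` lies in `σ(L)`. -/
theorem not_sigma_of_common {M L : Subgroup G} (hM : IsCoatom M) (hL : IsCoatom L)
    (hnc : ∀ g : G, L ≠ M.map (MulAut.conj g).toMonoidHom)
    (hnilM : ¬ Group.IsNilpotent (Cfsg.sigmaCore M)) {p : ℕ} [hp : Fact p.Prime] (P : Sylow p G)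
    (hPM : (P : Subgroup G) ≤ Cfsg.sigmaCore M) (hPL : (P : Subgroup G) ≤ Cfsg.sigmaCore L)
    (hpM : p ∈ Cfsg.sigma M) (hpL : p ∈ Cfsg.sigma L) {t : ℕ} [ht : Fact t.Prime] {u : G}
    (hu : u ∈ M ⊓ normalizer ((P : Subgroup G) : Set G)) (huo : orderOf u = t) (htσ : t ∉ Cfsg.sigma M) :
    t ∉ Cfsg.sigma L := by
  intro htL
  have htp : t ≠ p := fun e => htσ (e ▸ hpM)
  have hβ : p ∉ Cfsg.beta L := fun hβ => by
    obtain ⟨X, hX⟩ := exists_prime_orderOf_dvd_card' (G := (P : Subgroup G)) p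
      (Excep.isPGroup_ne_bot_dvd P.2 (Sig.sylow_ne_bot hpM P))
    have hXo : orderOf (X : G) = p := by rw [orderOf_coe, hX]
    obtain ⟨-, hu', -⟩ := Cfsg.Agent.S1423.result hG L hL p hpL (zpowers (X : G))
      (zpowers_le.2 (map_subtype_le _ (hPL X.2))) (by rw [Nat.card_zpowers, hXo]) (P.subtype hPL) (Or.inl hβ)
    rw [Sylow.coe_subtype, map_subgroupOf_eq_of_le hPL] at hu'
    obtain ⟨g, hg⟩ := eq_conj_of_unique hM hL hpL (R := P) (hPM.trans (map_subtype_le _)) hu'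
    exact hnc g hg
  have huL : u ∈ L := Sig.normalizer_sylow_le hpL P (hPL.trans (map_subtype_le _)) hu.2
  have huK : u ∈ Cfsg.sigmaCore L := mem_core_of_order hG hL (j := 1) huL (by rw [huo, pow_one]) htL
  set K := Cfsg.sigmaCore L
  obtain ⟨k, hk⟩ := Beta.npc_index ((Cfsg.Agent.S1414.result hG L hL).2.2.2.2 p hp.out hpL.2.1 hβ).2.1
  have huO : u ∈ Excep.opc p K :=
    Excep.pgroup_le_opc (IsPGroup.of_card (n := 1) (by rw [Nat.card_zpowers, huo, pow_one]) : IsPGroup t (zpowers u))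
      (zpowers_le.2 huK) (fun h => htp ((Nat.prime_dvd_prime_iff_eq ht.out hp.out).1 (ht.out.dvd_of_dvd_pow (hk ▸ h))))
      (mem_zpowers u)
  obtain ⟨y₀, hy₀⟩ := exists_prime_orderOf_dvd_card' (G := (P : Subgroup G)) p
    (Excep.isPGroup_ne_bot_dvd P.2 (Sig.sylow_ne_bot hpM P))
  obtain ⟨y, hy, hyo⟩ : ∃ y ∈ (P : Subgroup G), orderOf y = p := ⟨y₀, y₀.2, by rw [orderOf_coe, hy₀]⟩
  have hyu : Commute u y := by
    have h1 : u * y * u⁻¹ * y⁻¹ ∈ (P : Subgroup G) ⊓ Excep.opc p K := by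
      refine ⟨(P : Subgroup G).mul_mem ((mem_normalizer_iff.1 hu.2 y).1 hy) ((P : Subgroup G).inv_mem hy), ?_⟩
      rw [show u * y * u⁻¹ * y⁻¹ = u * (y * u⁻¹ * y⁻¹) by group]
      exact (Excep.opc p K).mul_mem huO
        ((mem_normalizer_iff.1 (Excep.le_normalizer_opc p K (hPL hy)) _).1 ((Excep.opc p K).inv_mem huO))
    rw [disjoint_iff.1 (disjoint_of_coprime_natCard (H := (P : Subgroup G)) (K := Excep.opc p K) (by
      obtain ⟨n, hn⟩ := IsPGroup.iff_card.1 P.2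
      rw [hn]; exact ((Excep.opc_coprime p K).symm).pow_left n)), mem_bot, mul_inv_eq_one, mul_inv_eq_iff_eq_mul]
      at h1
    exact h1
  have htκ := mem_kappa_of_not_nilpotent hG hM hnilM hu.1 huo htσ
  obtain ⟨H, hH, huH, hH1⟩ := exists_hall_kappa hG hM hu.1 huo htκ
  obtain ⟨E, U, -, -, -, -, -, -, -, -, hpr, -, q, hq1, a, ha, hao⟩ := kappa_data hG hM hH hH1
  haveI := Fact.mk hq1.1
  have hyH : y ∈ Cfsg.sigmaCore M ⊓ centralizer (H : Set G) :=
    (hpr u huH (fun e => ht.out.ne_one (by rw [← huo, e, orderOf_one]))).le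
      ⟨hPM hy, mem_centralizer_singleton_iff.2 hyu.symm.eq⟩
  exact fixed_not_sigma hG hM hL hnc hq1 (hH.1 ha) hao (hPM hy) hyo
    (show Commute y a from (mem_centralizer_iff.1 hyH.2 a ha).symm) hpL

/-- BG 13.9: maximal subgroups with a common prime in their `σ` are conjugate. -/
theorem conj_of_common {M N : Subgroup G} (hM : IsCoatom M) (hN : IsCoatom N) {p : ℕ} [hp : Fact p.Prime]
    (hpM : p ∈ Cfsg.sigma M) (hpN : p ∈ Cfsg.sigma N) : ∃ g : G, N = M.map (MulAut.conj g).toMonoidHom := by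
  classical
  obtain ⟨P, hPM, hNP⟩ := exists_sylow_core hG hM hpM
  obtain ⟨R, hR, -⟩ := exists_sylow_core hG hN hpN
  obtain ⟨h, hh⟩ := MulAction.exists_smul_eq G R P
  set L := N.map (MulAut.conj h).toMonoidHom with hLdef
  have hL : IsCoatom L := Uniq.coatom_conj hN h
  have hback : ∀ g : G, L = M.map (MulAut.conj g).toMonoidHom → N = M.map (MulAut.conj (h⁻¹ * g)).toMonoidHom := by
    intro g hg
    rw [← Tau.map_conj_comp, ← hg, hLdef, Tau.map_conj_comp, inv_mul_cancel, map_one]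
    exact (map_id N).symm
  by_contra hcon
  push Not at hcon
  have hnc : ∀ g : G, L ≠ M.map (MulAut.conj g).toMonoidHom := fun g hg => hcon _ (hback g hg)
  have hpL : p ∈ Cfsg.sigma L := sigma_map h hpN
  have hPL' : (P : Subgroup G) ≤ L := by
    rw [← hh]
    rintro _ ⟨r, hr, rfl⟩
    exact ⟨r, map_subtype_le _ (hR hr), rfl⟩
  have hPL : (P : Subgroup G) ≤ Cfsg.sigmaCore L :=
    Excep.le_sigmaCore hG hL hPL' (Excep.primes_of_pgroup P.2 hpL)
  have hnL : ¬ Group.IsNilpotent (Cfsg.sigmaCore L) := fun hnil => by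
    obtain ⟨g, hg⟩ := conj_of_common_nilpotent hG hM hL hnil hpL hpM
    exact hnc g hg
  have hnM : ¬ Group.IsNilpotent (Cfsg.sigmaCore M) := fun hnil => by
    obtain ⟨g, hg⟩ := conj_of_common_nilpotent hG hL hM hnil hpM hpL
    refine hnc g⁻¹ ?_
    rw [hg, Tau.map_conj_comp, inv_mul_cancel, map_one]
    exact (map_id L).symm
  have hNML : normalizer ((P : Subgroup G) : Set G) ≤ M ⊓ L := sylow_in_meet hpL P hPL' hNP
  -- primes outside `σ(M)` are seen in the normalizer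
  have hseen : ∀ t : ℕ, t.Prime → t ∉ Cfsg.sigma M → t ∣ Nat.card M →
      ∃ u ∈ M ⊓ normalizer ((P : Subgroup G) : Set G), orderOf u = t := by
    intro t ht htσ htd
    haveI := Fact.mk ht
    set D := M ⊓ normalizer ((P : Subgroup G) : Set G)
    have hle : M ≤ D ⊔ Cfsg.sigmaCore M := by
      rw [sup_comm]
      exact Excep.frattini_le (map_subtype_le _) (TH.le_normalizer_core M) hPM P.2 fun h =>
        P.not_dvd_index (h.trans (Dvd.intro _ (relIndex_mul_index hPM)))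
    have hd : t ∣ Nat.card D * Nat.card (Cfsg.sigmaCore M) := (htd.trans (card_dvd_of_le hle)).trans
      (CfsgLib.Solvable.card_sup_dvd ((inf_le_left : D ≤ M).trans (TH.le_normalizer_core M)))
    obtain ⟨u, hu⟩ := exists_prime_orderOf_dvd_card' (G := D) t
      ((ht.dvd_mul.1 hd).resolve_right (not_dvd_core hG hM ht htσ))
    exact ⟨u, u.2, by rw [orderOf_coe, hu]⟩
  -- some prime outside `σ(M)`
  have hne : ∃ t : ℕ, t.Prime ∧ t ∉ Cfsg.sigma M ∧ t ∣ Nat.card M := by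
    by_contra hno
    push Not at hno
    haveI := solvable_le hG hM (le_refl M)
    haveI : Nontrivial M := Finite.one_lt_card_iff_nontrivial.1 (one_lt_card_coatom hG hM)
    have hle : M ≤ Cfsg.sigmaCore M := Excep.le_sigmaCore hG hM le_rfl fun t ht hd =>
      Classical.byContradiction fun h => hno t ht h hd
    have h1 : M ≤ ⁅M, M⁆ := hle.trans (Sig.sigma_core hG hM).2.2
    have h2 : commutator M = ⊤ := by
      refine eq_top_iff.2 fun x _ => ?_
      have h3 := h1 x.2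
      rw [← map_subtype_commutator] at h3
      obtain ⟨y, hy, e⟩ := h3
      exact M.subtype_injective e ▸ hy
    exact (Group.IsSolvable.commutator_lt_top_of_nontrivial M).ne h2
  obtain ⟨t, ht, htσ, htd⟩ := hne
  haveI := Fact.mk ht
  obtain ⟨u, hu, huo⟩ := hseen t ht htσ htd
  obtain ⟨H, hH, -, hH1⟩ := exists_hall_kappa hG hM hu.1 huo (mem_kappa_of_not_nilpotent hG hM hnM hu.1 huo htσ)
  obtain ⟨E, U, -, -, -, -, -, -, -, -, -, -, q, hq1, -⟩ := kappa_data hG hM hH hH1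
  haveI := Fact.mk hq1.1
  obtain ⟨a, ha, hao⟩ := hseen q hq1.1 hq1.2.1 hq1.2.2.1
  have haL : a ∈ L := (hNML ha.2).2
  have hqL : q ∉ Cfsg.sigma L := fun h => sigma_disjoint_of_tau_one hG hM hL h hq1 hpM hpL
  have hq1L := tau_one_of_common hG hM hL hqL (dvd_of_mem haL hao) hq1 hpM hpL
  obtain ⟨y₁, hy₁, hy₁ne⟩ := (bot_or_exists_ne_one _).resolve_left
    (fun e => hnM (nilpotent_of_fpf hG hM ha.1 hao e))
  obtain ⟨w₁, hw₁, hw₁ne⟩ := (bot_or_exists_ne_one _).resolve_left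
    (fun e => hnL (nilpotent_of_fpf hG hL haL hao e))
  obtain ⟨s, hs, y, hy, hyo, -⟩ := exists_prime_root (H := Cfsg.sigmaCore M ⊓ centralizer ({a} : Set G)) hy₁ hy₁ne
  obtain ⟨l, hl, w, hw, hwo, -⟩ := exists_prime_root (H := Cfsg.sigmaCore L ⊓ centralizer ({a} : Set G)) hw₁ hw₁ne
  haveI := Fact.mk hs
  haveI := Fact.mk hl
  obtain ⟨r, hrL, m, hm, hmo, hma⟩ := junction hG hM hL hq1 hq1L ha.1 haL hao hy.1 hyo
    (mem_centralizer_singleton_iff.1 hy.2) hw.1 hwo (mem_centralizer_singleton_iff.1 hw.2)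
  haveI := Fact.mk hrL.1
  by_cases hrM : r ∈ Cfsg.sigma M
  · exact fixed_not_sigma hG hM hL hnc hq1 ha.1 hao (mem_core_of_order hG hM (j := 1) hm (by rw [hmo, pow_one]) hrM)
      hmo hma hrL
  · obtain ⟨v, hv, hvo⟩ := hseen r hrL.1 hrM (dvd_of_mem hm hmo)
    exact not_sigma_of_common hG hM hL hnc hnM P hPM hPL hpM hpL hv hvo hrM hrL

end CfsgLib.OddLocal.Kap
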