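import Cfsg.Agent.OddLocal.KappaDecomp
import Cfsg.Agent.OddLocal.SigmaPrimeAbelian

/-!
Elements outside `M_σ` centralizing an element of `M_σ` (BG 14.3).
-/

set_option autoImplicit false
set_option linter.style.haveILetI false
set_option linter.unusedSectionVars false

namespace CfsgLib.OddLocal.Kap

open Subgroup Cfsg CfsgLib.OddLocal
open scoped commutatorElement Pointwise

universe u

variable {G : Type u} [Group G] [Finite G]

variable (hG : Cfsg.IsMinSimpleOddOrder G)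
include hG

/-- A Hall `κ(M)`-subgroup over an element of prime order in `κ(M)`. -/
theorem exists_hall_kappa {M : Subgroup G} (hM : IsCoatom M) {y : G} {q : ℕ} [hq : Fact q.Prime] (hyM : y ∈ M)
    (hyo : orderOf y = q) (hqκ : q ∈ Cfsg.kappa M) :
    ∃ H : Subgroup G, Cfsg.IsPiHallOf (Cfsg.kappa M) H M ∧ y ∈ H ∧ H ≠ ⊥ := by
  obtain ⟨H, hH, hle⟩ := exists_hall_over (π := Cfsg.kappa M) (solvable_le hG hM le_rfl) (zpowers_le.2 hyM)
    fun r hr hd => by
      rw [Nat.card_zpowers, hyo] at hd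
      exact (Nat.prime_dvd_prime_iff_eq hr hq.out).1 hd ▸ hqκ
  refine ⟨H, hH, hle (mem_zpowers y), fun e => hq.out.ne_one ?_⟩
  rw [← hyo, orderOf_eq_one_iff]
  exact Subgroup.mem_bot.1 (e ▸ hle (mem_zpowers y))

/-- A prime outside `σ(M)` of an element with fixed points in `M_σ` lies in `κ(M)` or in `τ₂(M)`. -/
theorem mem_kappa_or_tau_two {M : Subgroup G} (hM : IsCoatom M) {w x : G} {p : ℕ} [hp : Fact p.Prime]
    (hwM : w ∈ M) (hwo : orderOf w = p) (hpσ : p ∉ Cfsg.sigma M) (hx : x ∈ Cfsg.sigmaCore M) (hx1 : x ≠ 1)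
    (hwx : Commute w x) : p ∈ Cfsg.kappa M ∨ p ∈ Cfsg.tau2 M := by
  obtain ⟨E, hE, -⟩ := Tau.exists_complement_of hG hM (X := ⊥) bot_le fun q hq h => by
    rw [card_bot, Nat.dvd_one] at h; exact absurd h hq.ne_one
  have hfix : Cfsg.sigmaCore M ⊓ centralizer ({w} : Set G) ≠ ⊥ := fun e => hx1 (Subgroup.mem_bot.1 (e ▸
    (⟨hx, mem_centralizer_singleton_iff.2 hwx.symm.eq⟩ : x ∈ Cfsg.sigmaCore M ⊓ centralizer ({w} : Set G))))
  rcases Tau.tau_cases hG hM hE hp.out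
    (dvd_complement hG hM hE hp.out hpσ (dvd_of_mem hwM hwo)) with h | h | h
  · exact Or.inl (mem_kappa hG hM hpσ h.2.2.2.2 hwM hwo hfix)
  · exact Or.inr h
  · exact Or.inl (mem_kappa hG hM hpσ h.2.2.2 hwM hwo hfix)

/-- Elements of orders in `κ(M)` and in `τ₂(M)` do not commute. -/
theorem kappa_tau_absurd {M : Subgroup G} (hM : IsCoatom M) {y z : G} {q p : ℕ} [hq : Fact q.Prime]
    [hp : Fact p.Prime] (hyM : y ∈ M) (hyo : orderOf y = q) (hqκ : q ∈ Cfsg.kappa M) (hzM : z ∈ M)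
    (hzo : orderOf z = p) (hpσ : p ∉ Cfsg.sigma M) (hpκ : p ∉ Cfsg.kappa M) (hzy : Commute z y) : False := by
  obtain ⟨H, hH, hyH, hH1⟩ := exists_hall_kappa hG hM hyM hyo hqκ
  obtain ⟨E, U, hE, hHE, hUE, hEU, -, hU, -, hfpf, -, -⟩ := kappa_data hG hM hH hH1
  obtain ⟨e, he, heo, hey⟩ := exists_in_complement hE hp.out (not_dvd_core hG hM hp.out hpσ) (hHE hyH) hzM hzo hzy
  have hd : ¬ p ∣ U.relIndex E := fun h =>
    hU.2.2 p hp.out ⟨hp.out, hpκ, hpσ⟩ (h.trans (Dvd.intro _ (relIndex_mul_relIndex U E M hUE hE.1)))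
  have heU : e ∈ U := Excep.le_of_hall hUE hEU (zpowers_le.2 he) (by
    rw [Nat.card_zpowers, heo]; exact hp.out.coprime_iff_not_dvd.2 hd) (mem_zpowers e)
  have h1 := (hfpf y hyH (fun e' => hq.out.ne_one (by rw [← hyo, e', orderOf_one]))).le
    ⟨heU, mem_centralizer_singleton_iff.2 hey.eq⟩
  exact hp.out.ne_one (by rw [← heo, orderOf_eq_one_iff]; exact Subgroup.mem_bot.1 h1)

/-- An element of `M_σ` centralized by an element of prime order in `κ(M)` has its centralizer in `M`. -/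
theorem centralizer_le_of_kappa {M : Subgroup G} (hM : IsCoatom M) {y x : G} {q : ℕ} [hq : Fact q.Prime]
    (hyM : y ∈ M) (hyo : orderOf y = q) (hqκ : q ∈ Cfsg.kappa M) (hx : x ∈ Cfsg.sigmaCore M) (hx1 : x ≠ 1)
    (hyx : Commute y x) : centralizer ({x} : Set G) ≤ M := by
  obtain ⟨H, hH, hyH, hH1⟩ := exists_hall_kappa hG hM hyM hyo hqκ
  obtain ⟨E, U, -, -, -, -, -, -, -, -, hpr, -⟩ := kappa_data hG hM hH hH1
  have hxH : x ∈ Cfsg.sigmaCore M ⊓ centralizer (H : Set G) :=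
    (hpr y hyH (fun e' => hq.out.ne_one (by rw [← hyo, e', orderOf_one]))).le
      ⟨hx, mem_centralizer_singleton_iff.2 hyx.symm.eq⟩
  obtain ⟨s, hs, x₁, hx₁, hx₁o, hle⟩ := exists_prime_root (H := Cfsg.sigmaCore M ⊓ centralizer (H : Set G)) hxH hx1
  haveI := Fact.mk hs
  exact hle.trans (fixed_centralizer hG hM hH hH1 hx₁ hx₁o).1.1

/-- A `τ₂(M)`-element with fixed points in `M_σ` is in `L_σ`-position for one maximal `L`. -/
theorem exists_sigma_of_tau_two {M : Subgroup G} (hM : IsCoatom M) {x x' : G} (hx'M : x' ∈ M) (hx'1 : x' ≠ 1)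
    (hτ : ∀ p : ℕ, p.Prime → p ∣ orderOf x' → p ∈ Cfsg.tau2 M) (hx : x ∈ Cfsg.sigmaCore M) (hx1 : x ≠ 1)
    (hxx' : Commute x' x) :
    ∃ L : Subgroup G, IsCoatom L ∧ x' ∈ L ∧ ∀ p : ℕ, p.Prime → p ∣ orderOf x' → p ∈ Cfsg.sigma L := by
  set p := (orderOf x').minFac with hp_def
  haveI hp : Fact p.Prime := ⟨Nat.minFac_prime fun h => hx'1 (orderOf_eq_one_iff.1 h)⟩
  have hpd : p ∣ orderOf x' := Nat.minFac_dvd _
  obtain ⟨-, hpσ, hr2, hr1⟩ := hτ p hp.out hpd
  obtain ⟨E, hE, hxE⟩ := Tau.exists_complement_of hG hM (zpowers_le.2 hx'M) (fun q hq hd =>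
    (hτ q hq (by rwa [Nat.card_zpowers] at hd)).2.1)
  rw [zpowers_le] at hxE
  obtain ⟨B, hBM, hB, hB2⟩ := Uniq.exists_elementary hr1
  obtain ⟨g, hgM, hg⟩ := Tau.conj_into_of_product (π := {p}) (solvable_le hG hM le_rfl) hE.1
    (map_subtype_le _ : Cfsg.sigmaCore M ≤ M) (TH.le_normalizer_core M)
    (by rw [sup_comm]; exact (Compl.card_eq hG hM hE).2.1.ge)
    (fun r hr hrp => hrp.symm ▸ not_dvd_core hG hM hp.out hpσ) hBM fun r hr hd => by
      rw [hB2] at hd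
      exact (Nat.prime_dvd_prime_iff_eq hr hp.out).1 (hr.dvd_of_dvd_pow hd)
  set A := B.map (MulAut.conj g).toMonoidHom
  have hA : Cfsg.IsElementaryAbelian p A := Tau.elementary_map hB _
  have hA2 : Nat.card A = p ^ 2 := by rw [card_map_of_injective (MulAut.conj g).injective, hB2]
  have hmax := (Cfsg.Agent.S1408.result hG M hM p hpσ hr2 hr1).2 A (hg.trans hE.1) hA hA2
  obtain ⟨L, hL, hpL, hNL, -⟩ := Tau.exists_sigma_over hA hA2 hmax hG
  have hEA : E ≤ normalizer (A : Set G) :=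
    Tau.complement_normalizes hG hA hA2 hM (hg.trans hE.1) hpσ hmax hE hg
  have hx'L : x' ∈ L := hNL (hEA hxE)
  refine ⟨L, hL, hx'L, fun q hq hqd => ?_⟩
  haveI := Fact.mk hq
  by_contra hqL
  set z := x' ^ (orderOf x' / p)
  set w := x' ^ (orderOf x' / q)
  have hzo : orderOf z = p := orderOf_pow_orderOf_div (orderOf_pos x').ne' hpd
  have hwo : orderOf w = q := orderOf_pow_orderOf_div (orderOf_pos x').ne' hqd
  have hz1 : z ≠ 1 := fun e => hp.out.ne_one (by rw [← hzo, e, orderOf_one])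
  have hw1 : w ≠ 1 := fun e => hq.ne_one (by rw [← hwo, e, orderOf_one])
  have hzK : z ∈ Cfsg.sigmaCore L := mem_core_of_order hG hL (j := 1) (pow_mem hx'L _) (by rw [hzo, pow_one]) hpL
  have hwz : Commute w z := Commute.pow_pow (Commute.refl x') _ _
  have hne : L ≠ M := fun e => hpσ (e ▸ hpL)
  have hz := Tau.tau_element_centralizer hG hM (x := z) (pow_mem hx'M _) hz1 (fun r hr hd => by
    rw [hzo] at hd; exact (Nat.prime_dvd_prime_iff_eq hr hp.out).1 hd ▸ hτ p hp.out hpd) hx hx1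
    (hxx'.pow_left _).eq
  have hw := Tau.tau_element_centralizer hG hM (x := w) (pow_mem hx'M _) hw1 (fun r hr hd => by
    rw [hwo] at hd; exact (Nat.prime_dvd_prime_iff_eq hr hq).1 hd ▸ hτ q hq hqd) hx hx1
    (hxx'.pow_left _).eq
  rcases mem_kappa_or_tau_two hG hL (pow_mem hx'L _) hwo hqL hzK hz1 hwz with h | h
  · exact hne (hz.2 L hL (centralizer_le_of_kappa hG hL (pow_mem hx'L _) hwo h hzK hz1 hwz))
  · exact hne (hw.2 L hL (Tau.tau_element_centralizer hG hL (x := w) (pow_mem hx'L _) hw1 (fun r hr hd => by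
      rw [hwo] at hd; exact (Nat.prime_dvd_prime_iff_eq hr hq).1 hd ▸ h) hzK hz1 hwz.eq).1)

end CfsgLib.OddLocal.Kap
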