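import Cfsg.Agent.OddLocal.KappaPairFacts
import Cfsg.Agent.OddLocal.SigmaCommon
import Cfsg.Agent.S1378
import Cfsg.Agent.S1432

/-!
Applications of BG 14.7: derived subgroup, the partition of the elements of `G`.
-/

set_option autoImplicit false
set_option linter.style.haveILetI false
set_option linter.unusedSectionVars false

namespace CfsgLib.OddLocal.Kap

open Subgroup Cfsg CfsgLib.OddLocal
open scoped commutatorElement Pointwise

universe u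

variable {G : Type u} [Group G] [Finite G]

/-- The `π`- and `π'`-parts of an element. -/
theorem exists_pi_parts (π : Set ℕ) (a : G) : ∃ b c : G, b ∈ zpowers a ∧ c ∈ zpowers a ∧ Commute b c ∧ a = b * c ∧
    (∀ p : ℕ, p.Prime → p ∣ orderOf b → p ∈ π) ∧ ∀ p : ℕ, p.Prime → p ∣ orderOf c → p ∉ π := by
  have hs : Group.IsSolvable (zpowers a) := inferInstance
  obtain ⟨A, hA, -⟩ := exists_hall_over (π := π) hs (bot_le : (⊥ : Subgroup G) ≤ zpowers a) fun q hq hd => by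
    rw [card_bot, Nat.dvd_one] at hd; exact absurd hd hq.ne_one
  obtain ⟨B, hB, -⟩ := exists_hall_over (π := {q | q ∉ π}) hs (bot_le : (⊥ : Subgroup G) ≤ zpowers a) fun q hq hd => by
    rw [card_bot, Nat.dvd_one] at hd; exact absurd hd hq.ne_one
  have hcomm : ∀ b ∈ A, ∀ c ∈ B, Commute b c := fun b hb c hc => by
    obtain ⟨i, rfl⟩ := mem_zpowers_iff.1 (hA.1 hb)
    obtain ⟨j, rfl⟩ := mem_zpowers_iff.1 (hB.1 hc)
    exact (Commute.refl a).zpow_zpow i j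
  have htop : zpowers a ≤ A ⊔ B := relIndex_eq_one.1 (Nat.eq_one_iff_not_exists_prime_dvd.2 fun p hp hd => by
    by_cases hπ : p ∈ π
    · exact hA.2.2 p hp hπ (hd.trans (relIndex_dvd_of_le_left _ le_sup_left))
    · exact hB.2.2 p hp hπ (hd.trans (relIndex_dvd_of_le_left _ le_sup_right)))
  have hn : A ≤ normalizer (B : Set G) :=
    (show A ≤ centralizer (B : Set G) from fun b hb => mem_centralizer_iff.2 fun c hc =>
      (hcomm b hb c hc).eq.symm).trans (centralizer_le_normalizer _)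
  obtain ⟨b, hb, c, hc, e⟩ := (CfsgLib.Solvable.mem_sup_of_le_normalizer hn).1 (htop (mem_zpowers a))
  exact ⟨b, c, hA.1 hb, hB.1 hc, hcomm b hb c hc, e.symm,
    fun p hp hd => hA.2.1 p hp (hd.trans (A.orderOf_dvd_natCard hb)),
    fun p hp hd => hB.2.1 p hp (hd.trans (B.orderOf_dvd_natCard hc))⟩

theorem mem_tilde_conj {M : Subgroup G} {A : Set G} {g : G} (h : g ∈ Cfsg.tildeOf M A) (c : G) :
    c * g * c⁻¹ ∈ Cfsg.tildeOf M A := by
  obtain ⟨a, ha, r, hr, y, rfl⟩ := h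
  exact ⟨a, ha, r, hr, c * y, by group⟩

variable (hG : Cfsg.IsMinSimpleOddOrder G)
include hG

/-- An element `x x'` with `x ∈ M_σ` and `x'` a `σ(M)'`-element of `C_M(x)`. -/
theorem covered_of_mem {M : Subgroup G} (hM : IsCoatom M) {x x' : G} (hx : x ∈ Cfsg.sigmaCore M) (hx1 : x ≠ 1)
    (hx'M : x' ∈ M) (hc : Commute x x') (hx'1 : x' ≠ 1) (hσ : ∀ p : ℕ, p.Prime → p ∣ orderOf x' → p ∉ Cfsg.sigma M) :
    (∃ N : Subgroup G, IsCoatom N ∧ x * x' ∈ Cfsg.tildeOf N ((Cfsg.sigmaCore N : Set G) \ {1})) ∨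
      ∃ M₁ H : Subgroup G, IsCoatom M₁ ∧ Cfsg.IsPiHallOf (Cfsg.kappa M₁) H M₁ ∧ H ≠ ⊥ ∧
        ∃ c : G, c * (x * x') * c⁻¹ ∈ mixed (H ⊔ star M₁ H) := by
  rcases Cfsg.Agent.S1432.result hG M hM x hx hx1 x' ⟨hx'M, mem_centralizer_singleton_iff.2 hc.eq.symm⟩ hx'1 hσ
    with ⟨hκ, -⟩ | ⟨hτ, -, hC, hu⟩
  · refine Or.inr ?_
    obtain ⟨H, hH, hle⟩ := exists_hall_over (π := Cfsg.kappa M) (solvable_le hG hM le_rfl) (zpowers_le.2 hx'M)
      fun q hq hd => hκ q hq (by rwa [Nat.card_zpowers] at hd)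
    have hx'H : x' ∈ H := hle (mem_zpowers x')
    have hH1 : H ≠ ⊥ := fun e => hx'1 (Subgroup.mem_bot.1 (e ▸ hx'H))
    have hxS : x ∈ star M H :=
      (star_fixed hG hM hH hH1 hx'H hx'1).le ⟨hx, mem_centralizer_singleton_iff.2 hc.eq⟩
    obtain ⟨N, hN, hNH, hHe, -, -⟩ := exists_partner hG hM hH hH1
    refine ⟨M, H, hM, hH, hH1, 1, ?_⟩
    rw [one_mul, inv_one, mul_one, mixed_eq hG hM hH hH1 hN hNH hHe]
    have hdis : H ⊓ star M H = ⊥ := disjoint_iff.1 (disjoint_of_coprime_natCard (Nat.coprime_of_dvd fun p hp h1 h2 =>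
      (hH.2.1 p hp h1).2.2.1 (primes_star hG hM p hp h2)))
    refine ⟨mul_mem (mem_sup_right hxS) (mem_sup_left hx'H), ?_⟩
    rintro (h | h)
    · refine hx1 (Subgroup.mem_bot.1 (hdis.le ⟨?_, hxS⟩))
      simpa using H.mul_mem h (H.inv_mem hx'H)
    · refine hx'1 (Subgroup.mem_bot.1 (hdis.le ⟨hx'H, ?_⟩))
      simpa using (star M H).mul_mem ((star M H).inv_mem hxS) h
  · refine Or.inl ?_
    obtain ⟨L, hL, hx'L, hLσ⟩ := exists_sigma_of_tau_two hG hM hx'M hx'1 hτ hx hx1 hc.symm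
    have hx'K : x' ∈ Cfsg.sigmaCore L := zpowers_le.1 (Excep.le_sigmaCore hG hL (zpowers_le.2 hx'L)
      fun p hp hd => hLσ p hp (by rwa [Nat.card_zpowers] at hd))
    have hCL : ¬ centralizer ({x'} : Set G) ≤ L := fun h => by
      obtain rfl := hu L hL h
      obtain ⟨p, hp, hpd⟩ := Nat.exists_prime_and_dvd (fun e => hx'1 (orderOf_eq_one_iff.1 e))
      exact hσ p hp hpd (hLσ p hp hpd)
    obtain ⟨N, hN, hCN, huN, -, -, hnil, -⟩ := exists_over hG hL hx'K hx'1 hCL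
    obtain rfl := huN M hM hC
    refine ⟨L, hL, x', ⟨hx'K, hx'1⟩, x, ?_, 1, by rw [hc.eq]; group⟩
    rw [supportR_eq hG hCL hN hCN huN hnil]
    exact ⟨hx, mem_centralizer_singleton_iff.2 hc.eq⟩

/-- An element `x x'` with `x ∈ M_σ` and `x'` a commuting `σ(M)'`-element. -/
theorem covered_of_commute {M : Subgroup G} (hM : IsCoatom M) {x x' : G} (hx : x ∈ Cfsg.sigmaCore M) (hx1 : x ≠ 1)
    (hc : Commute x x') (hσ : ∀ p : ℕ, p.Prime → p ∣ orderOf x' → p ∉ Cfsg.sigma M) :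
    (∃ N : Subgroup G, IsCoatom N ∧ x * x' ∈ Cfsg.tildeOf N ((Cfsg.sigmaCore N : Set G) \ {1})) ∨
      ∃ M₁ H : Subgroup G, IsCoatom M₁ ∧ Cfsg.IsPiHallOf (Cfsg.kappa M₁) H M₁ ∧ H ≠ ⊥ ∧
        ∃ c : G, c * (x * x') * c⁻¹ ∈ mixed (H ⊔ star M₁ H) := by
  by_cases hx'1 : x' = 1
  · subst hx'1
    exact Or.inl ⟨M, hM, x, ⟨hx, hx1⟩, 1, one_mem _, 1, by group⟩
  by_cases hxC : centralizer ({x} : Set G) ≤ M
  · exact covered_of_mem hG hM hx hx1 (hxC (mem_centralizer_singleton_iff.2 hc.eq.symm)) hc hx'1 hσ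
  obtain ⟨N, hN, hCN, hu, -, hcompl, hnil, -, -⟩ := exists_over hG hM hx hx1 hxC
  set C := centralizer ({x} : Set G) with hC
  have hx'C : x' ∈ C := mem_centralizer_singleton_iff.2 hc.eq.symm
  by_cases hall : ∀ p : ℕ, p.Prime → p ∣ orderOf x' → p ∈ Cfsg.sigma N
  · refine Or.inl ⟨M, hM, x, ⟨hx, hx1⟩, x', ?_, 1, by group⟩
    rw [supportR_eq hG hxC hN hCN hu hnil]
    exact ⟨zpowers_le.1 (Excep.le_sigmaCore hG hN (zpowers_le.2 (hCN hx'C))
      fun p hp hd => hall p hp (by rwa [Nat.card_zpowers] at hd)), hx'C⟩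
  push Not at hall
  obtain ⟨q, hq, hqd, hqN⟩ := hall
  haveI := Fact.mk hq
  set w := x' ^ (orderOf x' / q)
  have hwo : orderOf w = q := orderOf_pow_orderOf_div (orderOf_pos x').ne' hqd
  have hxMN : x ∈ M ⊓ N := ⟨map_subtype_le _ hx, hCN (mem_centralizer_singleton_iff.2 rfl)⟩
  set K := Cfsg.sigmaCore N
  have hcomplC : Cfsg.IsComplIn (M ⊓ C) (K ⊓ C) C := ⟨inf_le_right, inf_le_right,
    le_bot_iff.1 ((le_inf (le_inf (inf_le_left.trans inf_le_left)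
      (inf_le_left.trans (inf_le_right.trans hCN))) (inf_le_right.trans inf_le_left)).trans hcompl.2.2.1.le),
    fun c hc => centralizer_split hcompl hxMN hc (hCN hc)⟩
  have hd : ¬ q ∣ (M ⊓ C).relIndex C := fun h => by
    have h1 : (M ⊓ C).relIndex C = Nat.card ↥(K ⊓ C) := by
      refine Nat.eq_of_mul_eq_mul_left (Nat.card_pos (α := ↥(M ⊓ C))) ?_
      rw [← FittingHall.card_complIn hcomplC]
      exact CfsgLib.InvariantHall.relIndex_mul_card inf_le_right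
    exact hqN ((Sig.sigma_core hG hN).1.2.1 q hq ((h1 ▸ h).trans (card_dvd_of_le inf_le_left)))
  obtain ⟨c, hcC, hcw⟩ := Tau.exists_conj_mem inf_le_right hd (pow_mem hx'C (orderOf x' / q)) (k := 1)
    (by rw [pow_one]; exact hwo)
  have hcx : c * x = x * c := mem_centralizer_singleton_iff.1 hcC
  have hxc : c * x * c⁻¹ = x := by rw [hcx, mul_inv_cancel_right]
  set x'' := c * x' * c⁻¹ with hx''
  have hc' : Commute x x'' := by
    have h := hc.map (MulAut.conj c).toMonoidHom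
    simp only [MulEquiv.toMonoidHom_eq_coe, MonoidHom.coe_coe, MulAut.conj_apply] at h
    rwa [hxc] at h
  have hσ'' : ∀ p : ℕ, p.Prime → p ∣ orderOf x'' → p ∉ Cfsg.sigma M := fun p hp hd =>
    hσ p hp (hd.trans (dvd_of_eq (conj_orderOf c x')))
  have hw'o : orderOf (c * w * c⁻¹) = q := (conj_orderOf c w).trans hwo
  have hw'x : Commute (c * w * c⁻¹) x := mem_centralizer_singleton_iff.1 hcw.2
  have hτ : q ∈ Cfsg.tau2 M := (mem_kappa_or_tau_two hG hM hcw.1 hw'o (hσ q hq hqd) hx hx1 hw'x).resolve_left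
    fun hκ => hxC (centralizer_le_of_kappa hG hM hcw.1 hw'o hκ hx hx1 hw'x)
  have hCw := (Tau.tau_element_centralizer hG hM hcw.1
    (fun e => hq.ne_one (by rw [← hw'o, e, orderOf_one])) (fun v hv hvd => by
      rw [hw'o] at hvd; exact (Nat.prime_dvd_prime_iff_eq hv hq).1 hvd ▸ hτ) hx hx1 hw'x.eq).1
  have hx''M : x'' ∈ M := hCw (mem_centralizer_singleton_iff.2 (by
    rw [hx'']
    calc c * x' * c⁻¹ * (c * w * c⁻¹) = c * (x' * w) * c⁻¹ := by group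
      _ = c * (w * x') * c⁻¹ := by rw [((Commute.refl x').pow_right _).eq]
      _ = c * w * c⁻¹ * (c * x' * c⁻¹) := by group))
  have hx''1 : x'' ≠ 1 := fun e => hx'1 (by rwa [hx'', conj_eq_one_iff] at e)
  have e : x * x' = c⁻¹ * (x * x'') * c := by
    rw [show c⁻¹ * (x * x'') * c = c⁻¹ * (x * c) * x' by rw [hx'']; group, ← hcx]; group
  rcases covered_of_mem hG hM hx hx1 hx''M hc' hx''1 hσ'' with ⟨L, hL, h⟩ | ⟨M₁, H, h1, h2, h3, d, h⟩
  · exact Or.inl ⟨L, hL, by simpa [← e] using mem_tilde_conj h c⁻¹⟩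
  · refine Or.inr ⟨M₁, H, h1, h2, h3, d * c, ?_⟩
    rw [e, show d * c * (c⁻¹ * (x * x'') * c) * (d * c)⁻¹ = d * (x * x'') * d⁻¹ by group]
    exact h

/-- BG 14.7: every nontrivial element is covered. -/
theorem covered {g : G} (hg : g ≠ 1) :
    (∃ N : Subgroup G, IsCoatom N ∧ g ∈ Cfsg.tildeOf N ((Cfsg.sigmaCore N : Set G) \ {1})) ∨
      ∃ M H : Subgroup G, IsCoatom M ∧ Cfsg.IsPiHallOf (Cfsg.kappa M) H M ∧ H ≠ ⊥ ∧
        ∃ c : G, c * g * c⁻¹ ∈ mixed (H ⊔ star M H) := by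
  obtain ⟨p, hp, hpd⟩ := Nat.exists_prime_and_dvd (fun e => hg (orderOf_eq_one_iff.1 e))
  obtain ⟨M, hM, hpM⟩ := (Cfsg.Agent.S1378.result hG).1 p hp (hpd.trans (orderOf_dvd_natCard g))
  obtain ⟨b, c, -, -, hbc, rfl, hb, hc⟩ := exists_pi_parts (Cfsg.sigma M) g
  have hb1 : b ≠ 1 := fun e => by
    rw [e, one_mul] at hpd
    exact hc p hp hpd hpM
  obtain ⟨k, hk⟩ := Tau.conj_into_sigmaCore hG hM (Y := zpowers b) (fun e => hb1 (zpowers_eq_bot.1 e))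
    (fun q hq hd => hb q hq (by rwa [Nat.card_zpowers] at hd))
  have hx : k * b * k⁻¹ ∈ Cfsg.sigmaCore M := hk ⟨b, mem_zpowers b, rfl⟩
  have hc' : Commute (k * b * k⁻¹) (k * c * k⁻¹) := hbc.map (MulAut.conj k).toMonoidHom
  rcases covered_of_commute hG hM hx (fun e => hb1 (by rwa [conj_eq_one_iff] at e)) hc'
    (fun q hq hd => hc q hq (hd.trans (dvd_of_eq (conj_orderOf k c)))) with ⟨L, hL, h⟩ | ⟨M₁, H, h1, h2, h3, d, h⟩
  · refine Or.inl ⟨L, hL, ?_⟩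
    have := mem_tilde_conj h k⁻¹
    rwa [show k⁻¹ * (k * b * k⁻¹ * (k * c * k⁻¹)) * k⁻¹⁻¹ = b * c by group] at this
  · refine Or.inr ⟨M₁, H, h1, h2, h3, d * k, ?_⟩
    rwa [show d * k * (b * c) * (d * k)⁻¹ = d * (k * b * k⁻¹ * (k * c * k⁻¹)) * d⁻¹ by group]

/-- The complement to `K M_σ` is inside the derived subgroup. -/
theorem decomp_le_derived {M K U : Subgroup G} (hM : IsCoatom M) (hKU : Cfsg.IsSigmaDecomposition M K U)
    (hK1 : K ≠ ⊥) : U ≤ ⁅M, M⁆ := by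
  obtain ⟨k, hk, hk1⟩ := (bot_or_exists_ne_one K).resolve_left hK1
  have hUM : U ≤ M := hKU.compl.1
  set f : U → U := fun u => ⟨(u : G) * k * (u : G)⁻¹ * k⁻¹, by
    rw [show (u : G) * k * (u : G)⁻¹ * k⁻¹ = (u : G) * (k * (u : G)⁻¹ * k⁻¹) by group]
    exact U.mul_mem u.2 ((mem_normalizer_iff.1 (hKU.normal hk) _).1 (U.inv_mem u.2))⟩
  have hinj : Function.Injective f := fun u v h => by
    have h' : (u : G) * k * (u : G)⁻¹ * k⁻¹ = (v : G) * k * (v : G)⁻¹ * k⁻¹ := congrArg Subtype.val h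
    have h1 : (v : G)⁻¹ * u ∈ U ⊓ centralizer ({k} : Set G) := by
      refine ⟨U.mul_mem (U.inv_mem v.2) u.2, mem_centralizer_singleton_iff.2 ?_⟩
      calc (v : G)⁻¹ * u * k = (v : G)⁻¹ * ((u : G) * k * (u : G)⁻¹ * k⁻¹) * k * u := by group
        _ = k * ((v : G)⁻¹ * u) := by rw [h']; group
    rw [decomp_fpf hG hM hKU hk hk1, Subgroup.mem_bot, inv_mul_eq_one] at h1
    exact Subtype.ext h1.symm
  intro u hu
  obtain ⟨v, hv⟩ := (Finite.injective_iff_surjective.1 hinj) ⟨u, hu⟩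
  have e : ⁅(v : G), k⁆ = u := congrArg Subtype.val hv
  subst e
  exact commutator_mem_commutator (hUM v.2) (hKU.hall.1 hk)

/-- `M' = U M_σ` when `K ≠ 1`. -/
theorem derived_eq {M K U : Subgroup G} (hM : IsCoatom M) (hKU : Cfsg.IsSigmaDecomposition M K U)
    (hK1 : K ≠ ⊥) : ⁅M, M⁆ = U ⊔ Cfsg.sigmaCore M := by
  refine le_antisymm ?_ (sup_le (decomp_le_derived hG hM hKU hK1) (Sig.sigma_core hG hM).2.2)
  have hle : M ≤ (U ⊔ Cfsg.sigmaCore M) ⊔ K := fun m hm => by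
    obtain ⟨a, ha, b, hb, rfl⟩ := hKU.compl.2.2.2 m hm
    exact mul_mem (mem_sup_left (mem_sup_left ha))
      ((sup_le le_sup_right (le_sup_right.trans le_sup_left) : K ⊔ Cfsg.sigmaCore M ≤ _) hb)
  refine (Tau.derived_le_sup (sup_le hKU.compl.1 (map_subtype_le _)) hKU.hall.1 (decomp_normal hG hM hKU) hle).trans
    (sup_le le_rfl ?_)
  haveI := hKU.cyclic
  letI := IsCyclic.commGroup (α := K)
  rw [commutator_le]
  intro a ha b hb
  rw [commutatorElement_eq_one_iff_mul_comm.2 (congrArg Subtype.val (mul_comm (⟨a, ha⟩ : K) ⟨b, hb⟩))]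
  exact one_mem _

/-- BG 14.7: `κ(M) = τ₁(M)`. -/
theorem kappa_eq_tau_one {M K U : Subgroup G} (hM : IsCoatom M) (hKU : Cfsg.IsSigmaDecomposition M K U)
    (hK1 : K ≠ ⊥) : Cfsg.kappa M = Cfsg.tau1 M := by
  have hUH := decomp_hall hG hM hKU
  refine Set.ext fun p => ⟨fun hp => ⟨hp.1, hp.2.2.1, hp.2.1, fun hd => ?_, kappa_rank hp⟩, fun hp => ?_⟩
  · rw [derived_eq hG hM hKU hK1] at hd
    rcases hp.1.dvd_mul.1 (hd.trans (CfsgLib.Solvable.card_sup_dvd (hUH.1.trans (TH.le_normalizer_core M)))) with h | h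
    · exact (hUH.2.1 p hp.1 h).2.1 hp
    · exact not_dvd_core hG hM hp.1 hp.2.2.1 h
  · by_contra hκ
    haveI := Fact.mk hp.1
    have hU : p ∣ Nat.card U := by
      have h := hp.2.2.1
      rw [← CfsgLib.InvariantHall.relIndex_mul_card hUH.1] at h
      exact (hp.1.dvd_mul.1 h).resolve_right (hUH.2.2 p hp.1 ⟨hp.1, hκ, hp.2.1⟩)
    exact hp.2.2.2.1 (hU.trans (card_dvd_of_le (decomp_le_derived hG hM hKU hK1)))

/-- Mixed elements do not lie in any cover. -/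
theorem mixed_not_covered {M H : Subgroup G} (hM : IsCoatom M) (hH : Cfsg.IsPiHallOf (Cfsg.kappa M) H M) (hH1 : H ≠ ⊥)
    {z : G} (hz : z ∈ mixed (H ⊔ star M H)) {N : Subgroup G} (hN : IsCoatom N) (y : G) :
    y * z * y⁻¹ ∉ Cfsg.tildeOf N ((Cfsg.sigmaCore N : Set G) \ {1}) := by
  rintro ⟨a, ⟨ha, ha1⟩, r, hr, v, e⟩
  have ha1' : a ≠ 1 := fun e => ha1 e
  obtain ⟨p, hp, hpd⟩ := Nat.exists_prime_and_dvd (fun e => ha1' (orderOf_eq_one_iff.1 e))
  haveI := Fact.mk hp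
  obtain ⟨hcr, hrσ, -⟩ := supportR_spec hG hN ha ha1' hr
  have hco : (orderOf a).Coprime (orderOf r) := Nat.coprime_of_dvd fun q hq h1 h2 =>
    hrσ q hq h2 (sigma_of_order hG hN ha q hq h1)
  have hdz : p ∣ Nat.card ↥(H ⊔ star M H) := by
    refine Dvd.dvd.trans ?_ ((H ⊔ star M H).orderOf_dvd_natCard hz.1)
    rw [← conj_orderOf y z, e, conj_orderOf, hcr.orderOf_mul_eq_mul_orderOf_of_coprime hco]
    exact hpd.trans (dvd_mul_right _ _)
  obtain ⟨C, D, hCD, hpC⟩ := (isNode_self hG hM hH hH1).exists_sigma hG hp hdz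
  obtain ⟨k, hk⟩ := conj_of_common hG hN hCD.coatom (sigma_of_order hG hN ha p hp hpd) hpC
  refine hCD.mixed_not_tilde hG hz (k * y) ?_
  subst hk
  have hkr := supportR_map hG hN ha ha1' k hr
  refine ⟨k * a * k⁻¹, ⟨mem_sigmaCore_conj hG hN ha k, fun h => ha1' ?_⟩, k * r * k⁻¹, hkr, k * v * k⁻¹, ?_⟩
  · rwa [Set.mem_singleton_iff, conj_eq_one_iff] at h
  · rw [show k * y * z * (k * y)⁻¹ = k * (y * z * y⁻¹) * k⁻¹ by group, e]; group

/-- A `κ(M)`-subgroup is conjugate into a given Hall `κ(M)`-subgroup. -/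
theorem kappa_conj_into {M K : Subgroup G} (hM : IsCoatom M) (hK : Cfsg.IsPiHallOf (Cfsg.kappa M) K M) {Y : Subgroup G}
    (hY : Y ≤ M) (hYκ : ∀ q : ℕ, q.Prime → q ∣ Nat.card Y → q ∈ Cfsg.kappa M) :
    ∃ m ∈ M, Y.map (MulAut.conj m).toMonoidHom ≤ K := by
  obtain ⟨U, hKU⟩ := exists_decomp hG hM (kappa_cyclic hG hM hK) hK
  refine Tau.conj_into_of_product (π := Cfsg.kappa M) (solvable_le hG hM le_rfl) hK.1
    (sup_le hKU.compl.1 (map_subtype_le _) : U ⊔ Cfsg.sigmaCore M ≤ M) (decomp_normal hG hM hKU)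
    (fun m hm => ?_) (fun r hr hrκ hd => ?_) hY hYκ
  · obtain ⟨a, ha, b, hb, rfl⟩ := hKU.compl.2.2.2 m hm
    exact mul_mem (mem_sup_left (mem_sup_left ha))
      ((sup_le le_sup_right (le_sup_right.trans le_sup_left) : K ⊔ Cfsg.sigmaCore M ≤ (U ⊔ Cfsg.sigmaCore M) ⊔ K) hb)
  · have hUH := decomp_hall hG hM hKU
    rcases hr.dvd_mul.1 (hd.trans (CfsgLib.Solvable.card_sup_dvd (hUH.1.trans (TH.le_normalizer_core M)))) with h | h
    · exact (hUH.2.1 r hr h).2.1 hrκ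
    · exact not_dvd_core hG hM hr hrκ.2.2.1 h

/-- Mixed elements of a conjugate member. -/
theorem mixed_conj_of_eq {C B : Subgroup G} (hC : IsCoatom C) (hB : Cfsg.IsPiHallOf (Cfsg.kappa C) B C) (hB1 : B ≠ ⊥)
    {M₁ H : Subgroup G} (hM₁ : IsCoatom M₁) (hH : Cfsg.IsPiHallOf (Cfsg.kappa M₁) H M₁) (hH1 : H ≠ ⊥) {g : G}
    (e : M₁ = C.map (MulAut.conj g).toMonoidHom) {v : G} (hv : v ∈ mixed (H ⊔ star M₁ H)) :
    ∃ d : G, d * v * d⁻¹ ∈ mixed (B ⊔ star C B) := by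
  obtain ⟨N', hN', hN'H, hHe', -, -⟩ := exists_partner hG hM₁ hH hH1
  obtain ⟨P, hP, hPH, hBe, -, -⟩ := exists_partner hG hC hB hB1
  obtain ⟨b, hb, a, ha, hc, ev⟩ := (isNode_self hG hM₁ hH hH1).split hv.1
  rw [mixed_eq hG hM₁ hH hH1 hN' hN'H hHe'] at hv
  have ha1 : a ≠ 1 := fun e1 => hv.2 (Or.inl (by rw [ev, e1, one_mul]; exact hb))
  have hb1 : b ≠ 1 := fun e1 => hv.2 (Or.inr (by rw [ev, e1, mul_one]; exact ha))
  subst e
  set a' := g⁻¹ * a * g with ha'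
  set b' := g⁻¹ * b * g with hb'
  have ha'C : a' ∈ C := mem_map_conj_iff.1 (map_subtype_le _ ha.1)
  have hb'C : b' ∈ C := mem_map_conj_iff.1 (hH.1 hb)
  have hoa : orderOf a' = orderOf a := by rw [ha', show g⁻¹ * a * g = g⁻¹ * a * g⁻¹⁻¹ by group, conj_orderOf]
  have hob : orderOf b' = orderOf b := by rw [hb', show g⁻¹ * b * g = g⁻¹ * b * g⁻¹⁻¹ by group, conj_orderOf]
  have ha'K : a' ∈ Cfsg.sigmaCore C := zpowers_le.1 (Excep.le_sigmaCore hG hC (zpowers_le.2 ha'C) fun p hp hd => by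
    rw [Nat.card_zpowers, hoa] at hd
    exact (sigma_map_iff g).1 (sigma_of_order hG hM₁ ha.1 p hp hd))
  have ha'1 : a' ≠ 1 := fun e1 => ha1 (by rw [show a = g * a' * g⁻¹ by rw [ha']; group, e1]; group)
  have hb'1 : b' ≠ 1 := fun e1 => hb1 (by rw [show b = g * b' * g⁻¹ by rw [hb']; group, e1]; group)
  have hc' : Commute b' a' := by
    show b' * a' = a' * b'
    rw [ha', hb']
    calc g⁻¹ * b * g * (g⁻¹ * a * g) = g⁻¹ * (b * a) * g := by group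
      _ = g⁻¹ * a * g * (g⁻¹ * b * g) := by rw [← hc.eq]; group
  have hκ : ∀ q : ℕ, q.Prime → q ∣ Nat.card (zpowers b') → q ∈ Cfsg.kappa C := fun q hq hd => by
    rw [Nat.card_zpowers] at hd
    haveI := Fact.mk hq
    have hqH : q ∈ Cfsg.kappa (C.map (MulAut.conj g).toMonoidHom) :=
      hH.2.1 q hq ((hob ▸ hd).trans (H.orderOf_dvd_natCard hb))
    refine (mem_kappa_or_tau_two hG hC (pow_mem hb'C _) (orderOf_pow_orderOf_div (orderOf_pos b').ne' hd)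
      (fun h => hqH.2.2.1 ((sigma_map_iff g).2 h)) ha'K ha'1 (hc'.pow_left _)).resolve_right fun hτ => hτ.2.2.2 ?_
    have := rank_map g⁻¹ (kappa_rank hqH)
    rwa [Tau.map_conj_comp, inv_mul_cancel, map_one, show C.map (1 : MulAut G).toMonoidHom = C from map_id C] at this
  obtain ⟨m, hm, hmB⟩ := kappa_conj_into hG hC hB (zpowers_le.2 hb'C) hκ
  have hb''B : m * b' * m⁻¹ ∈ B := hmB ⟨b', mem_zpowers b', rfl⟩
  have hb''1 : m * b' * m⁻¹ ≠ 1 := fun e1 => hb'1 (by rwa [conj_eq_one_iff] at e1)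
  have ha'' : m * a' * m⁻¹ ∈ star C B := by
    refine (star_fixed hG hC hB hB1 hb''B hb''1).le ⟨(mem_normalizer_iff.1 (TH.le_normalizer_core C hm) a').1 ha'K,
      mem_centralizer_singleton_iff.2 ?_⟩
    calc m * a' * m⁻¹ * (m * b' * m⁻¹) = m * (a' * b') * m⁻¹ := by group
      _ = m * b' * m⁻¹ * (m * a' * m⁻¹) := by rw [← hc'.eq]; group
  refine ⟨m * g⁻¹, ?_⟩
  rw [mixed_eq hG hC hB hB1 hP hPH hBe,
    show m * g⁻¹ * v * (m * g⁻¹)⁻¹ = m * a' * m⁻¹ * (m * b' * m⁻¹) by rw [ev, ha', hb']; group]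
  have hdis : B ⊓ star C B = ⊥ := disjoint_iff.1 (disjoint_of_coprime_natCard (Nat.coprime_of_dvd fun p hp h1 h2 =>
    (hB.2.1 p hp h1).2.2.1 (primes_star hG hC p hp h2)))
  refine ⟨mul_mem (mem_sup_right ha'') (mem_sup_left hb''B), ?_⟩
  rintro (h | h)
  · refine ha'1 ?_
    have h1 : m * a' * m⁻¹ ∈ B := by
      have := B.mul_mem h (B.inv_mem hb''B)
      rwa [mul_inv_cancel_right] at this
    have h2 := Subgroup.mem_bot.1 (hdis.le ⟨h1, ha''⟩)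
    rwa [conj_eq_one_iff] at h2
  · refine hb''1 (Subgroup.mem_bot.1 (hdis.le ⟨hb''B, ?_⟩))
    have := (star C B).mul_mem ((star C B).inv_mem ha'') h
    rwa [inv_mul_cancel_left] at this

/-- All mixed elements are conjugate to those of one pair. -/
theorem mixed_conj {M H N : Subgroup G} (hM : IsCoatom M) (hH : Cfsg.IsPiHallOf (Cfsg.kappa M) H M) (hH1 : H ≠ ⊥)
    (hN : IsCoatom N) (hNH : Cfsg.IsPiHallOf (Cfsg.kappa N) (star M H) N) (hHe : H = star N (star M H))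
    {M₁ B : Subgroup G} (hM₁ : IsCoatom M₁) (hB : Cfsg.IsPiHallOf (Cfsg.kappa M₁) B M₁) (hB1 : B ≠ ⊥)
    {v : G} (hv : v ∈ mixed (B ⊔ star M₁ B)) : ∃ d : G, d * v * d⁻¹ ∈ mixed (H ⊔ star M H) := by
  obtain ⟨p, hp, hd⟩ := Nat.exists_prime_and_dvd (fun e : Nat.card B = 1 => hB1 (eq_bot_of_card_eq _ e))
  obtain ⟨g, e | e⟩ := kappa_class hG hM hH hH1 hN hNH hHe hM₁ ⟨p, hB.2.1 p hp hd⟩
  · exact mixed_conj_of_eq hG hM hH hH1 hM₁ hB hB1 e hv
  · have := mixed_conj_of_eq hG hN hNH (fixed_ne_bot hG hM hH hH1) hM₁ hB hB1 e hv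
    rwa [← hHe, sup_comm] at this

end CfsgLib.OddLocal.Kap
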