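import Cfsg.Agent.S1361
import Cfsg.Agent.OddLocal.KappaPairApps

/-!
`A(M) \ M_σ` is a TI-set.
-/

set_option autoImplicit false
set_option linter.style.haveILetI false
set_option linter.unusedSectionVars false

namespace CfsgLib.OddLocal.Kap

open Subgroup Cfsg CfsgLib.OddLocal
open scoped commutatorElement Pointwise

universe u

variable {G : Type u} [Group G] [Finite G]
variable (hG : Cfsg.IsMinSimpleOddOrder G)
include hG

/-- The `σ(M)'`-part of an element of `A(M) \ M_σ` has its centralizer only in `M`. -/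
theorem part_unique_max {M K U : Subgroup G} (hM : IsCoatom M) (hKU : Cfsg.IsSigmaDecomposition M K U) {a b c : G}
    (ha : a ∈ Cfsg.sigmaA M U \ (Cfsg.sigmaCore M : Set G)) (hb : b ∈ zpowers a) (hc : c ∈ zpowers a)
    (e : a = b * c) (hbσ : ∀ r : ℕ, r.Prime → r ∣ orderOf b → r ∈ Cfsg.sigma M)
    (hcσ : ∀ r : ℕ, r.Prime → r ∣ orderOf c → r ∉ Cfsg.sigma M) :
    centralizer ({c} : Set G) ≤ M ∧ ∀ L : Subgroup G, IsCoatom L → centralizer ({c} : Set G) ≤ L → L = M := by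
  obtain ⟨⟨⟨haM, y, hy, hy1, hay⟩, haU⟩, haσ⟩ := ha
  have hUH := decomp_hall hG hM hKU
  have hbM : b ∈ M := zpowers_le.2 haM hb
  have hcM : c ∈ M := zpowers_le.2 haM hc
  have hbK : b ∈ Cfsg.sigmaCore M := Excep.le_sigmaCore hG hM (zpowers_le.2 hbM)
    (fun r hr hd => hbσ r hr (by rwa [Nat.card_zpowers] at hd)) (mem_zpowers b)
  have hc1 : c ≠ 1 := fun h => haσ (by rw [e, h, mul_one]; exact hbK)
  have hcy : Commute c y := by
    obtain ⟨i, rfl⟩ := mem_zpowers_iff.1 hc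
    exact (show Commute a y from hay).zpow_left i
  obtain ⟨m, hm, hmU⟩ := Tau.conj_into_of_product (π := {r | r ∉ Cfsg.sigma M})
    (solvable_le hG hM (sup_le hUH.1 (map_subtype_le _) : U ⊔ Cfsg.sigmaCore M ≤ M))
    (le_sup_left : U ≤ U ⊔ Cfsg.sigmaCore M) (le_sup_right : Cfsg.sigmaCore M ≤ U ⊔ Cfsg.sigmaCore M)
    ((sup_le hUH.1 (map_subtype_le _)).trans (TH.le_normalizer_core M)) (by rw [sup_comm])
    (fun r hr hrπ hd => hrπ ((Sig.sigma_core hG hM).1.2.1 r hr hd))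
    (zpowers_le.2 (zpowers_le.2 haU hc)) (fun r hr hd => hcσ r hr (by rwa [Nat.card_zpowers] at hd))
  have hmM : m ∈ M := (sup_le hUH.1 (map_subtype_le _) : U ⊔ Cfsg.sigmaCore M ≤ M) hm
  have hc' : m * c * m⁻¹ ∈ U := hmU ⟨c, mem_zpowers c, rfl⟩
  have hy' : m * y * m⁻¹ ∈ Cfsg.sigmaCore M := (mem_normalizer_iff.1 (TH.le_normalizer_core M hmM) y).1 hy
  obtain ⟨h1, h2⟩ := Cfsg.Agent.S1361.result hG M hM K U hKU (zpowers (m * c * m⁻¹)) (zpowers_le.2 hc')
    (fun h => hc1 (conj_eq_one_iff.1 (Subgroup.mem_bot.1 (h ▸ mem_zpowers _)))) (fun h => hy1 (conj_eq_one_iff.1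
      (Subgroup.mem_bot.1 (h.le ⟨hy', FixedLine.le_centralizer_zpowers le_rfl (mem_centralizer_singleton_iff.2
        ((hcy.symm.map (MulAut.conj m).toMonoidHom)).eq)⟩))))
  have hC : centralizer ({m * c * m⁻¹} : Set G) = centralizer (zpowers (m * c * m⁻¹) : Set G) :=
    le_antisymm (FixedLine.le_centralizer_zpowers le_rfl) (FixedLine.centralizer_zpowers_le _)
  refine ⟨fun z hz => ?_, fun L hL hcL => ?_⟩
  · have : m * z * m⁻¹ ∈ M := h1 (hC.le (mem_centralizer_singleton_iff.2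
      ((show Commute z c from mem_centralizer_singleton_iff.1 hz).map (MulAut.conj m).toMonoidHom).eq))
    rw [show z = m⁻¹ * (m * z * m⁻¹) * m by group]
    exact M.mul_mem (M.mul_mem (M.inv_mem hmM) this) hmM
  · have e' := h2 (L.map (MulAut.conj m).toMonoidHom) (Uniq.coatom_conj hL m) fun z hz => by
      refine mem_map_conj_iff.2 (hcL (mem_centralizer_singleton_iff.2 ?_))
      have h := (show Commute z (m * c * m⁻¹) from
        mem_centralizer_singleton_iff.1 (hC.ge hz)).map (MulAut.conj m⁻¹).toMonoidHom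
      simpa [mul_assoc] using h.eq
    ext z
    constructor
    · intro hz
      have : m * z * m⁻¹ ∈ M := e'.le ⟨z, hz, rfl⟩
      rw [show z = m⁻¹ * (m * z * m⁻¹) * m by group]
      exact M.mul_mem (M.mul_mem (M.inv_mem hmM) this) hmM
    · intro hz
      obtain ⟨w, hw, hwe⟩ := e'.ge (M.mul_mem (M.mul_mem hmM hz) (M.inv_mem hmM))
      have : w = z := by simpa using hwe
      exact this ▸ hw

/-- `A(M) \ M_σ` is a TI-set. -/
theorem sigmaA_diff_ti {M K U : Subgroup G} (hM : IsCoatom M) (hKU : Cfsg.IsSigmaDecomposition M K U) :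
    Cfsg.IsTISubset (Cfsg.sigmaA M U \ (Cfsg.sigmaCore M : Set G)) := by
  intro g hg a ha hga
  refine absurd ?_ hg
  obtain ⟨b, c, hb, hc, -, e, hbσ, hcσ⟩ := exists_pi_parts (Cfsg.sigma M) a
  obtain ⟨h1, h2⟩ := part_unique_max hG hM hKU ha hb hc e hbσ hcσ
  have hmap : ∀ {z : G}, z ∈ zpowers a → g * z * g⁻¹ ∈ zpowers (g * a * g⁻¹) := fun hz => by
    obtain ⟨i, rfl⟩ := mem_zpowers_iff.1 hz
    exact mem_zpowers_iff.2 ⟨i, by rw [conj_zpow]⟩
  obtain ⟨h3, h4⟩ := part_unique_max hG hM hKU hga (hmap hb) (hmap hc) (by rw [e]; group)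
    (fun r hr hd => hbσ r hr (hd.trans (dvd_of_eq (conj_orderOf g b))))
    (fun r hr hd => hcσ r hr (hd.trans (dvd_of_eq (conj_orderOf g c))))
  have hgM : g ∈ M := by
    have h5 : centralizer ({g * c * g⁻¹} : Set G) ≤ M.map (MulAut.conj g).toMonoidHom := fun z hz => by
      refine mem_map_conj_iff.2 (h1 (mem_centralizer_singleton_iff.2 ?_))
      have h := (show Commute z (g * c * g⁻¹) from mem_centralizer_singleton_iff.1 hz).map
        (MulAut.conj g⁻¹).toMonoidHom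
      simpa [mul_assoc] using h.eq
    exact eq_of_conj_eq hG hM (h4 _ (Uniq.coatom_conj hM g) h5)
  have hn := decomp_normal hG hM hKU
  have hinv : ∀ m ∈ M, ∀ z ∈ Cfsg.sigmaA M U \ (Cfsg.sigmaCore M : Set G),
      m * z * m⁻¹ ∈ Cfsg.sigmaA M U \ (Cfsg.sigmaCore M : Set G) := by
    intro m hm z hz
    obtain ⟨⟨⟨hzM, y, hy, hy1, hzy⟩, hzU⟩, hzσ⟩ := hz
    refine ⟨⟨⟨M.mul_mem (M.mul_mem hm hzM) (M.inv_mem hm), m * y * m⁻¹,
      (mem_normalizer_iff.1 (TH.le_normalizer_core M hm) y).1 hy, fun h => hy1 (conj_eq_one_iff.1 h),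
      ((show Commute z y from hzy).map (MulAut.conj m).toMonoidHom).eq⟩, (mem_normalizer_iff.1 (hn hm) z).1 hzU⟩,
      fun h => hzσ ((mem_normalizer_iff.1 (TH.le_normalizer_core M hm) z).2 h)⟩
  refine Subgroup.mem_set_normalizer_iff.2 fun z => ⟨hinv g hgM z, fun hz => ?_⟩
  have := hinv g⁻¹ (M.inv_mem hgM) _ hz
  rwa [show g⁻¹ * (g * z * g⁻¹) * g⁻¹⁻¹ = z by group] at this

end CfsgLib.OddLocal.Kap
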