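import Cfsg.Agent.OddLocal.KappaTypeP

/-!
The types II, III and IV of maximal subgroups.
-/

set_option autoImplicit false
set_option linter.style.haveILetI false
set_option linter.unusedSectionVars false

namespace CfsgLib.OddLocal.Kap

open Subgroup Cfsg CfsgLib.OddLocal
open scoped commutatorElement Pointwise

universe u

variable {G : Type u} [Group G] [Finite G]

variable (hG : Cfsg.IsMinSimpleOddOrder G)
include hG

omit hG in
theorem le_normalizer_derived (M : Subgroup G) : M ≤ normalizer ((⁅M, M⁆ : Subgroup G) : Set G) := by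
  rw [← map_subtype_commutator]
  exact le_normalizer.trans (UTool.normalizer_le_normalizer_map M (commutator M) inferInstance)

variable {M K U : Subgroup G} (hM : IsCoatom M) (hKU : Cfsg.IsSigmaDecomposition M K U) (hK1 : K ≠ ⊥)
include hM hKU hK1

theorem fittingHallOf_eq_of_outer (hU1 : U ≠ ⊥) : Cfsg.fittingHallOf M = Cfsg.sigmaCore M :=
  by_contra fun h => hU1 (Cfsg.Agent.S1357.result hG M hM K U hKU h).1

theorem outer_compl_derived : Cfsg.IsComplIn (Cfsg.sigmaCore M) U ⁅M, M⁆ := by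
  have hd := (Cfsg.Agent.S1365.result hG M hM K U hKU hK1).1
  refine ⟨le_sup_right.trans hd.ge, le_sup_left.trans hd.ge, ?_, fun m hm => ?_⟩
  · rw [← le_bot_iff, ← hKU.compl.2.2.1]
    exact le_inf inf_le_right (inf_le_left.trans le_sup_right)
  · rw [hd, ← SetLike.mem_coe, coe_mul_of_left_le_normalizer_right U (Cfsg.sigmaCore M)
      (hKU.compl.1.trans (TH.le_normalizer_core M))] at hm
    obtain ⟨u, hu, s, hs, rfl⟩ := hm
    exact ⟨u * s * u⁻¹, (mem_normalizer_iff.1 (TH.le_normalizer_core M (hKU.compl.1 hu)) s).1 hs, u, hu, by group⟩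

theorem derived_eq_of_bot (hU : U = ⊥) : ⁅M, M⁆ = Cfsg.sigmaCore M := by
  rw [(Cfsg.Agent.S1365.result hG M hM K U hKU hK1).1, hU, bot_sup_eq]

theorem fittingHallOf_derived (hU1 : U ≠ ⊥) : Cfsg.fittingHallOf ⁅M, M⁆ = Cfsg.sigmaCore M := by
  have hF := fittingHallOf_eq_of_outer hG hM hKU hK1 hU1
  have hSD : Cfsg.sigmaCore M ≤ ⁅M, M⁆ := (Sig.sigma_core hG hM).2.2
  have hDM := (derived_compl hG hM hKU hK1).1
  have hrelD : (⁅M, M⁆ : Subgroup G).relIndex M = Nat.card K := Nat.eq_of_mul_eq_mul_left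
    (Nat.card_pos (α := ↥⁅M, M⁆))
    (by rw [CfsgLib.InvariantHall.relIndex_mul_card hDM, FittingHall.card_complIn (derived_compl hG hM hKU hK1)])
  refine le_antisymm ?_ (FittingHall.le_of hSD (hDM.trans (TH.le_normalizer_core M))
    (hF ▸ FittingHall.nilpotent_of M) ?_)
  · rw [← hF]
    refine FittingHall.le_of ((FittingHall.of_le _).trans hDM) ?_ (FittingHall.nilpotent_of _) ?_
    · refine le_trans ?_ (normalizer_le_fittingHallOf ⁅M, M⁆)
      exact le_normalizer_derived M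
    · rw [← relIndex_mul_relIndex _ _ M (FittingHall.of_le _) hDM, hrelD]
      exact (FittingHall.coprime_relIndex _).mul_right
        ((kappa_coprime_derived hG hM hKU hK1).symm.coprime_dvd_left (card_dvd_of_le (FittingHall.of_le _)))
  · have hc : (Nat.card ↥(Cfsg.sigmaCore M)).Coprime ((Cfsg.sigmaCore M).relIndex M) :=
      hF ▸ FittingHall.coprime_relIndex M
    exact hc.coprime_dvd_right ⟨_, (relIndex_mul_relIndex _ _ M hSD hDM).symm⟩

theorem typeTwo_of (hU1 : U ≠ ⊥) : Cfsg.IsOfTypeII M := by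
  have hF := fittingHallOf_eq_of_outer hG hM hKU hK1 hU1
  obtain ⟨hUc, hUN⟩ := Cfsg.Agent.S1363.result hG M hM K U hKU hK1
  obtain ⟨hKp, hti, -⟩ := Cfsg.Agent.S1372.result hG M hM K U hKU hK1 hU1
  have hcompl := outer_compl_derived hG hM hKU hK1
  have hnil : Group.IsNilpotent U := by
    letI : CommGroup U := { (inferInstance : Group U) with mul_comm := fun a b => hUc.is_comm.comm a b }
    exact CommGroup.isNilpotent
  have hFD := fittingHallOf_derived hG hM hKU hK1 hU1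
  obtain ⟨U₀, h0, h0e, h0x⟩ := Cfsg.Agent.S1360.result hG M hM K U hKU
  refine ⟨K, U, _, typeP_data hG hM hKU hK1 hnil hKU.normal (hF.symm ▸ hcompl), hU1, hKp, hti, hUc, hUN, ?_,
    hFD.trans hF.symm⟩
  refine isOfTypeF_of (solvable_le hG hM (derived_compl hG hM hKU hK1).1)
    (hG.1.of_dvd_nat (⁅M, M⁆ : Subgroup G).card_subgroup_dvd_card) ?_ (hFD.symm ▸ hcompl) hU1
    ((closure_le U).2 fun x hx => hx.1) (closure_stable hKU.compl.1)
    (Cfsg.Agent.S1359.result hG M hM K U hKU) (fun x hx hx1 a ha => subset_closure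
      ⟨ha.1, hKU.compl.1 ha.1, x, hFD ▸ hx, hx1, mem_centralizer_singleton_iff.1 ha.2⟩) h0 h0e
    (fun u hu hu1 x hx he => by_contra fun hx1 => hu1 (h0x u hu ⟨hKU.compl.1 (h0 hu), x, hFD ▸ hx, hx1, he⟩))
  rw [hFD]
  exact Tau.sigmaCore_ne_bot hG hM (one_lt_card_coatom hG hM)

theorem exists_kernel_complement : ∃ V : Subgroup G, Group.IsNilpotent V ∧ K ≤ normalizer (V : Set G) ∧
    Cfsg.IsComplIn (Cfsg.fittingHallOf M) V ⁅M, M⁆ := by
  set F := Cfsg.fittingHallOf M with hF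
  have hFM : F ≤ M := FittingHall.of_le M
  have hFS : F ≤ Cfsg.sigmaCore M := fittingHallOf_le_sigmaCore hG hM
  obtain ⟨E, hE, hKE⟩ := exists_hall_over (π := {q | ¬ q ∣ Nat.card F}) (solvable_le hG hM le_rfl) hKU.hall.1
    fun q hq hd h => (hKU.hall.2.1 q hq hd).2.2.1 ((Sig.sigma_core hG hM).1.2.1 q hq (h.trans (card_dvd_of_le hFS)))
  have hdis : F ⊓ E = ⊥ :=
    disjoint_iff.1 (disjoint_of_coprime_natCard (Nat.coprime_of_dvd fun q hq h1 h2 => hE.2.1 q hq h2 h1))
  have hFE := CfsgLib.InvariantHall.relIndex_mul_card hFM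
  have hEE := CfsgLib.InvariantHall.relIndex_mul_card hE.1
  have hcard : Nat.card E = F.relIndex M := by
    refine Nat.dvd_antisymm ?_ ?_
    · refine (Nat.Coprime.dvd_mul_left (Nat.coprime_of_dvd fun q hq h1 h2 => hE.2.1 q hq h1 h2)).1
        (hFE ▸ card_dvd_of_le hE.1)
    · refine (Nat.Coprime.dvd_mul_right (Nat.coprime_of_dvd fun q hq h1 h2 => ?_)).1 (hEE.symm ▸ hFE ▸ dvd_mul_left _ _)
      exact hE.2.2 q hq (fun h => hq.not_dvd_one ((FittingHall.coprime_relIndex M : Nat.gcd _ _ = 1) ▸ Nat.dvd_gcd h h1)) h2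
  have hsup : E ⊔ F = M := by
    refine eq_of_le_of_card_ge (sup_le hE.1 hFM) (le_of_eq ?_)
    rw [CfsgLib.Solvable.card_sup_of_disjoint (hE.1.trans (FittingHall.le_normalizer_of M))
      (by rw [inf_comm]; exact hdis), hcard, mul_comm, hFE]
  have hDM := (derived_compl hG hM hKU hK1).1
  have hFD : F ≤ ⁅M, M⁆ := hFS.trans (Sig.sigma_core hG hM).2.2
  refine ⟨E ⊓ ⁅M, M⁆, ?_, le_trans (le_inf (hKE.trans le_normalizer)
    (hKU.hall.1.trans (le_normalizer_derived M)))
      inf_normalizer_le_normalizer_inf, hFD, inf_le_right, ?_, fun m hm => ?_⟩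
  · haveI := derived_quotient_nilpotent hG hM
    set π := QuotientGroup.mk' (Cfsg.fittingHall ↥M)
    set f : ↥(E ⊓ ⁅M, M⁆) →* ↥((commutator ↥M).map π) :=
      (π.comp (inclusion (inf_le_left.trans hE.1))).codRestrict ((commutator ↥M).map π) (fun v => by
        refine mem_map_of_mem π ?_
        obtain ⟨z, hz, he⟩ := (map_subtype_commutator M).ge v.2.2
        exact (show inclusion (inf_le_left.trans hE.1) v = z from Subtype.ext he.symm) ▸ hz) with hf
    have hinj : Function.Injective f := (injective_iff_map_eq_one _).2 fun v hv => Subtype.ext (by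
      have h1 : inclusion (inf_le_left.trans hE.1) v ∈ Cfsg.fittingHall ↥M :=
        (QuotientGroup.eq_one_iff _).1 (congrArg Subtype.val hv)
      exact mem_bot.1 (hdis.le ⟨mem_map_of_mem M.subtype h1, v.2.1⟩))
    exact Group.nilpotent_of_mulEquiv (MonoidHom.ofInjective hinj).symm
  · rw [← le_bot_iff, ← hdis]
    exact inf_le_inf_left _ inf_le_left
  · have hmM : m ∈ E ⊔ F := hsup.symm ▸ hDM hm
    rw [← SetLike.mem_coe, coe_mul_of_left_le_normalizer_right E F (hE.1.trans (FittingHall.le_normalizer_of M))] at hmM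
    obtain ⟨e, he, f, hf, rfl⟩ := hmM
    have hf' : e * f * e⁻¹ ∈ F := (mem_normalizer_iff.1 (FittingHall.le_normalizer_of M (hE.1 he)) f).1 hf
    refine ⟨e * f * e⁻¹, hf', e, ⟨he, ?_⟩, by group⟩
    have := Subgroup.mul_mem _ (Subgroup.inv_mem _ (hFD hf')) hm
    rwa [show (e * f * e⁻¹)⁻¹ * (e * f) = e by group] at this

theorem typeThreeFour_of (hU : U = ⊥) (hne : Cfsg.fittingHallOf M ≠ Cfsg.sigmaCore M) :
    Cfsg.IsOfTypeIII M ∨ Cfsg.IsOfTypeIV M := by
  obtain ⟨-, hti, hKp⟩ := Cfsg.Agent.S1357.result hG M hM K U hKU hne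
  obtain ⟨V, hVn, hKV, hV⟩ := exists_kernel_complement hG hM hKU hK1
  have hd := derived_eq_of_bot hG hM hKU hK1 hU
  have hV1 : V ≠ ⊥ := fun h => hne (le_antisymm (fittingHallOf_le_sigmaCore hG hM) fun x hx => by
    obtain ⟨a, ha, b, hb, rfl⟩ := hV.2.2.2 x (hd.ge hx)
    rw [h, mem_bot] at hb
    rwa [hb, mul_one])
  have hN := complement_normalizer_le hG hM hV1 hVn (hd ▸ hV)
  have hP := typeP_data hG hM hKU hK1 hVn hKV hV
  by_cases hc : IsMulCommutative V
  · exact Or.inl ⟨K, V, _, hP, hV1, hKp, hti, hc, hN⟩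
  · exact Or.inr ⟨K, V, _, hP, hV1, hKp, hti, hc, hN⟩

/-- Type P data with nontrivial `U` whose normalizer lies in `M`, or not. -/
theorem normalizer_le_iff_of_typeP {W₁ V W₂ : Subgroup G} (hP : Cfsg.IsTypePWith M W₁ V W₂) (hV1 : V ≠ ⊥) :
    normalizer (V : Set G) ≤ M ↔ U = ⊥ := by
  constructor
  · intro hle
    by_contra hU1
    have hF := fittingHallOf_eq_of_outer hG hM hKU hK1 hU1
    obtain ⟨g, hg, he⟩ := complements_conj hG hM (hF ▸ hP.U_compl) (outer_compl_derived hG hM hKU hK1)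
    refine (Cfsg.Agent.S1363.result hG M hM K U hKU hK1).2 ?_
    have he' : V.map (MulAut.conj g).toMonoidHom = U := he
    intro x hx
    have hxN : g⁻¹ * x * g ∈ normalizer (V : Set G) := by
      refine mem_normalizer_iff_map_conj_eq.2 ?_
      have hx' : U.map (MulAut.conj x).toMonoidHom = U := mem_normalizer_iff_map_conj_eq.1 hx
      show V.map (MulAut.conj (g⁻¹ * x * g)).toMonoidHom = V
      rw [← TH.map_conj_map_conj, he', ← TH.map_conj_map_conj, hx', ← he', Uniq.map_conj_inv]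
    have := M.mul_mem (M.mul_mem hg (hle hxN)) (M.inv_mem hg)
    rwa [show g * (g⁻¹ * x * g) * g⁻¹ = x by group] at this
  · intro hU
    exact complement_normalizer_le hG hM hV1 hP.U_nilpotent (derived_eq_of_bot hG hM hKU hK1 hU ▸ hP.U_compl)

theorem outer_trivial_iff {W₁ V W₂ : Subgroup G} (hP : Cfsg.IsTypePWith M W₁ V W₂) :
    V = ⊥ ↔ (U = ⊥ ∧ Cfsg.fittingHallOf M = Cfsg.sigmaCore M) := by
  constructor
  · intro hV
    have hle : ⁅M, M⁆ ≤ Cfsg.fittingHallOf M := fun x hx => by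
      obtain ⟨a, ha, b, hb, rfl⟩ := hP.U_compl.2.2.2 x hx
      rw [hV, mem_bot] at hb
      rwa [hb, mul_one]
    refine ⟨?_, le_antisymm (fittingHallOf_le_sigmaCore hG hM) ((Sig.sigma_core hG hM).2.2.trans hle)⟩
    rw [← le_bot_iff, ← hKU.compl.2.2.1]
    refine le_inf le_rfl ?_
    exact ((le_sup_left.trans (Cfsg.Agent.S1365.result hG M hM K U hKU hK1).1.ge).trans hle).trans
      ((fittingHallOf_le_sigmaCore hG hM).trans le_sup_right)
  · rintro ⟨hU, hF⟩
    rw [← le_bot_iff, ← hP.U_compl.2.2.1]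
    exact le_inf ((hP.U_compl.2.1.trans (derived_eq_of_bot hG hM hKU hK1 hU).le).trans hF.ge) le_rfl

end CfsgLib.OddLocal.Kap
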