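import Cfsg.Agent.OddLocal.KappaTypes
import Cfsg.Agent.S1381
import Cfsg.Agent.S1382
import Cfsg.Agent.S1351
import Cfsg.Agent.S1358
import Cfsg.Agent.S1361
import Cfsg.Agent.S1362

/-!
The cores and complements of the types.
-/

set_option autoImplicit false
set_option linter.style.haveILetI false
set_option linter.unusedSectionVars false

namespace CfsgLib.OddLocal.Kap

open Subgroup Cfsg CfsgLib.OddLocal
open scoped commutatorElement Pointwise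

universe u

variable {G : Type u} [Group G] [Finite G]

variable (hG : Cfsg.IsMinSimpleOddOrder G)
include hG

variable {M : Subgroup G} (hM : IsCoatom M)
include hM

theorem exists_decomp_any : ∃ K U : Subgroup G, Cfsg.IsSigmaDecomposition M K U := by
  obtain ⟨K, hK⟩ := (Cfsg.Agent.S1351.result hG M hM).1
  obtain ⟨U, hU⟩ := exists_decomp hG hM (kappa_cyclic hG hM hK) hK
  exact ⟨K, U, hU⟩

theorem sigma_part_hall {T : Subgroup G} (hT : T ≤ Cfsg.sigmaCore M)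
    (hc : (Nat.card T).Coprime (T.relIndex M)) :
    (Nat.card T).Coprime T.index ∧ ∀ (p : ℕ), p.Prime → ∀ (P : Sylow p ↥T), (P : Subgroup ↥T) ≠ ⊥ →
      normalizer ((((P : Subgroup ↥T).map T.subtype : Subgroup G)) : Set G) ≤ M := by
  have hTM : T ≤ M := hT.trans (map_subtype_le _)
  have hσ : ∀ p : ℕ, p.Prime → p ∣ Nat.card T → p ∈ Cfsg.sigma M := fun p hp hd =>
    (Sig.sigma_core hG hM).1.2.1 p hp (hd.trans (card_dvd_of_le hT))
  have hidx : ∀ p : ℕ, p.Prime → p ∣ Nat.card T → ¬ p ∣ T.index := fun p hp hd h => by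
    haveI := Fact.mk hp
    rw [← relIndex_mul_index hTM] at h
    rcases hp.dvd_mul.1 h with h | h
    · exact hp.not_dvd_one ((hc : Nat.gcd _ _ = 1) ▸ Nat.dvd_gcd hd h)
    · exact Sig.not_dvd_index (hσ p hp hd) h
  refine ⟨Nat.coprime_of_dvd fun p hp h1 h2 => hidx p hp h1 h2, fun p hp P hP => ?_⟩
  haveI := Fact.mk hp
  have hd : p ∣ Nat.card T := by
    obtain ⟨k, hk⟩ := IsPGroup.iff_card.1 P.2
    refine dvd_trans ?_ (P : Subgroup ↥T).card_subgroup_dvd_card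
    rw [hk]
    exact dvd_pow_self p fun e => hP (eq_bot_of_card_eq _ (by rw [hk, e, pow_zero]))
  have hPd : ¬ p ∣ ((P : Subgroup ↥T).map T.subtype).index := fun h => by
    rw [index_map_subtype] at h
    exact (hp.dvd_mul.1 h).elim P.not_dvd_index (hidx p hp hd)
  exact Sig.normalizer_sylow_le (hσ p hp hd) ((P.2.map T.subtype).toSylow hPd) ((map_subtype_le _).trans hTM)

theorem typeCore_hall :
    Cfsg.typeCore M ≤ Cfsg.sigmaCore M ∧ (Nat.card (Cfsg.typeCore M)).Coprime ((Cfsg.typeCore M).relIndex M) := by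
  by_cases h34 : Cfsg.IsOfTypeIII M ∨ Cfsg.IsOfTypeIV M
  · obtain ⟨K, U, hKU⟩ := exists_decomp_any hG hM
    obtain ⟨hK1, hU, -⟩ := (Cfsg.Agent.S1382.result hG M hM K U hKU).1 h34
    rw [Cfsg.typeCore, if_pos h34, derived_eq_of_bot hG hM hKU hK1 hU]
    exact ⟨le_rfl, CfsgLib.InvariantHall.coprime_of_isPiHallOf (Sig.sigma_core hG hM).1⟩
  · rw [Cfsg.typeCore, if_neg h34]
    exact ⟨fittingHallOf_le_sigmaCore hG hM, FittingHall.coprime_relIndex M⟩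

theorem decomp_conj {K U : Subgroup G} (hKU : Cfsg.IsSigmaDecomposition M K U) {m : G} (hm : m ∈ M) :
    Cfsg.IsSigmaDecomposition M (MulAut.conj m • K) (MulAut.conj m • U) := by
  have hmM : MulAut.conj m • M = M := CfsgLib.SZ.conj_smul_eq_iff_mem_normalizer.2 (le_normalizer hm)
  have hmS : MulAut.conj m • Cfsg.sigmaCore M = Cfsg.sigmaCore M :=
    CfsgLib.SZ.conj_smul_eq_iff_mem_normalizer.2 (TH.le_normalizer_core M hm)
  have hsup : MulAut.conj m • K ⊔ Cfsg.sigmaCore M = MulAut.conj m • (K ⊔ Cfsg.sigmaCore M) := by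
    conv_lhs => rw [← hmS]
    exact (Subgroup.map_sup _ _ _).symm
  haveI := hKU.cyclic
  refine ⟨isCyclic_of_surjective (equivSMul (MulAut.conj m) K).toMonoidHom (MulEquiv.surjective _),
    CfsgLib.InvariantHall.isPiHallOf_conj hKU.hall (le_normalizer hm), ?_, ?_⟩
  · obtain ⟨h1, h2, h3, h4⟩ := hKU.compl
    rw [hsup]
    refine ⟨(map_mono h1).trans hmM.le, (map_mono h2).trans hmM.le, ?_, fun x hx => ?_⟩
    · exact (map_inf _ _ _ (MulAut.conj m).injective).symm.trans ((congrArg (Subgroup.map _) h3).trans (map_bot _))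
    · obtain ⟨a, ha, b, hb, he⟩ := h4 (m⁻¹ * x * m) (M.mul_mem (M.mul_mem (M.inv_mem hm) hx) hm)
      exact ⟨MulAut.conj m a, smul_mem_pointwise_smul _ _ _ ha, MulAut.conj m b, smul_mem_pointwise_smul _ _ _ hb,
        by rw [← map_mul, ← he]; show x = m * (m⁻¹ * x * m) * m⁻¹; group⟩
  · rintro _ ⟨k, hk, rfl⟩
    refine Uniq.mem_normalizer_of_map_le ?_
    rintro _ ⟨_, ⟨u, hu, rfl⟩, rfl⟩
    refine ⟨k * u * k⁻¹, (mem_normalizer_iff.1 (hKU.normal hk) u).1 hu, ?_⟩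
    show m * (k * u * k⁻¹) * m⁻¹ = (m * k * m⁻¹) * (m * u * m⁻¹) * (m * k * m⁻¹)⁻¹
    group

/-- A complement of the types I and II is part of a standard factorisation. -/
theorem decomp_of_type {U : Subgroup G}
    (hU : (Cfsg.IsOfTypeI M ∧ Cfsg.IsComplIn (Cfsg.fittingHallOf M) U M) ∨
      (Cfsg.IsOfTypeII M ∧ Cfsg.IsComplIn (Cfsg.fittingHallOf M) U ⁅M, M⁆)) :
    ∃ K : Subgroup G, Cfsg.IsSigmaDecomposition M K U ∧ Cfsg.fittingHallOf M = Cfsg.sigmaCore M ∧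
      ¬ (Cfsg.IsOfTypeIII M ∨ Cfsg.IsOfTypeIV M) ∧
      ((Cfsg.IsOfTypeI M ∧ U ⊔ Cfsg.sigmaCore M = M) ∨ (¬ Cfsg.IsOfTypeI M ∧ U ⊔ Cfsg.sigmaCore M = ⁅M, M⁆)) := by
  obtain ⟨K₀, U₀, hKU₀⟩ := exists_decomp_any hG hM
  rcases hU with ⟨hI, hc⟩ | ⟨hII, hc⟩
  · have hK := bot_of_typeF hG hM hKU₀ hI.1
    have hF := fittingHallOf_eq_of_bot hG hM hKU₀ hK
    subst hK
    obtain ⟨hFM, hUM, hdis, hprod⟩ := hc
    rw [hF] at hFM hdis hprod
    have hkey : ∀ m ∈ M, ∃ a ∈ U, ∃ b ∈ (⊥ : Subgroup G) ⊔ Cfsg.sigmaCore M, m = a * b := fun m hm => by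
      obtain ⟨a, ha, b, hb, rfl⟩ := hprod m hm
      exact ⟨b, hb, b⁻¹ * a * b, mem_sup_right (by
        rw [show b⁻¹ * a * b = b⁻¹ * a * b⁻¹⁻¹ by group]
        exact (mem_normalizer_iff.1 (TH.le_normalizer_core M (M.inv_mem (hUM hb))) a).1 ha), by group⟩
    refine ⟨⊥, ⟨hKU₀.cyclic, hKU₀.hall, ⟨hUM, sup_le bot_le hFM, by rw [bot_sup_eq, inf_comm]; exact hdis, hkey⟩,
      bot_le⟩, hF, fun h => ((Cfsg.Agent.S1382.result hG M hM ⊥ U₀ hKU₀).1 h).1 rfl, Or.inl ⟨hI, ?_⟩⟩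
    refine le_antisymm (sup_le hUM hFM) fun m hm => ?_
    obtain ⟨a, ha, b, hb, rfl⟩ := hkey m hm
    rw [bot_sup_eq] at hb
    exact mul_mem (mem_sup_left ha) (mem_sup_right hb)
  · obtain ⟨hK1, hU1⟩ := (Cfsg.Agent.S1381.result hG M hM K₀ U₀ hKU₀).1 hII
    have hF := fittingHallOf_eq_of_outer hG hM hKU₀ hK1 hU1
    rw [hF] at hc
    obtain ⟨m, hm, he⟩ := complements_conj hG hM (outer_compl_derived hG hM hKU₀ hK1) hc
    refine ⟨MulAut.conj m • K₀, he ▸ decomp_conj hG hM hKU₀ hm, hF,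
      fun h => hU1 ((Cfsg.Agent.S1382.result hG M hM K₀ U₀ hKU₀).1 h).2.1,
      Or.inr ⟨fun hI => hK1 (bot_of_typeF hG hM hKU₀ hI.1), le_antisymm (sup_le hc.2.1 hc.1) fun x hx => ?_⟩⟩
    obtain ⟨a, ha, b, hb, rfl⟩ := hc.2.2.2 x hx
    exact mul_mem (mem_sup_right ha) (mem_sup_left hb)

theorem typeA_diff_eq {U : Subgroup G}
    (hU : (Cfsg.IsOfTypeI M ∧ Cfsg.IsComplIn (Cfsg.fittingHallOf M) U M) ∨
      (Cfsg.IsOfTypeII M ∧ Cfsg.IsComplIn (Cfsg.fittingHallOf M) U ⁅M, M⁆)) :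
    Cfsg.typeA M \ Cfsg.typeA1 M = Cfsg.sigmaA M U \ (Cfsg.sigmaCore M : Set G) := by
  obtain ⟨K, hKU, hF, h34, hcase⟩ := decomp_of_type hG hM hU
  have hcore : Cfsg.typeCore M = Cfsg.sigmaCore M := by rw [Cfsg.typeCore, if_neg h34, hF]
  have hDM : ⁅M, M⁆ ≤ M :=
    commutator_le.2 fun a ha b hb => M.mul_mem (M.mul_mem (M.mul_mem ha hb) (M.inv_mem ha)) (M.inv_mem hb)
  ext a
  rcases hcase with ⟨hI, hsup⟩ | ⟨hI, hsup⟩
  · simp only [Cfsg.typeA, if_pos hI, Cfsg.typeA1, hcore, Cfsg.sigmaA, Cfsg.sigmaHat, hsup, hF, Set.mem_sdiff,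
      Set.mem_inter_iff, Set.mem_ofPred_eq, Set.mem_singleton_iff, SetLike.mem_coe]
    constructor
    · rintro ⟨⟨haM, ha1, x, hx, hx1, he⟩, hn⟩
      exact ⟨⟨⟨haM, x, hx, hx1, he⟩, haM⟩, fun h => hn ⟨h, ha1⟩⟩
    · rintro ⟨⟨⟨haM, x, hx, hx1, he⟩, -⟩, hn⟩
      exact ⟨⟨haM, fun e => hn (e ▸ Subgroup.one_mem _), x, hx, hx1, he⟩, fun h => hn h.1⟩
  · simp only [Cfsg.typeA, if_neg hI, Cfsg.typeA1, hcore, Cfsg.sigmaA, Cfsg.sigmaHat, hsup, Set.mem_sdiff,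
      Set.mem_inter_iff, Set.mem_ofPred_eq, Set.mem_singleton_iff, SetLike.mem_coe]
    constructor
    · rintro ⟨⟨haD, ha1, x, hx, hx1, he⟩, hn⟩
      exact ⟨⟨⟨hDM haD, x, hx, hx1, he⟩, haD⟩, fun h => hn ⟨h, ha1⟩⟩
    · rintro ⟨⟨⟨-, x, hx, hx1, he⟩, haD⟩, hn⟩
      exact ⟨⟨haD, fun e => hn (e ▸ Subgroup.one_mem _), x, hx, hx1, he⟩, fun h => hn h.1⟩

end CfsgLib.OddLocal.Kap
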