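import Cfsg.Agent.OddLocal.PLengthOne
import Cfsg.Agent.FGSA.Narrow
import Cfsg.Agent.FGSA.RankTwoOdd
import Cfsg.Agent.FGSA.InvariantHall
import Cfsg.Agent.Transfer.PResidual
import Cfsg.Agent.S1455

/-!
The core `M_β` of a maximal subgroup and normal complements in the derived subgroup.
-/

set_option autoImplicit false
set_option linter.style.haveILetI false
set_option linter.unusedSectionVars false

namespace CfsgLib.OddLocal.Beta

open Subgroup Cfsg CfsgLib.OddLocal

universe u

section General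

variable {X : Type u} [Group X] [Finite X] {p : ℕ} [Fact p.Prime]

theorem npc_index (h : Cfsg.HasNormalPComplement p X) : ∃ k, (Cfsg.pPrimeCore p X).index = p ^ k := by
  obtain ⟨P, N, hN, hc⟩ := h
  obtain ⟨m, hm⟩ := IsPGroup.iff_card.1 P.isPGroup'
  have hidx : N.index = p ^ m := by rw [hc.symm.index_eq_card, hm]
  have hle : N ≤ Cfsg.pPrimeCore p X := le_sSup
    ⟨hN, CfsgLib.PResidual.card_coprime_of_isComplement' P hc |>.1⟩
  obtain ⟨k, -, hk⟩ := (Nat.dvd_prime_pow Fact.out).1 (hidx ▸ index_dvd_of_le hle)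
  exact ⟨k, hk⟩

theorem nilpotent_of_npc (h : ∀ q : ℕ, q.Prime → q ∣ Nat.card X → Cfsg.HasNormalPComplement q X) :
    Group.IsNilpotent X := by
  classical
  let ι := {q : ℕ // q ∈ (Nat.card X).primeFactors}
  have hq : ∀ q : ι, q.1.Prime ∧ q.1 ∣ Nat.card X := fun q =>
    ⟨Nat.prime_of_mem_primeFactors q.2, Nat.dvd_of_mem_primeFactors q.2⟩
  let N : ι → Subgroup X := fun q => Cfsg.pPrimeCore q.1 X
  have hN : ∀ q : ι, (N q).Normal := fun q => CfsgLib.Solvable.pPrimeCore_normal q.1
  have hnil : ∀ q : ι, Group.IsNilpotent (X ⧸ N q) := fun q => by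
    haveI := Fact.mk (hq q).1
    obtain ⟨k, hk⟩ := npc_index (h q.1 (hq q).1 (hq q).2)
    exact (IsPGroup.of_card (p := q.1) (G := X ⧸ N q) hk).isNilpotent
  let f : X →* ∀ q : ι, X ⧸ N q := MonoidHom.pi fun q => QuotientGroup.mk' (N q)
  have hf : Function.Injective f := by
    rw [← MonoidHom.ker_eq_bot_iff]
    by_contra hne
    obtain ⟨q, hq', hqd⟩ := Nat.exists_prime_and_dvd (n := Nat.card f.ker) fun h1 => hne (eq_bot_of_card_eq _ h1)
    let i : ι := ⟨q, Nat.mem_primeFactors.2 ⟨hq', hqd.trans (card_subgroup_dvd_card _), Nat.card_pos.ne'⟩⟩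
    have hle : f.ker ≤ N i := fun x hx => (QuotientGroup.eq_one_iff x).1 (congrFun (MonoidHom.mem_ker.1 hx) i)
    haveI := Fact.mk hq'
    exact hq'.coprime_iff_not_dvd.1 (CfsgLib.Solvable.coprime_card_pPrimeCore (G := X) q).symm
      (hqd.trans (card_dvd_of_le hle))
  exact Group.nilpotent_of_mulEquiv (MonoidHom.ofInjective hf).symm

theorem le_of_coprime_index {N Q : Subgroup X} [N.Normal] (h : (Nat.card Q).Coprime N.index) : Q ≤ N :=
  relIndex_eq_one.1 (Nat.eq_one_of_dvd_coprimes h (relIndex_dvd_card N Q)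
    (relIndex_dvd_index_of_normal N Q))

/-- Solvable groups with enough normal complements have nilpotent Hall subgroups. -/
theorem exists_nilpotent_hall {π : Set ℕ} {D : Subgroup X} (hs : Group.IsSolvable D)
    (h : ∀ q : ℕ, q.Prime → q ∈ π → q ∣ Nat.card D → Cfsg.HasNormalPComplement q D) :
    ∃ H : Subgroup X, Cfsg.IsPiHallOf π H D ∧ Group.IsNilpotent H := by
  obtain ⟨H, hH⟩ := CfsgLib.InvariantHall.exists_isPiHallOf (π := π) hs
  refine ⟨H, hH, nilpotent_of_npc fun q hq hd => ?_⟩
  haveI := Fact.mk hq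
  exact CfsgLib.PResidual.hasNormalPComplement_of_injective (inclusion hH.1) (inclusion_injective hH.1)
    (h q hq (hH.2.1 q hq hd) (hd.trans (card_dvd_of_le hH.1)))

end General

section Narrow

variable {R : Type u} [Group R] [Finite R] {p : ℕ} [hp : Fact p.Prime]

open CfsgLib.FGSA.Narrow in
/-- A maximal elementary abelian subgroup of order `p ^ 2` makes a `p`-group narrow. -/
theorem narrow_of_maxE (hp2 : p ≠ 2) (hR : IsPGroup p R) (E : Subgroup R) (hE : Cfsg.IsElementaryAbelian p E)
    (hE2 : Nat.card E = p ^ 2) (hEmax : ∀ B : Subgroup R, Cfsg.IsElementaryAbelian p B → E ≤ B → B = E) :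
    Cfsg.IsNarrow p R := by
  classical
  by_cases hr : Cfsg.PRankLE p 2 R
  · exact Or.inl hr
  obtain ⟨hnle, hZ, -, hTc, hTi, -⟩ := maxE_structure hp2 hR hr E hE hE2 hEmax
  set T := centralizer ((W₂ p R : Subgroup R) : Set R) with hT
  haveI := hTc
  haveI : T.Normal := normal_of_characteristic T
  haveI := hE.1
  have hmem : ∀ x : R, x ^ p = 1 → (∀ a ∈ E, a * x = x * a) → x ∈ E := by
    intro x hx hcomm
    have hle : zpowers x ≤ centralizer (E : Set R) := zpowers_le.2 (mem_centralizer_iff.2 hcomm)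
    have hc : ∀ a ∈ (E : Set R) ∪ (zpowers x : Subgroup R), ∀ b ∈ (E : Set R) ∪ (zpowers x : Subgroup R),
        a * b = b * a := by
      intro a ha b hb
      rcases ha with ha | ha <;> rcases hb with hb | hb
      · exact setLike_mul_comm ha hb
      · exact mem_centralizer_iff.1 (hle hb) a ha
      · exact (mem_centralizer_iff.1 (hle ha) b hb).symm
      · exact setLike_mul_comm ha hb
    haveI := isMulCommutative_closure hc
    have hexp : ∀ a ∈ closure ((E : Set R) ∪ (zpowers x : Subgroup R)), a ^ p = 1 := by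
      intro a ha
      induction ha using closure_induction with
      | mem y hy =>
        rcases hy with hy | hy
        · exact hE.2 y hy
        · obtain ⟨i, rfl⟩ := mem_zpowers_iff.1 hy
          rw [← zpow_natCast, ← zpow_mul, mul_comm, zpow_mul, zpow_natCast, hx, one_zpow]
      | one => exact one_pow p
      | mul a b ha' hb' ha hb =>
        rw [(show Commute a b from setLike_mul_comm ha' hb').mul_pow, ha, hb, one_mul]
      | inv a _ ha => rw [inv_pow, ha, inv_one]
    rw [← hEmax _ ⟨inferInstance, hexp⟩ fun a ha => subset_closure (Or.inl ha)]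
    exact subset_closure (Or.inr (mem_zpowers x))
  obtain ⟨e, heE, heT⟩ := SetLike.not_le_iff_exists.1 hnle
  have hep : e ^ p = 1 := hE.2 e heE
  have he1 : e ≠ 1 := fun h => heT (h ▸ one_mem T)
  have heo : Nat.card (zpowers e) = p := by rw [Nat.card_zpowers, orderOf_eq_prime hep he1]
  have hZc : Z₁ p R ≤ center R := (closure_le _).2 fun x hx => hx.1
  have hZE : Z₁ p R ≤ E := (closure_le _).2 fun x hx => hmem x hx.2 fun a _ => mem_center_iff.1 hx.1 a
  have hZT : Z₁ p R ≤ T := hZc.trans (center_le_centralizer _)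
  have hETlt : E ⊓ T < E := lt_of_le_of_ne inf_le_left fun h => heT (h.ge heE).2
  have hETle : Nat.card ↥(E ⊓ T) ≤ p := by
    obtain ⟨j, hj⟩ := IsPGroup.iff_card.1 (hR.to_subgroup (E ⊓ T))
    have := CfsgLib.Solvable.card_lt_of_lt hETlt
    rw [hj, hE2, Nat.pow_lt_pow_iff_right hp.out.one_lt] at this
    rw [hj]; exact (Nat.pow_le_pow_right hp.out.pos (by omega : j ≤ 1)).trans (pow_one p).le
  have hET : Z₁ p R = E ⊓ T := eq_of_le_of_card_ge (le_inf hZE hZT) (hZ.symm ▸ hETle)
  have hEsup : Z₁ p R ⊔ zpowers e = E := by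
    refine eq_of_le_of_card_ge (sup_le hZE (zpowers_le.2 heE)) ?_
    obtain ⟨j, hj⟩ := IsPGroup.iff_card.1 (hR.to_subgroup (Z₁ p R ⊔ zpowers e))
    have hlt : Z₁ p R < Z₁ p R ⊔ zpowers e := lt_of_le_of_ne le_sup_left fun h =>
      heT (hZT (h.ge (mem_sup_right (mem_zpowers e))))
    have := CfsgLib.Solvable.card_lt_of_lt hlt
    rw [hZ, hj] at this
    conv_lhs at this => rw [← pow_one p]
    rw [Nat.pow_lt_pow_iff_right hp.out.one_lt] at this
    rw [hE2, hj]; exact Nat.pow_le_pow_right hp.out.pos this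
  refine Or.inr ⟨zpowers e, T ⊓ centralizer ({e} : Set R), heo, ?_, ?_, ?_, ?_⟩
  · refine CfsgLib.FGSA.RankTwoOdd.isCyclic_of_omega_le hp2 hR _ (Z₁ p R) hZ fun c hc hcp => hET ▸ ⟨?_, hc.1⟩
    refine hmem c hcp fun a ha => mem_centralizer_singleton_iff.1 ?_
    refine (hEsup.ge.trans (sup_le (fun z hz => mem_centralizer_singleton_iff.2
      (mem_center_iff.1 (hZc hz) c).symm) (zpowers_le.2 (mem_centralizer_singleton_iff.2 ?_)))) ha
    exact (mem_centralizer_singleton_iff.1 hc.2).symm
  · refine (eq_bot_iff_forall _).2 fun x hx => by_contra fun hx1 => heT ?_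
    have hle : zpowers x ≤ zpowers e := zpowers_le.2 hx.1
    have hd := card_dvd_of_le hle
    rw [heo, Nat.card_zpowers] at hd
    have hxo : orderOf x = p := (hp.out.eq_one_or_self_of_dvd _ hd).resolve_left fun h => hx1 (orderOf_eq_one_iff.1 h)
    exact zpowers_le.2 hx.2.1 ((eq_of_le_of_card_ge hle (by rw [heo, Nat.card_zpowers, hxo])).ge (mem_zpowers e))
  · intro a ha b hb
    obtain ⟨i, rfl⟩ := mem_zpowers_iff.1 ha
    exact (Commute.zpow_left (mem_centralizer_singleton_iff.1 hb.2).symm i).eq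
  · refine le_antisymm (sup_le ?_ ?_) fun y hy => ?_
    · exact le_centralizer_iff_isMulCommutative.2 inferInstance
    · intro b hb
      refine mem_centralizer_iff.2 fun a ha => ?_
      obtain ⟨i, rfl⟩ := mem_zpowers_iff.1 ha
      exact (Commute.zpow_left (mem_centralizer_singleton_iff.1 hb.2).symm i).eq
    · have hlt : T < T ⊔ zpowers e := lt_of_le_of_ne le_sup_left fun h => heT (h.ge (mem_sup_right (mem_zpowers e)))
      have htop : T ⊔ zpowers e = ⊤ := by
        have h1 := index_dvd_of_le (le_sup_left : T ≤ T ⊔ zpowers e)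
        rw [hTi] at h1
        rcases hp.out.eq_one_or_self_of_dvd _ h1 with h | h
        · exact index_eq_one.1 h
        · exact absurd (eq_of_le_of_card_ge hlt.le (Nat.le_of_mul_le_mul_right (c := p)
            (le_of_eq (by
              have a1 := T.card_mul_index
              have a2 := (T ⊔ zpowers e).card_mul_index
              rw [hTi] at a1
              rw [h] at a2
              rw [a1, a2])) hp.out.pos)) hlt.ne
      obtain ⟨t, ht, v, hv, rfl⟩ := mem_sup_of_normal_left.1 (htop.ge (mem_top y))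
      have hev : Commute v e := by
        obtain ⟨i, rfl⟩ := mem_zpowers_iff.1 hv
        exact Commute.zpow_left (Commute.refl e) i
      have hye : Commute (t * v) e := (mem_centralizer_iff.1 hy e (mem_zpowers e)).symm
      have hte : Commute t e := by
        simpa [mul_assoc] using hye.mul_left hev.inv_left
      exact mul_mem (mem_sup_right ⟨ht, mem_centralizer_singleton_iff.2 hte⟩) (mem_sup_left hv)

end Narrow

variable {G : Type u} [Group G] [Finite G] {p : ℕ} [Fact p.Prime]
variable (hG : Cfsg.IsMinSimpleOddOrder G)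
include hG

/-- For a prime outside `β(M)`, the Sylow subgroups of `M` are narrow. -/
theorem narrow_of_not_beta {M : Subgroup G} (hM : IsCoatom M) (hpM : p ∣ Nat.card M) (hpβ : p ∉ Cfsg.beta M)
    (S : Sylow p M) : Cfsg.IsNarrow p ↥(S : Subgroup M) := by
  by_cases hr : Cfsg.PRankLE p 2 ↥(S : Subgroup M)
  · exact Or.inl hr
  have hp2 : p ≠ 2 := CfsgLib.FGSA.RankTwoSolvable.ne_two_of_dvd (hpM.trans (card_subgroup_dvd_card M)) hG.1
  have hrM : ¬ Cfsg.PRankLE p 2 M := fun h => hr (by
    intro A hA hAe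
    haveI := hA
    have h' := h (A.map (S : Subgroup M).subtype) (Subgroup.map_isMulCommutative A _) (by
      rintro _ ⟨a, ha, rfl⟩; rw [← map_pow, hAe a ha, map_one])
    rwa [Nat.card_congr (A.equivMapOfInjective _ (S : Subgroup M).subtype_injective).toEquiv.symm] at h')
  have hα : p ∈ Cfsg.alpha M := ⟨Fact.out, hrM⟩
  have hσ := Sig.alpha_subset_sigma hG hM hα
  have hrG : ¬ Cfsg.PRankLE p 2 G := fun h => hrM (by
    intro A hA hAe
    haveI := hA
    have h' := h (A.map M.subtype) (Subgroup.map_isMulCommutative A _) (by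
      rintro _ ⟨a, ha, rfl⟩; rw [← map_pow, hAe a ha, map_one])
    rwa [card_map_of_injective M.subtype_injective] at h')
  obtain ⟨P, A, hAP, hA, hA2, hmax⟩ : ∃ (P : Sylow p G) (A : Subgroup G), A ≤ (P : Subgroup G) ∧
      Cfsg.IsElementaryAbelian p A ∧ Nat.card A = p ^ 2 ∧
      ∀ B : Subgroup G, B ≤ (P : Subgroup G) → Cfsg.IsElementaryAbelian p B → ¬ A < B := by
    by_contra hcon
    push Not at hcon
    exact hpβ ⟨hα, Fact.out, hrG, hcon⟩
  have hnd : ¬ p ∣ ((S : Subgroup M).map M.subtype).index := by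
    rw [← relIndex_mul_index (map_subtype_le _ : (S : Subgroup M).map M.subtype ≤ M), relIndex,
      ← comap_subtype, comap_map_eq_self_of_injective M.subtype_injective]
    intro h
    rcases (Nat.Prime.dvd_mul Fact.out).1 h with h | h
    · exact S.not_dvd_index h
    · exact Sig.not_dvd_index hσ h
  let Q : Sylow p G := (S.2.map M.subtype).toSylow hnd
  let eQ : (S : Subgroup M) ≃* (P : Subgroup G) :=
    ((S : Subgroup M).equivMapOfInjective _ M.subtype_injective).trans (Q.equiv P)
  refine narrow_of_maxE hp2 S.2 ((A.subgroupOf (P : Subgroup G)).map eQ.symm.toMonoidHom) ⟨?_, ?_⟩ ?_ ?_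
  · haveI := hA.1
    haveI : IsMulCommutative (A.subgroupOf (P : Subgroup G)) :=
      ⟨⟨fun a b => Subtype.ext (Subtype.ext (setLike_mul_comm (mem_subgroupOf.1 a.2) (mem_subgroupOf.1 b.2)))⟩⟩
    exact Subgroup.map_isMulCommutative _ _
  · rintro _ ⟨a, ha, rfl⟩
    rw [← map_pow, ← map_one eQ.symm.toMonoidHom]
    exact congrArg _ (Subtype.ext (hA.2 _ ha))
  · rw [card_map_of_injective (MulEquiv.injective _), Nat.card_congr (subgroupOfEquivOfLe hAP).toEquiv, hA2]
  · intro B hB hle
    haveI := hB.1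
    set B' := (B.map eQ.toMonoidHom).map (P : Subgroup G).subtype
    have hB' : Cfsg.IsElementaryAbelian p B' := by
      haveI := Subgroup.map_isMulCommutative B eQ.toMonoidHom
      refine ⟨Subgroup.map_isMulCommutative _ _, ?_⟩
      rintro _ ⟨_, ⟨b, hb, rfl⟩, rfl⟩
      rw [← map_pow, ← map_pow, hB.2 b hb, map_one, map_one]
    have hAB : A ≤ B' := fun a ha => by
      refine ⟨⟨a, hAP ha⟩, ⟨eQ.symm ⟨a, hAP ha⟩, hle ⟨⟨a, hAP ha⟩, ha, rfl⟩, ?_⟩, rfl⟩
      exact eQ.apply_symm_apply _
    have hcard : Nat.card B' = Nat.card B := by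
      rw [card_map_of_injective (P : Subgroup G).subtype_injective, card_map_of_injective (MulEquiv.injective _)]
    refine (eq_of_le_of_card_ge hle ?_).symm
    rw [← hcard, ← (le_antisymm hAB (not_lt_iff_le_imp_ge.1 (hmax B' (map_subtype_le _) hB') hAB)),
      card_map_of_injective (MulEquiv.injective _), Nat.card_congr (subgroupOfEquivOfLe hAP).toEquiv]

/-- For a prime outside `β(M)`: structure of `M` and of its derived subgroup. -/
theorem structure_of_not_beta {M : Subgroup G} (hM : IsCoatom M) (hpM : p ∣ Nat.card M)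
    (hpβ : p ∉ Cfsg.beta M) :
    (∀ q : ℕ, q.Prime → q ∣ (Cfsg.pPrimeCore p ↥M).index → q ≤ p) ∧
      Cfsg.HasNormalPComplement p ↥(commutator ↥M) ∧ Cfsg.HasNormalPComplement p ↥⁅M, M⁆ := by
  haveI : Group.IsSolvable M := hG.2.2.2 M hM.1
  obtain ⟨S⟩ : Nonempty (Sylow p M) := inferInstance
  obtain ⟨h1, -, h3, -⟩ := Cfsg.Agent.S1455.result (hG.1.of_dvd_nat (card_subgroup_dvd_card M)) p hpM S
    (narrow_of_not_beta hG hM hpM hpβ S) fun _ => PLenOne.coatom_pLength hG hM
  refine ⟨h1, h3, ?_⟩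
  have hM' : (commutator M).map M.subtype = ⁅M, M⁆ := by
    rw [_root_.commutator_def, map_commutator, ← MonoidHom.range_eq_map, range_subtype]
  rw [← hM']
  exact CfsgLib.PResidual.hasNormalPComplement_of_injective
    ((commutator M).equivMapOfInjective _ M.subtype_injective).symm.toMonoidHom (MulEquiv.injective _) h3

omit [Fact p.Prime] in
/-- `M_β` is a Hall subgroup of `M` and of `G`. -/
theorem beta_hall {M : Subgroup G} (hM : IsCoatom M) :
    Cfsg.IsPiHallOf (Cfsg.beta M) (Cfsg.piCoreOf (Cfsg.beta M) M) M ∧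
      Cfsg.IsPiHall (Cfsg.beta M) (Cfsg.piCoreOf (Cfsg.beta M) M) := by
  classical
  obtain ⟨hσh, -, hσM'⟩ := Sig.sigma_core hG hM
  have hprimes : ∀ q : ℕ, q.Prime → q ∣ Nat.card (Cfsg.piCoreOf (Cfsg.beta M) M) → q ∈ Cfsg.beta M :=
    TH.core_primes M
  have key : ∀ q : ℕ, q.Prime → q ∈ Cfsg.beta M → ¬ q ∣ (Cfsg.piCoreOf (Cfsg.beta M) M).relIndex M := by
    intro q hq hqβ hd
    haveI := Fact.mk hq
    rw [piCoreOf, relIndex, ← comap_subtype, comap_map_eq_self_of_injective M.subtype_injective] at hd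
    set D := commutator ↥M with hD
    haveI : D.Normal := by rw [hD]; infer_instance
    let ι := {r : ℕ // r.Prime ∧ r ∣ Nat.card M ∧ r ∉ Cfsg.beta M}
    let N : ι → Subgroup M := fun r => (Cfsg.pPrimeCore r.1 D).map D.subtype
    have hNn : ∀ r : ι, (N r).Normal := fun r => by
      haveI := PLenZ.characteristic_pPrimeCore (X := D) r.1
      exact ConjAct.normal_of_characteristic_of_normal
    set K := D ⊓ ⨅ r, N r with hK
    haveI : (⨅ r, N r).Normal := normal_iInf_normal hNn
    have hKn : K.Normal := normal_inf_normal _ _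
    have hKcore : K ≤ Cfsg.piCore (Cfsg.beta M) M := le_sSup ⟨hKn, fun r hr hrd => by_contra fun hrβ => by
      have hle : K ≤ N ⟨r, hr, hrd.trans (card_subgroup_dvd_card K), hrβ⟩ := inf_le_right.trans (iInf_le _ _)
      have h1 := hrd.trans (card_dvd_of_le hle)
      rw [card_map_of_injective D.subtype_injective] at h1
      haveI := Fact.mk hr
      exact hr.coprime_iff_not_dvd.1 (CfsgLib.Solvable.coprime_card_pPrimeCore (G := D) r).symm h1⟩
    obtain ⟨Q⟩ : Nonempty (Sylow q M) := inferInstance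
    obtain ⟨j, hj⟩ := IsPGroup.iff_card.1 Q.isPGroup'
    refine Q.not_dvd_index (hd.trans ((index_dvd_of_le hKcore).trans (index_dvd_of_le ?_)))
    have hqD : ¬ q ∣ D.index := fun h => by
      have hσc : (Cfsg.piCore (Cfsg.sigma M) M) ≤ D := fun x hx => by
        have h' : (x : G) ∈ (commutator M).map M.subtype := by
          rw [_root_.commutator_def, map_commutator, ← MonoidHom.range_eq_map, range_subtype]
          exact hσM' (mem_map_of_mem _ hx)
        obtain ⟨y, hy, hyx⟩ := h'
        rwa [← M.subtype_injective hyx]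
      refine hσh.2.2 q hq (Sig.alpha_subset_sigma hG hM hqβ.1) ?_
      rw [Cfsg.sigmaCore, relIndex, ← comap_subtype, comap_map_eq_self_of_injective M.subtype_injective]
      exact h.trans (index_dvd_of_le hσc)
    have hQD : (Q : Subgroup M) ≤ D := le_of_coprime_index (by
      rw [hj]; exact (hq.coprime_iff_not_dvd.2 hqD).pow_left j)
    refine le_inf hQD (le_iInf fun r => ?_)
    haveI := Fact.mk r.2.1
    haveI : (Cfsg.pPrimeCore r.1 D).Normal := CfsgLib.Solvable.pPrimeCore_normal r.1
    obtain ⟨k, hk⟩ := npc_index (structure_of_not_beta hG hM r.2.2.1 r.2.2.2).2.1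
    have h1 : ((Q : Subgroup M).subgroupOf D) ≤ Cfsg.pPrimeCore r.1 D := le_of_coprime_index (by
      rw [Nat.card_congr (subgroupOfEquivOfLe hQD).toEquiv, hj, hk]
      exact Nat.Coprime.pow j k ((Nat.coprime_primes hq r.2.1).2 fun h => r.2.2.2 (h ▸ hqβ)))
    exact fun x hx => ⟨⟨x, hQD hx⟩, h1 hx, rfl⟩
  refine ⟨⟨map_subtype_le _, hprimes, key⟩, hprimes, fun q hq hqβ hd => ?_⟩
  haveI := Fact.mk hq
  rw [← relIndex_mul_index (show Cfsg.piCoreOf (Cfsg.beta M) M ≤ M from map_subtype_le _)] at hd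
  rcases hq.dvd_mul.1 hd with h | h
  · exact key q hq hqβ h
  · exact Sig.not_dvd_index (Sig.alpha_subset_sigma hG hM hqβ.1) h

omit [Fact p.Prime] in
theorem npc_sigma {M : Subgroup G} (hM : IsCoatom M) {q : ℕ} (hq : q.Prime) (hqM : q ∣ Nat.card M)
    (hqβ : q ∉ Cfsg.beta M) : Cfsg.HasNormalPComplement q ↥(Cfsg.sigmaCore M) := by
  haveI := Fact.mk hq
  have h := (Sig.sigma_core hG hM).2.2
  exact CfsgLib.PResidual.hasNormalPComplement_of_injective (inclusion h) (inclusion_injective h)
    (structure_of_not_beta hG hM hqM hqβ).2.2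

end CfsgLib.OddLocal.Beta
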