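import Cfsg.Agent.OddLocal.CNMaxNilpotent
import Cfsg.Agent.ZJ.FullCenter
import Cfsg.Agent.ZJ.NormalPComplement
import Cfsg.Agent.ZJ.Involve
import Cfsg.Agent.FGSA.GTCriterion
import Cfsg.Agent.Invol.FocalTransfer
import Cfsg.Agent.Solvable.Fitting
import Cfsg.Agent.Solvable.Hall
import Cfsg.Agent.Solvable.FpfComplement
import Cfsg.Prelude.Def_OddOrder

/-!
Minimal simple CN-groups of odd order: maximal nilpotent subgroups are TI Hall subgroups whose
normalizers are the maximal subgroups.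
-/

set_option autoImplicit false
set_option linter.style.haveILetI false
set_option linter.unusedSectionVars false

namespace CfsgLib.CN

open Subgroup CfsgLib.Frobenius

theorem isCNGroup_subgroup {G : Type*} [Group G] (hCN : Cfsg.IsCNGroup G) (E : Subgroup G) :
    Cfsg.IsCNGroup E := by
  intro x hx
  have h := hCN (x : G) (fun e => hx (Subtype.ext e))
  set C := centralizer ({x} : Set E)
  have hle : C.map E.subtype ≤ centralizer ({(x : G)} : Set G) := by
    rintro _ ⟨y, hy, rfl⟩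
    exact mem_centralizer_singleton_iff.2 (congrArg Subtype.val (mem_centralizer_singleton_iff.1 hy))
  haveI := h
  haveI : Group.IsNilpotent (C.map E.subtype) :=
    (subgroupOfEquivOfLe hle).surjective |> fun hs =>
      Group.nilpotent_of_surjective (subgroupOfEquivOfLe hle).toMonoidHom hs
  exact Group.nilpotent_of_surjective (C.equivMapOfInjective E.subtype E.subtype_injective).symm.toMonoidHom
    (MulEquiv.surjective _)

/-- A CN-group of odd order acting fixed-point-freely is cyclic. -/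
theorem isCyclic_of_fpf {E K : Type*} [Group E] [Finite E] [Group K] [Finite K] [Nontrivial K]
    (hodd : Odd (Nat.card E)) (hCN : Cfsg.IsCNGroup E) {φ : E →* MulAut K} (h : IsFpf φ) : IsCyclic E := by
  rcases subsingleton_or_nontrivial E with hs | hn
  · infer_instance
  obtain ⟨z, hz, hz1⟩ := (Subgroup.bot_or_exists_ne_one _).resolve_left (CfsgLib.FpfComplement.center_ne_bot h)
  haveI : Group.IsNilpotent E := by
    have hC : centralizer ({z} : Set E) = ⊤ := eq_top_iff.2 fun y _ =>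
      mem_centralizer_singleton_iff.2 (mem_center_iff.1 hz y)
    have h' := hCN z hz1
    rw [hC] at h'
    haveI := h'
    exact Group.nilpotent_of_surjective (topEquiv : (⊤ : Subgroup E) ≃* E).toMonoidHom (MulEquiv.surjective _)
  haveI : IsZGroup E := ⟨fun p hp P => by
    haveI : Fact p.Prime := ⟨hp⟩
    rcases CfsgLib.FpfComplement.sylow_cyclic_or_quaternion h p P with hP | ⟨rfl, n, -, ⟨e⟩⟩
    · exact hP
    · exfalso
      refine Nat.not_even_iff_odd.2 hodd (even_iff_two_dvd.2 (dvd_trans ?_ (Subgroup.card_subgroup_dvd_card (P : Subgroup E))))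
      rw [Nat.card_congr e.toEquiv, Nat.card_eq_fintype_card, QuaternionGroup.card]
      exact dvd_mul_of_dvd_left (by norm_num) _⟩
  infer_instance

variable {G : Type*} [Group G] [Finite G]

/-- A group of odd order acting fixed-point-freely on `L` inside a CN-group is cyclic. -/
theorem isCyclic_of_inf_centralizer (hodd : Odd (Nat.card G)) (hCN : Cfsg.IsCNGroup G) {L E : Subgroup G}
    (hL : L ≠ ⊥) (hEL : E ≤ normalizer (L : Set G))
    (hfpf : ∀ e ∈ E, e ≠ 1 → L ⊓ centralizer ({e} : Set G) = ⊥) : IsCyclic E := by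
  haveI : Nontrivial L := (nontrivial_iff_ne_bot L).2 hL
  refine isCyclic_of_fpf (K := L) (φ := (normalizerMonoidHom L).comp (inclusion hEL))
    (hodd.of_dvd_nat (card_subgroup_dvd_card E)) (isCNGroup_subgroup hCN E) fun e he l hl => Subtype.ext ?_
  refine mem_bot.1 (hfpf e e.2 (fun h => he (Subtype.ext h)) ▸
    (⟨l.2, ?_⟩ : (l : G) ∈ L ⊓ centralizer ({(e : G)} : Set G)))
  have h1 : (e : G) * (l : G) * (e : G)⁻¹ = l := congrArg Subtype.val hl
  exact mem_centralizer_singleton_iff.2 (mul_inv_eq_iff_eq_mul.1 h1).symm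

/-- A subgroup controlling the fusion of its `p`-elements in a perfect group has no nontrivial
`p`-quotient. -/
theorem eq_top_of_index_pow {p : ℕ} [Fact p.Prime] (hperf : commutator G = ⊤) {M : Subgroup G}
    (hidx : p.Coprime M.index)
    (hfus : ∀ g ∈ M, (∃ k : ℕ, orderOf g = p ^ k) → ∀ a : G, a * g * a⁻¹ ∈ M →
      ∃ h ∈ M, h * g * h⁻¹ = a * g * a⁻¹)
    {K : Subgroup M} [K.Normal] {n : ℕ} (hn : K.index = p ^ n) : K = ⊤ := by
  have h := CfsgLib.FocalTransfer.pResidual_sup_commutator_inf (p := p) M hidx hfus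
  rw [hperf, sup_top_eq, top_inf_eq] at h
  have h' : Cfsg.pResidual p ↥M ⊔ commutator ↥M = ⊤ := by
    refine map_injective M.subtype_injective ?_
    rw [← h, ← MonoidHom.range_eq_map, range_subtype]
  have h2 : K ⊔ commutator ↥M = ⊤ :=
    eq_top_iff.2 (h'.ge.trans (sup_le_sup (CfsgLib.PResidual.pResidual_le hn) le_rfl))
  have hp : IsPGroup p (↥M ⧸ K) := IsPGroup.of_card (by rw [← index_eq_card, hn])
  haveI := hp.isNilpotent
  have h3 : commutator (↥M ⧸ K) = ⊤ := by
    have h4 := congrArg (Subgroup.map (QuotientGroup.mk' K)) h2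
    rw [Subgroup.map_sup, QuotientGroup.map_mk'_self, bot_sup_eq, _root_.commutator_def, map_commutator,
      Subgroup.map_top_of_surjective _ (QuotientGroup.mk'_surjective K)] at h4
    exact h4
  by_contra hK
  haveI : Nontrivial (↥M ⧸ K) := QuotientGroup.nontrivial_iff.2 hK
  exact (Group.IsSolvable.commutator_lt_top_of_nontrivial (↥M ⧸ K)).ne h3

/-! ### Minimal simple groups of odd order -/

theorem MinSimple.nontrivial (hG : Cfsg.IsMinSimpleOddOrder G) : Nontrivial G :=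
  hG.2.1.toNontrivial

theorem MinSimple.perfect (hG : Cfsg.IsMinSimpleOddOrder G) : commutator G = ⊤ := by
  haveI := hG.2.1
  refine (IsSimpleGroup.eq_bot_or_eq_top_of_normal _ inferInstance).resolve_left fun h => hG.2.2.1 ?_
  exact ⟨⟨fun a b => commutatorElement_eq_one_iff_mul_comm.1 (mem_bot.1 (h ▸ by
    rw [_root_.commutator_def]; exact commutator_mem_commutator (mem_top a) (mem_top b)))⟩⟩

theorem MinSimple.not_nilpotent (hG : Cfsg.IsMinSimpleOddOrder G) : ¬ Group.IsNilpotent G := by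
  intro h
  haveI := hG.2.1
  haveI := MinSimple.nontrivial hG
  haveI : Group.IsNilpotent G := h
  exact (Group.IsSolvable.commutator_lt_top_of_nontrivial G).ne (MinSimple.perfect hG)

theorem MinSimple.ne_top (hG : Cfsg.IsMinSimpleOddOrder G) {K : Subgroup G} (hK : Group.IsNilpotent K) :
    K ≠ ⊤ := by
  rintro rfl
  haveI := hK
  exact MinSimple.not_nilpotent hG
    (Group.nilpotent_of_surjective (topEquiv : (⊤ : Subgroup G) ≃* G).toMonoidHom (MulEquiv.surjective _))

theorem MinSimple.normalizer_ne_top (hG : Cfsg.IsMinSimpleOddOrder G) {K : Subgroup G}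
    (hK : Group.IsNilpotent K) (h1 : K ≠ ⊥) : normalizer (K : Set G) ≠ ⊤ := by
  intro h
  haveI := hG.2.1
  haveI : K.Normal := normalizer_eq_top_iff.1 h
  exact ((IsSimpleGroup.eq_bot_or_eq_top_of_normal K inferInstance).resolve_left h1 |> MinSimple.ne_top hG hK)

theorem MinSimple.not_hasNormalPComplement (hG : Cfsg.IsMinSimpleOddOrder G) {p : ℕ} [Fact p.Prime]
    (hp : p ∣ Nat.card G) : ¬ Cfsg.HasNormalPComplement p G := by
  rintro ⟨P, N, hN, hc⟩
  haveI := hG.2.1
  rcases IsSimpleGroup.eq_bot_or_eq_top_of_normal N hN with h | h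
  · subst h
    exact MinSimple.ne_top hG P.2.isNilpotent (isComplement'_bot_left.1 hc)
  · subst h
    exact P.ne_bot_of_dvd_card hp (isComplement'_top_left.1 hc)

theorem MinSimple.p_ne_two (hG : Cfsg.IsMinSimpleOddOrder G) {p : ℕ} (hp : p ∣ Nat.card G) : p ≠ 2 := by
  rintro rfl
  exact Nat.not_even_iff_odd.2 hG.1 (even_iff_two_dvd.2 hp)

theorem MinSimple.not_involves_qd (hG : Cfsg.IsMinSimpleOddOrder G) {p : ℕ} [Fact p.Prime] (hp : p ≠ 2) :
    ¬ Cfsg.Involves ↥(Cfsg.qd p) G := by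
  intro hq
  obtain ⟨M, f, hf⟩ := CfsgLib.ZJ.exists_surjective_of_involves (CfsgLib.ZJ.involves_sl2_of_qd hq)
  haveI : Fact (2 < p) := ⟨lt_of_le_of_ne (Fact.out : p.Prime).two_le (Ne.symm hp)⟩
  have h2 : orderOf (-1 : Matrix.SpecialLinearGroup (Fin 2) (ZMod p)) = 2 := by
    refine orderOf_eq_prime (by simp) fun e => ?_
    have := congrFun (congrFun (congrArg Subtype.val e) 0) 0
    simp [ZMod.neg_one_ne_one] at this
  refine Nat.not_even_iff_odd.2 hG.1 (even_iff_two_dvd.2 ?_)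
  rw [← h2]
  exact ((_root_.orderOf_dvd_natCard _).trans (card_dvd_of_surjective f hf)).trans (card_subgroup_dvd_card M)

/-- A solvable group with a cyclic Hall `p'`-subgroup has a normal Sylow `p`-subgroup or a
nontrivial `p`-quotient. -/
theorem sylow_eq_pCore_or_quotient {T : Type*} [Group T] [Finite T] [Group.IsSolvable T] {p : ℕ}
    [Fact p.Prime] (S : Sylow p T) (E : Subgroup T) [IsCyclic E] (hEp : (Nat.card E).Coprime p) {k : ℕ}
    (hk : E.index = p ^ k) :
    (S : Subgroup T) = Cfsg.pCore p T ∨ ∃ K : Subgroup T, K.Normal ∧ K ≠ ⊤ ∧ ∃ n, K.index = p ^ n := by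
  have hp := (Fact.out : p.Prime)
  set F := Cfsg.pCore p T with hF
  obtain ⟨π, hπdef⟩ : ∃ π : T →* T ⧸ F, π = QuotientGroup.mk' F := ⟨_, rfl⟩
  have hπ : Function.Surjective π := hπdef ▸ QuotientGroup.mk'_surjective F
  have hker : π.ker = F := by rw [hπdef, QuotientGroup.ker_mk']
  have hdvd : (E.map π).index ∣ p ^ k := by
    rw [← hk]
    exact index_map_dvd E hπ
  obtain ⟨i, -, hi⟩ := (Nat.dvd_prime_pow hp).1 hdvd
  have hE'p : (Nat.card (E.map π)).Coprime p := hEp.coprime_dvd_left (card_map_dvd E π)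
  have hQcore : Cfsg.pCore p (T ⧸ F) = ⊥ := by
    have hcp : IsPGroup p (Cfsg.pCore p (T ⧸ F)) := CfsgLib.Solvable.isPGroup_pCore p
    have hFp : IsPGroup p F := CfsgLib.Solvable.isPGroup_pCore p
    have hcom : IsPGroup p ((Cfsg.pCore p (T ⧸ F)).comap π) := hcp.comap_of_ker_isPGroup π (hker.symm ▸ hFp)
    have h : (Cfsg.pCore p (T ⧸ F)).comap π ≤ F :=
      CfsgLib.Solvable.le_pCore p (Subgroup.Normal.comap inferInstance π) hcom
    rw [← map_comap_eq_self_of_surjective hπ (Cfsg.pCore p (T ⧸ F)), Subgroup.map_eq_bot_iff, hker]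
    exact h
  have hFE : Cfsg.fittingSubgroup (T ⧸ F) ≤ E.map π := by
    rw [CfsgLib.Solvable.fittingSubgroup_eq_iSup_pCore]
    refine iSup_le fun r => ?_
    by_cases hr : (r : ℕ) = p
    · rw [hr, hQcore]; exact bot_le
    haveI := Fact.mk r.2
    obtain ⟨j, hj⟩ := IsPGroup.iff_card.1 (CfsgLib.Solvable.isPGroup_pCore (G := T ⧸ F) (r : ℕ))
    have hsup : (Nat.card ↥(E.map π ⊔ Cfsg.pCore (r : ℕ) (T ⧸ F))).Coprime p := by
      refine Nat.Coprime.coprime_dvd_left (CfsgLib.Solvable.card_sup_dvd le_normalizer_of_normal) ?_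
      exact Nat.Coprime.mul_left hE'p (by rw [hj]; exact ((Nat.coprime_primes r.2 hp).2 hr).pow_left j)
    refine (le_sup_right : Cfsg.pCore (r : ℕ) (T ⧸ F) ≤ E.map π ⊔ Cfsg.pCore (r : ℕ) (T ⧸ F)).trans
      (relIndex_eq_one.1 ?_)
    refine Nat.eq_one_of_dvd_coprimes (hsup.pow_right i) (Subgroup.index_dvd_card _) ?_
    rw [← hi, ← relIndex_mul_index (le_sup_left : E.map π ≤ E.map π ⊔ Cfsg.pCore (r : ℕ) (T ⧸ F))]
    exact dvd_mul_right _ _
  have hE'F : E.map π ≤ Cfsg.fittingSubgroup (T ⧸ F) := by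
    refine le_trans (fun x hx => mem_centralizer_iff.2 fun y hy => ?_)
      CfsgLib.Fitting.centralizer_fittingSubgroup_le_of_solvable
    haveI : IsCyclic (E.map π) := isCyclic_of_surjective _ (π.subgroupMap_surjective E)
    exact setLike_mul_comm (hFE hy) hx
  have hn : (E.map π).Normal := (le_antisymm hFE hE'F) ▸ CfsgLib.Solvable.fittingSubgroup_normal
  by_cases htop : E.map π = ⊤
  · left
    refine le_antisymm ?_ (CfsgLib.Fitting.pCore_le_sylow S)
    refine relIndex_eq_one.1 ?_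
    have hFidx : (F.index).Coprime p := by
      rw [index_eq_card, ← Subgroup.card_top (G := T ⧸ F), ← htop]
      exact hE'p
    obtain ⟨j, hj⟩ := S.2.index (F.subgroupOf (S : Subgroup T))
    exact Nat.eq_one_of_dvd_coprimes (hFidx.pow_right j)
      (relIndex_dvd_index_of_normal F (S : Subgroup T)) hj.dvd
  · right
    refine ⟨(E.map π).comap π, hn.comap π, fun h => htop ?_, i, by rw [index_comap_of_surjective _ hπ, hi]⟩
    rw [← map_comap_eq_self_of_surjective hπ (E.map π), h, Subgroup.map_top_of_surjective π hπ]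

/-- The centralizers of the non-identity elements of a maximal nilpotent subgroup lie inside it. -/
theorem centLe (hG : Cfsg.IsMinSimpleOddOrder G) (hCN : Cfsg.IsCNGroup G) {H : Subgroup G} (hH : MaxNilp H) :
    CentLe H := by
  haveI := MinSimple.nontrivial hG
  by_cases hpp : IsPrimePow (Nat.card H)
  swap
  · exact centLe_of_not_isPrimePow hCN hH hpp
  obtain ⟨p, k, hp, hk, hpk⟩ := (isPrimePow_nat_iff _).1 hpp
  haveI := Fact.mk hp
  have hHp : IsPGroup p H := IsPGroup.of_card hpk.symm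
  obtain ⟨P, hP⟩ := exists_sylow_eq hH hHp
  have hpG : p ∣ Nat.card G :=
    (dvd_pow_self p hk.ne').trans (hpk ▸ card_subgroup_dvd_card H)
  have hp2 : p ≠ 2 := MinSimple.p_ne_two hG hpG
  have hcop : ∀ {a b : G}, a ∈ H → (orderOf b).Coprime p → (orderOf b).Coprime (orderOf a) :=
    fun ha hb => coprime_order hHp ha hb
  have hone : ∀ {b : G}, b ∈ H → (orderOf b).Coprime p → b = 1 := fun hb hb' => by
    have := hcop hb hb'
    rwa [Nat.coprime_self, orderOf_eq_one_iff] at this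
  set Z := Cfsg.centerThompsonOf p H with hZdef
  set M := normalizer (Z : Set G) with hMdef
  have K := CfsgLib.ZJ.zkind_centerThompsonOf (p := p) hp2
  have hZH : Z ≤ H := K.le G H
  have hZ1 : Z ≠ ⊥ := K.ne_bot G H hHp hH.ne_bot
  have hHM : H ≤ M := le_normalizer.trans (CfsgLib.ZJ.normalizer_le_centerThompsonOf H)
  have hMtop : M ≠ ⊤ := MinSimple.normalizer_ne_top hG (nilpotent_of_le hH.1 hZH) hZ1
  haveI : Group.IsSolvable M := hG.2.2.2 M hMtop
  obtain ⟨z, hzH, hz1, hz⟩ := exists_central hH.1 hH.ne_bot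
  have hctrl : ∀ (A : Set G), A ⊆ H → ∀ g : G, (fun a => g * a * g⁻¹) '' A ⊆ H →
      ∃ x ∈ M, ∀ a ∈ A, g * a * g⁻¹ = x * a * x⁻¹ := by
    intro A hA g hg
    have h := (CfsgLib.ZJ.controlsStrongFusionOf_of_fused (S := (P : Subgroup G))
      (fun B x hB hx => CfsgLib.ZJ.control_of_free hp2 K G (MinSimple.not_involves_qd hG hp2) P _
        (CfsgLib.ZJ.stronglyClosed_self P) B x hB hx) A (by rw [hP]; exact hA)).2 g (by rw [hP]; exact hg)
    simpa only [hP] using h
  let PM : Sylow p M := P.subtype (hP ▸ hHM)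
  have hPM : (PM : Subgroup M) = H.subgroupOf M := by rw [Sylow.coe_subtype, hP]
  have hfus : ∀ g ∈ M, (∃ i : ℕ, orderOf g = p ^ i) → ∀ a : G, a * g * a⁻¹ ∈ M →
      ∃ h ∈ M, h * g * h⁻¹ = a * g * a⁻¹ := by
    have conj_into : ∀ g ∈ M, (∃ i : ℕ, orderOf g = p ^ i) → ∃ m ∈ M, m * g * m⁻¹ ∈ H := by
      rintro g hg ⟨i, hi⟩
      have hgp : IsPGroup p (zpowers (⟨g, hg⟩ : M)) :=
        IsPGroup.of_card (n := i) (by rw [Nat.card_zpowers, orderOf_mk, hi])
      obtain ⟨T, hT⟩ := hgp.exists_le_sylow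
      obtain ⟨m, hm⟩ := MulAction.exists_smul_eq M T PM
      refine ⟨m, m.2, ?_⟩
      have : MulAut.conj m ⟨g, hg⟩ ∈ (PM : Subgroup M) := by
        rw [← hm, Sylow.coe_subgroup_smul]
        exact Subgroup.smul_mem_pointwise_smul _ _ _ (hT (mem_zpowers _))
      rw [hPM] at this
      exact this
    intro g hg hgp a ha
    obtain ⟨m₁, hm₁, h₁⟩ := conj_into g hg hgp
    obtain ⟨m₂, hm₂, h₂⟩ := conj_into _ ha
      (hgp.imp fun i hi => by rw [← hi]; exact (MulAut.conj a).orderOf_eq g)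
    obtain ⟨x, hx, hxe⟩ := hctrl {m₁ * g * m₁⁻¹} (by simpa using h₁) (m₂ * a * m₁⁻¹) (by
      rintro _ ⟨y, rfl, rfl⟩
      simpa [mul_assoc] using h₂)
    have he := hxe _ rfl
    refine ⟨m₂⁻¹ * x * m₁, mul_mem (mul_mem (inv_mem hm₂) hx) hm₁, ?_⟩
    calc m₂⁻¹ * x * m₁ * g * (m₂⁻¹ * x * m₁)⁻¹ = m₂⁻¹ * (x * (m₁ * g * m₁⁻¹) * x⁻¹) * m₂ := by group
      _ = m₂⁻¹ * (m₂ * a * m₁⁻¹ * (m₁ * g * m₁⁻¹) * (m₂ * a * m₁⁻¹)⁻¹) * m₂ := by rw [he]
      _ = a * g * a⁻¹ := by group
  have hO : Cfsg.pPrimeCore p M = ⊥ := by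
    have hne : Z.subgroupOf H ≠ ⊥ := fun h => hZ1 (by
      rw [← map_subgroupOf_eq_of_le hZH, h, Subgroup.map_bot])
    haveI := hH.1
    haveI : (Z.subgroupOf H).Normal := (normal_subgroupOf_iff_le_normalizer hZH).2 hHM
    obtain ⟨z₀, hz₀, hz₀1⟩ :=
      (Subgroup.bot_or_exists_ne_one _).resolve_left (CfsgLib.PGroupBasic.inf_center_ne_bot _ hne)
    rw [eq_bot_iff]
    intro n hn
    haveI : (Z.subgroupOf M).Normal := normal_in_normalizer
    have hno : (orderOf n).Coprime p :=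
      (CfsgLib.Solvable.coprime_card_pPrimeCore p).coprime_dvd_left ((Cfsg.pPrimeCore p M).orderOf_dvd_natCard hn)
    have hdis : Disjoint (Cfsg.pPrimeCore p M) (Z.subgroupOf M) := by
      obtain ⟨j, hj⟩ := IsPGroup.iff_card.1 ((hHp.to_le hZH).comap_subtype : IsPGroup p (Z.subgroupOf M))
      refine disjoint_of_coprime_natCard ?_
      show (Nat.card (Cfsg.pPrimeCore p M)).Coprime (Nat.card (Z.subgroupOf M))
      erw [hj]
      exact (CfsgLib.Solvable.coprime_card_pPrimeCore p).pow_right j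
    have hc := commute_of_normal_of_disjoint _ _ inferInstance inferInstance hdis n
      (⟨((z₀ : H) : G), hHM z₀.2⟩ : M) hn hz₀.1
    have hnC : (n : G) ∈ H := by
      rw [← centralizer_eq hCN hH (z := ((z₀ : H) : G)) (fun e => hz₀1 (Subtype.ext e))
        (fun h hh => congrArg Subtype.val (mem_center_iff.1 hz₀.2 ⟨h, hh⟩))]
      exact mem_centralizer_singleton_iff.2 (congrArg Subtype.val hc.eq)
    exact mem_bot.2 (Subtype.ext (hone hnC (by rwa [orderOf_coe])))
  set F := Cfsg.pCore p M with hFdef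
  have hFH : ∀ f ∈ F, (f : G) ∈ H := fun f hf => by
    have := CfsgLib.Fitting.pCore_le_sylow PM hf
    rw [hPM] at this
    exact this
  have hzF : (⟨z, hHM hzH⟩ : M) ∈ F := by
    refine CfsgLib.Fitting.centralizer_pCore_le hO (mem_centralizer_iff.2 fun f hf => Subtype.ext ?_)
    exact (hz _ (hFH f hf)).eq
  have hfix : ∀ e : M, (orderOf e).Coprime p → ∀ f ∈ F, f ≠ 1 → e * f = f * e → e = 1 := by
    intro e he f hf hf1 hef
    refine Subtype.ext (hone ?_ (by rwa [orderOf_coe]))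
    refine mem_of_coprime_central hCN hH (hFH f hf) (fun h => hf1 (Subtype.ext h)) hz1 hz
      (mem_centralizer_singleton_iff.2 (congrArg Subtype.val hef)) ?_
    exact hcop hzH (by rwa [orderOf_coe])
  obtain ⟨E, hEc, -⟩ := CfsgLib.Hall.hall (G := M) (a := (PM : Subgroup M).index) (b := Nat.card (PM : Subgroup M))
    (by rw [mul_comm, card_mul_index]) PM.card_coprime_index.symm
  obtain ⟨kP, hkP⟩ := IsPGroup.iff_card.1 PM.2
  have hEidx : E.index = p ^ kP := by
    have h1 := card_mul_index E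
    rw [hEc, ← card_mul_index (PM : Subgroup M), hkP, mul_comm (p ^ kP)] at h1
    exact Nat.eq_of_mul_eq_mul_left (Nat.pos_of_ne_zero index_ne_zero_of_finite) h1
  have hEp : (Nat.card E).Coprime p := by
    rw [hEc]
    exact CfsgLib.PResidual.coprime_of_not_dvd hp PM.not_dvd_index
  have hcyc : IsCyclic E := by
    haveI : Nontrivial F := ⟨⟨⟨_, hzF⟩, 1, fun e => hz1 (congrArg (fun w : F => ((w : M) : G)) e)⟩⟩
    refine isCyclic_of_inf_centralizer (hG.1.of_dvd_nat (card_subgroup_dvd_card M)) (isCNGroup_subgroup hCN M)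
      (L := F) ((nontrivial_iff_ne_bot F).1 inferInstance) le_normalizer_of_normal fun e he he1 => ?_
    rw [eq_bot_iff]
    rintro f ⟨hf, hfe⟩
    by_contra hf1
    exact he1 (hfix e (hEp.coprime_dvd_left (E.orderOf_dvd_natCard he)) f hf (fun h => hf1 (h ▸ one_mem _))
      (mem_centralizer_singleton_iff.1 hfe).symm)
  have hnormal : (PM : Subgroup M) = F := by
    refine (sylow_eq_pCore_or_quotient PM E hEp hEidx).resolve_right ?_
    rintro ⟨K', hK'n, hK', i, hi⟩
    haveI := hK'n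
    exact hK' (eq_top_of_index_pow (MinSimple.perfect hG) (M := M) (p := p)
      ((CfsgLib.PResidual.coprime_of_not_dvd hp
        (fun h => P.not_dvd_index (h.trans (hP ▸ index_dvd_of_le hHM)))).symm)
      hfus hi)
  have hnorm : M ≤ normalizer (H : Set G) := by
    refine (normal_subgroupOf_iff_le_normalizer hHM).1 ?_
    rw [← hPM, hnormal]
    infer_instance
  intro x hx hx1
  refine CfsgLib.FGSA.le_of_prime_power_mem fun r hr c hc ⟨j, hj⟩ => ?_
  by_cases hrp : r = p
  · subst hrp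
    obtain ⟨Q, -, hQp, hQall⟩ := CfsgLib.FGSA.exists_pPart (hCN x hx1) r
    obtain ⟨T, hT⟩ := hQp.exists_le_sylow
    obtain ⟨g, hg⟩ := MulAction.exists_smul_eq G P T
    have hTg : (T : Subgroup G) = H.map (MulAut.conj g).toMonoidHom := by
      rw [← hg, Sylow.coe_subgroup_smul, hP]; rfl
    have hzT : z ∈ H.map (MulAut.conj g).toMonoidHom := hTg ▸ hT (hQall z
      (mem_centralizer_singleton_iff.2 (hz x hx).symm.eq)
      (IsPGroup.iff_orderOf.1 hHp ⟨z, hzH⟩ |>.imp fun i hi => by rwa [← orderOf_coe] at hi))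
    rw [mem_map_conj] at hzT
    obtain ⟨m, hm, hme⟩ := hctrl {z} (by simpa using hzH) g⁻¹ (by
      rintro _ ⟨y, rfl, rfl⟩; simpa using hzT)
    have hgm : g * m ∈ M := hHM (by
      rw [← centralizer_eq hCN hH hz1 hz]
      refine mem_centralizer_singleton_iff.2 (mul_inv_eq_iff_eq_mul.1 ?_)
      calc g * m * z * (g * m)⁻¹ = g * (m * z * m⁻¹) * g⁻¹ := by group
        _ = g * (g⁻¹ * z * g⁻¹⁻¹) * g⁻¹ := by rw [hme z rfl]
        _ = z := by group)
    have hgN : g ∈ normalizer (H : Set G) := hnorm (by simpa using mul_mem hgm (inv_mem hm))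
    have hcT := hT (hQall c hc ⟨j, hj⟩)
    rw [hTg] at hcT
    exact (SetLike.ext_iff.1 (mem_normalizer_iff_map_conj_eq.1 hgN) c).1 hcT
  · refine mem_of_coprime_central hCN hH hx hx1 hz1 hz hc (hcop hzH ?_)
    rw [hj]
    exact ((Nat.coprime_primes hr hp).2 hrp).pow_left j

theorem ti (hG : Cfsg.IsMinSimpleOddOrder G) (hCN : Cfsg.IsCNGroup G) {H : Subgroup G} (hH : MaxNilp H) (g : G)
    (hg : H.map (MulAut.conj g).toMonoidHom ≠ H) : H ⊓ H.map (MulAut.conj g).toMonoidHom = ⊥ :=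
  ti_of_centLe hH.1 (centLe hG hCN hH) g hg

theorem eq_of_mem (hG : Cfsg.IsMinSimpleOddOrder G) (hCN : Cfsg.IsCNGroup G) {H L : Subgroup G}
    (hH : MaxNilp H) (hL : MaxNilp L) {x : G} (hxH : x ∈ H) (hxL : x ∈ L) (hx : x ≠ 1) : H = L := by
  obtain ⟨z, -, hz1, hz⟩ := exists_central hL.1 fun e => hx (mem_bot.1 (e ▸ hxL))
  have hzH : z ∈ H := centLe hG hCN hH x hxH hx (mem_centralizer_singleton_iff.2 (hz x hxL).symm.eq)
  exact hL.2 H hH.1 fun l hl => centLe hG hCN hH z hzH hz1 (mem_centralizer_singleton_iff.2 (hz l hl).eq)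

theorem exists_sylow_le (hCN : Cfsg.IsCNGroup G) {H : Subgroup G} (hH : MaxNilp H) {p : ℕ} [Fact p.Prime]
    (hp : p ∣ Nat.card H) : ∃ P : Sylow p G, (P : Subgroup G) ≤ H := by
  obtain ⟨Q⟩ := (inferInstance : Nonempty (Sylow p H))
  refine ⟨(Q.2.map H.subtype).toSylow ?_, map_subtype_le _⟩
  rw [index_map_subtype]
  refine (Fact.out : p.Prime).not_dvd_mul Q.not_dvd_index fun h => ?_
  exact (Fact.out : p.Prime).ne_one (Nat.eq_one_of_dvd_coprimes (coprime_index hCN hH) hp h)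

theorem normalizer_ne_self (hG : Cfsg.IsMinSimpleOddOrder G) (hCN : Cfsg.IsCNGroup G) {H : Subgroup G}
    (hH : MaxNilp H) : normalizer (H : Set G) ≠ H := by
  intro hN
  haveI := MinSimple.nontrivial hG
  obtain ⟨p, hp, hpd⟩ := Nat.exists_prime_and_dvd (fun e => hH.ne_bot (eq_bot_of_card_eq H e))
  haveI := Fact.mk hp
  have hpG : p ∣ Nat.card G := hpd.trans (card_subgroup_dvd_card H)
  have hp2 := MinSimple.p_ne_two hG hpG
  obtain ⟨P, hP⟩ := exists_sylow_le hCN hH hpd
  have K := CfsgLib.ZJ.zkind_centerThompsonOf (p := p) hp2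
  obtain ⟨z, hzZ, hz1⟩ := (Subgroup.bot_or_exists_ne_one _).resolve_left
    (K.ne_bot G P P.2 (P.ne_bot_of_dvd_card hpG))
  have hle : normalizer ((Cfsg.centerThompsonOf p (P : Subgroup G) : Subgroup G) : Set G) ≤ H := by
    intro g hg
    rw [← hN, mem_normalizer_iff_map_conj_eq]
    by_contra hne
    refine hz1 (mem_bot.1 (ti hG hCN hH g hne ▸ ⟨hP (K.le G P hzZ), ?_⟩))
    exact map_mono ((K.le G P).trans hP)
      ((SetLike.ext_iff.1 (mem_normalizer_iff_map_conj_eq.1 hg) z).2 hzZ)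
  haveI := nilpotent_of_le hH.1 hle
  exact MinSimple.not_hasNormalPComplement hG hpG
    (K.hasNormalPComplement hp2 G P CfsgLib.FGSA.GT.npc_of_isNilpotent)

/-- A maximal subgroup is the normalizer of a maximal nilpotent subgroup. -/
theorem exists_eq_normalizer (hG : Cfsg.IsMinSimpleOddOrder G) (hCN : Cfsg.IsCNGroup G) {M : Subgroup G}
    (hM : IsCoatom M) : ∃ L : Subgroup G, MaxNilp L ∧ M = normalizer (L : Set G) := by
  haveI := MinSimple.nontrivial hG
  haveI : Group.IsSolvable M := hG.2.2.2 M hM.1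
  have hM1 : M ≠ ⊥ := by
    rintro rfl
    obtain ⟨x, hx⟩ := exists_ne (1 : G)
    refine MinSimple.ne_top hG (nilpotent_zpowers x) (hM.2 _ (bot_lt_iff_ne_bot.2 ?_))
    rwa [Ne, zpowers_eq_bot]
  haveI : Nontrivial M := (nontrivial_iff_ne_bot M).2 hM1
  have hF : Cfsg.fittingSubgroup M ≠ ⊥ := fun h => by
    obtain ⟨N, hN, hN1, -, hNc, -⟩ := CfsgLib.Solvable.exists_normal_elementary_le (G := M) (N := ⊤)
      top_ne_bot inferInstance
    refine hN1 (le_bot_iff.1 (h ▸ CfsgLib.Solvable.le_fittingSubgroup hN ?_))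
    haveI := hNc
    letI : CommGroup N :=
      { (inferInstance : Group N) with mul_comm := fun a b => hNc.is_comm.comm a b }
    exact CommGroup.isNilpotent (G := N)
  obtain ⟨L, hL, hFL⟩ := exists_maxNilp_ge
    (nilpotent_map (CfsgLib.Solvable.isNilpotent_fittingSubgroup (G := M)) M.subtype)
  refine ⟨L, hL, ?_⟩
  have hle : M ≤ normalizer (L : Set G) := by
    intro m hm
    obtain ⟨f, hf, hf1⟩ := (Subgroup.bot_or_exists_ne_one _).resolve_left hF
    rw [mem_normalizer_iff_map_conj_eq]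
    refine eq_of_mem hG hCN (hL.conj m) hL ⟨(f : G), hFL ⟨f, hf, rfl⟩, rfl⟩ ?_ ?_
    · exact hFL ⟨⟨m, hm⟩ * f * ⟨m, hm⟩⁻¹, CfsgLib.Solvable.fittingSubgroup_normal.conj_mem f hf _, rfl⟩
    · simpa using fun e => hf1 (Subtype.ext e)
  exact ((hM.le_iff.1 hle).resolve_left (MinSimple.normalizer_ne_top hG hL.1 hL.ne_bot)).symm

theorem isCoatom_normalizer (hG : Cfsg.IsMinSimpleOddOrder G) (hCN : Cfsg.IsCNGroup G) {H : Subgroup G}
    (hH : MaxNilp H) : IsCoatom (normalizer (H : Set G)) := by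
  haveI := MinSimple.nontrivial hG
  obtain ⟨M, hM, hle⟩ := (eq_top_or_exists_le_coatom (normalizer (H : Set G))).resolve_left
    (MinSimple.normalizer_ne_top hG hH.1 hH.ne_bot)
  obtain ⟨L, hL, rfl⟩ := exists_eq_normalizer hG hCN hM
  suffices H = L by subst this; exact hM
  by_contra hne
  have hd : ∀ x, x ∈ H → x ∈ L → x = 1 := fun x h1 h2 => by_contra fun h => hne (eq_of_mem hG hCN hH hL h1 h2 h)
  haveI : IsCyclic (normalizer (H : Set G)) := by
    refine isCyclic_of_inf_centralizer hG.1 hCN hL.ne_bot hle fun e he he1 => ?_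
    rw [eq_bot_iff]
    rintro l ⟨hlL, hle'⟩
    by_contra hl1
    rw [mem_bot] at hl1
    have heL : e ∈ L := centLe hG hCN hL l hlL hl1
      (mem_centralizer_singleton_iff.2 (mem_centralizer_singleton_iff.1 hle').symm)
    obtain ⟨z, hz, hz1, hzc⟩ := exists_central hH.1 hH.ne_bot
    -- `e` normalizes `H` and lies in `L`
    have hzL : z ∈ normalizer (L : Set G) := hle (le_normalizer hz)
    have hc : e * z * e⁻¹ * z⁻¹ = 1 := hd _
      (mul_mem ((mem_normalizer_iff.1 he z).1 hz) (inv_mem hz))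
      (by
        rw [mul_assoc (e * z), mul_assoc e]
        exact mul_mem heL ((mul_assoc z e⁻¹ z⁻¹) ▸ (mem_normalizer_iff.1 hzL e⁻¹).1 (inv_mem heL)))
    exact he1 (hd e (centLe hG hCN hH z hz hz1
      (mem_centralizer_singleton_iff.2 (mul_inv_eq_iff_eq_mul.1 (mul_inv_eq_one.1 hc)))) heL)
  haveI : Group.IsNilpotent (normalizer (H : Set G)) :=
    letI : CommGroup (normalizer (H : Set G)) := IsCyclic.commGroup
    CommGroup.isNilpotent
  exact normalizer_ne_self hG hCN hH (hH.2 _ inferInstance le_normalizer)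

theorem exists_complement (hG : Cfsg.IsMinSimpleOddOrder G) (hCN : Cfsg.IsCNGroup G) {H : Subgroup G}
    (hH : MaxNilp H) : ∃ E : Subgroup G, Cfsg.IsComplIn H E (normalizer (H : Set G)) ∧ E ≠ ⊥ ∧
      ∀ e ∈ E, e ≠ 1 → H ⊓ centralizer ({e} : Set G) = ⊥ := by
  set N := normalizer (H : Set G)
  haveI : (H.subgroupOf N).Normal := normal_in_normalizer
  have hcop : (Nat.card (H.subgroupOf N)).Coprime (H.subgroupOf N).index := by
    rw [Nat.card_congr (subgroupOfEquivOfLe (le_normalizer : H ≤ N)).toEquiv]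
    exact (coprime_index hCN hH).coprime_dvd_right
      ((relIndex_dvd_index_of_le (le_normalizer : H ≤ N)) : H.relIndex N ∣ H.index)
  obtain ⟨E, hE⟩ := exists_right_complement'_of_coprime hcop
  have hcompl : Cfsg.IsComplIn H (E.map N.subtype) N := by
    refine ⟨le_normalizer, map_subtype_le E, eq_bot_iff.2 ?_, fun m hm => ?_⟩
    · rintro x ⟨hxH, y, hy, rfl⟩
      have : y ∈ H.subgroupOf N ⊓ E := ⟨hxH, hy⟩
      rw [hE.disjoint.eq_bot, mem_bot] at this
      simp [this]
    · obtain ⟨⟨⟨a, ha⟩, ⟨b, hb⟩⟩, hab⟩ := hE.2 ⟨m, hm⟩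
      exact ⟨a, ha, b, ⟨b, hb, rfl⟩, (congrArg Subtype.val hab).symm⟩
  refine ⟨E.map N.subtype, hcompl, fun h => normalizer_ne_self hG hCN hH ?_, fun e he he1 => ?_⟩
  · refine le_antisymm (fun m hm => ?_) le_normalizer
    obtain ⟨a, ha, b, hb, rfl⟩ := hcompl.2.2.2 m hm
    rw [h, mem_bot] at hb
    simpa [hb] using ha
  · rw [eq_bot_iff]
    rintro x ⟨hxH, hxe⟩
    by_contra hx1
    refine he1 ?_
    have : e ∈ H ⊓ E.map N.subtype := ⟨centLe hG hCN hH x hxH (fun h => hx1 (h ▸ one_mem _))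
      (mem_centralizer_singleton_iff.2 (mem_centralizer_singleton_iff.1 hxe).symm), he⟩
    rwa [hcompl.2.2.1, mem_bot] at this

end CfsgLib.CN
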