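import Cfsg.Prelude.Def_OddOrderLocal
import Cfsg.Agent.OddLocal.CNMinimal
import Cfsg.Agent.Frobenius.Semidirect

/-!
Solvable CN-groups: Frobenius groups and three-step groups.
-/

set_option autoImplicit false
set_option linter.style.haveILetI false
set_option linter.unusedSectionVars false

namespace CfsgLib.CN.Solvable

open Subgroup Cfsg CfsgLib.CN CfsgLib.Frobenius

variable {G : Type*} [Group G] [Finite G]

/-- An element of coprime order fixing a nontrivial element of a nilpotent subgroup centralizes it. -/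
theorem centralizes_of_fix (hCN : Cfsg.IsCNGroup G) {K : Subgroup G} (hK : Group.IsNilpotent K) {c e : G}
    (hc : c ∈ K) (hc1 : c ≠ 1) (hce : Commute c e) (he : (orderOf e).Coprime (Nat.card K)) :
    e ∈ centralizer (K : Set G) := by
  obtain ⟨z, hz, hz1, hzc⟩ := exists_central hK (fun h => hc1 (by rwa [h, mem_bot] at hc))
  have h1 : Commute e z := commute_in (hCN c hc1) (mem_centralizer_singleton_iff.2 hce.eq.symm)
    (mem_centralizer_singleton_iff.2 (hzc c hc).symm.eq) (he.coprime_dvd_right (K.orderOf_dvd_natCard hz))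
  exact mem_centralizer_iff.2 fun k hk => (commute_in (hCN z hz1) (mem_centralizer_singleton_iff.2 h1.eq)
    (mem_centralizer_singleton_iff.2 (hzc k hk).eq) (he.coprime_dvd_right (K.orderOf_dvd_natCard hk))).symm.eq

theorem normal_sylow_map {C : Subgroup G} [C.Normal] (hC : Group.IsNilpotent C) {r : ℕ} [Fact r.Prime]
    (S : Sylow r C) : ((S : Subgroup C).map C.subtype).Normal := by
  haveI := hC
  haveI := S.characteristic_of_normal (S.normal_of_normalizerCondition Group.normalizerCondition_of_isNilpotent)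
  exact ConjAct.normal_of_characteristic_of_normal

theorem normal_of_sylow_le {C : Subgroup G} [C.Normal] (hC : Group.IsNilpotent C) {r : ℕ} [Fact r.Prime]
    (S : Sylow r G) (h : (S : Subgroup G) ≤ C) : (S : Subgroup G).Normal := by
  have h2 := normal_sylow_map hC (S.subtype h)
  rwa [show ((S.subtype h : Sylow r C) : Subgroup C) = (S : Subgroup G).subgroupOf C from rfl,
    map_subgroupOf_eq_of_le h] at h2

theorem normal_of_all_le {C : Subgroup G} (hC : Group.IsNilpotent C) {r : ℕ} [Fact r.Prime] (S : Sylow r G)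
    (h : ∀ T : Sylow r G, (T : Subgroup G) ≤ C) : (S : Subgroup G).Normal := by
  haveI := hC
  haveI : Subsingleton (Sylow r C) := by
    haveI : Finite (Sylow r C) := inferInstance
    haveI := Sylow.unique_of_normal (S.subtype (h S))
      ((S.subtype (h S)).normal_of_normalizerCondition Group.normalizerCondition_of_isNilpotent)
    infer_instance
  haveI : Subsingleton (Sylow r G) := ⟨fun T U => Sylow.ext (by
    have e : T.subtype (h T) = U.subtype (h U) := Subsingleton.elim _ _
    have e' := congrArg (fun X : Sylow r C => (X : Subgroup C).map C.subtype) e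
    simp only [show ((T.subtype (h T) : Sylow r C) : Subgroup C) = (T : Subgroup G).subgroupOf C from rfl,
      show ((U.subtype (h U) : Sylow r C) : Subgroup C) = (U : Subgroup G).subgroupOf C from rfl,
      map_subgroupOf_eq_of_le (h T), map_subgroupOf_eq_of_le (h U)] at e'
    exact e')⟩
  exact S.normal_of_subsingleton

/-- `fittingHall` is acted on fixed-point-freely by the coprime elements. -/
theorem fpf_fittingHall (hCN : Cfsg.IsCNGroup G) (hK : fittingHall G ≠ ⊥) {e : G} (he1 : e ≠ 1)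
    (he : (orderOf e).Coprime (Nat.card (fittingHall G))) :
    fittingHall G ⊓ centralizer ({e} : Set G) = ⊥ := by
  set K := fittingHall G with hKdef
  have hKn : Group.IsNilpotent K := (nilpotent_of_le CfsgLib.Solvable.isNilpotent_fittingSubgroup
    (sSup_le fun N hN => CfsgLib.Solvable.le_fittingSubgroup hN.1 hN.2.1))
  rw [eq_bot_iff]
  rintro c ⟨hc, hce⟩
  rw [mem_bot]
  by_contra hc1
  obtain ⟨z, hz, hz1, hzc⟩ := exists_central hKn hK
  have heC : e ∈ centralizer (K : Set G) :=
    centralizes_of_fix hCN hKn hc hc1 (mem_centralizer_singleton_iff.1 hce : c * e = e * c) he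
  set C := centralizer (K : Set G) with hCdef
  have hCn : Group.IsNilpotent C := nilpotent_of_le (hCN z hz1)
    (centralizer_le (Set.singleton_subset_iff.2 hz))
  obtain ⟨r, hr, hrd⟩ := Nat.exists_prime_and_dvd (fun h => he1 (orderOf_eq_one_iff.1 h))
  haveI := Fact.mk hr
  have hrK : ¬ r ∣ Nat.card K := fun h => hr.not_dvd_one (he ▸ Nat.dvd_gcd hrd h)
  obtain ⟨R⟩ : Nonempty (Sylow r C) := inferInstance
  haveI hRn := normal_sylow_map hCn R
  have hR1 : (R : Subgroup C).map C.subtype ≠ ⊥ := fun h => R.ne_bot_of_dvd_card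
    (hrd.trans (C.orderOf_dvd_natCard heC)) ((Subgroup.map_eq_bot_iff_of_injective _ C.subtype_injective).1 h)
  obtain ⟨S⟩ : Nonempty (Sylow r G) := inferInstance
  have hRS : (R : Subgroup C).map C.subtype ≤ S :=
    (CfsgLib.Solvable.le_pCore r hRn (R.2.map _)).trans (CfsgLib.Fitting.pCore_le_sylow S)
  haveI : Fact r.Prime := ⟨hr⟩
  have hN : ((R : Subgroup C).map C.subtype).subgroupOf (S : Subgroup G) ≠ ⊥ := by
    rw [Ne, subgroupOf_eq_bot, disjoint_iff, inf_eq_left.2 hRS]; exact hR1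
  haveI : Group.IsNilpotent (S : Subgroup G) := S.2.isNilpotent
  obtain ⟨x, ⟨hxR, hxZ⟩, hx1⟩ := (bot_or_exists_ne_one _).resolve_left
    (CfsgLib.PGroupBasic.inf_center_ne_bot _ hN)
  have hx1' : (x : G) ≠ 1 := fun h => hx1 (Subtype.ext h)
  have hxC : (x : G) ∈ C := map_subtype_le (R : Subgroup C) hxR
  have hSC : (S : Subgroup G) ≤ C := fun s hs => mem_centralizer_iff.2 fun k hk => by
    have hcop : (orderOf s).Coprime (orderOf k) := by
      obtain ⟨n, hn⟩ := IsPGroup.iff_card.1 S.2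
      exact Nat.Coprime.coprime_dvd_left (hn ▸ (S : Subgroup G).orderOf_dvd_natCard hs)
        (((hr.coprime_iff_not_dvd.2 hrK).pow_left n).coprime_dvd_right (K.orderOf_dvd_natCard hk))
    exact (commute_in (hCN _ hx1')
      (mem_centralizer_singleton_iff.2 (congrArg Subtype.val (mem_center_iff.1 hxZ ⟨s, hs⟩)))
      (mem_centralizer_singleton_iff.2 (mem_centralizer_iff.1 hxC k hk)) hcop).symm.eq
  refine hrK ((dvd_trans (R.dvd_card_of_dvd_card (hrd.trans (C.orderOf_dvd_natCard heC))) ?_).trans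
    (card_dvd_of_le (show (S : Subgroup G) ≤ K from le_sSup ⟨normal_of_sylow_le hCn S hSC, S.2.isNilpotent,
      S.card_coprime_index⟩)))
  rw [← card_map_of_injective C.subtype_injective (K := (R : Subgroup C))]
  exact card_dvd_of_le hRS

/-- A fixed-point-free group of automorphisms with the CN-property is nilpotent. -/
theorem nilpotent_of_fpf {E K : Type*} [Group E] [Finite E] [Group K] [Finite K] [Nontrivial K]
    (hCN : Cfsg.IsCNGroup E) {φ : E →* MulAut K} (h : IsFpf φ) : Group.IsNilpotent E := by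
  rcases subsingleton_or_nontrivial E with hs | hn
  · infer_instance
  obtain ⟨z, hz, hz1⟩ := (Subgroup.bot_or_exists_ne_one _).resolve_left (CfsgLib.FpfComplement.center_ne_bot h)
  have hC : centralizer ({z} : Set E) = ⊤ := eq_top_iff.2 fun y _ =>
    mem_centralizer_singleton_iff.2 (mem_center_iff.1 hz y)
  have h' := hCN z hz1
  rw [hC] at h'
  haveI := h'
  exact Group.nilpotent_of_surjective (topEquiv : (⊤ : Subgroup E) ≃* E).toMonoidHom (MulEquiv.surjective _)

/-- Structure of a fixed-point-free CN-group. -/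
theorem cyclic_or_prod {E K : Type*} [Group E] [Finite E] [Group K] [Finite K] [Nontrivial K]
    (hCN : Cfsg.IsCNGroup E) {φ : E →* MulAut K} (h : IsFpf φ) :
    IsCyclic E ∨ ∃ C Q : Subgroup E, C ⊔ Q = ⊤ ∧ (∀ a ∈ C, ∀ b ∈ Q, a * b = b * a) ∧ IsCyclic C ∧
      Odd (Nat.card C) ∧ ∃ n : ℕ, Nonempty (↥Q ≃* QuaternionGroup (2 ^ n)) := by
  haveI := nilpotent_of_fpf hCN h
  obtain ⟨Q⟩ : Nonempty (Sylow 2 E) := inferInstance
  haveI : (Q : Subgroup E).Normal := Q.normal_of_normalizerCondition Group.normalizerCondition_of_isNilpotent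
  obtain ⟨C, hC⟩ := exists_right_complement'_of_coprime Q.card_coprime_index
  have hCcard : Nat.card C = (Q : Subgroup E).index := hC.symm.index_eq_card.symm
  have hodd : Odd (Nat.card C) := by
    rw [hCcard, ← Nat.not_even_iff_odd, even_iff_two_dvd]
    exact Q.not_dvd_index
  have hcyc : IsCyclic C :=
    isCyclic_of_fpf hodd (isCNGroup_subgroup hCN C) (h.comp C.subtype C.subtype_injective)
  have hcomm : ∀ a ∈ C, ∀ b ∈ (Q : Subgroup E), a * b = b * a := fun a ha b hb => by
    refine (CfsgLib.FGSA.commute_of_coprime_orderOf a b ?_).eq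
    refine ((hCcard ▸ Q.card_coprime_index.symm).coprime_dvd_left (C.orderOf_dvd_natCard ha)).coprime_dvd_right
      ((Q : Subgroup E).orderOf_dvd_natCard hb)
  rcases CfsgLib.FpfComplement.sylow_cyclic_or_quaternion h 2 Q with hQ | ⟨-, n, -, hn⟩
  · left
    haveI := hcyc; haveI := hQ
    refine h.isCyclic_of_comm fun a b => ?_
    have hsup : (⊤ : Subgroup E) ≤ centralizer (⊤ : Set E) := by
      rw [← hC.sup_eq_top]
      refine sup_le ?_ ?_ <;> intro x hx <;> refine mem_centralizer_iff.2 fun y _ => ?_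
      · have hy : y ∈ centralizer ({x} : Set E) := by
          have hle : (Q : Subgroup E) ⊔ C ≤ centralizer ({x} : Set E) := sup_le
            (fun z hz => mem_centralizer_singleton_iff.2 (setLike_mul_comm hz hx))
            (fun z hz => mem_centralizer_singleton_iff.2 (hcomm z hz x hx))
          exact hle (hC.sup_eq_top.symm ▸ mem_top y)
        exact mem_centralizer_singleton_iff.1 hy
      · have hy : y ∈ centralizer ({x} : Set E) := by
          have hle : (Q : Subgroup E) ⊔ C ≤ centralizer ({x} : Set E) := sup_le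
            (fun z hz => mem_centralizer_singleton_iff.2 (hcomm x hx z hz).symm)
            (fun z hz => mem_centralizer_singleton_iff.2 (setLike_mul_comm hz hx))
          exact hle (hC.sup_eq_top.symm ▸ mem_top y)
        exact mem_centralizer_singleton_iff.1 hy
    exact mem_centralizer_iff.1 (hsup (mem_top b)) a (Set.mem_univ a)
  · exact Or.inr ⟨C, Q, sup_comm C (Q : Subgroup E) ▸ hC.sup_eq_top, hcomm, hcyc, hodd, n, hn⟩

/-- CN-groups with a normal Sylow subgroup are Frobenius groups with nilpotent factor. -/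
theorem frobenius (hCN : Cfsg.IsCNGroup G) (hnn : ¬ Group.IsNilpotent G) {p : ℕ} [Fact p.Prime] (P : Sylow p G)
    (hP1 : (P : Subgroup G) ≠ ⊥) (hPn : (P : Subgroup G).Normal) :
    fittingHall G ≠ ⊥ ∧ fittingHall G ≠ ⊤ ∧ ∃ E : Subgroup G, IsComplement' (fittingHall G) E ∧
      Cfsg.IsFrobeniusComplement E ∧
      (∀ e ∈ E, e ≠ 1 → fittingHall G ⊓ centralizer ({e} : Set G) = ⊥) ∧
      Nontrivial (fittingHall G) ∧ ∃ φ : E →* MulAut (fittingHall G), IsFpf φ := by
  have hle : (P : Subgroup G) ≤ fittingHall G := le_sSup ⟨hPn, P.2.isNilpotent, P.card_coprime_index⟩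
  have hK : fittingHall G ≠ ⊥ := fun h => hP1 (le_bot_iff.1 (h ▸ hle))
  have hK2 : fittingHall G ≠ ⊤ := fun h => hnn (by
    have h2 : (⊤ : Subgroup G) ≤ Cfsg.fittingSubgroup G :=
      h ▸ sSup_le fun N hN => CfsgLib.Solvable.le_fittingSubgroup hN.1 hN.2.1
    haveI := nilpotent_of_le CfsgLib.Solvable.isNilpotent_fittingSubgroup h2
    exact Group.nilpotent_of_surjective (topEquiv : (⊤ : Subgroup G) ≃* G).toMonoidHom (MulEquiv.surjective _))
  have hcop : (Nat.card (fittingHall G)).Coprime (fittingHall G).index := by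
    refine (CfsgLib.Solvable.sSup_normal_spec
      (fun N : Subgroup G => Group.IsNilpotent N ∧ (Nat.card N).Coprime N.index) ⟨inferInstance, by simp⟩ ?_).2.2
    rintro A B hA hB ⟨hAn, hAc⟩ ⟨hBn, hBc⟩
    haveI := hA
    haveI := hB
    refine ⟨nilpotent_of_le CfsgLib.Solvable.isNilpotent_fittingSubgroup
      (sup_le (CfsgLib.Solvable.le_fittingSubgroup hA hAn) (CfsgLib.Solvable.le_fittingSubgroup hB hBn)), ?_⟩
    refine Nat.coprime_of_dvd fun r hr h1 h2 => ?_
    rcases hr.dvd_mul.1 (h1.trans (CfsgLib.Solvable.card_sup_dvd le_normalizer_of_normal)) with h | h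
    · exact hr.not_dvd_one (hAc ▸ Nat.dvd_gcd h (h2.trans (index_dvd_of_le le_sup_left)))
    · exact hr.not_dvd_one (hBc ▸ Nat.dvd_gcd h (h2.trans (index_dvd_of_le le_sup_right)))
  obtain ⟨E, hE⟩ := exists_right_complement'_of_coprime hcop
  have hfpf : ∀ e ∈ E, e ≠ 1 → fittingHall G ⊓ centralizer ({e} : Set G) = ⊥ := fun e he he1 =>
    fpf_fittingHall hCN hK he1 ((hE.symm.index_eq_card ▸ hcop.symm).coprime_dvd_left (E.orderOf_dvd_natCard he))
  have hE1 : E ≠ ⊥ := fun h => hK2 (isComplement'_bot_right.1 (h ▸ hE))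
  refine ⟨hK, hK2, E, hE, CfsgLib.Frobenius.of_fpf hE hK hE1 fun e he he1 k hk hek => ?_, hfpf,
    (nontrivial_iff_ne_bot _).2 hK, CfsgLib.FpfComplement.exists_fpf hfpf⟩
  exact mem_bot.1 (hfpf e he he1 ▸ (⟨hk, mem_centralizer_singleton_iff.2 hek.symm⟩ :
    k ∈ fittingHall G ⊓ centralizer ({e} : Set G)))

/-- A complement over a normal `p`-subgroup of a subgroup of order prime to `p` of the quotient. -/
theorem exists_lift {F : Subgroup G} [F.Normal] {p : ℕ} [Fact p.Prime] (hF : IsPGroup p F)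
    (B : Subgroup (G ⧸ F)) (hB : (Nat.card B).Coprime p) :
    ∃ A : Subgroup G, A.map (QuotientGroup.mk' F) = B ∧ F ⊓ A = ⊥ ∧
      F ⊔ A = B.comap (QuotientGroup.mk' F) ∧ Nat.card A = Nat.card B := by
  set N := B.comap (QuotientGroup.mk' F)
  have hFN : F ≤ N := by
    intro x hx
    simp only [N, mem_comap, QuotientGroup.mk'_apply, (QuotientGroup.eq_one_iff x).2 hx, one_mem]
  have hidx : (F.subgroupOf N).index = Nat.card B := by
    have h1 := relIndex_ker (f := (QuotientGroup.mk' F)) N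
    rw [QuotientGroup.ker_mk', map_comap_eq_self_of_surjective (QuotientGroup.mk'_surjective F)] at h1
    exact h1
  obtain ⟨k, hk⟩ := IsPGroup.iff_card.1 hF
  have hcard : Nat.card (F.subgroupOf N) = p ^ k := by rw [Nat.card_congr (subgroupOfEquivOfLe hFN).toEquiv, hk]
  obtain ⟨A, hA⟩ := exists_right_complement'_of_coprime (N := F.subgroupOf N)
    (hcard ▸ hidx ▸ (hB.pow_right k).symm)
  have hAcard : Nat.card (A.map N.subtype) = Nat.card B := by
    rw [card_map_of_injective N.subtype_injective, ← hA.symm.index_eq_card, hidx]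
  have hsup : F ⊔ A.map N.subtype = N := by
    have h := congrArg (Subgroup.map N.subtype) hA.sup_eq_top
    rwa [Subgroup.map_sup, map_subgroupOf_eq_of_le hFN, ← MonoidHom.range_eq_map, range_subtype] at h
  have hdis : F ⊓ A.map N.subtype = ⊥ := by
    refine inf_eq_bot_of_coprime ?_
    rw [hAcard, hk]
    exact (hB.pow_right k).symm
  refine ⟨A.map N.subtype, ?_, hdis, hsup, hAcard⟩
  have h := congrArg (Subgroup.map (QuotientGroup.mk' F)) hsup
  rwa [Subgroup.map_sup, QuotientGroup.map_mk'_self, bot_sup_eq,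
    map_comap_eq_self_of_surjective (QuotientGroup.mk'_surjective F)] at h

theorem normalSylow_of_not_dvd_index {p : ℕ} [Fact p.Prime] {F : Subgroup G} [hn : F.Normal] (hF : IsPGroup p F)
    (h1 : F ≠ ⊥) (h : ¬ p ∣ F.index) : ∃ P : Sylow p G, (P : Subgroup G) ≠ ⊥ ∧ (P : Subgroup G).Normal :=
  ⟨hF.toSylow h, h1, hn⟩

/-- The centralizer of a nontrivial element of the cyclic Fitting subgroup lies in it. -/
theorem centralizer_le_fitting {Q : Type*} [Group Q] [Finite Q] (hCN : Cfsg.IsCNGroup Q)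
    (hc : IsCyclic (Cfsg.fittingSubgroup Q)) {a : Q} (ha : a ∈ Cfsg.fittingSubgroup Q) (ha1 : a ≠ 1) :
    centralizer ({a} : Set Q) ≤ Cfsg.fittingSubgroup Q := by
  haveI := hc
  haveI : (Cfsg.fittingSubgroup Q).Normal := CfsgLib.Solvable.fittingSubgroup_normal
  refine CfsgLib.Solvable.le_fittingSubgroup ⟨fun y hy g => mem_centralizer_singleton_iff.2 ?_⟩ (hCN a ha1)
  have hu : g * a * g⁻¹ ∈ Cfsg.fittingSubgroup Q := Normal.conj_mem inferInstance a ha g
  have h1 : orderOf (⟨a, ha⟩ : Cfsg.fittingSubgroup Q) = orderOf (⟨_, hu⟩ : Cfsg.fittingSubgroup Q) := by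
    rw [← orderOf_coe, ← orderOf_coe]
    exact ((MulAut.conj g).orderOf_eq a).symm
  obtain ⟨k, hk⟩ := mem_zpowers_iff.1 (CfsgLib.FpfComplement.mem_zpowers_of_cyclic h1)
  have hk' : (g * a * g⁻¹) ^ k = a := congrArg Subtype.val hk
  have h2 : Commute (g * y * g⁻¹) (g * a * g⁻¹) := by
    have := (mem_centralizer_singleton_iff.1 hy : y * a = a * y)
    exact (show Commute y a from this).map (MulAut.conj g).toMonoidHom
  have h3 := h2.zpow_right k
  rwa [hk'] at h3

/-- A solvable CN-group without a normal Sylow subgroup is a three-step group. -/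
theorem threeStep [Group.IsSolvable G] [Nontrivial G] (hCN : Cfsg.IsCNGroup G)
    (hno : ∀ (p : ℕ) [Fact p.Prime] (P : Sylow p G), (P : Subgroup G).Normal → (P : Subgroup G) = ⊥) :
    ∃ p : ℕ, p.Prime ∧ Cfsg.IsThreeStepGroup p G := by
  obtain ⟨M, hMn, hM1, -, -, -, p, hp, -, hM⟩ :=
    CfsgLib.Solvable.exists_normal_elementary_le (G := G) (N := ⊤) top_ne_bot inferInstance
  haveI := Fact.mk hp
  set F := Cfsg.pCore p G with hFdef
  haveI hFn : F.Normal := (CfsgLib.Solvable.pCore_spec (p := p)).1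
  have hFp : IsPGroup p F := CfsgLib.Solvable.isPGroup_pCore p
  have hF1 : F ≠ ⊥ := fun h => hM1 (le_bot_iff.1 (h ▸ CfsgLib.Solvable.le_pCore p hMn hM))
  have hidxp : p ∣ F.index := by
    by_contra h
    obtain ⟨P, hP1, hPn⟩ := normalSylow_of_not_dvd_index hFp hF1 h
    exact hP1 (hno p P hPn)
  have hfit : Cfsg.fittingSubgroup G ≤ F := by
    rw [CfsgLib.Solvable.fittingSubgroup_eq_iSup_pCore]
    refine iSup_le fun r => ?_
    by_cases hr : (r : ℕ) = p
    · rw [hr]
    haveI := Fact.mk r.2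
    set R := Cfsg.pCore (r : ℕ) G with hRdef
    have hRp : IsPGroup (r : ℕ) R := CfsgLib.Solvable.isPGroup_pCore (r : ℕ)
    intro y hy
    by_contra hyF
    have hy1 : y ≠ 1 := fun h => hyF (h ▸ one_mem F)
    obtain ⟨P⟩ : Nonempty (Sylow p G) := inferInstance
    have key : ∀ T : Sylow p G, (T : Subgroup G) ≤ centralizer ({y} : Set G) := by
      intro T t ht
      have hFT : F ≤ T := CfsgLib.Fitting.pCore_le_sylow T
      have hN : F.subgroupOf (T : Subgroup G) ≠ ⊥ := by
        rw [Ne, subgroupOf_eq_bot, disjoint_iff, inf_eq_left.2 hFT]; exact hF1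
      haveI : Group.IsNilpotent (T : Subgroup G) := T.2.isNilpotent
      obtain ⟨x, ⟨hxF, hxZ⟩, hx1⟩ := (bot_or_exists_ne_one _).resolve_left
        (CfsgLib.PGroupBasic.inf_center_ne_bot _ hN)
      obtain ⟨a, ha⟩ := IsPGroup.iff_card.1 T.2
      obtain ⟨b, hb⟩ := IsPGroup.iff_card.1 hRp
      have hxy : Commute (x : G) y := commute_of_normal_of_disjoint F R hFn
        (CfsgLib.Solvable.pCore_spec (p := (r : ℕ))).1
        (disjoint_iff.2 (inf_eq_bot_of_coprime (IsPGroup.coprime_card_of_ne p (r : ℕ) (Ne.symm hr) F R hFp hRp))) _ _ hxF hy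
      refine mem_centralizer_singleton_iff.2 (commute_in (hCN _ fun h => hx1 (Subtype.ext h))
        (mem_centralizer_singleton_iff.2 (congrArg Subtype.val (mem_center_iff.1 hxZ ⟨t, ht⟩)))
        (mem_centralizer_singleton_iff.2 hxy.symm.eq) ?_).eq
      exact ((((Nat.coprime_primes hp r.2).2 (Ne.symm hr)).pow a b).coprime_dvd_left
        (ha ▸ (T : Subgroup G).orderOf_dvd_natCard ht)).coprime_dvd_right (hb ▸ R.orderOf_dvd_natCard hy)
    have hPn := normal_of_all_le (hCN y hy1) P key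
    exact hF1 (le_bot_iff.1 (hno p P hPn ▸ CfsgLib.Fitting.pCore_le_sylow P))
  have hCF : centralizer (F : Set G) ≤ F :=
    (centralizer_le (SetLike.coe_subset_coe.2 hfit)).trans
      (CfsgLib.Fitting.centralizer_fittingSubgroup_le_of_solvable.trans hfit)
  obtain ⟨k, hk⟩ := IsPGroup.iff_card.1 hFp
  have hfix : ∀ A : Subgroup G, (Nat.card A).Coprime p → ∀ a ∈ A, a ≠ 1 → F ⊓ centralizer ({a} : Set G) = ⊥ := by
    intro A hA a ha ha1
    rw [eq_bot_iff]
    rintro c ⟨hc, hca⟩
    rw [mem_bot]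
    by_contra hc1
    have hco : (orderOf a).Coprime (Nat.card F) := by
      rw [hk]; exact (hA.coprime_dvd_left (A.orderOf_dvd_natCard ha)).pow_right k
    have haF := hCF (centralizes_of_fix hCN hFp.isNilpotent hc hc1
      (mem_centralizer_singleton_iff.1 hca : c * a = a * c) hco)
    exact ha1 (orderOf_eq_one_iff.1 (Nat.eq_one_of_dvd_coprimes hco dvd_rfl (F.orderOf_dvd_natCard haF)))
  haveI : Nontrivial F := (nontrivial_iff_ne_bot F).2 hF1
  set π := QuotientGroup.mk' F with hπ
  have hπs : Function.Surjective π := QuotientGroup.mk'_surjective F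
  have hCNq : Cfsg.IsCNGroup (G ⧸ F) := isCNGroup_quotient _ F rfl hCN inferInstance
  set B := Cfsg.fittingSubgroup (G ⧸ F) with hB
  haveI hBn : B.Normal := CfsgLib.Solvable.fittingSubgroup_normal
  have hQcore : Cfsg.pCore p (G ⧸ F) = ⊥ := by
    have hcp : IsPGroup p (Cfsg.pCore p (G ⧸ F)) := CfsgLib.Solvable.isPGroup_pCore p
    have hcom : IsPGroup p ((Cfsg.pCore p (G ⧸ F)).comap π) :=
      hcp.comap_of_ker_isPGroup π (by rw [hπ, QuotientGroup.ker_mk']; exact hFp)
    have h : (Cfsg.pCore p (G ⧸ F)).comap π ≤ F :=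
      CfsgLib.Solvable.le_pCore p (Subgroup.Normal.comap (CfsgLib.Solvable.pCore_spec (p := p)).1 π) hcom
    rw [← map_comap_eq_self_of_surjective hπs (Cfsg.pCore p (G ⧸ F)), Subgroup.map_eq_bot_iff, hπ,
      QuotientGroup.ker_mk']
    exact h
  have hBp : (Nat.card B).Coprime p := by
    refine (CfsgLib.Solvable.coprime_card_pPrimeCore (G := G ⧸ F) p).coprime_dvd_left (card_dvd_of_le ?_)
    rw [hB, CfsgLib.Solvable.fittingSubgroup_eq_iSup_pCore]
    refine iSup_le fun r => ?_
    by_cases hr : (r : ℕ) = p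
    · rw [hr, hQcore]; exact bot_le
    haveI := Fact.mk r.2
    obtain ⟨j, hj⟩ := IsPGroup.iff_card.1 (CfsgLib.Solvable.isPGroup_pCore (G := G ⧸ F) (r : ℕ))
    exact CfsgLib.Solvable.le_pPrimeCore p (CfsgLib.Solvable.pCore_spec (p := (r : ℕ))).1
      (by rw [hj]; exact ((Nat.coprime_primes r.2 hp).2 hr).pow_left j)
  obtain ⟨A, hAmap, hAF, hsup, hAcard⟩ := exists_lift hFp B hBp
  have hinjA : ∀ a ∈ A, π a = 1 → a = 1 := fun a ha h =>
    mem_bot.1 (hAF ▸ (⟨(QuotientGroup.eq_one_iff a).1 h, ha⟩ : a ∈ F ⊓ A))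
  have hA1 : A ≠ ⊥ := by
    intro h
    rw [h, Subgroup.map_bot] at hAmap
    haveI : Nontrivial (G ⧸ F) := QuotientGroup.nontrivial_iff.2 fun e => by
      rw [e, index_top] at hidxp
      exact hp.not_dvd_one hidxp
    obtain ⟨N, hNn, hN1, -, -, -, r, hr, -, hN⟩ :=
      CfsgLib.Solvable.exists_normal_elementary_le (G := G ⧸ F) (N := ⊤) top_ne_bot inferInstance
    haveI := Fact.mk hr
    exact hN1 (le_bot_iff.1 ((CfsgLib.Solvable.le_fittingSubgroup hNn hN.isNilpotent).trans hAmap.ge))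
  have hfixA : ∀ a ∈ A, a ≠ 1 → F ⊓ centralizer ({a} : Set G) = ⊥ := hfix A (hAcard ▸ hBp)
  obtain ⟨φ, hφ⟩ := CfsgLib.FpfComplement.exists_fpf hfixA
  have hAodd : Odd (Nat.card A) := by
    rw [← Nat.not_even_iff_odd, even_iff_two_dvd]
    intro h2
    haveI : Fact (Nat.Prime 2) := ⟨Nat.prime_two⟩
    obtain ⟨t, ht⟩ := exists_prime_orderOf_dvd_card' 2 h2
    have ht1 : π t ≠ 1 := fun h => by
      rw [show t = 1 from Subtype.ext (hinjA t t.2 h), orderOf_one] at ht; omega
    have htB : π (t : G) ∈ B := hAmap ▸ mem_map_of_mem π t.2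
    have hcent : centralizer ({π (t : G)} : Set (G ⧸ F)) = ⊤ := eq_top_iff.2 fun g _ => by
      obtain ⟨u, hu, hue⟩ := mem_map.1 (hAmap.ge (hBn.conj_mem _ htB g))
      have hu2 : orderOf (⟨u, hu⟩ : A) = 2 := by
        refine orderOf_eq_prime (Subtype.ext (hinjA _ (pow_mem hu 2) ?_)) (fun h => ht1 ?_)
        · show π (u ^ 2) = 1
          rw [map_pow, hue, conj_pow, ← map_pow, ← SubmonoidClass.coe_pow, ← ht, pow_orderOf_eq_one,
            OneMemClass.coe_one, map_one, mul_one, mul_inv_cancel]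
        · have h' : u = 1 := congrArg Subtype.val h
          rw [h', map_one, eq_comm, mul_inv_eq_one, mul_eq_left] at hue
          exact hue
      have hut : u = (t : G) := congrArg Subtype.val (hφ.unique_involution hu2 ht)
      rw [hut] at hue
      exact mem_centralizer_singleton_iff.2 (mul_inv_eq_iff_eq_mul.1 hue.symm)
    have hnil := hCNq _ ht1
    rw [hcent] at hnil
    have htopB : (⊤ : Subgroup (G ⧸ F)) ≤ B :=
      CfsgLib.Solvable.le_fittingSubgroup inferInstance hnil
    have : (F.index).Coprime p := by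
      rw [index_eq_card, ← Subgroup.card_top (G := G ⧸ F)]
      exact hBp.coprime_dvd_left (card_dvd_of_le htopB)
    exact hp.not_dvd_one (this ▸ Nat.dvd_gcd hidxp dvd_rfl)
  haveI hAcyc : IsCyclic A := isCyclic_of_fpf hAodd (isCNGroup_subgroup hCN A) hφ
  haveI hBcyc : IsCyclic B := by
    rw [← hAmap]
    exact isCyclic_of_surjective _ (π.subgroupMap_surjective A)
  have hcentB : ∀ a ∈ B, a ≠ 1 → centralizer ({a} : Set (G ⧸ F)) ≤ B := fun a ha ha1 =>
    centralizer_le_fitting hCNq hBcyc ha ha1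
  have hNeq : F ⊔ A = B.comap π := hsup
  obtain ⟨b, hb, hb1⟩ := (bot_or_exists_ne_one A).resolve_left hA1
  have hπb : π b ∈ B := hAmap ▸ mem_map_of_mem π hb
  have hπb1 : π b ≠ 1 := fun h => hb1 (hinjA b hb h)
  have hindex : (F ⊔ A).index = B.index := by rw [hNeq, index_comap_of_surjective _ hπs]
  have hq : ∀ q : ℕ, q.Prime → q ∣ B.index → q = p := by
    intro q hq hqd
    by_contra hqp
    haveI := Fact.mk hq
    obtain ⟨S⟩ : Nonempty (Sylow q (G ⧸ F)) := inferInstance
    have hSB : ¬ (S : Subgroup (G ⧸ F)) ≤ B := fun h =>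
      S.not_dvd_index (hqd.trans (index_dvd_of_le h))
    obtain ⟨j, hj⟩ := IsPGroup.iff_card.1 S.2
    have hHp : (Nat.card ↥((S : Subgroup (G ⧸ F)) ⊔ B)).Coprime p :=
      Nat.Coprime.coprime_dvd_left (CfsgLib.Solvable.card_sup_dvd le_normalizer_of_normal)
        (Nat.Coprime.mul_left (by rw [hj]; exact ((Nat.coprime_primes hq hp).2 hqp).pow_left j) hBp)
    obtain ⟨H, hHmap, hHF, -, hHcard⟩ := exists_lift hFp ((S : Subgroup (G ⧸ F)) ⊔ B) hHp
    obtain ⟨ψ, hψ⟩ := CfsgLib.FpfComplement.exists_fpf (hfix H (hHcard ▸ hHp))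
    obtain ⟨u, hu, hue⟩ := mem_map.1 (hHmap.ge (mem_sup_right hπb))
    haveI : Nontrivial H := ⟨⟨⟨u, hu⟩, 1, fun h => hπb1 (by
      rw [← hue, show u = 1 from congrArg Subtype.val h, map_one])⟩⟩
    obtain ⟨z, hz, hz1⟩ := (bot_or_exists_ne_one _).resolve_left (CfsgLib.FpfComplement.center_ne_bot hψ)
    have hzc : ∀ y ∈ (S : Subgroup (G ⧸ F)) ⊔ B, π (z : G) ∈ centralizer ({y} : Set (G ⧸ F)) := by
      intro y hy
      obtain ⟨v, hv, rfl⟩ := mem_map.1 (hHmap.ge hy)
      refine mem_centralizer_singleton_iff.2 ?_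
      rw [← map_mul, ← map_mul, show (z : G) * v = v * z from
        (congrArg Subtype.val (mem_center_iff.1 hz ⟨v, hv⟩)).symm]
    have hπz : π (z : G) ≠ 1 := fun h => hz1 (Subtype.ext (mem_bot.1 (hHF ▸
      (⟨(QuotientGroup.eq_one_iff _).1 h, z.2⟩ : (z : G) ∈ F ⊓ H))))
    have hzB : π (z : G) ∈ B := hcentB _ hπb hπb1 (hzc _ (mem_sup_right hπb))
    refine hSB fun s hs => hcentB _ hzB hπz (mem_centralizer_singleton_iff.2 ?_)
    exact (mem_centralizer_singleton_iff.1 (hzc s (mem_sup_left hs))).symm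
  refine ⟨p, hp, hF1, A, hA1, hAcyc, hAodd, hAcard ▸ hBp, ?_, ?_, ?_, hfixA, ?_⟩
  · rw [hNeq]; exact hBn.comap π
  · intro h
    rw [h, index_top, eq_comm, index_eq_one] at hindex
    have : (F.index).Coprime p := by
      rw [index_eq_card, ← Subgroup.card_top (G := G ⧸ F), ← hindex]
      exact hBp
    exact hp.not_dvd_one (this ▸ Nat.dvd_gcd hidxp dvd_rfl)
  · exact ⟨_, hindex.trans (Nat.eq_prime_pow_of_unique_prime_dvd index_ne_zero_of_finite
      fun {d} hd hdd => hq d hd hdd)⟩
  · intro x hx a ha ha1 hcomm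
    refine hx (hNeq.ge (hcentB (π a) (hAmap ▸ mem_map_of_mem π ha) (fun h => ha1 (hinjA a ha h))
      (mem_centralizer_singleton_iff.2 ?_)))
    have h := (QuotientGroup.eq_one_iff _).2 hcomm
    have h' : π x * π a * (π x)⁻¹ * (π a)⁻¹ = 1 := by rw [← map_inv, ← map_inv, ← map_mul, ← map_mul, ← map_mul]; exact h
    rw [mul_inv_eq_one, mul_inv_eq_iff_eq_mul] at h'
    exact h'

end CfsgLib.CN.Solvable
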