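import Cfsg.Prelude.Def_OddOrderLocal
import Cfsg.Agent.OddLocal.CNQuotient

/-!
The largest normal nilpotent Hall subgroup.
-/

set_option autoImplicit false
set_option linter.style.haveILetI false
set_option linter.unusedSectionVars false

namespace CfsgLib.OddLocal.FittingHall

open Subgroup Cfsg

variable {G : Type*} [Group G] [Finite G]

theorem spec (M : Type*) [Group M] [Finite M] :
    Group.IsNilpotent (fittingHall M) ∧ (Nat.card (fittingHall M)).Coprime (fittingHall M).index := by
  refine (CfsgLib.Solvable.sSup_normal_spec (fun N : Subgroup M => Group.IsNilpotent N ∧ (Nat.card N).Coprime N.index)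
    ⟨inferInstance, by simp⟩ ?_).2
  rintro A B hA hB ⟨hAn, hAc⟩ ⟨hBn, hBc⟩
  haveI := hA
  haveI := hB
  refine ⟨CfsgLib.CN.nilpotent_of_le CfsgLib.Solvable.isNilpotent_fittingSubgroup
    (sup_le (CfsgLib.Solvable.le_fittingSubgroup hA hAn) (CfsgLib.Solvable.le_fittingSubgroup hB hBn)), ?_⟩
  refine Nat.coprime_of_dvd fun r hr h1 h2 => ?_
  rcases hr.dvd_mul.1 (h1.trans (CfsgLib.Solvable.card_sup_dvd le_normalizer_of_normal)) with h | h
  · exact hr.not_dvd_one (hAc ▸ Nat.dvd_gcd h (h2.trans (index_dvd_of_le le_sup_left)))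
  · exact hr.not_dvd_one (hBc ▸ Nat.dvd_gcd h (h2.trans (index_dvd_of_le le_sup_right)))

theorem of_le (M : Subgroup G) : fittingHallOf M ≤ M := map_subtype_le _

theorem le_normalizer_of (M : Subgroup G) : M ≤ normalizer (fittingHallOf M : Set G) := by
  rw [← normal_subgroupOf_iff_le_normalizer (of_le M), fittingHallOf, ← comap_subtype,
    comap_map_eq_self_of_injective M.subtype_injective]
  infer_instance

theorem nilpotent_of (M : Subgroup G) : Group.IsNilpotent (fittingHallOf M) :=
  CfsgLib.CN.nilpotent_map (spec M).1 _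

theorem coprime_relIndex (M : Subgroup G) : (Nat.card (fittingHallOf M)).Coprime ((fittingHallOf M).relIndex M) := by
  rw [fittingHallOf, card_map_of_injective M.subtype_injective, relIndex, subgroupOf,
    comap_map_eq_self_of_injective M.subtype_injective]
  exact (spec M).2

theorem le_of {M N : Subgroup G} (hNM : N ≤ M) (hn : M ≤ normalizer (N : Set G)) (hN : Group.IsNilpotent N)
    (hc : (Nat.card N).Coprime (N.relIndex M)) : N ≤ fittingHallOf M := by
  rw [fittingHallOf, ← map_subgroupOf_eq_of_le hNM]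
  refine map_mono (le_sSup ⟨(normal_subgroupOf_iff_le_normalizer hNM).2 hn, ?_, ?_⟩)
  · haveI := hN
    exact Group.nilpotent_of_surjective (subgroupOfEquivOfLe hNM).symm.toMonoidHom (MulEquiv.surjective _)
  · rwa [Nat.card_congr (subgroupOfEquivOfLe hNM).toEquiv]

/-- Order of a product with trivial intersection. -/
theorem card_complIn {A B M : Subgroup G} (h : IsComplIn A B M) : Nat.card M = Nat.card A * Nat.card B := by
  obtain ⟨hA, hB, hAB, hex⟩ := h
  rw [← Nat.card_prod]
  symm
  refine Nat.card_eq_of_bijective (fun p : A × B => (⟨(p.1 : G) * p.2, mul_mem (hA p.1.2) (hB p.2.2)⟩ : M)) ⟨?_, ?_⟩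
  · rintro ⟨a, b⟩ ⟨a', b'⟩ he
    have he' : (a : G) * b = a' * b' := congrArg Subtype.val he
    have h1 : (a' : G)⁻¹ * a = (b' : G) * (b : G)⁻¹ := by
      rw [eq_mul_inv_iff_mul_eq, mul_assoc, he', inv_mul_cancel_left]
    have h2 : (a' : G)⁻¹ * a ∈ A ⊓ B := Subgroup.mem_inf.2
      ⟨mul_mem (inv_mem a'.2) a.2, h1 ▸ mul_mem b'.2 (inv_mem b.2)⟩
    rw [hAB, mem_bot, inv_mul_eq_one] at h2
    rw [h2] at he'
    exact Prod.ext (Subtype.ext h2.symm) (Subtype.ext (mul_left_cancel he'))
  · intro m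
    obtain ⟨a, ha, b, hb, he⟩ := hex m m.2
    exact ⟨⟨⟨a, ha⟩, ⟨b, hb⟩⟩, Subtype.ext he.symm⟩

theorem coprime_complIn {M L U : Subgroup G} (hLM : L ≤ M) (h : IsComplIn (fittingHallOf M) U L) :
    (Nat.card (fittingHallOf M)).Coprime (Nat.card U) := by
  refine (coprime_relIndex M).coprime_dvd_right ?_
  have h1 : Nat.card U = (fittingHallOf M).relIndex L := by
    refine Nat.eq_of_mul_eq_mul_left (Nat.card_pos (α := fittingHallOf M)) ?_
    rw [← card_complIn h, ← relIndex_bot_left, ← relIndex_bot_left,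
      relIndex_mul_relIndex _ _ _ bot_le h.1]
  rw [h1, ← relIndex_mul_relIndex (fittingHallOf M) L M h.1 hLM]
  exact dvd_mul_right _ _

end CfsgLib.OddLocal.FittingHall
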