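import Cfsg.Agent.OddLocal.KappaPartition
import Cfsg.Agent.OddLocal.FittingHall
import Cfsg.Agent.OddLocal.CNSolvable

/-!
The support subgroups of elements of `M_σ` with centralizer outside `M` (BG 14.4).
-/

set_option autoImplicit false
set_option linter.style.haveILetI false
set_option linter.unusedSectionVars false

namespace CfsgLib.OddLocal.Kap

open Subgroup Cfsg CfsgLib.OddLocal
open scoped commutatorElement Pointwise

universe u

variable {G : Type u} [Group G] [Finite G]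

theorem centralizer_split {M N : Subgroup G} (hcompl : Cfsg.IsComplIn (M ⊓ N) (Cfsg.sigmaCore N) N) {x : G}
    (hx : x ∈ M ⊓ N) {c : G} (hc : c ∈ centralizer ({x} : Set G)) (hcN : c ∈ N) :
    ∃ a ∈ M ⊓ centralizer ({x} : Set G), ∃ b ∈ Cfsg.sigmaCore N ⊓ centralizer ({x} : Set G), c = a * b := by
  set K := Cfsg.sigmaCore N
  obtain ⟨a, ha, b, hb, rfl⟩ := hcompl.2.2.2 c hcN
  have hcx : (a * b) * x = x * (a * b) := mem_centralizer_singleton_iff.1 hc
  have h1 : a⁻¹ * x⁻¹ * a * x = (b * (x⁻¹ * b⁻¹ * x)) := by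
    calc a⁻¹ * x⁻¹ * a * x = a⁻¹ * x⁻¹ * (a * b * x) * (x⁻¹ * b⁻¹ * x) := by group
      _ = b * (x⁻¹ * b⁻¹ * x) := by rw [hcx]; group
  have h2 : a⁻¹ * x⁻¹ * a * x ∈ (M ⊓ N) ⊓ K :=
    ⟨(M ⊓ N).mul_mem ((M ⊓ N).mul_mem ((M ⊓ N).mul_mem ((M ⊓ N).inv_mem ha) ((M ⊓ N).inv_mem hx)) ha) hx,
      h1 ▸ K.mul_mem hb ((mem_normalizer_iff''.1 (TH.le_normalizer_core N hx.2) _).1 (K.inv_mem hb))⟩
  rw [hcompl.2.2.1, mem_bot] at h2
  have hax : a * x = x * a := by
    calc a * x = x * a * (a⁻¹ * x⁻¹ * a * x) := by group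
      _ = x * a := by rw [h2, mul_one]
  refine ⟨a, ⟨ha.1, mem_centralizer_singleton_iff.2 hax⟩, b, ⟨hb, mem_centralizer_singleton_iff.2 ?_⟩, rfl⟩
  calc b * x = a⁻¹ * (a * b * x) := by group
    _ = a⁻¹ * (x * a) * b := by rw [hcx]; group
    _ = x * b := by rw [← hax]; group

variable (hG : Cfsg.IsMinSimpleOddOrder G)
include hG

theorem fittingHallOf_le_sigmaCore {M : Subgroup G} (hM : IsCoatom M) :
    Cfsg.fittingHallOf M ≤ Cfsg.sigmaCore M := by
  refine Excep.le_sigmaCore hG hM (FittingHall.of_le M) fun r hr hd => ?_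
  haveI := Fact.mk hr
  obtain ⟨P⟩ : Nonempty (Sylow r M) := inferInstance
  set F := Cfsg.fittingHall M
  haveI hnil : Group.IsNilpotent F := (FittingHall.spec M).1
  rw [Cfsg.fittingHallOf, card_map_of_injective M.subtype_injective] at hd
  have hPF : (P : Subgroup M) ≤ F := by
    refine Beta.le_of_coprime_index ?_
    obtain ⟨n, hn⟩ := IsPGroup.iff_card.1 P.2
    rw [hn]
    exact (hr.coprime_iff_not_dvd.2 fun h => hr.not_dvd_one ((FittingHall.spec M).2 ▸ Nat.dvd_gcd hd h)).pow_left n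
  have hn : (P : Subgroup M).Normal := CfsgLib.CN.Solvable.normal_of_sylow_le hnil P hPF
  set R := (P : Subgroup M).map M.subtype
  have hMR : M ≤ normalizer (R : Set G) := by
    rw [← normal_subgroupOf_iff_le_normalizer (map_subtype_le _), subgroupOf,
      comap_map_eq_self_of_injective M.subtype_injective]
    exact hn
  have hR1 : R ≠ ⊥ := fun e => P.ne_bot_of_dvd_card (hd.trans (card_subgroup_dvd_card _))
    (map_injective M.subtype_injective (by rw [Subgroup.map_bot]; exact e))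
  refine ⟨hr, hd.trans (card_subgroup_dvd_card _), P, le_of_eq ?_⟩
  rcases eq_or_lt_of_le hMR with h | h
  · exact h.symm
  · exact absurd (hM.2 _ h) (CfsgLib.CN.MinSimple.normalizer_ne_top hG (P.2.map M.subtype).isNilpotent hR1)

theorem fittingHallOf_eq {M : Subgroup G} (hM : IsCoatom M) (hnil : Group.IsNilpotent (Cfsg.sigmaCore M)) :
    Cfsg.fittingHallOf M = Cfsg.sigmaCore M := by
  refine le_antisymm (fittingHallOf_le_sigmaCore hG hM) (FittingHall.le_of (map_subtype_le _)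
    (TH.le_normalizer_core M) hnil (Nat.coprime_of_dvd fun r hr h1 h2 => ?_))
  exact (Sig.sigma_core hG hM).1.2.2 r hr ((Sig.sigma_core hG hM).1.2.1 r hr h1) h2

/-- BG 14.4 for an element of prime order. -/
theorem exists_over_line {M : Subgroup G} (hM : IsCoatom M) {p : ℕ} [hp : Fact p.Prime] {x : G}
    (hx : x ∈ Cfsg.sigmaCore M) (hxo : orderOf x = p) (hxC : ¬ centralizer ({x} : Set G) ≤ M) :
    ∃ N : Subgroup G, IsCoatom N ∧ centralizer ({x} : Set G) ≤ N ∧ N ≠ M ∧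
      (∀ g : G, N ≠ M.map (MulAut.conj g).toMonoidHom) ∧
      Cfsg.IsComplIn (M ⊓ N) (Cfsg.sigmaCore N) N ∧ p ∈ Cfsg.tau2 N := by
  have hxM : x ∈ M := map_subtype_le _ hx
  have hpM : p ∈ Cfsg.sigma M := mem_sigma_of_mem_core hG hM hp.out hx hxo
  have hXc : Nat.card (zpowers x) = p := by rw [Nat.card_zpowers, hxo]
  have hXp : IsPGroup p (zpowers x) := IsPGroup.of_card (n := 1) (by rw [hXc, pow_one])
  have hX1 : zpowers x ≠ ⊥ := fun e => hp.out.ne_one (by rw [← hXc, e, card_bot])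
  obtain ⟨N, hN, hNX⟩ := (eq_top_or_exists_le_coatom (normalizer (zpowers x : Set G))).resolve_left
    (Excep.normalizer_line_ne_top hG hXc)
  have hCN : centralizer ({x} : Set G) ≤ N := centralizer_le_over hG hNX
  have hne : N ≠ M := fun e => hxC (e ▸ hCN)
  have hxN : x ∈ N := hNX (le_normalizer (mem_zpowers x))
  obtain ⟨S, hS⟩ := (hXp.comap_subtype (K := M ⊓ N)).exists_le_sylow
  set T := (S : Subgroup ↥(M ⊓ N)).map (M ⊓ N).subtype
  have hXT : zpowers x ≤ T := by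
    rw [← map_subgroupOf_eq_of_le ((zpowers_le.2 ⟨hxM, hxN⟩ : zpowers x ≤ M ⊓ N))]
    exact map_mono hS
  obtain ⟨hnc, hNT, hTd⟩ := Cfsg.Agent.S1424.result hG M hM p hpM (zpowers x) hXp hX1 (zpowers_le.2 hxM) N hN hne
    hNX S hXT
  have hpN : p ∉ Cfsg.sigma N := fun h => by
    obtain ⟨g, hg⟩ := conj_of_common hG hM hN hpM h
    exact hnc g hg
  obtain ⟨K, hK, -, -, hle, hor, -⟩ := Tau.exists_product_over hG hM hpM hN hne hXp hX1 (zpowers_le.2 hxM) hNX
  have hcompl : Cfsg.IsComplIn (M ⊓ N) (Cfsg.sigmaCore N) N := by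
    refine ⟨inf_le_right, map_subtype_le _, le_bot_iff.1 ?_, fun m hm => ?_⟩
    · rw [← hor.resolve_left hpN]
      exact le_inf inf_le_right (inf_le_left.trans inf_le_left)
    · have h := (hle.trans (sup_le_sup_right hK _)) hm
      rw [sup_comm] at h
      obtain ⟨a, ha, b, hb, rfl⟩ := (CfsgLib.Solvable.mem_sup_of_le_normalizer
        ((inf_le_right : M ⊓ N ≤ N).trans (TH.le_normalizer_core N))).1 h
      exact ⟨a, ha, b, hb, rfl⟩
  refine ⟨N, hN, hCN, hne, hnc, hcompl, ?_⟩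
  obtain ⟨E, hE, -⟩ := Tau.exists_complement_of hG hN (X := ⊥) bot_le fun q hq h => by
    rw [card_bot, Nat.dvd_one] at h; exact absurd h hq.ne_one
  have hrank : ¬ Cfsg.PRankLE p 1 N := fun hr => by
    have hTp : IsPGroup p T := S.2.map _
    haveI hc : IsCyclic T := by
      haveI := Compl.cyclic_sylow hG hcompl (dvd_of_mem ⟨hxM, hxN⟩ hxo) hr S.2
      exact isCyclic_of_surjective _ ((S : Subgroup ↥(M ⊓ N)).equivMapOfInjective _ (M ⊓ N).subtype_injective).surjective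
    have hNTN : normalizer (T : Set G) ≤ N :=
      (UTool.normalizer_le_normalizer_zpowers hc (hXT (mem_zpowers x))).trans hNX
    obtain ⟨Q, hQ⟩ := hTp.exists_le_sylow
    have hQT : (Q : Subgroup G) = T := by
      by_contra hne'
      have hlt := CfsgLib.Fusion.lt_inf_normalizer Q.2 (lt_of_le_of_ne hQ (fun e => hne' e.symm))
      set W := (Q : Subgroup G) ⊓ normalizer (T : Set G) with hW
      have hWM : W ≤ M ⊓ N := le_inf (inf_le_right.trans hNT) (inf_le_right.trans hNTN)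
      have hWp : IsPGroup p W := Q.2.to_le inf_le_left
      have h := S.is_maximal' (hWp.comap_subtype (K := M ⊓ N))
        fun z hz => hlt.le (mem_map_of_mem _ hz)
      have h' := congrArg (Subgroup.map (M ⊓ N).subtype) h
      rw [← Subgroup.subgroupOf, map_subgroupOf_eq_of_le hWM] at h'
      exact hlt.ne' h'
    refine hpN (Excep.mem_sigma_of_sylow Q ?_ ?_ (dvd_of_mem hxN hxo))
    · rw [hQT]; exact (map_subtype_le _).trans inf_le_right
    · rw [hQT]; exact hNTN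
  rcases Tau.tau_cases hG hN hE hp.out (dvd_complement hG hN hE hp.out hpN (dvd_of_mem hxN hxo)) with h | h | h
  · exact absurd h.2.2.2.2 hrank
  · exact h
  · exact absurd h.2.2.2 hrank

/-- BG 14.4: the maximal subgroup over `C(x)`. -/
theorem exists_over {M : Subgroup G} (hM : IsCoatom M) {x : G} (hx : x ∈ Cfsg.sigmaCore M) (hx1 : x ≠ 1)
    (hxC : ¬ centralizer ({x} : Set G) ≤ M) :
    ∃ N : Subgroup G, IsCoatom N ∧ centralizer ({x} : Set G) ≤ N ∧
      (∀ L : Subgroup G, IsCoatom L → centralizer ({x} : Set G) ≤ L → L = N) ∧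
      (∀ g : G, N ≠ M.map (MulAut.conj g).toMonoidHom) ∧
      Cfsg.IsComplIn (M ⊓ N) (Cfsg.sigmaCore N) N ∧ Group.IsNilpotent (Cfsg.sigmaCore N) ∧
      (∀ r : ℕ, r.Prime → r ∣ orderOf x → r ∈ Cfsg.tau2 N) ∧
      ∃ y ∈ Cfsg.sigmaCore N, y ≠ 1 ∧ Commute x y := by
  obtain ⟨p, hp, x₁, hx₁, hx₁o, hle⟩ := exists_prime_root (mem_zpowers x) hx1
  haveI := Fact.mk hp
  have hx₁K : x₁ ∈ Cfsg.sigmaCore M := zpowers_le.2 hx hx₁
  obtain ⟨N, hN, hCN, -, hnc, hcompl, hτ⟩ := exists_over_line hG hM hx₁K hx₁o (fun h => hxC (hle.trans h))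
  have hxN : x ∈ N := hCN (hle (mem_centralizer_singleton_iff.2 rfl))
  have hxMN : x ∈ M ⊓ N := ⟨map_subtype_le _ hx, hxN⟩
  obtain ⟨y, hy, hy1⟩ : ∃ y ∈ Cfsg.sigmaCore N ⊓ centralizer ({x} : Set G), y ≠ 1 := by
    refine (bot_or_exists_ne_one _).resolve_left fun e => hxC fun c hc => ?_
    obtain ⟨a, ha, b, hb, rfl⟩ := centralizer_split hcompl hxMN hc (hCN (hle hc))
    rw [Subgroup.mem_bot.1 (e.le hb), mul_one]
    exact ha.1
  have hxy : Commute x y := (mem_centralizer_singleton_iff.1 hy.2).symm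
  have hτ' : ∀ r : ℕ, r.Prime → r ∣ orderOf x → r ∈ Cfsg.tau2 N := fun r hr hd => by
    haveI := Fact.mk hr
    set w := x ^ (orderOf x / r)
    have hwo : orderOf w = r := orderOf_pow_orderOf_div (orderOf_pos x).ne' hd
    have hrN : r ∉ Cfsg.sigma N := (Compl.card_eq hG hN hcompl).2.2 r hr
      (dvd_of_mem (pow_mem hxMN (orderOf x / r)) hwo)
    refine (mem_kappa_or_tau_two hG hN (pow_mem hxN _) hwo hrN hy.1 hy1 (hxy.pow_left _)).resolve_left fun hκ => ?_
    have hx₁N : x₁ ∈ N := zpowers_le.2 hxN hx₁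
    refine kappa_tau_absurd hG hN (y := w) (z := x₁) (pow_mem hxN _) hwo hκ hx₁N hx₁o hτ.2.1
      (fun h => hτ.2.2.2 (kappa_rank h)) ?_
    obtain ⟨i, rfl⟩ := mem_zpowers_iff.1 hx₁
    exact ((Commute.refl x).zpow_left i).pow_right _
  obtain ⟨hC, hu⟩ := Tau.tau_element_centralizer hG hN hxN hx1 hτ' hy.1 hy1 hxy.eq
  obtain ⟨B, hBN, hB, hB2⟩ := Uniq.exists_elementary hτ.2.2.2
  exact ⟨N, hN, hC, hu, hnc, hcompl, (Cfsg.Agent.S1417.result hG N hN p hτ B ⟨hBN, hB, hB2⟩).1, hτ',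
    y, hy.1, hy1, hxy⟩

/-- A maximal subgroup is its own normalizer. -/
theorem eq_of_conj_eq {M : Subgroup G} (hM : IsCoatom M) {r : G}
    (h : M.map (MulAut.conj r).toMonoidHom = M) : r ∈ M := by
  have hr : r ∈ normalizer (M : Set G) := mem_normalizer_iff_map_conj_eq.2 h
  rcases eq_or_lt_of_le (le_normalizer : M ≤ normalizer (M : Set G)) with h' | h'
  · exact h'.symm ▸ hr
  · exfalso
    haveI := hG.2.1
    haveI : M.Normal := normalizer_eq_top_iff.1 (hM.2 _ h')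
    exact (IsSimpleGroup.eq_bot_or_eq_top_of_normal M inferInstance).elim
      (fun e => (one_lt_card_coatom hG hM).ne' (by rw [e, card_bot])) hM.1

/-- The conjugates of `M` over `x` are permuted transitively by the support subgroup. -/
theorem conjugate_over {M : Subgroup G} (hM : IsCoatom M) {x : G} (hx : x ∈ Cfsg.sigmaCore M) (hx1 : x ≠ 1)
    {g : G} (hg : x ∈ M.map (MulAut.conj g).toMonoidHom) :
    M.map (MulAut.conj g).toMonoidHom = M ∨ ∃ N : Subgroup G, IsCoatom N ∧ centralizer ({x} : Set G) ≤ N ∧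
      ¬ centralizer ({x} : Set G) ≤ M ∧
      ∃ r ∈ Cfsg.sigmaCore N ⊓ centralizer ({x} : Set G),
        M.map (MulAut.conj r).toMonoidHom = M.map (MulAut.conj g).toMonoidHom := by
  obtain ⟨p, hp, x₁, hx₁, hx₁o, hle⟩ := exists_prime_root (mem_zpowers x) hx1
  haveI := Fact.mk hp
  have hx₁K : x₁ ∈ Cfsg.sigmaCore M := zpowers_le.2 hx hx₁
  have hpM := mem_sigma_of_mem_core hG hM hp hx₁K hx₁o
  have hback : (zpowers x₁).map (MulAut.conj g⁻¹).toMonoidHom ≤ M := by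
    rw [MonoidHom.map_zpowers, zpowers_le]
    obtain ⟨m, hm, e⟩ := (zpowers_le.2 hg) hx₁
    rw [show (MulAut.conj g⁻¹).toMonoidHom x₁ = m by
      rw [← e]; show g⁻¹ * (g * m * g⁻¹) * g⁻¹⁻¹ = m; group]
    exact hm
  obtain ⟨m, hm, c, hc, e⟩ := Sig.fusion_in hG hM hpM
    (IsPGroup.of_card (n := 1) (by rw [Nat.card_zpowers, hx₁o, pow_one]))
    (zpowers_le.2 (map_subtype_le _ hx₁K)) g⁻¹ hback
  have hfix : ∀ a ∈ M, M.map (MulAut.conj a).toMonoidHom = M :=
    fun a ha => mem_normalizer_iff_map_conj_eq.1 (le_normalizer ha)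
  have hgc : M.map (MulAut.conj g).toMonoidHom = M.map (MulAut.conj c⁻¹).toMonoidHom := by
    rw [show g = c⁻¹ * m⁻¹ by rw [← mul_inv_rev, ← e, inv_inv], ← Tau.map_conj_comp, hfix _ (inv_mem hm)]
  have hcC : c⁻¹ ∈ centralizer ({x₁} : Set G) := inv_mem (FixedLine.centralizer_zpowers_le x₁ hc)
  by_cases hC₁ : centralizer ({x₁} : Set G) ≤ M
  · exact Or.inl (by rw [hgc, hfix _ (hC₁ hcC)])
  obtain ⟨N, hN, hCN, -, -, hcompl, -⟩ := exists_over_line hG hM hx₁K hx₁o hC₁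
  have hxN : x ∈ N := hCN (hle (mem_centralizer_singleton_iff.2 rfl))
  have hxMN : x ∈ M ⊓ N := ⟨map_subtype_le _ hx, hxN⟩
  set K := Cfsg.sigmaCore N
  obtain ⟨a, ha, b, hb, e'⟩ := hcompl.2.2.2 c⁻¹ (hCN hcC)
  set r := a * b * a⁻¹ with hr
  have hrK : r ∈ K := (mem_normalizer_iff.1 (TH.le_normalizer_core N ha.2) b).1 hb
  have hgr : M.map (MulAut.conj g).toMonoidHom = M.map (MulAut.conj r).toMonoidHom := by
    rw [hgc, show c⁻¹ = r * a by rw [e', hr]; group, ← Tau.map_conj_comp, hfix _ ha.1]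
  have hrx : r ∈ centralizer ({x} : Set G) := by
    rw [hgr] at hg
    obtain ⟨m', hm', e''⟩ := hg
    have e3 : r * m' * r⁻¹ = x := e''
    have h1 : m' * x⁻¹ ∈ (M ⊓ N) ⊓ K := by
      refine ⟨(M ⊓ N).mul_mem ⟨hm', ?_⟩ ((M ⊓ N).inv_mem hxMN), ?_⟩
      · rw [show m' = r⁻¹ * x * r by rw [← e3]; group]
        have hrN : r ∈ N := map_subtype_le _ hrK
        exact N.mul_mem (N.mul_mem (N.inv_mem hrN) hxN) hrN
      · rw [show m' * x⁻¹ = r⁻¹ * (x * r * x⁻¹) by rw [← e3]; group]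
        exact K.mul_mem (K.inv_mem hrK) ((mem_normalizer_iff.1 (TH.le_normalizer_core N hxN) r).1 hrK)
    rw [hcompl.2.2.1, mem_bot, mul_inv_eq_one] at h1
    rw [h1, mul_inv_eq_iff_eq_mul] at e3
    exact mem_centralizer_singleton_iff.2 e3
  by_cases hC : centralizer ({x} : Set G) ≤ M
  · exact Or.inl (by rw [hgr, hfix _ (hC hrx)])
  · exact Or.inr ⟨N, hN, hle.trans hCN, hC, r, ⟨hrK, hrx⟩, hgr.symm⟩

/-- Distinct elements of the support subgroup give distinct conjugates. -/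
theorem conjugate_injective {M N : Subgroup G} (hM : IsCoatom M)
    (hcompl : Cfsg.IsComplIn (M ⊓ N) (Cfsg.sigmaCore N) N) {r r' : G} (hr : r ∈ Cfsg.sigmaCore N)
    (hr' : r' ∈ Cfsg.sigmaCore N)
    (h : M.map (MulAut.conj r).toMonoidHom = M.map (MulAut.conj r').toMonoidHom) : r = r' := by
  have h1 : r'⁻¹ * r ∈ M := eq_of_conj_eq hG hM (by
    rw [← Tau.map_conj_comp, h, Tau.map_conj_comp, inv_mul_cancel, map_one]
    exact map_id M)
  have h2 : r'⁻¹ * r ∈ (M ⊓ N) ⊓ Cfsg.sigmaCore N :=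
    ⟨⟨h1, N.mul_mem (N.inv_mem (map_subtype_le _ hr')) (map_subtype_le _ hr)⟩,
      (Cfsg.sigmaCore N).mul_mem ((Cfsg.sigmaCore N).inv_mem hr') hr⟩
  rw [hcompl.2.2.1, mem_bot, inv_mul_eq_one] at h2
  exact h2.symm

end CfsgLib.OddLocal.Kap
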