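import Cfsg.Agent.OddLocal.BetaCore
import Cfsg.Agent.S1451

/-!
Complements to `M_σ` in a maximal subgroup.
-/

set_option autoImplicit false
set_option linter.style.haveILetI false
set_option linter.unusedSectionVars false

namespace CfsgLib.OddLocal.Compl

open Subgroup Cfsg CfsgLib.OddLocal

universe u

section General

variable {X : Type u} [Group X] [Finite X] {p : ℕ} [hp : Fact p.Prime]

theorem characteristic_piCore (π : Set ℕ) : (Cfsg.piCore π X).Characteristic := by
  rw [characteristic_iff_map_le]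
  intro φ
  rw [map_le_iff_le_comap]
  refine sSup_le fun N hN => ?_
  rw [← map_le_iff_le_comap]
  refine le_sSup ⟨hN.1.map _ φ.surjective, fun q hq hd => hN.2 q hq ?_⟩
  rwa [card_map_of_injective (f := φ.toMonoidHom) φ.injective] at hd

theorem cyclic_of_rank_one (hp2 : p ≠ 2) {P : Subgroup X} (hP : IsPGroup p P) (hr : Cfsg.PRankLE p 1 P) :
    IsCyclic P := by
  by_contra hnc
  obtain ⟨U, -, hU, hU2⟩ := CfsgLib.FGSA.RankTwoOdd.exists_data hp2 hP hnc
  have h := hr U hU.1 hU.2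
  rw [hU2, pow_one] at h
  exact absurd h (not_le.2 (lt_self_pow₀ hp.out.one_lt one_lt_two))

/-- A Hall subgroup of a nilpotent group is the core for its set of primes. -/
theorem hall_eq_piCore [Group.IsNilpotent X] {π : Set ℕ} {H : Subgroup X}
    (hH : ∀ q : ℕ, q.Prime → q ∣ Nat.card H → q ∈ π)
    (hidx : ∀ q : ℕ, q.Prime → q ∈ π → ¬ q ∣ H.index) : H = Cfsg.piCore π X := by
  set C := Cfsg.piCore π X
  have hC : ∀ q : ℕ, q.Prime → q ∣ Nat.card C → q ∈ π :=
    Cfsg.Agent.S3743.isPi_of_sup _ (fun N hN => hN.1) fun N hN => hN.2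
  haveI : C.Normal := Cfsg.piCore_normal _ _
  have hCi : ∀ q : ℕ, q.Prime → q ∈ π → ¬ q ∣ C.index := by
    intro q hq hqπ hd
    haveI := Fact.mk hq
    obtain ⟨P⟩ : Nonempty (Sylow q X) := inferInstance
    refine P.not_dvd_index (hd.trans (index_dvd_of_le (le_sSup ⟨inferInstance, fun r hr hrd => ?_⟩)))
    obtain ⟨k, hk⟩ := IsPGroup.iff_card.1 P.isPGroup'
    rwa [(Nat.prime_dvd_prime_iff_eq hr hq).1 (hr.dvd_of_dvd_pow (hk ▸ hrd))]
  have hle : H ≤ C := Beta.le_of_coprime_index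
    (Nat.coprime_of_dvd fun q hq h1 h2 => hCi q hq (hH q hq h1) h2)
  refine eq_of_le_of_card_ge hle (Nat.le_of_dvd Nat.card_pos ?_)
  refine Nat.Coprime.dvd_of_dvd_mul_right
    (Nat.coprime_of_dvd fun q hq h1 h2 => hidx q hq (hC q hq h1) h2) ?_
  rw [H.card_mul_index]; exact card_subgroup_dvd_card C

end General

variable {G : Type u} [Group G] [Finite G] {p : ℕ} [hp : Fact p.Prime]
variable (hG : Cfsg.IsMinSimpleOddOrder G)
include hG

omit hp in
theorem card_eq {M E : Subgroup G} (hM : IsCoatom M) (hE : Cfsg.IsComplIn E (Cfsg.sigmaCore M) M) :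
    Nat.card E = (Cfsg.sigmaCore M).relIndex M ∧ E ⊔ Cfsg.sigmaCore M = M ∧
      (∀ q : ℕ, q.Prime → q ∣ Nat.card E → q ∉ Cfsg.sigma M) := by
  obtain ⟨hσh, -, -⟩ := Sig.sigma_core hG hM
  obtain ⟨hEM, hSM, hdis, hmul⟩ := hE
  have hsup : E ⊔ Cfsg.sigmaCore M = M := le_antisymm (sup_le hEM hSM) fun m hm => by
    obtain ⟨a, ha, b, hb, rfl⟩ := hmul m hm
    exact mul_mem (mem_sup_left ha) (mem_sup_right hb)
  have hcard : Nat.card E = (Cfsg.sigmaCore M).relIndex M := by
    have hn : E ≤ normalizer (Cfsg.sigmaCore M : Set G) := hEM.trans (TH.le_normalizer_core M)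
    have h1 := CfsgLib.Solvable.card_sup_of_disjoint hn hdis
    have h2 := CfsgLib.InvariantHall.relIndex_mul_card hSM
    rw [hsup, mul_comm (Nat.card E), ← h2] at h1
    exact (Nat.eq_of_mul_eq_mul_left Nat.card_pos h1).symm
  exact ⟨hcard, hsup, fun q hq hd hσ => hσh.2.2 q hq hσ (hcard ▸ hd)⟩

omit hp in
theorem derived_le {M E : Subgroup G} (hM : IsCoatom M) (hE : Cfsg.IsComplIn E (Cfsg.sigmaCore M) M) :
    ⁅M, M⁆ ≤ Cfsg.sigmaCore M ⊔ ⁅E, E⁆ := by
  obtain ⟨hEM, hSM, -, hmul⟩ := hE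
  set O := Cfsg.piCore (Cfsg.sigma M) ↥M
  set f := QuotientGroup.mk' O
  set E₀ := E.subgroupOf M
  have htop : E₀.map f = ⊤ := eq_top_iff.2 fun x _ => by
    obtain ⟨y, rfl⟩ := QuotientGroup.mk'_surjective O x
    obtain ⟨a, ha, b, hb, h⟩ := hmul y y.2
    obtain ⟨b', hb', rfl⟩ := hb
    refine ⟨⟨a, hEM ha⟩, ha, ?_⟩
    rw [show y = ⟨a, hEM ha⟩ * b' from Subtype.ext h, map_mul,
      show f b' = 1 from (QuotientGroup.eq_one_iff b').2 hb', mul_one]
  have h1 : (commutator M).map f ≤ (⁅E₀, E₀⁆).map f := by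
    rw [map_commutator, htop, _root_.commutator_def, map_commutator]
    exact commutator_mono le_top le_top
  rw [map_le_iff_le_comap, comap_map_eq, QuotientGroup.ker_mk'] at h1
  have h2 := map_mono (f := M.subtype) h1
  rw [_root_.commutator_def, map_commutator, ← MonoidHom.range_eq_map, range_subtype, Subgroup.map_sup,
    map_commutator, map_subgroupOf_eq_of_le hEM] at h2
  exact h2.trans (sup_comm _ _).le

theorem dvd_derived_iff {M E : Subgroup G} (hM : IsCoatom M) (hE : Cfsg.IsComplIn E (Cfsg.sigmaCore M) M)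
    (hpσ : p ∉ Cfsg.sigma M) : p ∣ Nat.card ↥⁅M, M⁆ ↔ p ∣ Nat.card ↥⁅E, E⁆ := by
  refine ⟨fun h => ?_, fun h => h.trans (card_dvd_of_le (commutator_mono hE.1 hE.1))⟩
  have hn : ⁅E, E⁆ ≤ normalizer (Cfsg.sigmaCore M : Set G) :=
    (commutator_le_self E).trans (hE.1.trans (TH.le_normalizer_core M))
  have hdis : ⁅E, E⁆ ⊓ Cfsg.sigmaCore M = ⊥ := le_bot_iff.1
    ((inf_le_inf_right _ (commutator_le_self E)).trans hE.2.2.1.le)
  have h1 := h.trans (card_dvd_of_le (derived_le hG hM hE))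
  rw [sup_comm, CfsgLib.Solvable.card_sup_of_disjoint hn hdis] at h1
  rcases hp.out.dvd_mul.1 h1 with h2 | h2
  · exact h2
  · exact absurd (TH.core_primes M p hp.out h2) hpσ

omit hp in
theorem rank_le_two {M E : Subgroup G} (hM : IsCoatom M) (hE : Cfsg.IsComplIn E (Cfsg.sigmaCore M) M) :
    Cfsg.RankLE 2 E := fun q hq => by
  haveI := Fact.mk hq
  by_contra hr
  obtain ⟨B, hBE, hB, hB3⟩ := Uniq.exists_elementary hr
  refine (card_eq hG hM hE).2.2 q hq ((dvd_pow_self q (by norm_num)).trans (hB3 ▸ card_dvd_of_le hBE))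
    (Sig.alpha_subset_sigma hG hM ⟨hq, fun h => hr (Uniq.rankLE_mono hE.1 h)⟩)

omit hp in
theorem nilpotent_derived {M E : Subgroup G} (hM : IsCoatom M) (hE : Cfsg.IsComplIn E (Cfsg.sigmaCore M) M) :
    Group.IsNilpotent ↥⁅E, E⁆ := by
  haveI : Group.IsSolvable E := hG.2.2.2 E (ne_top_of_le_ne_top hM.1 hE.1)
  have h := (Cfsg.Agent.S1451.result (hG.1.of_dvd_nat (card_subgroup_dvd_card E))
    (Or.inl (rank_le_two hG hM hE))).1
  rw [← map_subtype_commutator]
  exact Group.nilpotent_of_mulEquiv ((commutator E).equivMapOfInjective _ E.subtype_injective)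

theorem cyclic_sylow {M E : Subgroup G} (hE : Cfsg.IsComplIn E (Cfsg.sigmaCore M) M) (hpE : p ∣ Nat.card E)
    (hr : Cfsg.PRankLE p 1 M) {P : Subgroup E} (hP : IsPGroup p P) : IsCyclic P := by
  refine cyclic_of_rank_one (CfsgLib.FGSA.RankTwoSolvable.ne_two_of_dvd (hpE.trans (card_subgroup_dvd_card E)) hG.1)
    hP (fun A hA hAe => ?_)
  haveI := hA
  haveI := Subgroup.map_isMulCommutative A P.subtype
  have h := Uniq.rankLE_mono hE.1 hr (A.map P.subtype) inferInstance (by
    rintro _ ⟨a, ha, rfl⟩; rw [← map_pow, hAe a ha, map_one])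
  rwa [card_map_of_injective P.subtype_injective] at h

omit hp in
theorem zgroup_of_hall {M E H : Subgroup G} (hE : Cfsg.IsComplIn E (Cfsg.sigmaCore M) M) (hHE : H ≤ E)
    (hr : ∀ q : ℕ, q.Prime → q ∣ Nat.card H → Cfsg.PRankLE q 1 M) : IsZGroup H := by
  refine ⟨fun q hq P => ?_⟩
  haveI := Fact.mk hq
  by_cases hd : q ∣ Nat.card H
  · haveI := cyclic_sylow hG hE (hd.trans (card_dvd_of_le hHE)) (hr q hq hd)
      (P.2.map (inclusion hHE))
    exact isCyclic_of_surjective _ ((P : Subgroup H).equivMapOfInjective _ (inclusion_injective hHE)).symm.surjective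
  · haveI : Subsingleton (P : Subgroup H) := (Nat.card_eq_one_iff_unique.1 (by
      rw [P.card_eq_multiplicity, Nat.factorization_eq_zero_of_not_dvd hd, pow_zero])).1
    exact isCyclic_of_subsingleton

omit hp in
theorem tau_structure {M E : Subgroup G} (hM : IsCoatom M) (hE : Cfsg.IsComplIn E (Cfsg.sigmaCore M) M) :
    (∀ E₁ : Subgroup G, Cfsg.IsPiHallOf (Cfsg.tau1 M) E₁ E → IsCyclic E₁) ∧
      ∀ E₃ : Subgroup G, Cfsg.IsPiHallOf (Cfsg.tau3 M) E₃ E →
        IsCyclic E₃ ∧ E₃ ≤ ⁅E, E⁆ ∧ E ≤ normalizer (E₃ : Set G) := by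
  refine ⟨fun E₁ h1 => ?_, fun E₃ h3 => ?_⟩
  · haveI := zgroup_of_hall hG hE h1.1 fun q hq hd => (h1.2.1 q hq hd).2.2.2.2
    have hcop : (Nat.card E₁).Coprime (Nat.card ↥⁅E, E⁆) := Nat.coprime_of_dvd fun q hq hd1 hd2 =>
      (h1.2.1 q hq hd1).2.2.2.1 (hd2.trans (card_dvd_of_le (commutator_mono hE.1 hE.1)))
    have hbot : (commutator E₁).map E₁.subtype ≤ E₁ ⊓ ⁅E, E⁆ := le_inf (map_subtype_le _)
      ((map_subtype_commutator E₁).le.trans (commutator_mono h1.1 h1.1))
    rw [disjoint_iff.1 (disjoint_of_coprime_natCard hcop), le_bot_iff,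
      Subgroup.map_eq_bot_iff_of_injective _ E₁.subtype_injective, commutator_eq_bot_iff_center_eq_top] at hbot
    haveI : Group.IsNilpotent E₁ := Group.of_quotient_center_nilpotent (by
      haveI : Subsingleton (E₁ ⧸ center E₁) := by rw [hbot]; exact QuotientGroup.subsingleton_quotient_top
      infer_instance)
    infer_instance
  · have hE' : ⁅E, E⁆ ≤ E := commutator_le_self E
    have hcyc : ∀ q : ℕ, q.Prime → q ∈ Cfsg.tau3 M → q ∣ Nat.card E → ¬ q ∣ (commutator E).index := by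
      intro q hq hqτ hqE
      haveI := Fact.mk hq
      obtain ⟨P⟩ : Nonempty (Sylow q E) := inferInstance
      haveI : IsCyclic P := cyclic_sylow hG hE hqE hqτ.2.2.2 P.2
      refine (Sylow.not_dvd_card_commutator_or_not_dvd_index_commutator P).resolve_left (not_not.2 ?_)
      rw [← Nat.card_congr ((commutator E).equivMapOfInjective _ E.subtype_injective).toEquiv.symm,
        map_subtype_commutator]
      exact (dvd_derived_iff hG hM hE hqτ.2.1).1 hqτ.2.2.1
    have hle : E₃.subgroupOf E ≤ commutator E := Beta.le_of_coprime_index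
      (Nat.coprime_of_dvd fun q hq hd1 hd2 => by
        rw [Nat.card_congr (subgroupOfEquivOfLe h3.1).toEquiv] at hd1
        exact hcyc q hq (h3.2.1 q hq hd1) (hd1.trans (card_dvd_of_le h3.1)) hd2)
    have hle' : E₃ ≤ ⁅E, E⁆ := by
      have := map_mono (f := E.subtype) hle
      rwa [map_subgroupOf_eq_of_le h3.1, map_subtype_commutator] at this
    haveI hnil := nilpotent_derived hG hM hE
    haveI : IsZGroup E₃ := zgroup_of_hall hG hE h3.1 fun q hq hd => (h3.2.1 q hq hd).2.2.2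
    haveI : Group.IsNilpotent E₃ := Group.nilpotent_of_mulEquiv (subgroupOfEquivOfLe hle')
    refine ⟨inferInstance, hle', ?_⟩
    have hchar : (E₃.subgroupOf ⁅E, E⁆).Characteristic := by
      rw [hall_eq_piCore (π := Cfsg.tau3 M) (H := E₃.subgroupOf ⁅E, E⁆)
        (fun q hq hd => h3.2.1 q hq (by rwa [Nat.card_congr (subgroupOfEquivOfLe hle').toEquiv] at hd))
        (fun q hq hqπ hd => h3.2.2 q hq hqπ (by
          rw [← relIndex_mul_relIndex E₃ _ E hle' hE']
          exact Dvd.dvd.mul_right hd _))]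
      exact characteristic_piCore _
    have h := UTool.normalizer_le_normalizer_map ⁅E, E⁆ (E₃.subgroupOf ⁅E, E⁆) hchar
    rw [map_subgroupOf_eq_of_le hle'] at h
    refine le_trans ?_ h
    exact (normal_subgroupOf_iff_le_normalizer hE').1 (by
      have : ⁅E, E⁆.subgroupOf E = commutator E := by
        rw [← map_subtype_commutator, ← comap_subtype, comap_map_eq_self_of_injective E.subtype_injective]
      rw [this]; infer_instance)

end CfsgLib.OddLocal.Compl
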