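import Cfsg.Agent.OddLocal.TauTwoNormal
import Cfsg.Agent.OddLocal.SigmaCompl
import Cfsg.Agent.S1414

/-!
The case `p ∈ τ₂(M)` with nonabelian Sylow `p`-subgroups of `G`: one line centralizes `M_σ`, `τ₂(M) = {p}`.
-/

set_option autoImplicit false
set_option linter.style.haveILetI false
set_option linter.unusedSectionVars false

namespace CfsgLib.OddLocal.Tau

open Subgroup Cfsg CfsgLib.OddLocal
open scoped commutatorElement Pointwise

universe u

variable {G : Type u} [Group G] [Finite G] {p q : ℕ} [hp : Fact p.Prime] {A : Subgroup G}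
  (hA : Cfsg.IsElementaryAbelian p A) (hA2 : Nat.card A = p ^ 2)
include hA hA2

/-- A transvection permutes the other lines transitively. -/
theorem exists_line_map {S : Subgroup G} (hS : IsPGroup p S) {g z : G} (hgS : g ∈ S)
    (hgA : g ∈ normalizer (A : Set G)) (hzA : z ∈ A) (hzo : orderOf z = p) (hgz : Commute g z)
    (hgC : g ∉ centralizer (A : Set G)) {B X : Subgroup G} (hBA : B ≤ A) (hB : Nat.card B = p)
    (hBz : B ≠ zpowers z) (hXA : X ≤ A) (hX : Nat.card X = p) (hXz : X ≠ zpowers z) :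
    ∃ k : ℕ, B.map (MulAut.conj (g ^ k)).toMonoidHom = X := by
  haveI := hA.1
  have hz : Nat.card (zpowers z) = p := by rw [Nat.card_zpowers, hzo]
  obtain ⟨b', hb', hb'z⟩ : ∃ b' ∈ B, b' ∉ zpowers z := by
    by_contra hno
    push Not at hno
    exact hBz (eq_of_le_of_card_ge hno (by rw [hz, hB]))
  obtain ⟨b, hbX, hbz⟩ : ∃ b ∈ X, b ∉ zpowers z := by
    by_contra hno
    push Not at hno
    exact hXz (eq_of_le_of_card_ge hno (by rw [hz, hX]))
  obtain ⟨n, hn⟩ := transvection hA hA2 hS hgS hgA hzA hzo hgz hgC (hBA hb') hb'z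
  obtain ⟨-, hc⟩ := Excep.line_of_mem hA (hBA hb') fun e => hb'z (e ▸ one_mem _)
  have hb'' : zpowers b' = B := eq_of_le_of_card_ge (zpowers_le.2 hb') (by rw [hc, hB])
  have hmem := hXA hbX
  rw [← Excep.line_sup hA2 (zpowers_le.2 hzA) hz (hBA hb') hb'z] at hmem
  obtain ⟨u, hu, v, hv, huv⟩ := (CfsgLib.Solvable.mem_sup_of_le_normalizer
    (((zpowers_le.2 hzA).trans (le_centralizer_iff_isMulCommutative.2 hA.1)).trans
      ((centralizer_le (zpowers_le.2 (hBA hb'))).trans (centralizer_le_normalizer _)))).1 hmem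
  obtain ⟨j, rfl⟩ := (isOfFinOrder_of_finite b').mem_powers_iff_mem_zpowers.2 hv
  obtain ⟨i, rfl⟩ := (isOfFinOrder_of_finite z).mem_powers_iff_mem_zpowers.2 hu
  have hj : ¬ p ∣ j := fun ⟨k, hk⟩ => hbz (by
    rw [← huv]
    show z ^ i * b' ^ j ∈ zpowers z
    rw [hk, pow_mul, hA.2 b' (hBA hb'), one_pow, mul_one]
    exact pow_mem (mem_zpowers z) i)
  obtain ⟨l, hl⟩ := exists_pow_eq_self_of_coprime
    (show j.Coprime (orderOf b') by rw [← Nat.card_zpowers, hc]; exact (hp.out.coprime_iff_not_dvd.2 hj).symm)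
  have hzb : Commute z b' := congrArg Subtype.val (hA.1.is_comm.comm ⟨z, hzA⟩ ⟨b', hBA hb'⟩)
  have hb1 : z ^ (i * l) * b' ∈ X := by
    have h1 := pow_mem hbX l
    rw [← huv] at h1
    simpa [(hzb.pow_pow i j).mul_pow, ← pow_mul, hl] using h1
  have hkey : ∀ k : ℕ, g ^ (n * k) * b' * (g ^ (n * k))⁻¹ = z ^ k * b' := by
    intro k
    induction k with
    | zero => simp
    | succ k ih =>
      have hzn : g ^ n * z ^ k * (g ^ n)⁻¹ = z ^ k := by rw [(hgz.pow_pow n k).eq, mul_inv_cancel_right]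
      calc g ^ (n * (k + 1)) * b' * (g ^ (n * (k + 1)))⁻¹
          = g ^ n * (g ^ (n * k) * b' * (g ^ (n * k))⁻¹) * (g ^ n)⁻¹ := by
            rw [show n * (k + 1) = n + n * k by ring, pow_add]; group
        _ = (g ^ n * z ^ k * (g ^ n)⁻¹) * (g ^ n * b' * (g ^ n)⁻¹) := by rw [ih]; group
        _ = z ^ (k + 1) * b' := by rw [hzn, hn, pow_succ]; group
  refine ⟨n * (i * l), eq_of_le_of_card_ge ?_ ?_⟩
  · rw [← hb'', MonoidHom.map_zpowers, zpowers_le]
    show g ^ (n * (i * l)) * b' * (g ^ (n * (i * l)))⁻¹ ∈ X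
    rw [hkey]
    exact hb1
  · rw [card_map_of_injective (MulAut.conj (g ^ (n * (i * l)))).injective, hB, hX]

variable (hG : Cfsg.IsMinSimpleOddOrder G) {M : Subgroup G} (hM : IsCoatom M) (hAM : A ≤ M)
  (hpσ : p ∉ Cfsg.sigma M) (hmax : ∀ B : Subgroup G, Cfsg.IsElementaryAbelian p B → A ≤ B → B = A)
  (hr : Cfsg.PRankLE p 2 M) (hS : ∀ S : Sylow p G, ¬ IsMulCommutative (S : Subgroup G))
include hG hM hAM hpσ hmax hr hS

/-- A transvection on `A` outside `M`, with fixed point free fixed line. -/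
theorem nonabelian_data (P : Sylow p M) (hAP : A ≤ (P : Subgroup M).map M.subtype) (Ps : Sylow p G)
    (hPs : (P : Subgroup M).map M.subtype ≤ (Ps : Subgroup G)) :
    ∃ g z : G, g ∈ (Ps : Subgroup G) ∧ g ∈ normalizer (A : Set G) ∧ g ∉ centralizer (A : Set G) ∧ g ∉ M ∧
      z ∈ A ∧ orderOf z = p ∧ Commute g z ∧
      Cfsg.sigmaCore M ⊓ centralizer (zpowers z : Set G) = ⊥ ∧ ¬ centralizer (zpowers z : Set G) ≤ M := by
  set S := (P : Subgroup M).map M.subtype with hSdef
  rcases dichotomy hA hA2 hmax hG.1 Ps.2 (hAP.trans hPs) with ⟨h, -⟩ | ⟨z, hzA, hzo, hPz, hNz, -, g, hgP, hgA, hgC⟩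
  · exfalso
    have hle : (Ps : Subgroup G) ≤ M := h.trans (centralizer_le_coatom hG hA hA2 hM hAM)
    have hd : ¬ p ∣ S.relIndex M := by
      rw [relIndex, hSdef, ← comap_subtype, comap_map_eq_self_of_injective M.subtype_injective]
      exact P.not_dvd_index
    have heq : S = (Ps : Subgroup G) := eq_of_le_of_card_ge hPs (Nat.le_of_dvd Nat.card_pos
      ((Nat.Coprime.dvd_mul_right (Excep.coprime_of_pgroup Ps.2 hd)).1 (by
        rw [CfsgLib.InvariantHall.relIndex_mul_card (map_subtype_le _)]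
        exact card_dvd_of_le hle)))
    exact hS Ps (heq ▸ abelian hG hA hA2 hM hAM hpσ hmax hr hAP)
  have hgM : g ∉ M := fun hgM => by
    have hW : IsPGroup p (A ⊔ zpowers g : Subgroup G) := Ps.2.to_le (sup_le (hAP.trans hPs) (zpowers_le.2 hgP))
    obtain ⟨P₁, hP₁⟩ := (hW.comap_subtype (K := M)).exists_le_sylow
    have hle : A ⊔ zpowers g ≤ (P₁ : Subgroup M).map M.subtype := by
      rw [← map_subgroupOf_eq_of_le (sup_le hAM (zpowers_le.2 hgM))]
      exact map_mono hP₁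
    exact hgC (central hG hA hA2 hM hAM hpσ hmax (le_sup_left.trans hle) (hle (mem_sup_right (mem_zpowers g))))
  have hgz : Commute g z := mem_centralizer_singleton_iff.1 (hPz hgP)
  have hz : Nat.card (zpowers z) = p := by rw [Nat.card_zpowers, hzo]
  obtain ⟨H, hH, hNH⟩ := (eq_top_or_exists_le_coatom (normalizer (zpowers z : Set G))).resolve_left
    (Excep.normalizer_line_ne_top hG hz)
  haveI := hA.1
  have hCH : centralizer (zpowers z : Set G) ≤ H := (centralizer_le_normalizer _).trans hNH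
  have hAH : A ≤ H :=
    ((le_centralizer_iff_isMulCommutative.2 hA.1).trans (centralizer_le (zpowers_le.2 hzA))).trans hCH
  have hpH : p ∈ Cfsg.sigma H := Excep.mem_sigma_of_sylow Ps ((le_normalizer.trans hNz).trans hNH) (hNz.trans hNH)
    ((dvd_pow_self p two_ne_zero).trans (hA2 ▸ card_dvd_of_le hAH))
  refine ⟨g, z, hgP, hgA, hgC, hgM, hzA, hzo, hgz,
    le_bot_iff.1 ((inter_sigma_eq_bot hG hA hA2 hM hAM hpσ hmax hH hAH hpH) ▸ inf_le_inf_left _ hCH),
    fun h => hgM (h (mem_centralizer_iff.2 fun y hy => ?_))⟩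
  obtain ⟨i, rfl⟩ := mem_zpowers_iff.1 hy
  exact (hgz.zpow_right i).eq.symm

/-- The line centralizing `M_σ`. -/
theorem unique_good : ∃ B : Subgroup G, B ≤ A ∧ Nat.card B = p ∧ A ⊓ centralizer (Cfsg.sigmaCore M : Set G) = B ∧
    M ≤ normalizer (B : Set G) ∧
    ∀ X : Subgroup G, X ≤ A → Nat.card X = p → X ≠ B →
      Cfsg.sigmaCore M ⊓ centralizer (X : Set G) = ⊥ ∧ ¬ centralizer (X : Set G) ≤ M := by
  obtain ⟨P, hAP⟩ := exists_sylow_over hG hA hA2 hM hAM hpσ hmax
  obtain ⟨Ps, hPs⟩ := (P.2.map M.subtype : IsPGroup p ↥((P : Subgroup M).map M.subtype)).exists_le_sylow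
  obtain ⟨g, z, hgP, hgA, hgC, hgM, hzA, hzo, hgz, hfix, hCz⟩ :=
    nonabelian_data hA hA2 hG hM hAM hpσ hmax hr hS P hAP Ps hPs
  have hz : Nat.card (zpowers z) = p := by rw [Nat.card_zpowers, hzo]
  obtain ⟨B, hBA, hB, hBz, hBgood⟩ := exists_good hG hA hA2 hM hAM hpσ hmax (zpowers_le.2 hzA) hz hfix
  have hNB := good_normalizer_le hG hA hA2 hM hAM hpσ hmax hBA hB hBgood
  have hNM : normalizer (M : Set G) = M := Uniq.coatom_normalizer_eq hG hM le_rfl le_normalizer fun e =>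
    ne_bot hA hA2 (le_bot_iff.1 (hAM.trans e.le))
  have hrest : ∀ X : Subgroup G, X ≤ A → Nat.card X = p → X ≠ B →
      Cfsg.sigmaCore M ⊓ centralizer (X : Set G) = ⊥ ∧ ¬ centralizer (X : Set G) ≤ M := by
    intro X hXA hX hXB
    by_cases hXz : X = zpowers z
    · exact hXz ▸ ⟨hfix, hCz⟩
    obtain ⟨k, hk⟩ := exists_line_map hA hA2 Ps.2 hgP hgA hzA hzo hgz hgC hBA hB hBz hXA hX hXz
    set m := g ^ k with hm
    have hmM : m ∉ M := by
      intro hmM
      have hW : IsPGroup p (A ⊔ zpowers m : Subgroup G) :=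
        Ps.2.to_le (sup_le (hAP.trans hPs) (zpowers_le.2 (pow_mem hgP k)))
      obtain ⟨P₁, hP₁⟩ := (hW.comap_subtype (K := M)).exists_le_sylow
      have hle : A ⊔ zpowers m ≤ (P₁ : Subgroup M).map M.subtype := by
        rw [← map_subgroupOf_eq_of_le (sup_le hAM (zpowers_le.2 hmM))]
        exact map_mono hP₁
      have hmC := central hG hA hA2 hM hAM hpσ hmax (le_sup_left.trans hle) (hle (mem_sup_right (mem_zpowers m)))
      refine hXB (hk.symm.trans (eq_of_le_of_card_ge ?_ (by rw [card_map_of_injective (MulAut.conj m).injective])))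
      rintro _ ⟨b, hb, rfl⟩
      simp only [MulEquiv.coe_toMonoidHom, MulAut.conj_apply]
      rwa [← (mem_centralizer_iff.1 hmC b (hBA hb)), mul_inv_cancel_right]
    have hMm : M.map (MulAut.conj m).toMonoidHom ≠ M := fun e => hmM (by
      rw [← hNM]; exact mem_normalizer_iff_map_conj_eq.2 e)
    refine ⟨by_contra fun hne => hMm ?_, fun hle => hMm ?_⟩
    · exact good_line hG hA hA2 hM hAM hpσ hmax hXA hX hne (Uniq.coatom_conj hM m) (hk ▸
        ((map_equiv_normalizer_eq B (MulAut.conj m)).ge.trans (map_mono hNB)))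
    · have h1 : centralizer (B : Set G) ≤ M.map (MulAut.conj m⁻¹).toMonoidHom := by
        intro x hx
        refine ⟨m * x * m⁻¹, hle (mem_centralizer_iff.2 ?_), by simp [mul_assoc]⟩
        rw [← hk]
        rintro _ ⟨b, hb, rfl⟩
        show (MulAut.conj m) b * (MulAut.conj m) x = (MulAut.conj m) x * (MulAut.conj m) b
        rw [← map_mul, ← map_mul, mem_centralizer_iff.1 hx b hb]
      have h2 : M.map (MulAut.conj m⁻¹).toMonoidHom = M := by
        by_contra hne
        haveI := hA.1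
        have hAL : A ≤ M.map (MulAut.conj m⁻¹).toMonoidHom :=
          ((le_centralizer_iff_isMulCommutative.2 hA.1).trans (centralizer_le hBA)).trans h1
        exact hBgood (le_bot_iff.1 ((inter_eq_bot hG hA hA2 hM hAM hpσ hmax (Uniq.coatom_conj hM _) hne hAL) ▸
          inf_le_inf_left _ h1))
      have h3 := congrArg (fun L : Subgroup G => L.map (MulAut.conj m).toMonoidHom) h2
      simp only [TH.map_conj_map_conj, mul_inv_cancel, TH.map_conj_one] at h3
      exact h3.symm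
  have hσB : Cfsg.sigmaCore M ≤ centralizer (B : Set G) := Excep.le_of_lines hA hA2
    (hAM.trans (TH.le_normalizer_core M)) (not_dvd_sigmaCore hG hM hpσ) fun Y hYA hY => by
      by_cases hYB : Y = B
      · rw [hYB]; exact inf_le_right
      · rw [(hrest Y hYA hY hYB).1]; exact bot_le
  have heq : A ⊓ centralizer (Cfsg.sigmaCore M : Set G) = B := by
    refine le_antisymm (fun a ha => ?_) (le_inf hBA (le_centralizer_iff.1 hσB))
    by_contra haB
    refine sigmaCore_ne_bot hG hM (one_lt_card hG hA2 hM hAM) (le_bot_iff.1 ?_)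
    rw [← inf_centralizer_eq_bot hG hA hA2 hM hAM hpσ hmax]
    refine le_inf le_rfl (le_centralizer_iff.1 ?_)
    rw [← Excep.line_sup hA2 hBA hB ha.1 haB]
    exact sup_le (le_centralizer_iff.1 hσB) (zpowers_le.2 ha.2)
  refine ⟨B, hBA, hB, heq, ?_, hrest⟩
  obtain ⟨E, hE, hAE⟩ := exists_complement_over hG hA hA2 hM hAM hpσ hmax
  refine (Compl.card_eq hG hM hE).2.1.ge.trans (sup_le ?_ (hσB.trans (centralizer_le_normalizer _)))
  rw [← heq]
  exact le_trans (le_inf (complement_normalizes hG hA hA2 hM hAM hpσ hmax hE hAE)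
    (hE.1.trans ((TH.le_normalizer_core M).trans (TH.normalizer_le_normalizer_centralizer _))))
    inf_normalizer_le_normalizer_inf

omit hS in
/-- Every `p`-subgroup of `M` is abelian. -/
theorem commutative_of_le {U : Subgroup G} (hU : IsPGroup p U) (hUM : U ≤ M) : IsMulCommutative U := by
  obtain ⟨P₀, hP₀⟩ := exists_sylow_over hG hA hA2 hM hAM hpσ hmax
  haveI := abelian hG hA hA2 hM hAM hpσ hmax hr hP₀
  obtain ⟨P₁, hP₁⟩ := (hU.comap_subtype (K := M)).exists_le_sylow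
  haveI : IsMulCommutative (P₀ : Subgroup M) := ⟨⟨fun a b => Subtype.ext (M.subtype_injective
    (congrArg Subtype.val (IsMulCommutative.is_comm.comm
      (⟨M.subtype a.1, mem_map_of_mem _ a.2⟩ : ↥((P₀ : Subgroup M).map M.subtype))
      ⟨M.subtype b.1, mem_map_of_mem _ b.2⟩) :))⟩⟩
  refine ⟨⟨fun a b => Subtype.ext ?_⟩⟩
  have hmem : ∀ x : U, (⟨x.1, hUM x.2⟩ : M) ∈ (P₁ : Subgroup M) := fun x => hP₁ (show _ ∈ U.comap M.subtype from x.2)
  have h : (⟨_, hmem a⟩ : (P₁ : Subgroup M)) * ⟨_, hmem b⟩ = ⟨_, hmem b⟩ * ⟨_, hmem a⟩ :=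
    (P₁.equiv P₀).injective (by rw [map_mul, map_mul]; exact IsMulCommutative.is_comm.comm _ _)
  exact congrArg (fun x : (P₁ : Subgroup M) => ((x : M) : G)) h

/-- No other prime is in `τ₂(M)`. -/
theorem tau_singleton (hpM : p ∈ Cfsg.tau2 M) : Cfsg.tau2 M = {p} := by
  refine Set.eq_singleton_iff_unique_mem.2 ⟨hpM, fun q hq => by_contra fun hqp => ?_⟩
  obtain ⟨hqq, hqσ, hq2, hq1⟩ := hq
  haveI := Fact.mk hqq
  obtain ⟨D, hDM, hDe, hDc⟩ := Uniq.exists_elementary hq1
  replace hDc : Nat.card D = q ^ 2 := hDc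
  have hmaxD := (Cfsg.Agent.S1408.result hG M hM q hqσ hq2 hq1).2 D hDM hDe hDc
  obtain ⟨E', hE', hDE'⟩ := exists_complement_over hG hDe hDc hM hDM hqσ hmaxD
  obtain ⟨E, hE, hAE⟩ := exists_complement_over hG hA hA2 hM hAM hpσ hmax
  haveI hMs : Group.IsSolvable M := hG.2.2.2 M hM.1
  set K := Cfsg.sigmaCore M
  have hKM : K ≤ M := map_subtype_le _
  obtain ⟨m, hm⟩ := CfsgLib.Hall.hall_conj (G := M) (a := K.relIndex M) (b := Nat.card K)
    (by rw [mul_comm]; exact (CfsgLib.InvariantHall.relIndex_mul_card hKM).symm)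
    (CfsgLib.InvariantHall.coprime_of_isPiHallOf (Sig.sigma_core hG hM).1).symm
    (H := E'.subgroupOf M) (K := E.subgroupOf M)
    (by rw [Nat.card_congr (subgroupOfEquivOfLe hE'.1).toEquiv]; exact (Compl.card_eq hG hM hE').1)
    (by rw [Nat.card_congr (subgroupOfEquivOfLe hE.1).toEquiv]; exact (Compl.card_eq hG hM hE).1)
  have hm' := congrArg (Subgroup.map M.subtype) hm
  rw [CfsgLib.SZ.conj_smul_map, map_subgroupOf_eq_of_le hE'.1, map_subgroupOf_eq_of_le hE.1] at hm'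
  set D' := D.map (MulAut.conj (m : G)).toMonoidHom with hD'
  have hD'E : D' ≤ E := by
    rw [← hm']
    rintro _ ⟨x, hx, rfl⟩
    exact smul_mem_pointwise_smul x _ _ (hDE' hx)
  have hD'e : Cfsg.IsElementaryAbelian q D' := Excep.conj_elementary hDe _
  have hD'c : Nat.card D' = q ^ 2 := by rw [hD', card_map_of_injective (MulAut.conj (m : G)).injective, hDc]
  have hD'M : D' ≤ M := hD'E.trans hE.1
  have hmaxD' := (Cfsg.Agent.S1408.result hG M hM q hqσ hq2 hq1).2 D' hD'M hD'e hD'c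
  have hnA := complement_normalizes hG hA hA2 hM hAM hpσ hmax hE hAE
  have hnD := complement_normalizes hG hD'e hD'c hM hD'M hqσ hmaxD' hE hD'E
  have hDA : D' ≤ centralizer (A : Set G) := by
    refine commutator_eq_bot_iff_le_centralizer.1 (le_bot_iff.1 ((le_inf (le_normalizer_iff_commutator_le_left.1
      (hAE.trans hnD)) (le_normalizer_iff_commutator_le_right.1 (hD'E.trans hnA))).trans
        (le_of_eq (disjoint_iff.1 (disjoint_of_coprime_natCard ?_)))))
    rw [hD'c, hA2]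
    exact (((Nat.coprime_primes hqq hp.out).2 hqp).pow_left 2).pow_right 2
  obtain ⟨H, hH, hpH, hNH, hAH⟩ := exists_sigma_over hA hA2 hmax hG
  have hHM : H ≠ M := fun e => hpσ (e ▸ hpH)
  have hDH : D' ≤ H := (hDA.trans (centralizer_le_normalizer _)).trans hNH
  have hAσ : A ≤ Cfsg.sigmaCore H :=
    Excep.le_sigmaCore hG hH hAH (Excep.primes_of_pgroup (IsPGroup.of_card hA2) hpH)
  have hqH : q ∈ Cfsg.sigma H := by
    by_contra hqH
    have h := inter_eq_bot hG hD'e hD'c hH hDH hqH hmaxD' hM (Ne.symm hHM) hD'M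
    exact ne_bot hA hA2 (le_bot_iff.1 (h ▸ le_inf hAσ hAM))
  have hDσ : D' ≤ Cfsg.sigmaCore H :=
    Excep.le_sigmaCore hG hH hDH (Excep.primes_of_pgroup (IsPGroup.of_card hD'c) hqH)
  obtain ⟨-, -, -, ⟨W, hW, hWn⟩, -⟩ := Cfsg.Agent.S1414.result hG H hH
  set π : Set ℕ := {r | r.Prime ∧ r ∉ Cfsg.beta H}
  have hσH : Cfsg.sigmaCore H ≤ H := map_subtype_le _
  haveI hσs : Group.IsSolvable (Cfsg.sigmaCore H) := hG.2.2.2 _ (ne_top_of_le_ne_top hH.1 hσH)
  set X := A ⊔ D' with hX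
  have hXσ : X ≤ Cfsg.sigmaCore H := sup_le hAσ hDσ
  obtain ⟨W', hW'c, hXW⟩ := CfsgLib.Hall.hall_dominance (G := Cfsg.sigmaCore H) (a := Nat.card W)
    (b := W.relIndex (Cfsg.sigmaCore H)) (CfsgLib.InvariantHall.relIndex_mul_card hW.1).symm
    (CfsgLib.InvariantHall.coprime_of_isPiHallOf hW) (K := X.subgroupOf (Cfsg.sigmaCore H)) (by
      rw [Nat.card_congr (subgroupOfEquivOfLe hXσ).toEquiv, hX,
        CfsgLib.Solvable.card_sup_of_disjoint (hAE.trans hnD) (disjoint_iff.1 (disjoint_of_coprime_natCard (by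
          rw [hA2, hD'c]; exact (((Nat.coprime_primes hp.out hqq).2 (Ne.symm hqp)).pow_left 2).pow_right 2))),
        hA2, hD'c]
      exact Nat.Coprime.mul_left
        ((hp.out.coprime_iff_not_dvd.2 (hW.2.2 p hp.out ⟨hp.out, Excep.not_beta hA hA2 hmax H⟩)).pow_left 2)
        ((hqq.coprime_iff_not_dvd.2 (hW.2.2 q hqq ⟨hqq, Excep.not_beta hD'e hD'c hmaxD' H⟩)).pow_left 2))
  obtain ⟨c, hc⟩ := CfsgLib.Hall.hall_conj (G := Cfsg.sigmaCore H) (a := Nat.card W)
    (b := W.relIndex (Cfsg.sigmaCore H)) (CfsgLib.InvariantHall.relIndex_mul_card hW.1).symm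
    (CfsgLib.InvariantHall.coprime_of_isPiHallOf hW)
    (H := W') (K := W.subgroupOf (Cfsg.sigmaCore H)) hW'c
    (Nat.card_congr (subgroupOfEquivOfLe hW.1).toEquiv)
  have hXc : ∀ x ∈ X, (c : G) * x * (c : G)⁻¹ ∈ W := by
    intro x hx
    have h1 : MulAut.conj c • (⟨x, hXσ hx⟩ : Cfsg.sigmaCore H) ∈ MulAut.conj c • W' :=
      smul_mem_pointwise_smul _ _ _ (hXW (show (⟨x, hXσ hx⟩ : Cfsg.sigmaCore H) ∈ X.subgroupOf _ from hx))
    rw [hc] at h1
    exact h1
  obtain ⟨T⟩ : Nonempty (Sylow p W) := inferInstance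
  set T' := (T : Subgroup W).map W.subtype with hT'
  have hTW : T' ≤ W := map_subtype_le _
  have hTp : IsPGroup p T' := T.2.map _
  have hTd : ¬ p ∣ T'.index := by
    refine Excep.index_not_dvd hTW ?_ (Excep.index_not_dvd hW.1
      (hW.2.2 p hp.out ⟨hp.out, Excep.not_beta hA hA2 hmax H⟩) ((Sig.sigma_core hG hH).2.1.2 p hp.out hpH))
    rw [relIndex, hT', ← comap_subtype, comap_map_eq_self_of_injective W.subtype_injective]
    exact T.not_dvd_index
  haveI := hWn
  set T₀ := T'.map (MulAut.conj (c : G)⁻¹).toMonoidHom with hT₀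
  have hT₀C : T₀ ≤ centralizer (D' : Set G) := by
    rintro _ ⟨t, ht, rfl⟩
    refine mem_centralizer_iff.2 fun d hd => ?_
    have hdW := hXc d (mem_sup_right hd)
    have hcm := congrArg Subtype.val (CfsgLib.FGSA.commute_of_coprime_orderOf (⟨_, hdW⟩ : W) ⟨t, hTW ht⟩ (by
      rw [← orderOf_coe, ← orderOf_coe]
      show (orderOf ((c : G) * d * (c : G)⁻¹)).Coprime (orderOf t)
      have e : orderOf ((c : G) * d * (c : G)⁻¹) = orderOf d := (MulAut.conj (c : G)).orderOf_eq d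
      rw [e]
      exact ((IsPGroup.coprime_card_of_ne q p hqp D' T' (IsPGroup.of_card hD'c) hTp).coprime_dvd_left
        (D'.orderOf_dvd_natCard hd)).coprime_dvd_right (T'.orderOf_dvd_natCard ht))).eq
    replace hcm : (c : G) * d * (c : G)⁻¹ * t = t * ((c : G) * d * (c : G)⁻¹) := hcm
    show d * ((MulAut.conj (c : G)⁻¹) t) = (MulAut.conj (c : G)⁻¹) t * d
    rw [MulAut.conj_apply, inv_inv]
    calc d * ((c : G)⁻¹ * t * c) = (c : G)⁻¹ * ((c : G) * d * (c : G)⁻¹ * t) * c := by group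
      _ = (c : G)⁻¹ * (t * ((c : G) * d * (c : G)⁻¹)) * c := by rw [hcm]
      _ = (c : G)⁻¹ * t * c * d := by group
  have hT₀M : T₀ ≤ M := hT₀C.trans (centralizer_le_coatom hG hD'e hD'c hM hD'M)
  have hT₀d : ¬ p ∣ T₀.index := by
    rwa [hT₀, index_map_of_bijective (MulAut.conj (c : G)⁻¹).bijective]
  exact hS ((hTp.map _).toSylow hT₀d) (commutative_of_le hA hA2 hG hM hAM hpσ hmax hr (hTp.map _) hT₀M)

/-- The Fitting subgroup of `M`. -/
theorem fitting_eq (hpM : p ∈ Cfsg.tau2 M) :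
    Cfsg.fittingOf M = Cfsg.sigmaCore M ⊔ (A ⊓ centralizer (Cfsg.sigmaCore M : Set G)) := by
  obtain ⟨B, hBA, hB, heq, hMB, -⟩ := unique_good hA hA2 hG hM hAM hpσ hmax hr hS
  rw [heq]
  have hσM : Cfsg.sigmaCore M ≤ M := map_subtype_le _
  have hBM : B ≤ M := hBA.trans hAM
  have hσn := nilpotent hG hA hA2 hM hAM hpσ hmax
  have hσF : Cfsg.sigmaCore M ≤ Cfsg.fittingOf M := Bender.le_fitting hσM (TH.le_normalizer_core M) hσn
  have hBp : IsPGroup p B := IsPGroup.of_card (n := 1) (by rw [hB, pow_one])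
  refine le_antisymm (Bender.fitting_le_of_qc fun r hrf => ?_) (sup_le hσF (Bender.le_fitting hBM hMB hBp.isNilpotent))
  haveI := hrf
  set U := Bender.qc r M with hU
  have hUM : U ≤ M := Bender.qc_le r M
  by_cases hrσ : r ∈ Cfsg.sigma M
  · exact (Excep.le_sigmaCore hG hM hUM (Excep.primes_of_pgroup (Bender.isPGroup_qc M) hrσ)).trans le_sup_left
  by_cases hU1 : U = ⊥
  · rw [hU1]; exact bot_le
  have hNU : normalizer (U : Set G) = M :=
    Uniq.coatom_normalizer_eq hG hM hUM (Bender.le_normalizer_qc r M) hU1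
  by_cases hrp : r = p
  · subst hrp
    have hUC : U ≤ centralizer (Cfsg.sigmaCore M : Set G) := by
      haveI := Bender.nilpotent_fitting M
      refine fun x hx => mem_centralizer_iff.2 fun w hw => ?_
      exact congrArg Subtype.val (CfsgLib.FGSA.commute_of_coprime_orderOf
        (⟨w, hσF hw⟩ : Cfsg.fittingOf M) ⟨x, Bender.qc_le_fitting M hx⟩ (by
          rw [← orderOf_coe, ← orderOf_coe]
          exact ((Excep.coprime_of_pgroup (Bender.isPGroup_qc M) (not_dvd_sigmaCore hG hM hpσ)).symm.coprime_dvd_left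
            ((Cfsg.sigmaCore M).orderOf_dvd_natCard hw)).coprime_dvd_right (U.orderOf_dvd_natCard hx))).eq
    obtain ⟨P₁, hP₁⟩ := (((IsPGroup.of_card hA2 : IsPGroup r A).to_sup_of_normal_right' (Bender.isPGroup_qc M)
      (hAM.trans (Bender.le_normalizer_qc r M))).comap_subtype (K := M)).exists_le_sylow
    have hle : A ⊔ U ≤ (P₁ : Subgroup M).map M.subtype := by
      rw [← map_subgroupOf_eq_of_le (sup_le hAM hUM)]
      exact map_mono hP₁
    set S := (P₁ : Subgroup M).map M.subtype with hSdef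
    have hAS : A ≤ S := le_sup_left.trans hle
    obtain ⟨Ps, hPs⟩ := (P₁.2.map M.subtype : IsPGroup r S).exists_le_sylow
    obtain ⟨g, z, hgP, hgA, -, hgM, -⟩ := nonabelian_data hA hA2 hG hM hAM hpσ hmax hr hS P₁ hAS Ps hPs
    obtain ⟨C, hC, hpow⟩ := (abelian_structure hG hA hA2 hM hAM hpσ hmax hr hAS Ps hPs).2 (hS Ps)
    refine le_trans (fun u hu => ?_) (le_sup_right (a := Cfsg.sigmaCore M))
    by_contra huB
    obtain ⟨k, hk⟩ := (Bender.isPGroup_qc M : IsPGroup r U) ⟨u, hu⟩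
    obtain ⟨j, -, hj⟩ := (Nat.dvd_prime_pow hp.out).1 (orderOf_dvd_of_pow_eq_one (congrArg Subtype.val hk))
    replace hj : orderOf u = r ^ j := hj
    have hΩ : ∀ x ∈ U, x ^ r = 1 → x ∈ B := fun x hx hxp =>
      heq.le ⟨(omega hG hA hA2 hM hAM hpσ hmax hAS (hle (mem_sup_right hx))).1 hxp, hUC hx⟩
    have hj2 : 2 ≤ j := by
      by_contra hlt
      refine huB (hΩ u hu (orderOf_dvd_iff_pow_eq_one.1 ?_))
      rw [hj]
      calc r ^ j ∣ r ^ 1 := pow_dvd_pow r (by omega)
        _ = r := pow_one r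
    set v := u ^ r ^ (j - 2) with hv
    have hvo : orderOf (v ^ r) = r := by
      rw [hv, ← pow_mul, ← pow_succ, orderOf_pow' _ (pow_ne_zero _ hp.out.ne_zero), hj,
        Nat.gcd_eq_right (pow_dvd_pow r (by omega)), Nat.pow_div (by omega) hp.out.pos,
        show j - (j - 2 + 1) = 1 by omega, pow_one]
    have hvU : v ∈ U := pow_mem hu _
    have hvB : v ^ r ∈ B := hΩ _ (pow_mem hvU _) (by
      have := pow_orderOf_eq_one (v ^ r); rwa [hvo] at this)
    have hvS : v ∈ S := hle (mem_sup_right hvU)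
    have hgv : g * v * g⁻¹ ∈ S := by
      have hd : ¬ r ∣ S.relIndex M := by
        rw [relIndex, hSdef, ← comap_subtype, comap_map_eq_self_of_injective M.subtype_injective]
        exact P₁.not_dvd_index
      have hCM : (Ps : Subgroup G) ⊓ centralizer (A : Set G) ≤ M :=
        inf_le_right.trans (centralizer_le_coatom hG hA hA2 hM hAM)
      have heqS : S = (Ps : Subgroup G) ⊓ centralizer (A : Set G) := by
        refine eq_of_le_of_card_ge (le_inf hPs (central hG hA hA2 hM hAM hpσ hmax hAS)) (Nat.le_of_dvd Nat.card_pos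
          ((Nat.Coprime.dvd_mul_right (Excep.coprime_of_pgroup (Ps.2.to_le inf_le_left) hd)).1 ?_))
        rw [CfsgLib.InvariantHall.relIndex_mul_card (map_subtype_le _)]
        exact card_dvd_of_le hCM
      rw [heqS] at hvS ⊢
      exact ⟨(Ps : Subgroup G).mul_mem ((Ps : Subgroup G).mul_mem hgP hvS.1) ((Ps : Subgroup G).inv_mem hgP),
        (mem_normalizer_iff.1 (TH.normalizer_le_normalizer_centralizer A hgA) v).1 hvS.2⟩
    have h1 : (MulAut.conj g).toMonoidHom (v ^ r) ∈ C := by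
      rw [map_pow]; exact hpow _ hgv
    have h2 := UTool.zpowers_eq_of_cyclic hC h1 (hpow v hvS)
      ((MulEquiv.orderOf_eq (MulAut.conj g) (v ^ r)).trans hvo) hvo
    have hBv : zpowers (v ^ r) = B :=
      eq_of_le_of_card_ge (zpowers_le.2 hvB) (by rw [Nat.card_zpowers, hvo, hB])
    have hgN : g ∈ normalizer (B : Set G) := mem_normalizer_iff_map_conj_eq.2 (by
      rw [← hBv]
      exact (MonoidHom.map_zpowers _ _).trans h2)
    rw [Uniq.coatom_normalizer_eq hG hM hBM hMB fun e => hp.out.ne_one (by rw [← hB, e, card_bot])] at hgN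
    exact hgM hgN
  · exfalso
    have hrM : r ∣ Nat.card M := (Excep.isPGroup_ne_bot_dvd (Bender.isPGroup_qc M) hU1).trans (card_dvd_of_le hUM)
    have hr2 : Cfsg.PRankLE r 2 M := by_contra fun h => hrσ (Sig.alpha_subset_sigma hG hM ⟨hrf.out, h⟩)
    have hr1 : Cfsg.PRankLE r 1 M := by_contra fun h => hrp (by
      have : r ∈ Cfsg.tau2 M := ⟨hrf.out, hrσ, hr2, h⟩
      rwa [tau_singleton hA hA2 hG hM hAM hpσ hmax hr hS hpM, Set.mem_singleton_iff] at this)
    obtain ⟨Q, hQ⟩ := ((Bender.isPGroup_qc M : IsPGroup r U).comap_subtype (K := M)).exists_le_sylow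
    set Q' := (Q : Subgroup M).map M.subtype with hQ'
    have hUQ : U ≤ Q' := by rw [← map_subgroupOf_eq_of_le hUM]; exact map_mono hQ
    have hcyc : IsCyclic Q' := Compl.cyclic_of_rank_one
      (CfsgLib.CN.MinSimple.p_ne_two hG (hrM.trans M.card_subgroup_dvd_card)) (Q.2.map _)
      (Uniq.rankLE_mono (map_subtype_le _) hr1)
    haveI := hcyc
    haveI : IsCyclic U := isCyclic_of_le hUQ
    obtain ⟨u, hu⟩ := IsCyclic.exists_generator (α := U)
    have hUu : zpowers (u : G) = U := le_antisymm (zpowers_le.2 u.2) fun y hy => by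
      obtain ⟨i, hi⟩ := mem_zpowers_iff.1 (hu ⟨y, hy⟩)
      exact mem_zpowers_iff.2 ⟨i, congrArg Subtype.val hi⟩
    refine hrσ ⟨hrf.out, hrM, Q, ?_⟩
    exact (UTool.normalizer_le_normalizer_zpowers hcyc (hUQ u.2)).trans (by rw [hUu, hNU])

end CfsgLib.OddLocal.Tau
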