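import Cfsg.Agent.OddLocal.TauTwo

/-!
For `p ∈ τ₂(M)`, an elementary abelian subgroup of order `p ^ 2` is normal in a complement to `M_σ`.
-/

set_option autoImplicit false
set_option linter.style.haveILetI false
set_option linter.unusedSectionVars false

namespace CfsgLib.OddLocal.Tau

open Subgroup Cfsg CfsgLib.OddLocal
open scoped commutatorElement

universe u

variable {G : Type u} [Group G] [Finite G] {p q : ℕ} [hp : Fact p.Prime] {A : Subgroup G}
  (hG : Cfsg.IsMinSimpleOddOrder G) (hA : Cfsg.IsElementaryAbelian p A) (hA2 : Nat.card A = p ^ 2)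
  {M : Subgroup G} (hM : IsCoatom M) (hAM : A ≤ M) (hpσ : p ∉ Cfsg.sigma M)
  (hmax : ∀ B : Subgroup G, Cfsg.IsElementaryAbelian p B → A ≤ B → B = A)
include hG hA hA2 hM hAM hpσ hmax

/-- The case of a rank two Sylow subgroup: the two elementary abelian subgroups commute. -/
theorem elementary_commute [hqf : Fact q.Prime] (hqσ : q ∉ Cfsg.sigma M) {E : Subgroup G}
    (hE : Cfsg.IsElementaryAbelian q E) (hE2 : Nat.card E = q ^ 2) (hEM : E ≤ M)
    (hmaxE : ∀ B : Subgroup G, Cfsg.IsElementaryAbelian q B → E ≤ B → B = E)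
    (hAE : A ≤ normalizer (E : Set G)) (hqp : q ≠ p) : E ≤ centralizer (A : Set G) := by
  obtain ⟨H, hH, hqH, hNH, hEH⟩ := exists_sigma_over hE hE2 hmaxE hG
  have hHM : H ≠ M := fun e => hqσ (e ▸ hqH)
  have hAH : A ≤ H := hAE.trans hNH
  have hEσ : E ≤ Cfsg.sigmaCore H :=
    Excep.le_sigmaCore hG hH hEH (Excep.primes_of_pgroup (IsPGroup.of_card hE2) hqH)
  by_cases hpH : p ∈ Cfsg.sigma H
  · have hAσ : A ≤ Cfsg.sigmaCore H :=
      Excep.le_sigmaCore hG hH hAH (Excep.primes_of_pgroup (IsPGroup.of_card hA2) hpH)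
    obtain ⟨k, hk⟩ := Beta.npc_index (Beta.npc_sigma hG hH hqf.out
      ((dvd_pow_self q two_ne_zero).trans (hE2 ▸ card_dvd_of_le hEH)) (Excep.not_beta hE hE2 hmaxE H))
    set N₀ := Excep.opc q (Cfsg.sigmaCore H) with hN₀
    have hAN : A ≤ N₀ := Excep.le_of_hall (Excep.opc_le _ _) (Excep.le_normalizer_opc _ _) hAσ
      (Excep.coprime_of_pgroup (IsPGroup.of_card hA2) (by
        rw [relIndex, hN₀, Excep.opc_subgroupOf, hk]
        exact fun h => hqp ((Nat.prime_dvd_prime_iff_eq hp.out hqf.out).1 (hp.out.dvd_of_dvd_pow h)).symm))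
    refine commutator_eq_bot_iff_le_centralizer.1 (le_bot_iff.1 ?_)
    have h1 : ⁅E, A⁆ ≤ E := le_normalizer_iff_commutator_le_left.1 hAE
    have h2 : ⁅E, A⁆ ≤ N₀ := (commutator_mono le_rfl hAN).trans (le_normalizer_iff_commutator_le_right.1
      (hEσ.trans (Excep.le_normalizer_opc q _)))
    refine (le_inf h1 h2).trans (le_of_eq (disjoint_iff.1 (disjoint_of_coprime_natCard ?_)))
    rw [hE2]
    exact (Excep.opc_coprime q _).symm.pow_left 2
  · exfalso
    have h := inter_eq_bot hG hA hA2 hH hAH hpH hmax hM (Ne.symm hHM) hAM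
    have hle : E ≤ (⊥ : Subgroup G) := h ▸ le_inf hEσ hEM
    exact ne_bot hE hE2 (le_bot_iff.1 hle)

/-- `A` centralizes the invariant subgroups of `M` of prime power order prime to `σ(M)` and `p`. -/
theorem centralizes_invariant [hqf : Fact q.Prime] (hqσ : q ∉ Cfsg.sigma M) (hqp : q ≠ p) {K : Subgroup G}
    (hK : IsPGroup q K) (hKM : K ≤ M) (hAK : A ≤ normalizer (K : Set G)) : K ≤ centralizer (A : Set G) := by
  classical
  by_cases hK1 : K = ⊥
  · rw [hK1]; exact bot_le
  have hAp : IsPGroup p A := IsPGroup.of_card hA2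
  haveI hAs : Group.IsSolvable A := hG.2.2.2 A (ne_top_of_le_ne_top hM.1 hAM)
  have hqM : q ∣ Nat.card M := (Excep.isPGroup_ne_bot_dvd hK hK1).trans (card_dvd_of_le hKM)
  have hqα : q ∉ Cfsg.alpha M := fun h => hqσ (Sig.alpha_subset_sigma hG hM h)
  have hpα : p ∉ Cfsg.alpha M := fun h => hpσ (Sig.alpha_subset_sigma hG hM h)
  have hpM : p ∣ Nat.card M := (dvd_pow_self p two_ne_zero).trans (hA2 ▸ card_dvd_of_le hAM)
  rcases lt_or_gt_of_ne hqp with hlt | hgt
  · -- `A` lies in `O_{q'}(M)`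
    have hAN : A ≤ Excep.opc q M := Excep.pgroup_le_opc hAp hAM fun h =>
      absurd ((Beta.structure_of_not_beta hG hM hqM fun hb => hqα hb.1).1 p hp.out h) (not_le.2 hlt)
    refine commutator_eq_bot_iff_le_centralizer.1 (le_bot_iff.1 ?_)
    have h2 : ⁅K, A⁆ ≤ Excep.opc q M := (commutator_mono le_rfl hAN).trans
      (le_normalizer_iff_commutator_le_right.1 (hKM.trans (Excep.le_normalizer_opc q M)))
    refine (le_inf (le_normalizer_iff_commutator_le_left.1 hAK) h2).trans
      (le_of_eq (disjoint_iff.1 (disjoint_of_coprime_natCard ?_)))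
    exact Excep.coprime_of_pgroup hK (hqf.out.coprime_iff_not_dvd.1 (Excep.opc_coprime q M).symm)
  -- `K` lies in an invariant Sylow subgroup of `O_{p'}(M)`
  have hidx : ¬ q ∣ (Cfsg.pPrimeCore p M).index := fun h =>
    absurd ((Beta.structure_of_not_beta hG hM hpM fun hb => hpα hb.1).1 q hqf.out h) (not_le.2 hgt)
  obtain ⟨Q, hKQ, hQO, hQp, hAQ, hQd⟩ := Excep.exists_inv_sylow (hAM.trans (Excep.le_normalizer_opc p M))
    (Excep.coprime_of_pgroup hAp (hp.out.coprime_iff_not_dvd.1 (Excep.opc_coprime p M).symm)) (Or.inl hAs)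
    (Excep.pgroup_le_opc hK hKM hidx) hK hAK
  refine hKQ.trans ?_
  have hQM : Q ≤ M := hQO.trans (Excep.opc_le p M)
  have hQdM : ¬ q ∣ Q.relIndex M := by
    rw [← relIndex_mul_relIndex Q _ M hQO (Excep.opc_le p M)]
    intro h
    rcases hqf.out.dvd_mul.1 h with h | h
    · exact hQd h
    · rw [relIndex, Excep.opc_subgroupOf] at h; exact hidx h
  have hQ1 : Q ≠ ⊥ := fun e => hK1 (le_bot_iff.1 (e ▸ hKQ))
  have hq2 : q ≠ 2 := CfsgLib.CN.MinSimple.p_ne_two hG (hqM.trans M.card_subgroup_dvd_card)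
  have hp2 : p ≠ 2 := CfsgLib.CN.MinSimple.p_ne_two hG (hpM.trans M.card_subgroup_dvd_card)
  have hQr : Cfsg.PRankLE q 2 Q := Uniq.rankLE_mono hQM (by_contra fun h => hqα ⟨hqf.out, h⟩)
  have hcopA : (Nat.card A).Coprime q := by
    rw [hA2]; exact ((Nat.coprime_primes hp.out hqf.out).2 (Ne.symm hqp)).pow_left 2
  have hQP : ∃ P : Sylow q M, (P : Subgroup M).map M.subtype = Q := by
    have hd : ¬ q ∣ (Q.subgroupOf M).index := hQdM
    refine ⟨(hQp.comap_subtype (K := M)).toSylow hd, ?_⟩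
    exact map_subgroupOf_eq_of_le hQM
  obtain ⟨PQ, hPQ⟩ := hQP
  by_cases hcyc : IsCyclic Q
  · by_contra hne
    set U := ⁅Q, A⁆ with hU
    have hU1 : U ≠ ⊥ := fun e => hne (commutator_eq_bot_iff_le_centralizer.1 e)
    have hUQ : U ≤ Q := le_normalizer_iff_commutator_le_left.1 hAQ
    -- `U` centralizes `M_σ`
    obtain ⟨X, Y, hXA, hX, hYA, hY, hXY, hXfix, hYfix⟩ := exists_two_fpf hG hA hA2 hM hAM hpσ hmax
    have hqσ' : ¬ q ∣ Nat.card (Cfsg.sigmaCore M) := fun h => hqσ ((Sig.sigma_core hG hM).1.2.1 q hqf.out h)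
    have hdis : A ⊓ Q = ⊥ :=
      disjoint_iff.1 (disjoint_of_coprime_natCard (IsPGroup.coprime_card_of_ne p q (Ne.symm hqp) A Q hAp hQp))
    have hT₀c : (Nat.card (A ⊔ Q : Subgroup G)).Coprime (Nat.card (Cfsg.sigmaCore M)) := by
      rw [CfsgLib.Solvable.card_sup_of_disjoint hAQ hdis]
      exact Nat.Coprime.mul_left (Excep.coprime_of_pgroup hAp (not_dvd_sigmaCore hG hM hpσ))
        (Excep.coprime_of_pgroup hQp hqσ')
    have hT₀M : A ⊔ Q ≤ M := sup_le hAM hQM
    have hUC : Cfsg.sigmaCore M ≤ centralizer (U : Set G) := by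
      refine Excep.le_of_sylows fun l hl hld => ?_
      haveI := Fact.mk hl
      obtain ⟨S, -, hSσ, hSp, hTS, hSd⟩ := Excep.exists_inv_sylow (t := l) (hT₀M.trans (TH.le_normalizer_core M))
        hT₀c (Or.inl (hG.2.2.2 _ (ne_top_of_le_ne_top hM.1 hT₀M))) (bot_le : (⊥ : Subgroup G) ≤ _) IsPGroup.of_bot
        (Excep.le_normalizer_bot _)
      refine ⟨S, le_inf hSσ (le_centralizer_iff.1 ?_), hSd⟩
      have hlp : l ≠ p := fun e => not_dvd_sigmaCore hG hM hpσ (e ▸ hld)
      have hlq : l ≠ q := fun e => hqσ' (e ▸ hld)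
      have hline : ∀ Z : Subgroup G, Z ≤ A → Nat.card Z = p →
          Cfsg.sigmaCore M ⊓ centralizer (Z : Set G) = ⊥ → ⁅Q, Z⁆ ≤ centralizer (S : Set G) := by
        intro Z hZA hZ hfix
        obtain ⟨z, hz, hz1⟩ := (bot_or_exists_ne_one Z).resolve_left fun e => hp.out.ne_one (by rw [← hZ, e, card_bot])
        obtain ⟨-, hzc⟩ := Excep.line_of_mem hA (hZA hz) hz1
        have hzZ : zpowers z = Z := eq_of_le_of_card_ge (zpowers_le.2 hz) (by rw [hzc, hZ])
        haveI : Group.IsSolvable Q := hG.2.2.2 Q (ne_top_of_le_ne_top hM.1 hQM)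
        rw [← hzZ]
        exact Excep.commutator_centralizes_pgroup (r := p) hp2 (Ne.symm hlp) hSp (by rw [← Nat.card_zpowers, hzc])
          (hTS (mem_sup_left (hZA hz)))
          (le_bot_iff.1 (hfix ▸ le_inf (inf_le_left.trans hSσ)
            (inf_le_right.trans ((FixedLine.le_centralizer_zpowers le_rfl).trans (centralizer_le hzZ.ge)))))
          (K := Q) (hG.1.of_dvd_nat (card_subgroup_dvd_card Q))
          (Excep.coprime_of_pgroup hQp fun h => hqp ((Nat.prime_dvd_prime_iff_eq hqf.out hp.out).1 h))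
          (Excep.coprime_of_pgroup hQp fun h => hlq ((Nat.prime_dvd_prime_iff_eq hqf.out hl).1 h).symm)
          (le_sup_right.trans hTS) (hAQ (hZA hz))
      rw [hU, commutator_le]
      intro x hx a ha
      obtain ⟨b, hbY, hbX⟩ : ∃ b ∈ Y, b ∉ X := by
        by_contra hno
        push Not at hno
        exact hXY (eq_of_le_of_card_ge hno (by rw [hX, hY])).symm
      rw [← Excep.line_sup hA2 hXA hX (hYA hbY) hbX] at ha
      haveI := hA.1
      obtain ⟨u, hu, v, hv, rfl⟩ := (CfsgLib.Solvable.mem_sup_of_le_normalizer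
        ((hXA.trans (le_centralizer_iff_isMulCommutative.2 hA.1)).trans
          ((centralizer_le (zpowers_le.2 (hYA hbY))).trans (centralizer_le_normalizer _)))).1 ha
      have h1 := hline X hXA hX hXfix (commutator_mem_commutator hx hu)
      have h2 := hline Y hYA hY hYfix (commutator_mem_commutator hx ((zpowers_le.2 hbY : zpowers b ≤ Y) hv))
      have hc : u ∈ normalizer (centralizer (S : Set G) : Set G) :=
        TH.normalizer_le_normalizer_centralizer _ (hTS (mem_sup_left (hXA hu)))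
      have e : ⁅x, u * v⁆ = ⁅x, u⁆ * (u * ⁅x, v⁆ * u⁻¹) := by
        simp only [commutatorElement_def]; group
      rw [e]
      exact mul_mem h1 ((mem_normalizer_iff.1 hc _).1 h2)
    have hN : normalizer (Q : Set G) ≤ normalizer (U : Set G) := by
      haveI := hcyc
      haveI : IsCyclic U := isCyclic_of_le hUQ
      obtain ⟨u, hu⟩ := IsCyclic.exists_generator (α := U)
      have hUu : zpowers (u : G) = U := le_antisymm (zpowers_le.2 u.2) fun y hy => by
        obtain ⟨i, hi⟩ := mem_zpowers_iff.1 (hu ⟨y, hy⟩)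
        exact mem_zpowers_iff.2 ⟨i, congrArg Subtype.val hi⟩
      rw [← hUu]
      exact UTool.normalizer_le_normalizer_zpowers hcyc (hUQ u.2)
    obtain ⟨L, hL, hNL⟩ := (eq_top_or_exists_le_coatom (normalizer (U : Set G))).resolve_left
      (CfsgLib.CN.MinSimple.normalizer_ne_top hG (hQp.to_le hUQ).isNilpotent hU1)
    have hAU : A ≤ normalizer (U : Set G) := le_trans (le_inf hAQ le_normalizer) (by
      intro x hx; exact hN hx.1)
    have hLM : L = M := by
      by_contra hLM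
      have h := inter_eq_bot hG hA hA2 hM hAM hpσ hmax hL hLM (hAU.trans hNL)
      refine sigmaCore_ne_bot hG hM (one_lt_card hG hA2 hM hAM) (le_bot_iff.1 (h ▸ le_inf le_rfl ?_))
      exact (hUC.trans (centralizer_le_normalizer _)).trans hNL
    exact hqσ ⟨hqf.out, hqM, PQ, by rw [hPQ]; exact (hN.trans hNL).trans hLM.le⟩
  · obtain ⟨E, hEQ, hEe, hEc⟩ := Uniq.exists_sq hq2 hQp hcyc
    have hr1 : ¬ Cfsg.PRankLE q 1 M := fun h => by
      have := Uniq.rankLE_elementary h (hEQ.trans hQM) hEe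
      rw [hEc, pow_one] at this
      exact absurd this (not_le.2 (lt_self_pow₀ hqf.out.one_lt one_lt_two))
    have hmaxE := (Cfsg.Agent.S1408.result hG M hM q hqσ (by_contra fun h => hqα ⟨hqf.out, h⟩) hr1).2 E
      (hEQ.trans hQM) hEe hEc
    have hEP : E ≤ (PQ : Subgroup M).map M.subtype := hPQ.symm ▸ hEQ
    have hQE : Q ≤ centralizer (E : Set G) := hPQ ▸ central hG hEe hEc hM (hEQ.trans hQM) hqσ hmaxE hEP
    have hAE : A ≤ normalizer (E : Set G) := hAQ.trans (normalizer_le_of_central hEe hmaxE hEQ hQE)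
    exact le_centralizer_iff.1 (centralizes_rank_two hq2 hQp hQr hEQ hEe hEc hAQ hcopA
      (elementary_commute hG hA hA2 hM hAM hpσ hmax hqσ hEe hEc (hEQ.trans hQM) hmaxE hAE hqp))

/-- A complement to `M_σ` containing `A` normalizes it. -/
theorem complement_normalizes {E : Subgroup G} (hE : Cfsg.IsComplIn E (Cfsg.sigmaCore M) M) (hAE : A ≤ E) :
    E ≤ normalizer (A : Set G) := by
  have hEM : E ≤ M := hE.1
  have hEs : Group.IsSolvable E := hG.2.2.2 E (ne_top_of_le_ne_top hM.1 hEM)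
  have hAp : IsPGroup p A := IsPGroup.of_card hA2
  obtain ⟨P₁, hP₁⟩ := ((hAp.to_sup_of_normal_right' (Bender.isPGroup_qc E)
    (hAE.trans (Bender.le_normalizer_qc p E))).comap_subtype (K := M)).exists_le_sylow
  have hle : A ⊔ Bender.qc p E ≤ (P₁ : Subgroup M).map M.subtype := by
    rw [← map_subgroupOf_eq_of_le (sup_le hAM ((Bender.qc_le p E).trans hEM))]
    exact map_mono hP₁
  have hcen := central hG hA hA2 hM hAM hpσ hmax (le_sup_left.trans hle)
  have hFC : Cfsg.fittingOf E ≤ centralizer (A : Set G) := Bender.fitting_le_of_qc fun r hr => by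
    by_cases hrp : r = p
    · subst hrp; exact (le_sup_right.trans hle).trans hcen
    by_cases h1 : Bender.qc r E = ⊥
    · rw [h1]; exact bot_le
    refine centralizes_invariant hG hA hA2 hM hAM hpσ hmax ?_ hrp (Bender.isPGroup_qc E)
      ((Bender.qc_le r E).trans hEM) (hAE.trans (Bender.le_normalizer_qc r E))
    exact (Compl.card_eq hG hM hE).2.2 r hr.out
      ((Excep.isPGroup_ne_bot_dvd (Bender.isPGroup_qc E) h1).trans (card_dvd_of_le (Bender.qc_le r E)))
  have hAF : A ≤ Cfsg.fittingOf E := (le_inf hAE (le_centralizer_iff.1 hFC)).trans (Bender.centralizer_fitting_le hEs)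
  have hAqc : A ≤ Bender.qc p E := fun a ha => by
    obtain ⟨k, hk⟩ := hAp ⟨a, ha⟩
    obtain ⟨j, -, hj⟩ := (Nat.dvd_prime_pow hp.out).1 (orderOf_dvd_of_pow_eq_one (congrArg Subtype.val hk))
    exact Bender.mem_qc (hAF ha) hj
  intro m hm
  refine Uniq.mem_normalizer_of_map_le ?_
  rintro _ ⟨a, ha, rfl⟩
  have h1 : (MulAut.conj m).toMonoidHom a ∈ Bender.qc p E :=
    (mem_normalizer_iff.1 (Bender.le_normalizer_qc p E hm) a).1 (hAqc ha)
  exact (omega hG hA hA2 hM hAM hpσ hmax (le_sup_left.trans hle) (hle (mem_sup_right h1))).1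
    (by rw [← map_pow, hA.2 a ha, map_one])

/-- `A` lies in a complement to `M_σ`. -/
theorem exists_complement_over : ∃ E : Subgroup G, Cfsg.IsComplIn E (Cfsg.sigmaCore M) M ∧ A ≤ E := by
  haveI : Group.IsSolvable M := hG.2.2.2 M hM.1
  set K := Cfsg.sigmaCore M
  have hKM : K ≤ M := map_subtype_le _
  obtain ⟨E₀, hE₀c, hAE₀⟩ := CfsgLib.Hall.hall_dominance (G := M) (a := K.relIndex M) (b := Nat.card K)
    (by rw [mul_comm]; exact (CfsgLib.InvariantHall.relIndex_mul_card hKM).symm)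
    (CfsgLib.InvariantHall.coprime_of_isPiHallOf (Sig.sigma_core hG hM).1).symm (K := A.subgroupOf M)
    (by rw [Nat.card_congr (subgroupOfEquivOfLe hAM).toEquiv]
        exact Excep.coprime_of_pgroup (IsPGroup.of_card hA2) (not_dvd_sigmaCore hG hM hpσ))
  set E := E₀.map M.subtype with hEdef
  have hEM : E ≤ M := map_subtype_le _
  have hEc : Nat.card E = K.relIndex M := by rw [hEdef, card_map_of_injective M.subtype_injective, hE₀c]
  have hn : E ≤ normalizer (K : Set G) := hEM.trans (TH.le_normalizer_core M)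
  have hdis : E ⊓ K = ⊥ := disjoint_iff.1 (disjoint_of_coprime_natCard (by
    rw [hEc]; exact (CfsgLib.InvariantHall.coprime_of_isPiHallOf (Sig.sigma_core hG hM).1).symm))
  have hsup : E ⊔ K = M := eq_of_le_of_card_ge (sup_le hEM hKM) (by
    rw [CfsgLib.Solvable.card_sup_of_disjoint hn hdis, hEc, mul_comm,
      CfsgLib.InvariantHall.relIndex_mul_card hKM])
  refine ⟨E, ⟨hEM, hKM, hdis, fun m hm => ?_⟩, by
    rw [← map_subgroupOf_eq_of_le hAM]; exact map_mono hAE₀⟩
  rw [← hsup] at hm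
  obtain ⟨e, he, k, hk, rfl⟩ := (CfsgLib.Solvable.mem_sup_of_le_normalizer hn).1 hm
  exact ⟨e, he, k, hk, rfl⟩

/-- `M` normalizes `M_σ A`. -/
theorem normalizes_core_sup : M ≤ normalizer ((Cfsg.sigmaCore M ⊔ A : Subgroup G) : Set G) := by
  obtain ⟨E, hE, hAE⟩ := exists_complement_over hG hA hA2 hM hAM hpσ hmax
  have hEA := complement_normalizes hG hA hA2 hM hAM hpσ hmax hE hAE
  refine (Compl.card_eq hG hM hE).2.1.ge.trans (sup_le ?_ (le_sup_left.trans le_normalizer))
  intro e he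
  refine Uniq.mem_normalizer_of_map_le ?_
  have e1 : (Cfsg.sigmaCore M).map (MulAut.conj e).toMonoidHom = Cfsg.sigmaCore M :=
    mem_normalizer_iff_map_conj_eq.1 ((hE.1.trans (TH.le_normalizer_core M)) he)
  have e2 : A.map (MulAut.conj e).toMonoidHom = A := mem_normalizer_iff_map_conj_eq.1 (hEA he)
  rw [Subgroup.map_sup, e1, e2]

end CfsgLib.OddLocal.Tau
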