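import Cfsg.Agent.OddLocal.SigmaCommon
import Cfsg.Agent.OddLocal.TauTwoNonabelian
import Cfsg.Agent.S1418
import Cfsg.Agent.FGSA.RankTwoSolvable

/-!
`p ∈ τ₂(M)` with abelian Sylow `p`-subgroups in `G`: the Sylow subgroup is central in `C(A)` and normal in a
complement to `M_σ`.
-/

set_option autoImplicit false
set_option linter.style.haveILetI false
set_option linter.unusedSectionVars false

namespace CfsgLib.OddLocal.Tau

open Subgroup Cfsg CfsgLib.OddLocal
open scoped commutatorElement Pointwise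

universe u

variable {G : Type u} [Group G] [Finite G]
variable (hG : Cfsg.IsMinSimpleOddOrder G)
include hG

/-- An abelian Sylow subgroup of `G` lies in the derived subgroup of its normalizer. -/
theorem le_derived_normalizer {p : ℕ} [Fact p.Prime] {T : Subgroup G} (hT : IsPGroup p T) (hd : ¬ p ∣ T.index)
    [hab : IsMulCommutative T] (hT1 : T ≠ ⊥) : T ≤ ⁅normalizer (T : Set G), normalizer (T : Set G)⁆ := by
  haveI := CfsgLib.CN.MinSimple.nontrivial hG
  set P : Sylow p G := hT.toSylow hd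
  haveI : IsMulCommutative P := hab
  haveI : Group.IsSolvable (normalizer (T : Set G)) :=
    hG.2.2.2 _ (CfsgLib.CN.MinSimple.normalizer_ne_top hG hT.isNilpotent hT1)
  have hdT : ¬ p ∣ T.relIndex (normalizer (T : Set G)) := fun h =>
    hd (h.trans (Dvd.intro _ (relIndex_mul_index (le_normalizer : T ≤ normalizer (T : Set G)))))
  refine Sig.le_derived_of_fusion (CfsgLib.CN.MinSimple.perfect hG)
    ((Fact.out : p.Prime).coprime_iff_not_dvd.2 fun h => hd (h.trans (index_dvd_of_le le_normalizer))) ?_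
    hT le_normalizer
  rintro g hg ⟨i, hi⟩ a ha
  have hmem : ∀ y ∈ normalizer (T : Set G), orderOf y = p ^ i → y ∈ T := fun y hy hyo =>
    Excep.le_of_hall le_normalizer le_rfl (zpowers_le.2 hy) (Excep.coprime_of_pgroup
      (IsPGroup.of_card (n := i) (by rw [Nat.card_zpowers, hyo]) : IsPGroup p (zpowers y)) hdT) (mem_zpowers y)
  have hgT : g ∈ T := hmem g hg hi
  have haT : a * g * a⁻¹ ∈ T := hmem _ ha (((MulAut.conj a).orderOf_eq g).trans hi)
  obtain ⟨n, hn, e⟩ := P.conj_eq_normalizer_conj_of_mem g a⁻¹ hgT (by rw [inv_inv]; exact haT)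
  refine ⟨n⁻¹, inv_mem hn, ?_⟩
  rw [inv_inv] at e
  rw [inv_inv, e]

/-- Primes of a complement to `M_σ` of rank at most one are in `τ₁(M)` or `τ₃(M)`. -/
theorem tau_cases {M E : Subgroup G} (hM : IsCoatom M) (hE : Cfsg.IsComplIn E (Cfsg.sigmaCore M) M) {q : ℕ}
    (hq : q.Prime) (hqE : q ∣ Nat.card E) :
    q ∈ Cfsg.tau1 M ∨ q ∈ Cfsg.tau2 M ∨ q ∈ Cfsg.tau3 M := by
  haveI := Fact.mk hq
  have hσ := (Compl.card_eq hG hM hE).2.2 q hq hqE
  by_cases h1 : Cfsg.PRankLE q 1 M
  · by_cases hd : q ∣ Nat.card ↥⁅M, M⁆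
    · exact Or.inr (Or.inr ⟨hq, hσ, hd, h1⟩)
    · exact Or.inl ⟨hq, hσ, hqE.trans (card_dvd_of_le hE.1), hd, h1⟩
  · exact Or.inr (Or.inl ⟨hq, hσ, by_contra fun h => hσ (Sig.alpha_subset_sigma hG hM ⟨hq, h⟩), h1⟩)

/-- All subgroups of order `q`, `q ∈ τ₃(M)`, of a complement coincide. -/
theorem tau_three_line {M E : Subgroup G} (hM : IsCoatom M) (hE : Cfsg.IsComplIn E (Cfsg.sigmaCore M) M) {q : ℕ}
    [hq : Fact q.Prime] (hq3 : q ∈ Cfsg.tau3 M) {u v : G} (hu : u ∈ E) (hv : v ∈ E) (huo : orderOf u = q)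
    (hvo : orderOf v = q) : zpowers u = zpowers v := by
  haveI : Group.IsSolvable E := hG.2.2.2 E (ne_top_of_le_ne_top hM.1 hE.1)
  obtain ⟨E₃, h3⟩ := CfsgLib.InvariantHall.exists_isPiHallOf (π := Cfsg.tau3 M) (G := E) inferInstance
  obtain ⟨hc, -, hn⟩ := (Compl.tau_structure hG hM hE).2 E₃ h3
  have hmem : ∀ w ∈ E, orderOf w = q → w ∈ E₃ := fun w hw hwo =>
    Excep.le_of_hall h3.1 hn (zpowers_le.2 hw) (by
      rw [Nat.card_zpowers, hwo]
      exact hq.out.coprime_iff_not_dvd.2 (h3.2.2 q hq.out hq3)) (mem_zpowers w)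
  exact UTool.zpowers_eq_of_cyclic hc (hmem u hu huo) (hmem v hv hvo) huo hvo

variable {p : ℕ} [hp : Fact p.Prime] {M E A T : Subgroup G}
  (hM : IsCoatom M) (hE : Cfsg.IsComplIn E (Cfsg.sigmaCore M) M) (hpτ : p ∈ Cfsg.tau2 M)
  (hA : Cfsg.IsElementaryAbelian p A) (hA2 : Nat.card A = p ^ 2) (hT : IsPGroup p T) (hAT : A ≤ T) (hTE : T ≤ E)
  (hTd : ¬ p ∣ T.relIndex E)
include hM hE hpτ hA hA2 hT hAT hTE hTd

/-- A full `p`-subgroup of a complement is abelian, centralizes `A`, and is full in `M`. -/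
theorem tau_two_sylow : IsMulCommutative T ∧ T ≤ centralizer (A : Set G) ∧ ¬ p ∣ T.relIndex M := by
  obtain ⟨hpp, hpσ, hr2, hr1⟩ := hpτ
  have hAM : A ≤ M := (hAT.trans hTE).trans hE.1
  have hmax := (Cfsg.Agent.S1408.result hG M hM p hpσ hr2 hr1).2 A hAM hA hA2
  have hTc := commutative_of_not_sigma hG hM hpσ hT (hTE.trans hE.1)
  refine ⟨hTc, (le_centralizer_iff_isMulCommutative.2 hTc).trans (centralizer_le hAT), fun h => ?_⟩
  rw [← relIndex_mul_relIndex T E M hTE hE.1] at h
  rcases hpp.dvd_mul.1 h with h' | h'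
  · exact hTd h'
  · have h1 := CfsgLib.InvariantHall.relIndex_mul_card hE.1
    have h2 := CfsgLib.InvariantHall.relIndex_mul_card (hE.2.1)
    rw [← (Compl.card_eq hG hM hE).1] at h2
    have h3 : E.relIndex M = Nat.card (Cfsg.sigmaCore M) := by
      refine Nat.eq_of_mul_eq_mul_left (Nat.card_pos (α := E)) ?_
      rw [h1, ← h2]; ring
    exact not_dvd_sigmaCore hG hM hpσ (h3 ▸ h')

variable (hab : ∀ S : Sylow p G, IsMulCommutative (S : Subgroup G))
include hab

/-- In the abelian case `T` is a Sylow subgroup of `G` of rank two. -/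
theorem tau_two_full : ¬ p ∣ T.index ∧ Cfsg.PRankLE p 2 T := by
  obtain ⟨-, -, hd⟩ := tau_two_sylow hG hM hE hpτ hA hA2 hT hAT hTE hTd
  obtain ⟨hpp, hpσ, hr2, hr1⟩ := hpτ
  refine ⟨?_, Uniq.rankLE_mono (hTE.trans hE.1) hr2⟩
  obtain ⟨P, hP⟩ := hT.exists_le_sylow
  have hPM : (P : Subgroup G) ≤ M :=
    ((le_centralizer_iff_isMulCommutative.2 (hab P)).trans (centralizer_le (hAT.trans hP))).trans
      (centralizer_le_coatom hG hA hA2 hM ((hAT.trans hTE).trans hE.1))
  have e : T = (P : Subgroup G) := by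
    refine eq_of_le_of_card_ge hP (Nat.le_of_dvd Nat.card_pos
      ((Nat.Coprime.dvd_mul_right (Excep.coprime_of_pgroup P.2 hd)).1 ?_))
    rw [CfsgLib.InvariantHall.relIndex_mul_card (hTE.trans hE.1)]
    exact card_dvd_of_le hPM
  exact e ▸ P.not_dvd_index

/-- In the abelian case the derived subgroup of `N(A)` centralizes `A`, and contains `T`. -/
theorem normalizer_derived : ⁅normalizer (A : Set G), normalizer (A : Set G)⁆ ≤ centralizer (A : Set G) ∧
    T ≤ ⁅normalizer (A : Set G), normalizer (A : Set G)⁆ := by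
  obtain ⟨hTc, hTA, -⟩ := tau_two_sylow hG hM hE hpτ hA hA2 hT hAT hTE hTd
  obtain ⟨hd, -⟩ := tau_two_full hG hM hE hpτ hA hA2 hT hAT hTE hTd hab
  obtain ⟨hpp, hpσ, hr2, hr1⟩ := hpτ
  have hmax := (Cfsg.Agent.S1408.result hG M hM p hpσ hr2 hr1).2 A ((hAT.trans hTE).trans hE.1) hA hA2
  set N := normalizer (A : Set G) with hN
  set C := centralizer (A : Set G) with hCdef
  have hCN : C ≤ N := centralizer_le_normalizer _
  refine ⟨fun x hx => ?_, ?_⟩
  · haveI : (C.subgroupOf N).Normal :=
      (normal_subgroupOf_iff_le_normalizer hCN).2 (TH.normalizer_le_normalizer_centralizer _)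
    haveI : (A.subgroupOf N).Normal := normal_in_normalizer
    have hAp : IsPGroup p (A.subgroupOf N) := (IsPGroup.of_card hA2 : IsPGroup p A).comap_subtype
    have hrk : ∀ B : Subgroup (A.subgroupOf N), Cfsg.IsElementaryAbelian p B → Nat.card B ≤ p ^ 2 := fun B _ => by
      refine (card_le_card_group B).trans ?_
      rw [Nat.card_congr (subgroupOfEquivOfLe (le_normalizer : A ≤ N)).toEquiv, hA2]
    obtain ⟨y, hy, rfl⟩ : x ∈ (commutator N).map N.subtype := (map_subtype_commutator N).symm ▸ hx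
    obtain ⟨k, hk⟩ := CfsgLib.FGSA.RankTwoSolvable.exists_pow_centralizes
      (hG.1.of_dvd_nat (card_subgroup_dvd_card N)) (A.subgroupOf N) hAp hrk hy
    have hkC : y ^ p ^ k ∈ C.subgroupOf N := mem_centralizer_iff.2 fun a ha =>
      congrArg Subtype.val (mem_centralizer_iff.1 hk (⟨a, le_normalizer ha⟩ : N) ha)
    refine (QuotientGroup.eq_one_iff (N := C.subgroupOf N) y).1 (orderOf_eq_one_iff.1
      (Nat.eq_one_of_dvd_coprimes (a := p ^ k) (b := (C.subgroupOf N).index) ?_ ?_ ?_))
    · refine (hp.out.coprime_iff_not_dvd.2 fun h => hd ?_).pow_left k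
      exact (h.trans (Dvd.intro _ (relIndex_mul_index hCN))).trans (index_dvd_of_le hTA)
    · exact orderOf_dvd_of_pow_eq_one (by
        rw [← QuotientGroup.mk_pow]; exact (QuotientGroup.eq_one_iff _).2 hkC)
    · rw [index_eq_card]; exact orderOf_dvd_natCard _
  · haveI := hTc
    have hle : normalizer (T : Set G) ≤ N :=
      (normalizer_le_of_central hA hmax (P := hT.toSylow hd) hAT hTA)
    exact (le_derived_normalizer hG hT hd fun e => ne_bot hA hA2 (le_bot_iff.1 (e ▸ hAT))).trans
      (commutator_mono hle hle)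

/-- In the abelian case `T` is central in `C(A)` and normal in `E`. -/
theorem central_sylow : centralizer (A : Set G) ≤ centralizer (T : Set G) ∧
    normalizer (A : Set G) ≤ normalizer (T : Set G) ∧ E ≤ normalizer (T : Set G) := by
  obtain ⟨hTc, hTA, -⟩ := tau_two_sylow hG hM hE hpτ hA hA2 hT hAT hTE hTd
  obtain ⟨hd, hrT⟩ := tau_two_full hG hM hE hpτ hA hA2 hT hAT hTE hTd hab
  obtain ⟨hNC, hTN⟩ := normalizer_derived hG hM hE hpτ hA hA2 hT hAT hTE hTd hab
  obtain ⟨⟨hEA, -⟩, ⟨hCA, hNME, -⟩, -⟩ :=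
    Cfsg.Agent.S1418.result hG M hM E hE p hpτ A ⟨hAT.trans hTE, hA, hA2⟩
  obtain ⟨hpp, hpσ, hr2, hr1⟩ := id hpτ
  have hAE : A ≤ E := hAT.trans hTE
  have hAM : A ≤ M := hAE.trans hE.1
  have hmax := (Cfsg.Agent.S1408.result hG M hM p hpσ hr2 hr1).2 A hAM hA hA2
  have hp2 : p ≠ 2 := CfsgLib.CN.MinSimple.p_ne_two hG
    ((dvd_pow_self p two_ne_zero).trans (hA2 ▸ A.card_subgroup_dvd_card))
  set C := centralizer (A : Set G)
  have hCE : C ≤ E := hCA.trans hNME.le
  have hCM : C ≤ M := hCE.trans hE.1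
  have hCs : Group.IsSolvable C := hG.2.2.2 C (ne_top_of_le_ne_top hM.1 hCM)
  suffices hC : C ≤ centralizer (T : Set G) by
    have hN : normalizer (A : Set G) ≤ normalizer (T : Set G) := fun n hn => by
      refine Uniq.mem_normalizer_of_map_le ?_
      have h1 : T.map (MulAut.conj n).toMonoidHom ≤ C :=
        (map_mono hTA).trans (le_of_eq (mem_normalizer_iff_map_conj_eq.1 (TH.normalizer_le_normalizer_centralizer _ hn)))
      exact Excep.le_of_hall hTA (hC.trans (centralizer_le_normalizer _)) h1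
        (Excep.coprime_of_pgroup (hT.map _) fun h => hd (h.trans (Dvd.intro _ (relIndex_mul_index hTA))))
    exact ⟨hC, hN, hEA.trans hN⟩
  -- the normal `p`-complement of `C`
  let P : Sylow p C := (hT.comap_subtype (K := C)).toSylow fun h =>
    hd (h.trans (Dvd.intro _ (relIndex_mul_index hTA)))
  have hPdef : (P : Subgroup C) = T.subgroupOf C := rfl
  have hP : normalizer ((P : Subgroup C) : Set C) ≤ centralizer ((P : Subgroup C) : Set C) := by
    intro n hn
    have hn1 : (n : G) ∈ normalizer (T : Set G) := by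
      refine Uniq.mem_normalizer_of_map_le ?_
      rintro _ ⟨t, ht, rfl⟩
      exact mem_subgroupOf.1 ((mem_normalizer_iff.1 hn ⟨t, hTA ht⟩).1 (mem_subgroupOf.2 ht))
    refine mem_centralizer_iff.2 fun t ht => ?_
    -- the `p'`-part of `n` centralizes `T`
    set U := normalizer (T : Set G) ⊓ C with hU
    have hUle : U ≤ centralizer (T : Set G) := by
      refine Excep.le_of_sylows fun q hq hqd => ?_
      haveI := Fact.mk hq
      by_cases hqp : q = p
      · subst hqp
        exact ⟨T, le_inf (le_inf le_normalizer hTA) (le_centralizer_iff_isMulCommutative.2 hTc), fun h =>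
          hd (h.trans (Dvd.intro _ (relIndex_mul_index (le_inf le_normalizer hTA))))⟩
      · obtain ⟨Q⟩ : Nonempty (Sylow q U) := inferInstance
        refine ⟨(Q : Subgroup U).map U.subtype, le_inf (map_subtype_le _) ?_, by
          rw [relIndex, ← comap_subtype, comap_map_eq_self_of_injective U.subtype_injective]
          exact Q.not_dvd_index⟩
        exact centralizes_rank_two hp2 hT hrT hAT hA hA2 ((map_subtype_le _).trans inf_le_left)
          (Excep.coprime_of_pgroup (Q.2.map _) fun h => hqp ((Nat.prime_dvd_prime_iff_eq hq hpp).1 h))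
          (le_centralizer_iff.1 ((map_subtype_le _).trans inf_le_right))
    exact Subtype.ext (mem_centralizer_iff.1 (hUle ⟨hn1, n.2⟩) (t : G) ht)
  set N₀ := (MonoidHom.transferSylow P hP).ker with hN₀
  have hN₀c := MonoidHom.ker_transferSylow_isComplement' P hP
  have hN₀d : ¬ p ∣ Nat.card N₀ := MonoidHom.not_dvd_card_ker_transferSylow P hP
  set N := N₀.map C.subtype with hNdef
  have hNC' : N ≤ C := map_subtype_le _
  have hTN' : T ≤ normalizer (N : Set G) := hTA.trans ((normal_subgroupOf_iff_le_normalizer hNC').1 (by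
    rw [hNdef, ← comap_subtype, comap_map_eq_self_of_injective C.subtype_injective]; infer_instance))
  refine Excep.le_of_sylows fun q hq hqd => ?_
  haveI := Fact.mk hq
  by_cases hqp : q = p
  · subst hqp
    exact ⟨T, le_inf hTA (le_centralizer_iff_isMulCommutative.2 hTc), fun h =>
      hd (h.trans (Dvd.intro _ (relIndex_mul_index hTA)))⟩
  have hq2 : q ≠ 2 := CfsgLib.CN.MinSimple.p_ne_two hG (hqd.trans C.card_subgroup_dvd_card)
  have hqE : q ∣ Nat.card E := hqd.trans (card_dvd_of_le hCE)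
  have hqσ : q ∉ Cfsg.sigma M := (Compl.card_eq hG hM hE).2.2 q hq hqE
  have hqcop : ∀ {Q : Subgroup G}, IsPGroup q Q → (Nat.card Q).Coprime (Nat.card T) := fun hQ =>
    IsPGroup.coprime_card_of_ne q p hqp _ _ hQ hT
  have hcopN : (Nat.card T).Coprime (Nat.card N) := by
    rw [hNdef, card_map_of_injective C.subtype_injective]
    exact Excep.coprime_of_pgroup hT hN₀d
  have hN₀i : ¬ q ∣ N.relIndex C := by
    rw [relIndex, hNdef, ← comap_subtype, comap_map_eq_self_of_injective C.subtype_injective,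
      hN₀c.symm.index_eq_card, hPdef, Nat.card_congr (subgroupOfEquivOfLe hTA).toEquiv]
    obtain ⟨k, hk⟩ := IsPGroup.iff_card.1 hT
    rw [hk]
    exact fun h => hqp ((Nat.prime_dvd_prime_iff_eq hq hpp).1 (hq.dvd_of_dvd_pow h))
  -- the order `q` elements of `C`
  obtain ⟨U, hUN, hU, hTU, hfin⟩ : ∃ U : Subgroup G, U ≤ N ∧ IsPGroup q U ∧ T ≤ normalizer (U : Set G) ∧
      ∀ Q : Subgroup G, U ≤ Q → Q ≤ C → IsPGroup q Q → T ≤ normalizer (Q : Set G) → Q ≤ centralizer (T : Set G) := by
    rcases tau_cases hG hM hE hq hqE with h1 | h2 | h3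
    · refine ⟨⊥, bot_le, IsPGroup.of_bot, le_normalizer_of_normal, fun Q _ hQC hQ hTQ => ?_⟩
      refine commutator_eq_bot_iff_le_centralizer.1 (by_contra fun hb => h1.2.2.2.1 ?_)
      exact (Excep.isPGroup_ne_bot_dvd (hQ.to_le (le_normalizer_iff_commutator_le_left.1 hTQ)) hb).trans
        (card_dvd_of_le (commutator_mono (hQC.trans hCM) (hTA.trans hCM)))
    · obtain ⟨-, -, hq2', hq1⟩ := id h2
      obtain ⟨B₀, hB₀M, hB₀, hB₀2⟩ : ∃ B : Subgroup G, B ≤ M ∧ Cfsg.IsElementaryAbelian q B ∧ Nat.card B = q ^ 2 :=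
        Uniq.exists_elementary hq1
      obtain ⟨c, -, hc⟩ := conj_into_of_product (π := {q}) (hG.2.2.2 M hM.1) hE.1 (map_subtype_le _)
        (TH.le_normalizer_core M) ((Compl.card_eq hG hM hE).2.1.ge.trans (sup_comm _ _).le)
        (fun r hr hrq h => hqσ (Set.mem_singleton_iff.1 hrq ▸ (Sig.sigma_core hG hM).1.2.1 r hr h))
        hB₀M (Excep.primes_of_pgroup (IsPGroup.of_card hB₀2) rfl)
      set B := B₀.map (MulAut.conj c).toMonoidHom with hBdef
      have hB : Cfsg.IsElementaryAbelian q B := elementary_map hB₀ _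
      have hB2 : Nat.card B = q ^ 2 := by
        rw [hBdef, card_map_of_injective (f := (MulAut.conj c).toMonoidHom) (MulAut.conj c).injective, hB₀2]
      obtain ⟨⟨hEB, hBall⟩, -, -⟩ := Cfsg.Agent.S1418.result hG M hM E hE q h2 B ⟨hc, hB, hB2⟩
      have hBC : B ≤ C := centralizes_invariant hG hA hA2 hM hAM hpσ hmax hqσ hqp (IsPGroup.of_card hB2)
        (hc.trans hE.1) (hAE.trans hEB)
      have hBN : B ≤ N := Excep.le_of_hall hNC'
        ((normal_subgroupOf_iff_le_normalizer hNC').1 (by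
          rw [hNdef, ← comap_subtype, comap_map_eq_self_of_injective C.subtype_injective]; infer_instance)) hBC
        (Excep.coprime_of_pgroup (IsPGroup.of_card hB2) hN₀i)
      have hNB : normalizer (A : Set G) ≤ normalizer (B : Set G) := fun n hn => by
        refine Uniq.mem_normalizer_of_map_le ?_
        rintro _ ⟨b, hb, rfl⟩
        by_cases hb1 : b = 1
        · rw [hb1, map_one]; exact one_mem _
        have hbo : orderOf ((MulAut.conj n).toMonoidHom b) = q := by
          refine ((MulAut.conj n).orderOf_eq b).trans (orderOf_eq_prime (hB.2 b hb) hb1)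
        have hbC : (MulAut.conj n).toMonoidHom b ∈ C :=
          (mem_normalizer_iff_map_conj_eq.1 (TH.normalizer_le_normalizer_centralizer _ hn)).le (mem_map_of_mem _ (hBC hb))
        exact hBall _ (zpowers_le.2 (hCE hbC)) (by rw [Nat.card_zpowers, hbo]) (mem_zpowers _)
      have hTB : B ≤ centralizer (T : Set G) := by
        refine le_centralizer_iff.1 fun t ht => mem_centralizer_iff.2 fun b hb => ?_
        set NA := normalizer (A : Set G)
        haveI : (B.subgroupOf NA).Normal :=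
          (normal_subgroupOf_iff_le_normalizer (hBC.trans (centralizer_le_normalizer _))).2 hNB
        have hrk : ∀ D : Subgroup (B.subgroupOf NA), Cfsg.IsElementaryAbelian q D → Nat.card D ≤ q ^ 2 :=
          fun D _ => by
            refine (card_le_card_group D).trans ?_
            rw [Nat.card_congr (subgroupOfEquivOfLe (hBC.trans (centralizer_le_normalizer _))).toEquiv, hB2]
        obtain ⟨y, hy, hyt⟩ : t ∈ (commutator NA).map NA.subtype := (map_subtype_commutator NA).symm ▸ hTN ht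
        obtain ⟨k, hk⟩ := CfsgLib.FGSA.RankTwoSolvable.exists_pow_centralizes
          (hG.1.of_dvd_nat (card_subgroup_dvd_card NA)) (B.subgroupOf NA)
          ((IsPGroup.of_card hB2 : IsPGroup q B).comap_subtype) hrk hy
        have hc' : Commute (t ^ q ^ k) b := by
          have h := congrArg Subtype.val (mem_centralizer_iff.1 hk (⟨b, centralizer_le_normalizer _ (hBC hb)⟩ : NA) hb)
          rw [← hyt]
          exact (show b * (y : G) ^ q ^ k = (y : G) ^ q ^ k * b from h).symm
        obtain ⟨j, hj⟩ := hT ⟨t, ht⟩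
        have hcop : (orderOf t).Coprime (q ^ k) := by
          refine Nat.Coprime.coprime_dvd_left (orderOf_dvd_of_pow_eq_one (congrArg Subtype.val hj)) ?_
          exact ((Nat.coprime_primes hpp hq).2 (Ne.symm hqp)).pow j k
        obtain ⟨m, hm⟩ := exists_pow_eq_self_of_coprime hcop.symm
        rw [← hm]
        exact ((hc'.pow_left m).symm).eq
      refine ⟨B, hBN, IsPGroup.of_card hB2, hTE.trans hEB, fun Q hBQ hQC hQ hTQ => ?_⟩
      exact le_centralizer_iff.1 (centralizes_rank_two hq2 hQ (Uniq.rankLE_mono (hQC.trans hCM) hq2') hBQ hB hB2 hTQ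
        (Excep.coprime_of_pgroup hT fun h => hqp ((Nat.prime_dvd_prime_iff_eq hpp hq).1 h).symm)
        hTB)
    · refine ⟨⊥, bot_le, IsPGroup.of_bot, le_normalizer_of_normal, fun Q _ hQC hQ hTQ => ?_⟩
      by_cases hQ1 : Q = ⊥
      · rw [hQ1]; exact bot_le
      obtain ⟨u, hu⟩ := exists_prime_orderOf_dvd_card' q (Excep.isPGroup_ne_bot_dvd hQ hQ1)
      have huo : orderOf (u : G) = q := by rw [orderOf_coe, hu]
      have hNu : normalizer (A : Set G) ≤ normalizer (zpowers (u : G) : Set G) := fun n hn => by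
        refine Uniq.mem_normalizer_of_map_le ?_
        rw [MonoidHom.map_zpowers]
        have hC' : (MulAut.conj n).toMonoidHom (u : G) ∈ C :=
          (mem_normalizer_iff_map_conj_eq.1 (TH.normalizer_le_normalizer_centralizer _ hn)).le
            (mem_map_of_mem _ (hQC u.2))
        exact (tau_three_line hG hM hE h3 (hCE (hQC u.2)) (hCE hC') huo
          (((MulAut.conj n).orderOf_eq (u : G)).trans huo)).ge
      have hTu : T ≤ centralizer (zpowers (u : G) : Set G) :=
        hTN.trans (UTool.commutator_le_centralizer_cyclic hNu inferInstance)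
      have hQc : IsCyclic Q := by
        by_contra hc
        obtain ⟨B, hBQ, hB, hB2⟩ := Uniq.exists_sq hq2 hQ hc
        have h := Uniq.rankLE_elementary h3.2.2.2 ((hBQ.trans hQC).trans hCM) hB
        rw [hB2] at h
        exact absurd h (not_le.2 (Nat.pow_lt_pow_right hq.one_lt one_lt_two))
      exact le_centralizer_iff.1 (Excep.centralizes_cyclic hq2 hQ hQc hTQ
        (Excep.coprime_of_pgroup hT fun h => hqp ((Nat.prime_dvd_prime_iff_eq hpp hq).1 h).symm)
        u.2 huo (hTu.trans (FixedLine.centralizer_zpowers_le _)))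
  obtain ⟨Q, hUQ, hQN, hQ, hTQ, hQd⟩ := Excep.exists_inv_sylow (t := q) hTN' hcopN
    (Or.inr (haveI := hCs; solvable_of_solvable_injective (inclusion_injective hNC'))) hUN hU hTU
  refine ⟨Q, le_inf (hQN.trans hNC') (hfin Q hUQ (hQN.trans hNC') hQ hTQ), fun h => ?_⟩
  rw [← relIndex_mul_relIndex Q N C hQN hNC'] at h
  rcases hq.dvd_mul.1 h with h' | h'
  · exact hQd h'
  · exact hN₀i h'

end CfsgLib.OddLocal.Tau
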