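import Cfsg.Agent.OddLocal.KappaNonNilpotentMain
import Cfsg.Agent.OddLocal.KappaSupport
import Cfsg.Agent.OddLocal.KappaDichotomy
import Cfsg.Agent.OddLocal.TauTwoAbelian
import Cfsg.Agent.S1417
import Cfsg.Agent.S1419

/-!
BG 15.3: centralizers and fusion in the Hall subgroups of `M_σ`.
-/

set_option autoImplicit false
set_option linter.style.haveILetI false
set_option linter.unusedSectionVars false

namespace CfsgLib.OddLocal.Kap

open Subgroup Cfsg CfsgLib.OddLocal
open scoped commutatorElement Pointwise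

universe u

variable {G : Type u} [Group G] [Finite G]

/-- A normal subgroup whose primes divide the order of a Hall subgroup lies in it. -/
theorem le_hall_of_normal {S H N : Subgroup G} (hH : H ≤ S) (hHall : (Nat.card H).Coprime (H.relIndex S))
    (hN : N ≤ S) (hNn : S ≤ normalizer (N : Set G))
    (hπ : ∀ r : ℕ, r.Prime → r ∣ Nat.card N → r ∣ Nat.card H) : N ≤ H := by
  have h1 : H.relIndex (H ⊔ N) = 1 := by
    by_contra h
    obtain ⟨r, hr, hd⟩ := Nat.exists_prime_and_dvd h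
    have h2 := CfsgLib.Solvable.card_sup_dvd (hH.trans hNn)
    rw [← CfsgLib.InvariantHall.relIndex_mul_card (le_sup_left : H ≤ H ⊔ N)] at h2
    have h3 : r ∣ Nat.card N := hd.trans ((Nat.mul_dvd_mul_iff_left Nat.card_pos).1 h2)
    have h4 : r ∣ H.relIndex S := hd.trans (Dvd.intro _ (relIndex_mul_relIndex H (H ⊔ N) S le_sup_left (sup_le hH hN)))
    exact hr.not_dvd_one (hHall ▸ Nat.dvd_gcd (hπ r hr h3) h4)
  exact (le_sup_right : N ≤ H ⊔ N).trans (relIndex_eq_one.1 h1)

/-- A Hall subgroup covered by normal subgroups is invariant. -/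
theorem normalizer_le_hall {S H : Subgroup G} (hH : H ≤ S) (hHall : (Nat.card H).Coprime (H.relIndex S))
    (hN : ∀ r : ℕ, r.Prime → r ∣ Nat.card H → ∃ N : Subgroup G, N ≤ S ∧ S ≤ normalizer (N : Set G) ∧
      ¬ r ∣ N.relIndex S ∧ ∀ t : ℕ, t.Prime → t ∣ Nat.card N → t ∣ Nat.card H) :
    normalizer (S : Set G) ≤ normalizer (H : Set G) := by
  intro g hg
  refine Uniq.mem_normalizer_of_map_le (CfsgLib.FGSA.le_of_prime_power_mem fun r hr b hb ⟨j, hj⟩ => ?_)
  by_cases hb1 : b = 1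
  · exact hb1 ▸ one_mem _
  haveI := Fact.mk hr
  have hbS : b ∈ S := by
    obtain ⟨h, hh, rfl⟩ := hb
    exact (mem_normalizer_iff.1 hg h).1 (hH hh)
  have hd : r ∣ Nat.card H := by
    have h1 := (H.map (MulAut.conj g).toMonoidHom).orderOf_dvd_natCard hb
    rw [card_map_of_injective (MulAut.conj g).injective, hj] at h1
    refine dvd_trans (dvd_pow_self r fun h => ?_) h1
    exact hb1 (orderOf_eq_one_iff.1 (by rw [hj, h, pow_zero]))
  obtain ⟨N, hNS, hNn, hNd, hNπ⟩ := hN r hr hd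
  exact le_hall_of_normal hH hHall hNS hNn hNπ (Excep.le_of_hall hNS hNn (zpowers_le.2 hbS) (by
    rw [Nat.card_zpowers, hj]; exact (hr.coprime_iff_not_dvd.2 hNd).pow_left j) (mem_zpowers b))

/-- Hall subgroups of nilpotent groups are invariant. -/
theorem normalizer_le_hall_of_nilpotent {S H : Subgroup G} (hS : Group.IsNilpotent S) (hH : H ≤ S)
    (hHall : (Nat.card H).Coprime (H.relIndex S)) : normalizer (S : Set G) ≤ normalizer (H : Set G) := by
  refine normalizer_le_hall hH hHall fun r hr hd => ?_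
  haveI := Fact.mk hr
  refine ⟨Bender.qc r S, Bender.qc_le r S, Bender.le_normalizer_qc r S, fun h => ?_, fun t ht htd => ?_⟩
  · obtain ⟨P⟩ : Nonempty (Sylow r S) := inferInstance
    have hP : (P : Subgroup S).map S.subtype ≤ Bender.qc r S := by
      rintro _ ⟨y, hy, rfl⟩
      obtain ⟨j, hj⟩ := IsPGroup.iff_orderOf.1 P.2 ⟨y, hy⟩
      refine Bender.mem_qc (Bender.le_fitting le_rfl le_normalizer hS y.2) (j := j) ?_
      rw [← hj]
      exact (orderOf_injective S.subtype Subtype.val_injective y).trans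
        (orderOf_injective (P : Subgroup S).subtype Subtype.val_injective ⟨y, hy⟩)
    have h' := h.trans (relIndex_dvd_of_le_left S hP)
    rw [relIndex, ← comap_subtype, comap_map_eq_self_of_injective S.subtype_injective] at h'
    exact P.not_dvd_index h'
  · obtain ⟨j, hj⟩ := IsPGroup.iff_card.1 (Bender.isPGroup_qc (s := r) S)
    rw [hj] at htd
    exact (Nat.prime_dvd_prime_iff_eq ht hr).1 (ht.dvd_of_dvd_pow htd) ▸ hd

variable (hG : Cfsg.IsMinSimpleOddOrder G)
include hG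

section Hall

variable {M H : Subgroup G} (hM : IsCoatom M) (hH : H ≤ Cfsg.sigmaCore M) (hH1 : H ≠ ⊥)
  (hHall : (Nat.card H).Coprime (H.relIndex (Cfsg.sigmaCore M)))
include hM hH hH1 hHall

/-- An element of prime order centralizing `H` outside `σ(M)` belongs to `τ₂(M)`. -/
theorem hall_centralizer_prime {r : ℕ} [hr : Fact r.Prime] {e : G} (heM : e ∈ M) (heo : orderOf e = r)
    (hrσ : r ∉ Cfsg.sigma M) (hec : e ∈ centralizer (H : Set G)) : r ∈ Cfsg.tau2 M := by
  obtain ⟨y, hy, hy1⟩ := (bot_or_exists_ne_one H).resolve_left hH1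
  refine (mem_kappa_or_tau_two hG hM heM heo hrσ (hH hy) hy1 (mem_centralizer_iff.1 hec y hy).symm).resolve_left
    fun hκ => ?_
  obtain ⟨K, hK, heK, hK1⟩ := exists_hall_kappa hG hM heM heo hκ
  have hle : H ≤ star M K := fun z hz => (star_fixed hG hM hK hK1 heK
    (fun h => hr.out.ne_one (by rw [← heo, h, orderOf_one]))).le
      ⟨hH hz, mem_centralizer_singleton_iff.2 (mem_centralizer_iff.1 hec z hz)⟩
  obtain ⟨t, ht, z, hz, hzo⟩ := exists_order_prime hH1
  haveI := Fact.mk ht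
  obtain ⟨P⟩ : Nonempty (Sylow t H) := inferInstance
  have htd : t ∣ Nat.card H := dvd_of_mem hz hzo
  refine sylow_not_le_fixed hG hM hK hK1 (P.2.map H.subtype) ((map_subtype_le _).trans hH) (fun h => ?_)
    (htd.trans (card_dvd_of_le hle)) ((map_subtype_le _).trans hle)
  rw [← relIndex_mul_relIndex _ H (Cfsg.sigmaCore M) (map_subtype_le _) hH] at h
  rcases ht.dvd_mul.1 h with h | h
  · rw [relIndex, ← comap_subtype, comap_map_eq_self_of_injective H.subtype_injective] at h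
    exact P.not_dvd_index h
  · exact ht.not_dvd_one (hHall ▸ Nat.dvd_gcd htd h)

/-- A `σ(M)'`-subgroup of `C_M(H)` is cyclic and involves only primes of `τ₂(M)`. -/
theorem hall_centralizer_part {X : Subgroup G} (hXM : X ≤ M) (hXσ : ∀ r : ℕ, r.Prime → r ∣ Nat.card X → r ∉ Cfsg.sigma M)
    (hXc : X ≤ centralizer (H : Set G)) :
    IsCyclic X ∧ ∀ r : ℕ, r.Prime → r ∣ Nat.card X → r ∈ Cfsg.tau2 M := by
  have hτ : ∀ r : ℕ, r.Prime → r ∣ Nat.card X → r ∈ Cfsg.tau2 M := fun r hr hd => by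
    haveI := Fact.mk hr
    obtain ⟨e, he⟩ := exists_prime_orderOf_dvd_card' (G := X) r hd
    exact hall_centralizer_prime hG hM hH hH1 hHall (hXM e.2) (by rw [Subgroup.orderOf_coe, he]) (hXσ r hr hd) (hXc e.2)
  refine ⟨?_, hτ⟩
  haveI hz : IsZGroup X := ⟨fun t ht P => by
    haveI := Fact.mk ht
    by_cases hd : t ∣ Nat.card X
    · have h1 : Cfsg.PRankLE t 1 X := by_contra fun h => by
        obtain ⟨A, hAX, hA, hA2⟩ := Uniq.exists_elementary h
        obtain ⟨y, hy, hy1⟩ := (bot_or_exists_ne_one H).resolve_left hH1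
        have h4 := (Cfsg.Agent.S1417.result hG M hM t (hτ t ht hd) A ⟨hAX.trans hXM, hA, hA2⟩).2.2.2.1
        exact hy1 (Subgroup.mem_bot.1 (h4 ▸ ⟨hH hy, centralizer_le hAX (le_centralizer_iff.1 hXc hy)⟩))
      exact Compl.cyclic_of_rank_one
        (CfsgLib.CN.MinSimple.p_ne_two hG (hd.trans X.card_subgroup_dvd_card)) P.2
        (fun A hA hAe => (le_of_eq (card_map_of_injective (P : Subgroup X).subtype_injective).symm).trans
          (h1 (A.map (P : Subgroup X).subtype) (map_isMulCommutative _ _) (by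
            rintro _ ⟨a, ha, rfl⟩; rw [← map_pow, hAe a ha, map_one])))
    · haveI : Subsingleton (P : Subgroup X) := by
        refine (Nat.card_eq_one_iff_unique.1 ?_).1
        obtain ⟨j, hj⟩ := IsPGroup.iff_card.1 P.2
        cases j with
        | zero => simpa using hj
        | succ j => exact absurd ((dvd_pow_self t j.succ_ne_zero).trans (hj ▸ card_subgroup_dvd_card _)) hd
      exact isCyclic_of_subsingleton⟩
  suffices hn : Group.IsNilpotent X by haveI := hn; infer_instance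
  by_cases hnab : ∃ t : ℕ, t.Prime ∧ t ∣ Nat.card X ∧ ∃ S : Sylow t G, ¬ IsMulCommutative (S : Subgroup G)
  · obtain ⟨t, ht, htd, S₀, hS₀⟩ := hnab
    haveI := Fact.mk ht
    obtain ⟨E, hE, -⟩ := Tau.exists_complement_of hG hM hXM fun r hr hd => hXσ r hr hd
    obtain ⟨A₀, hA₀M, hA₀, hA₀2⟩ := Uniq.exists_elementary (hτ t ht htd).2.2.2
    obtain ⟨g, -, hgA⟩ := Tau.conj_into_of_product (π := {t}) (solvable_le hG hM le_rfl) hE.1
      (map_subtype_le _ : Cfsg.sigmaCore M ≤ M) (TH.le_normalizer_core M)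
      (by rw [sup_comm]; exact (Compl.card_eq hG hM hE).2.1.ge)
      (fun r hr hrt => hrt.symm ▸ not_dvd_core hG hM ht (hτ t ht htd).2.1) hA₀M fun r hr hd => by
        rw [hA₀2] at hd
        exact (Nat.prime_dvd_prime_iff_eq hr ht).1 (hr.dvd_of_dvd_pow hd)
    have hsingle := (Cfsg.Agent.S1419.result hG M hM E hE t (hτ t ht htd) (fun S hS => hS₀ (by
        obtain ⟨e⟩ : Nonempty (↥(S₀ : Subgroup G) ≃* ↥(S : Subgroup G)) := ⟨S₀.equiv S⟩
        haveI := hS
        exact ⟨⟨fun a b => e.injective (by rw [map_mul, map_mul]; exact mul_comm' _ _)⟩⟩))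
      _ ⟨hgA, Tau.elementary_map hA₀ _, by rw [card_map_of_injective (MulAut.conj g).injective, hA₀2]⟩).1
    have hp : IsPGroup t X := IsPGroup.of_card (Nat.eq_prime_pow_of_unique_prime_dvd Nat.card_pos.ne' (p := t)
      fun {r} hr hd => (hsingle ▸ hτ r hr hd : r ∈ ({t} : Set ℕ)))
    exact hp.isNilpotent
  · push Not at hnab
    obtain ⟨E, hE, hXE⟩ := Tau.exists_complement_of hG hM hXM fun r hr hd => hXσ r hr hd
    refine ((Group.isNilpotent_of_finite_tfae (G := X)).out 0 3).2 fun t ht P => ?_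
    haveI := ht
    by_cases hd : t ∣ Nat.card X
    · obtain ⟨A₀, hA₀M, hA₀, hA₀2⟩ := Uniq.exists_elementary (hτ t ht.out hd).2.2.2
      obtain ⟨g, -, hgA⟩ := Tau.conj_into_of_product (π := {t}) (solvable_le hG hM le_rfl) hE.1
        (map_subtype_le _ : Cfsg.sigmaCore M ≤ M) (TH.le_normalizer_core M)
        (by rw [sup_comm]; exact (Compl.card_eq hG hM hE).2.1.ge)
        (fun r hr hrt => hrt.symm ▸ not_dvd_core hG hM ht.out (hτ t ht.out hd).2.1) hA₀M fun r hr hd => by
          rw [hA₀2] at hd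
          exact (Nat.prime_dvd_prime_iff_eq hr ht.out).1 (hr.dvd_of_dvd_pow hd)
      set A := A₀.map (MulAut.conj g).toMonoidHom
      have hA2 : Nat.card A = t ^ 2 := by rw [card_map_of_injective (MulAut.conj g).injective, hA₀2]
      obtain ⟨Q, hQ⟩ := ((IsPGroup.of_card hA2 : IsPGroup t A).comap_subtype (K := E)).exists_le_sylow
      set T := (Q : Subgroup E).map E.subtype
      have hTd : ¬ t ∣ T.relIndex E := by
        rw [relIndex, ← comap_subtype, comap_map_eq_self_of_injective E.subtype_injective]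
        exact Q.not_dvd_index
      obtain ⟨-, -, hET⟩ := Tau.central_sylow hG hM hE (hτ t ht.out hd) (Tau.elementary_map hA₀ _) hA2
        (Q.2.map E.subtype) (show A ≤ T from (map_subgroupOf_eq_of_le hgA).symm.le.trans (map_mono hQ)) (map_subtype_le _) hTd
        (fun S => hnab t ht.out hd S)
      haveI hn : (T.subgroupOf X).Normal := normal_subgroupOf_of_le_normalizer (hXE.trans hET)
      have hP : (P : Subgroup X) ≤ T.subgroupOf X := fun a ha => by
        obtain ⟨j, hj⟩ := IsPGroup.iff_orderOf.1 P.2 ⟨a, ha⟩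
        refine Excep.le_of_hall (map_subtype_le _) hET (zpowers_le.2 (hXE a.2)) ?_ (mem_zpowers (a : G))
        rw [Nat.card_zpowers, Subgroup.orderOf_coe, ← Subgroup.orderOf_mk a ha] at *
        rw [hj]
        exact (ht.out.coprime_iff_not_dvd.2 hTd).pow_left j
      have hTp : IsPGroup t (T.subgroupOf X) := (Q.2.map E.subtype).comap_of_injective _ X.subtype_injective
      rw [← P.3 hTp hP]
      exact hn
    · have hbot : (P : Subgroup X) = ⊥ := by
        refine eq_bot_of_card_eq _ ?_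
        obtain ⟨j, hj⟩ := IsPGroup.iff_card.1 P.2
        cases j with
        | zero => simpa using hj
        | succ j => exact absurd ((dvd_pow_self t j.succ_ne_zero).trans (hj ▸ card_subgroup_dvd_card _)) hd
      rw [hbot]; infer_instance

/-- BG 15.3, the centralizer of a Hall subgroup of `M_σ`. -/
theorem hall_centralizer : ∃ X : Subgroup G, X ≤ M ⊓ centralizer (H : Set G) ∧ IsCyclic X ∧
    (∀ p : ℕ, p.Prime → p ∣ Nat.card X → p ∈ Cfsg.tau2 M) ∧
    M ⊓ centralizer (H : Set G) = (Cfsg.sigmaCore M ⊓ centralizer (H : Set G)) ⊔ X := by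
  set S := Cfsg.sigmaCore M with hS
  have hSM : S ≤ M := map_subtype_le _
  set C := M ⊓ centralizer (H : Set G) with hC
  obtain ⟨X, hX, -⟩ := exists_hall_over (π := {r | r ∉ Cfsg.sigma M}) (solvable_le hG hM inf_le_left)
    (bot_le : (⊥ : Subgroup G) ≤ C) fun r hr hd => by rw [card_bot, Nat.dvd_one] at hd; exact absurd hd hr.ne_one
  obtain ⟨hc, hτ⟩ := hall_centralizer_part hG hM hH hH1 hHall (hX.1.trans inf_le_left) hX.2.1 (hX.1.trans inf_le_right)
  refine ⟨X, hX.1, hc, hτ, le_antisymm ?_ (sup_le (inf_le_inf_right _ hSM) hX.1)⟩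
  refine relIndex_eq_one.1 (by_contra fun h => ?_)
  obtain ⟨r, hr, hd⟩ := Nat.exists_prime_and_dvd h
  by_cases hrσ : r ∈ Cfsg.sigma M
  · have h1 := hd.trans (relIndex_dvd_of_le_left C (le_sup_left : S ⊓ centralizer (H : Set G) ≤ _))
    rw [show S ⊓ centralizer (H : Set G) = S ⊓ C from le_antisymm
      (le_inf inf_le_left (le_inf (inf_le_left.trans hSM) inf_le_right))
      (le_inf inf_le_left (inf_le_right.trans inf_le_right)), inf_relIndex_right] at h1
    haveI : (S.subgroupOf M).Normal := (normal_subgroupOf_iff_le_normalizer hSM).2 (TH.le_normalizer_core M)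
    have h2 : S.relIndex C ∣ S.relIndex M := by
      have h3 := relIndex_dvd_index_of_normal (S.subgroupOf M) (C.subgroupOf M)
      rwa [relIndex_subgroupOf (inf_le_left : C ≤ M)] at h3
    exact (Sig.sigma_core hG hM).1.2.2 r hr hrσ (h1.trans h2)
  · exact hX.2.2 r hr hrσ (hd.trans (relIndex_dvd_of_le_left C (le_sup_right : X ≤ _)))

/-- BG 15.3, fusion in a Hall subgroup of `M_σ`. -/
theorem hall_fusion {x : G} (hx : x ∈ H) {g : G} (hgx : g * x * g⁻¹ ∈ H) :
    ∃ n ∈ M ⊓ normalizer (H : Set G), n * x * n⁻¹ = g * x * g⁻¹ := by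
  set S := Cfsg.sigmaCore M with hS
  have hSM : S ≤ M := map_subtype_le _
  by_cases hx1 : x = 1
  · exact ⟨1, one_mem _, by rw [hx1]; group⟩
  obtain ⟨m, hm, hmx⟩ : ∃ m ∈ M, m * x * m⁻¹ = g * x * g⁻¹ := by
    have hgm : x ∈ M.map (MulAut.conj g⁻¹).toMonoidHom :=
      ⟨g * x * g⁻¹, hSM (hH hgx), by show g⁻¹ * (g * x * g⁻¹) * g⁻¹⁻¹ = x; group⟩
    rcases conjugate_over hG hM (hH hx) hx1 hgm with h | ⟨N, -, -, -, r, hr, h⟩
    · exact ⟨g, inv_mem_iff.1 (eq_of_conj_eq hG hM h), rfl⟩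
    · have hgr : g * r ∈ M := eq_of_conj_eq hG hM (by
        rw [← Tau.map_conj_comp, h, Tau.map_conj_comp, mul_inv_cancel, map_one]; exact map_id M)
      refine ⟨g * r, hgr, ?_⟩
      rw [show g * r * x * (g * r)⁻¹ = g * (r * x * r⁻¹) * g⁻¹ by group,
        show r * x = x * r from mem_centralizer_singleton_iff.1 hr.2, mul_inv_cancel_right]
  have hnormal : M ≤ normalizer (H : Set G) → ∃ n ∈ M ⊓ normalizer (H : Set G), n * x * n⁻¹ = g * x * g⁻¹ :=
    fun h => ⟨m, ⟨hm, h hm⟩, hmx⟩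
  by_cases hnil : Group.IsNilpotent S
  · exact hnormal ((TH.le_normalizer_core M).trans (normalizer_le_hall_of_nilpotent hnil hH hHall))
  obtain ⟨K, hK, -⟩ := exists_hall_over (π := Cfsg.kappa M) (solvable_le hG hM le_rfl)
    (bot_le : (⊥ : Subgroup G) ≤ M) fun r hr hd => by rw [card_bot, Nat.dvd_one] at hd; exact absurd hd hr.ne_one
  haveI := Fact.mk (deficient_star_prime hG hM hK hnil)
  obtain ⟨D, hD, hKD, hqD, -, hDn⟩ := deficient_complement hG hM hK hnil (q := _) rfl
  set q := Nat.card ↥(star M K)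
  set Q := Bender.qc q S with hQ
  have hQn := deficient_q_normal hG hM hK hnil (q := q) rfl
  have hQd := deficient_q_sylow hG hM hK hnil (q := q) rfl
  obtain ⟨k, hk⟩ := IsPGroup.iff_card.1 (Bender.isPGroup_qc (s := q) S)
  by_cases hqH : q ∣ Nat.card H
  · refine hnormal ((TH.le_normalizer_core M).trans (normalizer_le_hall hH hHall fun r hr hd => ?_))
    haveI := Fact.mk hr
    have hQπ : ∀ t : ℕ, t.Prime → t ∣ Nat.card Q → t ∣ Nat.card H := fun t ht htd => by
      rw [hk] at htd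
      exact (Nat.prime_dvd_prime_iff_eq ht Fact.out).1 (ht.dvd_of_dvd_pow htd) ▸ hqH
    by_cases hrq : r = q
    · exact ⟨Q, Bender.qc_le q S, Bender.le_normalizer_qc q S, fun h => hQd ((dvd_of_eq hrq.symm).trans h), hQπ⟩
    set R := Bender.qc r D
    have hRD : R ≤ D := Bender.qc_le r D
    have hRn : R ≤ normalizer (Q : Set G) := hRD.trans (hD.2.1.trans (Bender.le_normalizer_qc q S))
    have hDN : D ≤ normalizer ((R ⊔ Q : Subgroup G) : Set G) := fun y hy => by
      refine Uniq.mem_normalizer_of_map_le ?_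
      rw [Subgroup.map_sup]
      exact sup_le_sup (mem_normalizer_iff_map_conj_eq.1 (Bender.le_normalizer_qc r D hy)).le
        (mem_normalizer_iff_map_conj_eq.1 (Bender.le_normalizer_qc q S (hD.2.1 hy))).le
    refine ⟨R ⊔ Q, sup_le (hRD.trans hD.2.1) (Bender.qc_le q S), fun s hs => ?_, fun h => ?_, fun t ht htd => ?_⟩
    · obtain ⟨a, ha, b, hb, rfl⟩ := hD.2.2.2 s hs
      exact (normalizer ((R ⊔ Q : Subgroup G) : Set G)).mul_mem (le_normalizer (mem_sup_right ha)) (hDN hb)
    · obtain ⟨P⟩ : Nonempty (Sylow r D) := inferInstance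
      have hP : (P : Subgroup D).map D.subtype ≤ R ⊔ Q := by
        rintro _ ⟨y, hy, rfl⟩
        obtain ⟨j, hj⟩ := IsPGroup.iff_orderOf.1 P.2 ⟨y, hy⟩
        refine mem_sup_left (Bender.mem_qc (Bender.le_fitting le_rfl le_normalizer hDn y.2) (j := j) ?_)
        rw [← hj]
        exact (orderOf_injective D.subtype Subtype.val_injective y).trans
          (orderOf_injective (P : Subgroup D).subtype Subtype.val_injective ⟨y, hy⟩)
      have h' := h.trans (relIndex_dvd_of_le_left S hP)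
      rw [← relIndex_mul_relIndex _ D S (map_subtype_le _) hD.2.1] at h'
      rcases hr.dvd_mul.1 h' with h' | h'
      · rw [relIndex, ← comap_subtype, comap_map_eq_self_of_injective D.subtype_injective] at h'
        exact P.not_dvd_index h'
      · have hc := FittingHall.card_complIn hD
        rw [← CfsgLib.InvariantHall.relIndex_mul_card hD.2.1, mul_comm (Nat.card Q), hk] at hc
        rw [Nat.eq_of_mul_eq_mul_left Nat.card_pos hc] at h'
        exact hrq ((Nat.prime_dvd_prime_iff_eq hr Fact.out).1 (hr.dvd_of_dvd_pow h'))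
    · rcases ht.dvd_mul.1 (htd.trans (CfsgLib.Solvable.card_sup_dvd hRn)) with h | h
      · obtain ⟨i, hi⟩ := IsPGroup.iff_card.1 (Bender.isPGroup_qc (s := r) D)
        rw [hi] at h
        exact (Nat.prime_dvd_prime_iff_eq ht hr).1 (ht.dvd_of_dvd_pow h) ▸ hd
      · exact hQπ t ht h
  · obtain ⟨s, hs, hsH⟩ := Tau.conj_into_of_product (π := {r | r ≠ q}) (solvable_le hG hM hSM) hD.2.1 hD.1
      (Bender.le_normalizer_qc q S)
      (fun z hz => by obtain ⟨a, ha, b, hb, rfl⟩ := hD.2.2.2 z hz; exact mul_mem (mem_sup_left ha) (mem_sup_right hb))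
      (fun r hr hrq hd => hrq (by rw [hk] at hd; exact (Nat.prime_dvd_prime_iff_eq hr Fact.out).1 (hr.dvd_of_dvd_pow hd)))
      hH fun r hr hd (e : r = q) => hqH (e ▸ hd)
    set H' := H.map (MulAut.conj s).toMonoidHom with hH'
    have hH'c : Nat.card H' = Nat.card H := card_map_of_injective (MulAut.conj s).injective
    have hH'D : (Nat.card H').Coprime (H'.relIndex D) := by
      refine Nat.coprime_of_dvd fun r hr h1 h2 => ?_
      rw [hH'c] at h1
      have h3 : r ∣ H'.relIndex S := h2.trans (Dvd.intro _ (relIndex_mul_relIndex H' D S hsH hD.2.1))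
      have h4 : H'.relIndex S = H.relIndex S := Nat.eq_of_mul_eq_mul_left (Nat.card_pos (α := H')) (by
        rw [CfsgLib.InvariantHall.relIndex_mul_card (hsH.trans hD.2.1), hH'c,
          CfsgLib.InvariantHall.relIndex_mul_card hH])
      rw [h4] at h3
      exact hr.not_dvd_one (hHall ▸ Nat.dvd_gcd h1 h3)
    have hDK : ∀ y : G, y ∈ normalizer (D : Set G) → y ∈ normalizer (H' : Set G) := fun y hy =>
      normalizer_le_hall_of_nilpotent hDn hsH hH'D hy
    have hsplit : ∀ y ∈ M, ∃ a ∈ Q, ∃ n ∈ M ⊓ normalizer (H' : Set G), y = a * n := by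
      intro y hy
      obtain ⟨u, hu, v, hv, rfl⟩ := (deficient_decomp hG hM hK hnil).compl.2.2.2 y hy
      obtain ⟨k', hk', w, hw, rfl⟩ := (CfsgLib.Solvable.mem_sup_of_le_normalizer
        (hK.1.trans (TH.le_normalizer_core M))).1 hv
      obtain ⟨a, ha, d, hd, rfl⟩ := hD.2.2.2 w hw
      refine ⟨k' * a * k'⁻¹, (mem_normalizer_iff.1 (hQn (hK.1 hk')) a).1 ha, k' * d,
        ⟨M.mul_mem (hK.1 hk') (hSM (hD.2.1 hd)),
          (normalizer (H' : Set G)).mul_mem (hDK k' (hKD hk')) (hDK d (le_normalizer hd))⟩, ?_⟩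
      rw [Subgroup.mem_bot.1 hu]; group
    obtain ⟨a, ha, n, hn, e⟩ := hsplit (s * m * s⁻¹) (M.mul_mem (M.mul_mem (hSM hs) hm) (M.inv_mem (hSM hs)))
    have hh : s * x * s⁻¹ ∈ H' := ⟨x, hx, rfl⟩
    set h := n * (s * x * s⁻¹) * n⁻¹ with hhdef
    have hhH : h ∈ H' := (mem_normalizer_iff.1 hn.2 _).1 hh
    have hcon : a * h * a⁻¹ = s * (g * x * g⁻¹) * s⁻¹ := by
      rw [← hmx, hhdef, show a * (n * (s * x * s⁻¹) * n⁻¹) * a⁻¹ = (a * n) * (s * x * s⁻¹) * (a * n)⁻¹ by group, ← e]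
      group
    have hone : a * h * a⁻¹ * h⁻¹ ∈ Q ⊓ D := by
      refine ⟨?_, hsH (H'.mul_mem (hcon ▸ ⟨g * x * g⁻¹, hgx, rfl⟩) (H'.inv_mem hhH))⟩
      rw [show a * h * a⁻¹ * h⁻¹ = a * (h * a⁻¹ * h⁻¹) by group]
      exact Q.mul_mem ha ((mem_normalizer_iff.1 (Bender.le_normalizer_qc q S (hD.2.1 (hsH hhH))) _).1 (Q.inv_mem ha))
    rw [hD.2.2.1, Subgroup.mem_bot, mul_inv_eq_one] at hone
    rw [hone] at hcon
    refine ⟨s⁻¹ * n * s, ⟨M.mul_mem (M.mul_mem (M.inv_mem (hSM hs)) hn.1) (hSM hs), Uniq.mem_normalizer_of_map_le ?_⟩, ?_⟩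
    · rintro _ ⟨y, hy, rfl⟩
      obtain ⟨z, hz, ez⟩ := (mem_normalizer_iff.1 hn.2 (s * y * s⁻¹)).1 ⟨y, hy, rfl⟩
      show s⁻¹ * n * s * y * (s⁻¹ * n * s)⁻¹ ∈ H
      have ez' : s * z * s⁻¹ = n * (s * y * s⁻¹) * n⁻¹ := ez
      rw [show s⁻¹ * n * s * y * (s⁻¹ * n * s)⁻¹ = s⁻¹ * (n * (s * y * s⁻¹) * n⁻¹) * s by group, ← ez',
        show s⁻¹ * (s * z * s⁻¹) * s = z by group]
      exact hz
    · rw [show s⁻¹ * n * s * x * (s⁻¹ * n * s)⁻¹ = s⁻¹ * h * s by rw [hhdef]; group, hcon]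
      group

end Hall

end CfsgLib.OddLocal.Kap
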