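import Cfsg.Agent.OddLocal.KappaHall
import Cfsg.Agent.OddLocal.KappaPartition

/-!
Nilpotent Hall subgroups lie in some `M_σ`.
-/

set_option autoImplicit false
set_option linter.style.haveILetI false
set_option linter.unusedSectionVars false

namespace CfsgLib.OddLocal.Kap

open Subgroup Cfsg CfsgLib.OddLocal
open scoped commutatorElement Pointwise

universe u

variable {G : Type u} [Group G] [Finite G]

theorem qc_not_dvd_relIndex {r : ℕ} [Fact r.Prime] {S : Subgroup G} (hS : Group.IsNilpotent S) :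
    ¬ r ∣ (Bender.qc r S).relIndex S := fun h => by
  obtain ⟨P⟩ : Nonempty (Sylow r S) := inferInstance
  have hP : (P : Subgroup S).map S.subtype ≤ Bender.qc r S := by
    rintro _ ⟨y, hy, rfl⟩
    obtain ⟨j, hj⟩ := IsPGroup.iff_orderOf.1 P.2 ⟨y, hy⟩
    refine Bender.mem_qc (Bender.le_fitting le_rfl le_normalizer hS y.2) (j := j) ?_
    rw [← hj]
    exact (orderOf_injective S.subtype Subtype.val_injective y).trans
      (orderOf_injective (P : Subgroup S).subtype Subtype.val_injective ⟨y, hy⟩)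
  have h' := h.trans (relIndex_dvd_of_le_left S hP)
  rw [relIndex, ← comap_subtype, comap_map_eq_self_of_injective S.subtype_injective] at h'
  exact P.not_dvd_index h'

theorem exists_sigmaCore_over_hall (hG : Cfsg.IsMinSimpleOddOrder G) {H : Subgroup G}
    (hHn : Group.IsNilpotent H) (hHall : (Nat.card H).Coprime H.index) (hH1 : H ≠ ⊥) :
    ∃ M : Subgroup G, IsCoatom M ∧ H ≤ Cfsg.sigmaCore M ∧
      (Nat.card H).Coprime (H.relIndex (Cfsg.sigmaCore M)) := by
  have hsyl : ∀ (t : ℕ) [Fact t.Prime], t ∣ Nat.card H → ¬ t ∣ (Bender.qc t H).index := fun t _ htd h => by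
    rw [← relIndex_mul_index (Bender.qc_le t H)] at h
    rcases (Fact.out : t.Prime).dvd_mul.1 h with h | h
    · exact qc_not_dvd_relIndex hHn h
    · exact (Fact.out : t.Prime).not_dvd_one (hHall ▸ Nat.dvd_gcd htd h)
  obtain ⟨r, hr, hrd⟩ := Nat.exists_prime_and_dvd (fun h => hH1 (eq_bot_of_card_eq H h))
  haveI := Fact.mk hr
  set R := Bender.qc r H with hR
  have hRp : IsPGroup r R := Bender.isPGroup_qc H
  have hRd : ¬ r ∣ R.index := hsyl r hrd
  have hR1 : R ≠ ⊥ := fun h => hRd (by
    rw [h, index_bot]; exact hrd.trans H.card_subgroup_dvd_card)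
  obtain ⟨M, hM, hNM⟩ := (eq_top_or_exists_le_coatom (normalizer (R : Set G))).resolve_left
    (CfsgLib.CN.MinSimple.normalizer_ne_top hG hRp.isNilpotent hR1)
  have hRM : R ≤ M := le_normalizer.trans hNM
  have hHM : H ≤ M := (Bender.le_normalizer_qc r H).trans hNM
  have hrσ : r ∈ Cfsg.sigma M := Excep.mem_sigma_of_sylow (hRp.toSylow hRd) (by simpa using hRM) (by simpa using hNM)
    (hrd.trans (card_dvd_of_le hHM))
  have hRS : R ≤ Cfsg.sigmaCore M := Excep.le_sigmaCore hG hM hRM (Excep.primes_of_pgroup hRp hrσ)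
  have hRHall : (Nat.card R).Coprime (R.relIndex (Cfsg.sigmaCore M)) :=
    Excep.coprime_of_pgroup hRp fun h => hRd (h.trans (by
      rw [← relIndex_mul_index hRS]; exact dvd_mul_right _ _))
  have hσ : ∀ q : ℕ, q.Prime → q ∣ Nat.card H → q ∈ Cfsg.sigma M := fun q hq hqd => by_contra fun hqσ => by
    haveI := Fact.mk hq
    have hqr : q ≠ r := fun e => hqσ (e ▸ hrσ)
    set Q := Bender.qc q H with hQ
    have hQp : IsPGroup q Q := Bender.isPGroup_qc H
    have hQd : ¬ q ∣ Q.index := hsyl q hqd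
    have hQc : Q ≤ centralizer (R : Set G) := by
      refine commutator_eq_bot_iff_le_centralizer.1 (le_bot_iff.1 ?_)
      refine le_trans ?_ (disjoint_iff.1 (Subgroup.disjoint_of_coprime_natCard
        (IsPGroup.coprime_card_of_ne q r hqr Q R hQp hRp))).le
      refine commutator_le.2 fun a ha b hb => ⟨?_, ?_⟩
      · rw [show ⁅a, b⁆ = a * (b * a⁻¹ * b⁻¹) by rw [commutatorElement_def]; group]
        exact Q.mul_mem ha ((mem_normalizer_iff.1
          (Bender.le_normalizer_qc q H (Bender.qc_le r H hb)) a⁻¹).1 (Q.inv_mem ha))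
      · rw [commutatorElement_def]
        exact R.mul_mem ((mem_normalizer_iff.1
          (Bender.le_normalizer_qc r H (Bender.qc_le q H ha)) b).1 hb) (R.inv_mem hb)
    obtain ⟨hQcyc, hτ⟩ := hall_centralizer_part hG hM hRS hR1 hRHall ((Bender.qc_le q H).trans hHM)
      (fun t ht htd => by
        obtain ⟨j, hj⟩ := IsPGroup.iff_card.1 hQp
        rw [hj] at htd
        rw [(Nat.prime_dvd_prime_iff_eq ht hq).1 (ht.dvd_of_dvd_pow htd)]; exact hqσ) hQc
    have hQ1 : Q ≠ ⊥ := fun h => hQd (by rw [h, index_bot]; exact hqd.trans H.card_subgroup_dvd_card)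
    refine (hτ q hq (Excep.isPGroup_ne_bot_dvd hQp hQ1)).2.2.2 ?_
    intro A hA hAe
    haveI := hA
    have hAp : IsPGroup q (A.map M.subtype) :=
      (CfsgLib.Signalizer.isPGroup (⟨hA, hAe⟩ : Cfsg.IsElementaryAbelian q A)).map _
    obtain ⟨S, hS⟩ := hAp.exists_le_sylow
    obtain ⟨g, hg⟩ := MulAction.exists_smul_eq G (hQp.toSylow hQd) S
    haveI : IsCyclic (S : Subgroup G) := by
      haveI : IsCyclic ↥((hQp.toSylow hQd : Sylow q G) : Subgroup G) := hQcyc
      rw [← hg, Sylow.coe_subgroup_smul]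
      refine isCyclic_of_surjective (equivSMul (MulAut.conj g) _).toMonoidHom (MulEquiv.surjective _)
    haveI : IsCyclic ↥(A.map M.subtype) := isCyclic_of_injective (inclusion hS) (inclusion_injective _)
    haveI : IsCyclic A := isCyclic_of_surjective
      ((A.equivMapOfInjective M.subtype M.subtype_injective).symm.toMonoidHom) (MulEquiv.surjective _)
    rw [pow_one, ← IsCyclic.exponent_eq_card]
    exact Nat.le_of_dvd hq.pos (Monoid.exponent_dvd_of_forall_pow_eq_one fun a => Subtype.ext (hAe a a.2))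
  refine ⟨M, hM, Excep.le_sigmaCore hG hM hHM hσ, ?_⟩
  refine hHall.coprime_dvd_right ?_
  rw [← relIndex_mul_index (Excep.le_sigmaCore hG hM hHM hσ)]
  exact dvd_mul_right _ _

end CfsgLib.OddLocal.Kap
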