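import Cfsg.Agent.OddLocal.SigmaOrderP
import Cfsg.Agent.S1459

/-!
The action of a complement on `M_σ`, and the intersections of `M_σ` with conjugates of `M`.
-/

set_option autoImplicit false
set_option linter.style.haveILetI false
set_option linter.unusedSectionVars false

namespace CfsgLib.OddLocal.Tau

open Subgroup Cfsg CfsgLib.OddLocal
open scoped commutatorElement Pointwise

universe u

variable {G : Type u} [Group G] [Finite G]
variable (hG : Cfsg.IsMinSimpleOddOrder G) {M : Subgroup G} (hM : IsCoatom M)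
include hG hM

/-- Fixed points and commutators of a complement on `M_σ`. -/
theorem complement_action {E : Subgroup G} (hE : Cfsg.IsComplIn E (Cfsg.sigmaCore M) M) :
    Cfsg.sigmaCore M ⊓ centralizer (E : Set G) ≤ ⁅Cfsg.sigmaCore M, Cfsg.sigmaCore M⁆ ∧
      ⁅Cfsg.sigmaCore M, E⁆ = Cfsg.sigmaCore M := by
  haveI : Group.IsSolvable M := hG.2.2.2 M hM.1
  set K := Cfsg.sigmaCore M with hKdef
  obtain ⟨hσ, -, hKd⟩ := Sig.sigma_core hG hM
  obtain ⟨hEc, -, -⟩ := Compl.card_eq hG hM hE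
  have hKM : K ≤ M := map_subtype_le _
  have hEM : E ≤ M := hE.1
  have hcop : (Nat.card K).Coprime (K.relIndex M) := CfsgLib.InvariantHall.coprime_of_isPiHallOf hσ
  set H := K.subgroupOf M
  set E₀ := E.subgroupOf M
  have hHn : H.Normal := (normal_subgroupOf_iff_le_normalizer hKM).2 (TH.le_normalizer_core M)
  have hHc : Nat.card H = Nat.card K := Nat.card_congr (subgroupOfEquivOfLe hKM).toEquiv
  have hE₀c : Nat.card E₀ = K.relIndex M := by
    rw [Nat.card_congr (subgroupOfEquivOfLe hEM).toEquiv, hEc]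
  have hcompl : IsComplement' H E₀ := isComplement'_of_coprime (by
    rw [hHc, hE₀c]
    exact CfsgLib.InvariantHall.relIndex_mul_card hKM) (by rw [hHc, hE₀c]; exact hcop)
  have hHd : H ≤ commutator M := fun x hx => by
    have h1 : (x : G) ∈ (commutator M).map M.subtype := (map_subtype_commutator M).symm ▸ hKd hx
    obtain ⟨y, hy, hyx⟩ := h1
    rwa [← M.subtype_injective hyx]
  obtain ⟨h1, h2⟩ := (Cfsg.Agent.S1459.result (G := M)).1 H E₀ hHn
    (by rw [hHc]; exact hcop) hcompl hHd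
  constructor
  · rintro x ⟨hx, hxc⟩
    have hm : (⟨x, hKM hx⟩ : M) ∈ H ⊓ centralizer (E₀ : Set M) :=
      ⟨hx, mem_centralizer_iff.2 fun e he => Subtype.ext (mem_centralizer_iff.1 hxc (e : G) he)⟩
    have h3 := mem_map_of_mem M.subtype (h2 hm)
    rw [map_commutator, map_subgroupOf_eq_of_le hKM] at h3
    exact h3
  · have h3 := congrArg (Subgroup.map M.subtype) h1
    rw [map_commutator, map_subgroupOf_eq_of_le hKM, map_subgroupOf_eq_of_le hEM] at h3
    exact h3.symm

/-- Intersections of `M_σ` with conjugates of `M`. -/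
theorem core_meet_conj {g : G} (hg : g ∉ M) :
    IsCyclic ↥(Cfsg.sigmaCore M ⊓ M.map (MulAut.conj g).toMonoidHom) ∧
      (∀ p : ℕ, p.Prime → p ∣ Nat.card ↥(Cfsg.sigmaCore M ⊓ M.map (MulAut.conj g).toMonoidHom) → p ∉ Cfsg.beta M) ∧
      Cfsg.sigmaCore M ⊓ M.map (MulAut.conj g).toMonoidHom ⊓ ⁅Cfsg.sigmaCore M, Cfsg.sigmaCore M⁆ = ⊥ := by
  classical
  set K := Cfsg.sigmaCore M
  set D := K ⊓ M.map (MulAut.conj g).toMonoidHom
  have hKM : K ≤ M := map_subtype_le _
  have hDM : D ≤ M := inf_le_left.trans hKM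
  have hσ : ∀ r : ℕ, r.Prime → r ∣ Nat.card D → r ∈ Cfsg.sigma M := fun r hr hd =>
    (Sig.sigma_core hG hM).1.2.1 r hr (hd.trans (card_dvd_of_le inf_le_left))
  have key : ∀ (r : ℕ) [Fact r.Prime] (X : Subgroup G), X ≤ D → IsPGroup r X → r ∈ Cfsg.sigma M →
      ¬ centralizer (X : Set G) ≤ M := by
    intro r _ X hX hXp hrσ hC
    have h : X.map (MulAut.conj g⁻¹).toMonoidHom ≤ M := by
      rintro _ ⟨x, hx, rfl⟩
      obtain ⟨m, hm, hmx⟩ := (hX hx).2
      show g⁻¹ * x * g⁻¹⁻¹ ∈ M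
      have e : g * m * g⁻¹ = x := hmx
      rw [← e, inv_inv]
      simpa [mul_assoc] using hm
    obtain ⟨m, hm, c, hc, e⟩ := Sig.fusion_in hG hM hrσ hXp (hX.trans hDM) g⁻¹ h
    exact hg (inv_inv g ▸ inv_mem (e ▸ mul_mem hm (hC hc)))
  have hlineC : ∀ r : ℕ, r.Prime → ∀ X : Subgroup G, X ≤ D → Nat.card X = r →
      r ∉ Cfsg.beta M ∧ ¬ X ≤ ⁅K, K⁆ := by
    intro r hr X hX hXc
    haveI := Fact.mk hr
    have hrσ : r ∈ Cfsg.sigma M := hσ r hr (hXc ▸ card_dvd_of_le hX)
    obtain ⟨S⟩ : Nonempty (Sylow r K) := inferInstance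
    have hXp : IsPGroup r X := IsPGroup.of_card (n := 1) (by rw [hXc, pow_one])
    have hSd : ¬ r ∣ ((S : Subgroup K).map K.subtype).relIndex K := by
      rw [relIndex, ← comap_subtype, comap_map_eq_self_of_injective K.subtype_injective]
      exact S.not_dvd_index
    constructor <;> intro h
    · exact key r X hX hXp hrσ (order_p_unique hG hM hrσ (hX.trans hDM) hXc (S.2.map _) (map_subtype_le _) hSd (Or.inl h)).1.1
    · exact key r X hX hXp hrσ (order_p_unique hG hM hrσ (hX.trans hDM) hXc (S.2.map _) (map_subtype_le _) hSd (Or.inr h)).1.1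
  have hline : ∀ (r : ℕ) (U : Subgroup G), r.Prime → r ∣ Nat.card U →
      ∃ X : Subgroup G, X ≤ U ∧ Nat.card X = r := by
    intro r U hr hd
    haveI := Fact.mk hr
    obtain ⟨x, hx⟩ := exists_prime_orderOf_dvd_card' r hd
    exact ⟨zpowers (x : G), zpowers_le.2 x.2, by rw [Nat.card_zpowers, orderOf_coe, hx]⟩
  have hder : D ⊓ ⁅K, K⁆ = ⊥ := by
    by_contra hne
    obtain ⟨r, hr, hd⟩ := Nat.exists_prime_and_dvd (fun h => hne (eq_bot_of_card_eq _ h) : Nat.card ↥(D ⊓ ⁅K, K⁆) ≠ 1)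
    obtain ⟨X, hX, hXc⟩ := hline r _ hr hd
    exact (hlineC r hr X (hX.trans inf_le_left) hXc).2 (hX.trans inf_le_right)
  refine ⟨?_, fun p hp hd => ?_, hder⟩
  · haveI : IsMulCommutative D := ⟨⟨fun a b => by
      have h1 : ⁅(a : G), (b : G)⁆ ∈ D ⊓ ⁅K, K⁆ :=
        ⟨commutator_le_self D (commutator_mem_commutator a.2 b.2), commutator_mem_commutator a.2.1 b.2.1⟩
      rw [hder, mem_bot, commutatorElement_eq_one_iff_mul_comm] at h1
      exact Subtype.ext h1⟩⟩
    haveI : Group.IsNilpotent D := by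
      letI : CommGroup D := { (inferInstance : Group D) with mul_comm := IsMulCommutative.is_comm.comm }
      infer_instance
    haveI : IsZGroup D := by
      rw [isZGroup_iff]
      intro r hr P
      haveI := Fact.mk hr
      by_contra hnc
      have hP1 : (P : Subgroup D) ≠ ⊥ := fun e => hnc (by rw [e]; infer_instance)
      have hrσ : r ∈ Cfsg.sigma M := hσ r hr (((P.2.card_eq_or_dvd).resolve_left fun e =>
        hP1 (eq_bot_of_card_eq _ e)).trans (card_subgroup_dvd_card _))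
      have hr2 : r ≠ 2 := CfsgLib.CN.MinSimple.p_ne_two hG (hrσ.2.1.trans M.card_subgroup_dvd_card)
      set Q := (P : Subgroup D).map D.subtype
      have hQnc : ¬ IsCyclic Q := fun h => hnc
        ((P : Subgroup D).equivMapOfInjective D.subtype D.subtype_injective |>.isCyclic.2 h)
      obtain ⟨A, hAQ, hA, hA2⟩ := Uniq.exists_sq hr2 (P.2.map _) hQnc
      have hAD : A ≤ D := hAQ.trans (map_subtype_le _)
      exact key r A hAD (IsPGroup.of_card hA2) hrσ (centralizer_le_coatom hG hA hA2 hM (hAD.trans hDM))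
    infer_instance
  · obtain ⟨X, hX, hXc⟩ := hline p D hp hd
    exact (hlineC p hp X hX hXc).1

end CfsgLib.OddLocal.Tau
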