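import Cfsg.Agent.OddLocal.KappaSylow
import Cfsg.Agent.OddLocal.KappaHall
import Cfsg.Agent.OddLocal.KappaNilpotentHall
import Cfsg.Agent.OddLocal.SigmaAction
import Cfsg.Agent.OddLocal.BetaCore
import Cfsg.Agent.FGSA.RankTwoOperator
import Cfsg.Agent.S1418
import Cfsg.Agent.S1420
import Cfsg.Agent.S1453

/-!
BG 15.7: elements of `M_σ` fused out of `M`.
-/

set_option autoImplicit false
set_option linter.style.haveILetI false
set_option linter.unusedSectionVars false

namespace CfsgLib.OddLocal.Kap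

open Subgroup Cfsg CfsgLib.OddLocal
open scoped commutatorElement Pointwise

universe u

variable {G : Type u} [Group G] [Finite G]

section Nilpotent

variable {H : Subgroup G} (hH : Group.IsNilpotent H)
include hH

theorem nilpotent_le_of_qc {X : Subgroup G} (h : ∀ (r : ℕ) [Fact r.Prime], Bender.qc r H ≤ X) : H ≤ X :=
  (Bender.le_fitting le_rfl le_normalizer hH).trans (Bender.fitting_le_of_qc h)

omit hH in
theorem qc_le_centralizer_qc {r s : ℕ} [Fact r.Prime] [Fact s.Prime] (hrs : r ≠ s) :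
    Bender.qc r H ≤ centralizer (Bender.qc s H : Set G) := by
  set R := Bender.qc r H
  set S := Bender.qc s H
  refine commutator_eq_bot_iff_le_centralizer.1 (le_bot_iff.1 ?_)
  refine le_trans ?_ (disjoint_iff.1 (Subgroup.disjoint_of_coprime_natCard
    (IsPGroup.coprime_card_of_ne r s hrs R S (Bender.isPGroup_qc H) (Bender.isPGroup_qc H)))).le
  refine commutator_le.2 fun a ha b hb => ⟨?_, ?_⟩
  · rw [show ⁅a, b⁆ = a * (b * a⁻¹ * b⁻¹) by rw [commutatorElement_def]; group]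
    exact R.mul_mem ha ((mem_normalizer_iff.1
      (Bender.le_normalizer_qc r H (Bender.qc_le s H hb)) a⁻¹).1 (R.inv_mem ha))
  · rw [commutatorElement_def]
    exact S.mul_mem ((mem_normalizer_iff.1
      (Bender.le_normalizer_qc s H (Bender.qc_le r H ha)) b).1 hb) (S.inv_mem hb)

theorem nilpotent_commutative_of_qc
    (h : ∀ (r : ℕ) [Fact r.Prime], IsMulCommutative (Bender.qc r H)) : IsMulCommutative H := by
  have key : H ≤ centralizer (H : Set G) := by
    refine nilpotent_le_of_qc hH fun r _ => le_centralizer_iff.1 (nilpotent_le_of_qc hH fun s _ => ?_)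
    by_cases hrs : s = r
    · subst hrs
      haveI := h s
      exact le_centralizer _
    · exact qc_le_centralizer_qc hrs
  exact ⟨⟨fun a b => Subtype.ext (mem_centralizer_iff.1 (key b.2) a a.2)⟩⟩

theorem mem_qc_of_order {r j : ℕ} [Fact r.Prime] {x : G} (hx : x ∈ H) (hj : orderOf x = r ^ j) :
    x ∈ Bender.qc r H :=
  Bender.mem_qc (Bender.le_fitting le_rfl le_normalizer hH hx) hj

/-- The `p'`-core of a nilpotent group with cyclic other primary parts is cyclic. -/
theorem cyclic_pPrimeCore {p : ℕ} [Fact p.Prime]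
    (h : ∀ (r : ℕ) [Fact r.Prime], r ≠ p → IsCyclic (Bender.qc r H)) : IsCyclic (Cfsg.pPrimeCore p ↥H) := by
  haveI := hH
  haveI : IsZGroup (Cfsg.pPrimeCore p ↥H) := ⟨fun r hr S => by
    haveI := Fact.mk hr
    by_cases hrp : r = p
    · subst hrp
      haveI : Subsingleton (S : Subgroup (Cfsg.pPrimeCore r ↥H)) := by
        refine (Nat.card_eq_one_iff_unique.1 ?_).1
        obtain ⟨k, hk⟩ := IsPGroup.iff_card.1 S.2
        rcases k with _ | k
        · simpa using hk
        · exfalso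
          refine hr.not_dvd_one ((CfsgLib.Solvable.coprime_card_pPrimeCore (G := ↥H) r : Nat.gcd _ _ = 1) ▸
            Nat.dvd_gcd ?_ dvd_rfl)
          exact (dvd_pow_self r (Nat.succ_ne_zero k)).trans (hk ▸ (S : Subgroup (Cfsg.pPrimeCore r ↥H)).card_subgroup_dvd_card)
      infer_instance
    · haveI := h r hrp
      refine isCyclic_of_injective (((H.subtype.comp (Cfsg.pPrimeCore p ↥H).subtype).comp
        (S : Subgroup (Cfsg.pPrimeCore p ↥H)).subtype).codRestrict (Bender.qc r H) fun x => ?_) ?_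
      · obtain ⟨j, hj⟩ := IsPGroup.iff_orderOf.1 S.2 x
        refine mem_qc_of_order hH (x := _) ((x : Cfsg.pPrimeCore p ↥H) : H).2 (j := j) ?_
        show orderOf (((x : Cfsg.pPrimeCore p ↥H) : H) : G) = _
        rw [Subgroup.orderOf_coe, Subgroup.orderOf_coe, Subgroup.orderOf_coe, hj]
      · intro a b e
        exact Subtype.ext (Subtype.ext (H.subtype_injective (congrArg (Subtype.val : Bender.qc r H → G) e)))⟩
  infer_instance

end Nilpotent

variable (hG : Cfsg.IsMinSimpleOddOrder G)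
include hG

variable {M : Subgroup G} (hM : IsCoatom M) (hnil : Group.IsNilpotent (Cfsg.sigmaCore M))
  {p : ℕ} [hp : Fact p.Prime] {g : G} (hg : g ∉ M) {z : G} (hz : z ∈ Cfsg.sigmaCore M) (hzo : orderOf z = p)
  (hzg : g⁻¹ * z * g ∈ Cfsg.sigmaCore M)
include hM hnil hg hz hzo hzg

theorem meet_not_le : ¬ centralizer ({z} : Set G) ≤ M := fun hC => by
  have hS1 : Cfsg.sigmaCore M ≠ ⊥ := fun e => hp.out.ne_one
    (by rw [← hzo, mem_bot.1 (e.le hz), orderOf_one])
  have hgx : g * (g⁻¹ * z * g) * g⁻¹ ∈ Cfsg.sigmaCore M := by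
    rwa [show g * (g⁻¹ * z * g) * g⁻¹ = z by group]
  obtain ⟨n, hn, he⟩ := hall_fusion hG hM le_rfl hS1 (by rw [relIndex_self]; exact Nat.coprime_one_right _) hzg hgx
  rw [show g * (g⁻¹ * z * g) * g⁻¹ = z by group] at he
  have hc : g * n⁻¹ ∈ centralizer ({z} : Set G) := mem_centralizer_singleton_iff.2 (by
    calc g * n⁻¹ * z = g * n⁻¹ * (n * (g⁻¹ * z * g) * n⁻¹) := by rw [he]
      _ = z * (g * n⁻¹) := by group)
  exact hg (by simpa using M.mul_mem (hC hc) hn.1)

theorem meet_over : ∃ N : Subgroup G, IsCoatom N ∧ centralizer ({z} : Set G) ≤ N ∧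
    Cfsg.IsComplIn (M ⊓ N) (Cfsg.sigmaCore N) N ∧ p ∈ Cfsg.tau2 N := by
  obtain ⟨N, hN, hCN, -, -, hc, hτ⟩ := exists_over_line hG hM hz hzo (meet_not_le hG hM hnil hg hz hzo hzg)
  exact ⟨N, hN, hCN, hc, hτ⟩

omit hzg hg hzo hp in
theorem fixed_le_meet {N : Subgroup G} (hCN : centralizer ({z} : Set G) ≤ N) :
    Cfsg.sigmaCore M ⊓ centralizer ({z} : Set G) ≤ M ⊓ N :=
  inf_le_inf (map_subtype_le _) hCN

theorem meet_abelian : IsMulCommutative ↥(Cfsg.sigmaCore M ⊓ centralizer ({z} : Set G)) := by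
  obtain ⟨N, hN, hCN, hc, -⟩ := meet_over hG hM hnil hg hz hzo hzg
  haveI := hnil
  refine (Cfsg.Agent.S1420.result hG N hN (M ⊓ N) hc).1 _ (inf_le_right.trans hCN) ?_ fun r hr hd => ?_
  · exact CfsgLib.CN.nilpotent_of_le hnil inf_le_left
  · exact (Compl.card_eq hG hN hc).2.2 r hr (hd.trans (card_dvd_of_le (fixed_le_meet hG hM hnil hz hCN)))

theorem meet_not_beta : p ∉ Cfsg.beta M := by
  refine (Tau.core_meet_conj hG hM hg).2.1 p hp.out (dvd_of_mem ⟨hz, ?_⟩ hzo)
  exact ⟨g⁻¹ * z * g, map_subtype_le _ hzg, by show g * (g⁻¹ * z * g) * g⁻¹ = z; group⟩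

omit hG hM hg hzg in
theorem mem_part : z ∈ Bender.qc p (Cfsg.sigmaCore M) :=
  mem_qc_of_order hnil hz (j := 1) (by rw [hzo, pow_one])

omit hG hM hg hzg in
theorem qc_le_fixed {r : ℕ} [Fact r.Prime] (hrp : r ≠ p) :
    Bender.qc r (Cfsg.sigmaCore M) ≤ Cfsg.sigmaCore M ⊓ centralizer ({z} : Set G) :=
  le_inf (Bender.qc_le _ _) ((qc_le_centralizer_qc hrp).trans
    (centralizer_le (Set.singleton_subset_iff.2 (mem_part hnil hz hzo))))

theorem qc_commutative {r : ℕ} [Fact r.Prime] (hrp : r ≠ p) :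
    IsMulCommutative (Bender.qc r (Cfsg.sigmaCore M)) := by
  haveI := meet_abelian hG hM hnil hg hz hzo hzg
  exact ⟨⟨fun a b => Subtype.ext (congrArg
    (Subtype.val : ↥(Cfsg.sigmaCore M ⊓ centralizer ({z} : Set G)) → G) (mul_comm'
    (⟨a, qc_le_fixed hnil hz hzo hrp a.2⟩ : ↥(Cfsg.sigmaCore M ⊓ centralizer ({z} : Set G)))
    ⟨b, qc_le_fixed hnil hz hzo hrp b.2⟩))⟩⟩

theorem part_not_cyclic : ¬ IsCyclic (Bender.qc p (Cfsg.sigmaCore M)) := fun hc => by
  refine meet_not_le hG hM hnil hg hz hzo hzg ((centralizer_le_normalizer _).trans' ?_ |>.trans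
    (Uniq.coatom_normalizer_eq hG hM (zpowers_le.2 (map_subtype_le _ hz)) ?_ ?_).le)
  · exact FixedLine.le_centralizer_zpowers le_rfl
  · exact ((TH.le_normalizer_core M).trans (UTool.normalizer_le_normalizer_map _ _
      (PLenZ.characteristic_pCore p))).trans
      (UTool.normalizer_le_normalizer_zpowers hc (mem_part hnil hz hzo))
  · exact fun e => hp.out.ne_one (by rw [← hzo, ← Nat.card_zpowers, e, card_bot])

theorem centralizes_plane {r : ℕ} [Fact r.Prime] {B N : Subgroup G} (hN : IsCoatom N)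
    (hCN : centralizer ({z} : Set G) ≤ N) (hc : Cfsg.IsComplIn (M ⊓ N) (Cfsg.sigmaCore N) N)
    (hB : B ≤ Cfsg.sigmaCore M ⊓ centralizer ({z} : Set G)) (hBe : Cfsg.IsElementaryAbelian r B)
    (hB2 : Nat.card B = r ^ 2) (hP : Bender.qc p (Cfsg.sigmaCore M) ≤ centralizer (B : Set G)) :
    IsMulCommutative (Bender.qc p (Cfsg.sigmaCore M)) := by
  have hBE : B ≤ M ⊓ N := hB.trans (fixed_le_meet hG hM hnil hz hCN)
  have hrσ : r ∉ Cfsg.sigma N := (Compl.card_eq hG hN hc).2.2 r Fact.out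
    ((dvd_pow_self r two_ne_zero).trans (hB2 ▸ card_dvd_of_le hBE))
  have hτ : r ∈ Cfsg.tau2 N := by
    refine ⟨Fact.out, hrσ, by_contra fun h => hrσ (Sig.alpha_subset_sigma hG hN ⟨Fact.out, h⟩), fun h => ?_⟩
    have h1 := Uniq.rankLE_elementary h (hBE.trans inf_le_right) hBe
    rw [hB2, pow_one] at h1
    exact absurd h1 (not_le.2 (by nlinarith [(Fact.out : r.Prime).two_le]))
  obtain ⟨-, ⟨hC, hNB, -⟩, -⟩ := Cfsg.Agent.S1418.result hG N hN (M ⊓ N) hc r hτ B ⟨hBE, hBe, hB2⟩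
  have hPE : Bender.qc p (Cfsg.sigmaCore M) ≤ M ⊓ N := hP.trans (hC.trans hNB.le)
  exact (Cfsg.Agent.S1420.result hG N hN (M ⊓ N) hc).1 _ (hPE.trans inf_le_right)
    (Bender.isPGroup_qc _).isNilpotent fun t ht hd =>
      (Compl.card_eq hG hN hc).2.2 t ht (hd.trans (card_dvd_of_le hPE))

variable (hnab : ¬ IsMulCommutative (Bender.qc p (Cfsg.sigmaCore M)))
include hnab

theorem part_not_le_fixed : ¬ Bender.qc p (Cfsg.sigmaCore M) ≤ centralizer ({z} : Set G) := fun h => hnab (by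
  haveI := meet_abelian hG hM hnil hg hz hzo hzg
  exact ⟨⟨fun a b => Subtype.ext (congrArg
    (Subtype.val : ↥(Cfsg.sigmaCore M ⊓ centralizer ({z} : Set G)) → G) (mul_comm'
    (⟨a, Bender.qc_le _ _ a.2, h a.2⟩ : ↥(Cfsg.sigmaCore M ⊓ centralizer ({z} : Set G)))
    ⟨b, Bender.qc_le _ _ b.2, h b.2⟩))⟩⟩)

theorem qc_cyclic {r : ℕ} [Fact r.Prime] (hrp : r ≠ p) : IsCyclic (Bender.qc r (Cfsg.sigmaCore M)) := by
  set R := Bender.qc r (Cfsg.sigmaCore M)
  by_cases hR1 : R = ⊥
  · rw [hR1]; infer_instance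
  obtain ⟨N, hN, hCN, hc, -⟩ := meet_over hG hM hnil hg hz hzo hzg
  refine Compl.cyclic_of_rank_one ?_ (Bender.isPGroup_qc _) (by_contra fun hr => ?_)
  · exact CfsgLib.CN.MinSimple.p_ne_two hG
      ((Excep.isPGroup_ne_bot_dvd (Bender.isPGroup_qc _) hR1).trans R.card_subgroup_dvd_card)
  obtain ⟨B, hB, hBe, hB2⟩ := Uniq.exists_elementary hr
  exact hnab (centralizes_plane hG hM hnil hg hz hzo hzg hN hCN hc (hB.trans (qc_le_fixed hnil hz hzo hrp)) hBe hB2
    ((qc_le_centralizer_qc hrp.symm).trans (centralizer_le hB)))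

theorem prime_core_cyclic : IsCyclic (Cfsg.pPrimeCore p ↥(Cfsg.sigmaCore M)) :=
  cyclic_pPrimeCore hnil fun _ _ hr => qc_cyclic hG hM hnil hg hz hzo hzg hnab hr

theorem part_center_cyclic :
    IsCyclic ↥(Bender.qc p (Cfsg.sigmaCore M) ⊓ centralizer (Bender.qc p (Cfsg.sigmaCore M) : Set G)) := by
  set P := Bender.qc p (Cfsg.sigmaCore M)
  obtain ⟨N, hN, hCN, hc, -⟩ := meet_over hG hM hnil hg hz hzo hzg
  refine Compl.cyclic_of_rank_one ?_ ((Bender.isPGroup_qc _).to_le inf_le_left) (by_contra fun hr => ?_)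
  · exact CfsgLib.CN.MinSimple.p_ne_two hG (hzo ▸ orderOf_dvd_natCard z)
  obtain ⟨B, hB, hBe, hB2⟩ := Uniq.exists_elementary hr
  refine hnab (centralizes_plane hG hM hnil hg hz hzo hzg hN hCN hc (hB.trans ?_) hBe hB2
    (le_centralizer_iff.1 (hB.trans inf_le_right)))
  exact le_inf (inf_le_left.trans (Bender.qc_le _ _))
    (inf_le_right.trans (centralizer_le (Set.singleton_subset_iff.2 (mem_part hnil hz hzo))))

omit hg hzg hnab hz hzo in
/-- The action of a complement on a primary part of `M_σ`. -/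
theorem part_action {E : Subgroup G} (hE : Cfsg.IsComplIn E (Cfsg.sigmaCore M) M) :
    ⁅Bender.qc p (Cfsg.sigmaCore M), E⁆ = Bender.qc p (Cfsg.sigmaCore M) := by
  set S := Cfsg.sigmaCore M with hS
  set P := Bender.qc p S with hPdef
  set P₀ := ⁅P, E⁆ with hP₀
  have hEP : E ≤ normalizer (P : Set G) := ((hE.1.trans (TH.le_normalizer_core M))).trans
    (UTool.normalizer_le_normalizer_map _ _ (PLenZ.characteristic_pCore p))
  have hP₀P : P₀ ≤ P := commutator_le.2 fun a ha e he => by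
    rw [show ⁅a, e⁆ = a * (e * a⁻¹ * e⁻¹) by rw [commutatorElement_def]; group]
    exact P.mul_mem ha ((mem_normalizer_iff.1 (hEP he) _).1 (P.inv_mem ha))
  refine le_antisymm hP₀P fun x hx => ?_
  -- `Q` is the product of the other parts
  set Q : Subgroup G := (Cfsg.pPrimeCore p ↥S).map S.subtype with hQdef
  have hQS : Q ≤ S := map_subtype_le _
  have hQn : E ≤ normalizer (Q : Set G) := (hE.1.trans (TH.le_normalizer_core M)).trans
    (UTool.normalizer_le_normalizer_map _ _ (PLenZ.characteristic_pPrimeCore p))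
  have hQcop : (Nat.card Q).Coprime p := Excep.opc_coprime p S
  have hPQ : P ⊓ Q = ⊥ := by
    refine disjoint_iff.1 (disjoint_of_coprime_natCard ?_)
    obtain ⟨k, hk⟩ := IsPGroup.iff_card.1 (Bender.isPGroup_qc (s := p) S)
    rw [hk]
    exact (hQcop.symm.pow_left k)
  have hPc : P ≤ centralizer (Q : Set G) := by
    refine commutator_eq_bot_iff_le_centralizer.1 (le_bot_iff.1 (le_trans ?_ hPQ.le))
    refine commutator_le.2 fun a ha b hb => ⟨?_, ?_⟩
    · rw [show ⁅a, b⁆ = a * (b * a⁻¹ * b⁻¹) by rw [commutatorElement_def]; group]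
      exact P.mul_mem ha ((mem_normalizer_iff.1
        (Bender.le_normalizer_qc p S (hQS hb)) a⁻¹).1 (P.inv_mem ha))
    · rw [commutatorElement_def]
      exact Q.mul_mem ((mem_normalizer_iff.1
        (Excep.le_normalizer_opc p S (Bender.qc_le p S ha)) b).1 hb) (Q.inv_mem hb)
  have hSPQ : S ≤ P ⊔ Q := nilpotent_le_of_qc hnil fun r _ => by
    by_cases hrp : r = p
    · subst hrp; exact le_sup_left
    · have hcop : (Nat.card (Cfsg.pCore r ↥S)).Coprime p := by
        obtain ⟨n, hn⟩ := IsPGroup.iff_card.1 (CfsgLib.Solvable.isPGroup_pCore r (G := ↥S))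
        rw [hn]
        exact ((Nat.coprime_primes Fact.out hp.out).2 hrp).pow_left n
      refine le_trans (map_mono (le_sSup (show Cfsg.pCore r ↥S ∈
        {N : Subgroup ↥S | N.Normal ∧ (Nat.card N).Coprime p} from ⟨CfsgLib.Solvable.pCore_normal r, hcop⟩))) le_sup_right
  have hle : S ≤ P₀ ⊔ Q := by
    refine (Tau.complement_action hG hM hE).2.ge.trans (commutator_le.2 fun s hs e he => ?_)
    have hs' := hSPQ hs
    rw [← SetLike.mem_coe, coe_mul_of_left_le_normalizer_right P Q (hPc.trans (centralizer_le_normalizer _))] at hs'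
    obtain ⟨a, ha, b, hb, rfl⟩ := hs'
    have hbe : ⁅b, e⁆ ∈ Q := by
      rw [show ⁅b, e⁆ = b * (e * b⁻¹ * e⁻¹) by rw [commutatorElement_def]; group]
      exact Q.mul_mem hb ((mem_normalizer_iff.1 (hQn he) _).1 (Q.inv_mem hb))
    rw [show ⁅a * b, e⁆ = a * ⁅b, e⁆ * a⁻¹ * ⁅a, e⁆ by simp only [commutatorElement_def]; group,
      ← mem_centralizer_iff.1 (hPc ha) _ hbe, mul_inv_cancel_right]
    exact mul_mem (mem_sup_right hbe) (mem_sup_left (commutator_mem_commutator ha he))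
  have hx' := hle (Bender.qc_le p S hx)
  rw [← SetLike.mem_coe, coe_mul_of_left_le_normalizer_right P₀ Q
    ((hP₀P.trans hPc).trans (centralizer_le_normalizer _))] at hx'
  obtain ⟨a, ha, b, hb, rfl⟩ := hx'
  have hb1 : b ∈ P ⊓ Q := ⟨by simpa using P.mul_mem (P.inv_mem (hP₀P ha)) hx, hb⟩
  rw [hPQ, mem_bot] at hb1
  show a * b ∈ P₀
  rw [hb1, mul_one]
  exact ha

/-- A fused element of order `p` is no `p`-th power in a nonabelian part. -/
theorem part_not_pow {x : G} (hx : x ∈ Bender.qc p (Cfsg.sigmaCore M)) : x ^ p ≠ z := by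
  intro hxz
  set P := Bender.qc p (Cfsg.sigmaCore M) with hPdef
  have hPp : IsPGroup p P := Bender.isPGroup_qc _
  have hp2 : p ≠ 2 := CfsgLib.CN.MinSimple.p_ne_two hG (hzo ▸ orderOf_dvd_natCard z)
  have hP1 : P ≠ ⊥ := fun e => hnab (by rw [e]; infer_instance)
  by_cases hr : Cfsg.PRankLE p 2 P
  · obtain ⟨E, hE, -⟩ := Tau.exists_complement_of hG hM (X := ⊥) bot_le fun q hq h => by
      rw [card_bot, Nat.dvd_one] at h; exact absurd h hq.ne_one
    have hEP : E ≤ normalizer (P : Set G) := ((hE.1.trans (TH.le_normalizer_core M))).trans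
      (UTool.normalizer_le_normalizer_map _ _ (PLenZ.characteristic_pCore p))
    have hpE : (Nat.card E).Coprime p := Nat.Coprime.symm (hp.out.coprime_iff_not_dvd.2 fun h =>
      (Compl.card_eq hG hM hE).2.2 p hp.out h (mem_sigma_of_mem_core hG hM hp.out hz hzo))
    obtain ⟨-, h⟩ := CfsgLib.FGSA.RankTwoOperator.main hp2 hPp hP1 (fun A hA hAe => hr A hA hAe) hEP hpE
      (hG.1.of_dvd_nat E.card_subgroup_dvd_card) (part_action hG hM hnil hE)
    obtain ⟨R₁, R₂, hsup, hcomm, -, hc1, he1, hcyc, -⟩ := h.resolve_left hnab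
    have hx' : x ∈ R₁ ⊔ R₂ := hsup.ge hx
    have hn : R₁ ≤ normalizer (R₂ : Set G) := fun a ha => centralizer_le_normalizer _
      (mem_centralizer_iff.2 fun b hb => (hcomm a ha b hb).symm)
    rw [← SetLike.mem_coe, coe_mul_of_left_le_normalizer_right R₁ R₂ hn] at hx'
    obtain ⟨a, ha, b, hb, rfl⟩ := hx'
    have hz2 : z ∈ R₂ := by
      rw [← hxz, show (a * b) ^ p = a ^ p * b ^ p from (show Commute a b from hcomm a ha b hb).mul_pow p,
        show a ^ p = 1 from congrArg Subtype.val (he1 ▸ Monoid.pow_exponent_eq_one (⟨a, ha⟩ : R₁)), one_mul]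
      exact pow_mem hb p
    refine part_not_le_fixed hG hM hnil hg hz hzo hzg hnab (hsup.ge.trans (sup_le ?_ ?_))
    · exact fun a ha => mem_centralizer_singleton_iff.2 (hcomm a ha z hz2)
    · intro b hb
      haveI := hcyc
      letI := IsCyclic.commGroup (α := R₂)
      exact mem_centralizer_singleton_iff.2 (congrArg Subtype.val (mul_comm (⟨b, hb⟩ : R₂) ⟨z, hz2⟩))
  · obtain ⟨N, hN, hCN, hcN, -⟩ := meet_over hG hM hnil hg hz hzo hzg
    haveI := hPp.isNilpotent
    obtain ⟨c₀, hc₀, hc₀1, hc₀c⟩ := CfsgLib.CN.exists_central hPp.isNilpotent hP1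
    obtain ⟨q, hq, c, hc, hco, -⟩ := exists_prime_root (H := P ⊓ centralizer (P : Set G)) ⟨hc₀, mem_centralizer_iff.2 fun h hh => (hc₀c h hh).eq⟩ hc₀1
    have hqp : q = p := by
      obtain ⟨k, hk⟩ := IsPGroup.iff_card.1 hPp
      exact (Nat.prime_dvd_prime_iff_eq hq hp.out).1 (hq.dvd_of_dvd_pow (hk ▸ dvd_of_mem hc.1 hco))
    subst hqp
    have hzP : z ∈ P := mem_part hnil hz hzo
    set E₂ : Subgroup G := zpowers z ⊔ zpowers c with hE₂
    have hczc : Commute z c := mem_centralizer_iff.1 hc.2 z hzP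
    have hE₂P : E₂ ≤ P := sup_le (zpowers_le.2 hzP) (zpowers_le.2 hc.1)
    have hE₂e : Cfsg.IsElementaryAbelian q E₂ := CfsgLib.Thompson.elab_sup
      (CfsgLib.Thompson.elab_zpowers (by rw [← hzo, pow_orderOf_eq_one]))
      (CfsgLib.Thompson.elab_zpowers (by rw [← hco, pow_orderOf_eq_one]))
      (zpowers_le.2 (FixedLine.le_centralizer_zpowers le_rfl (mem_centralizer_singleton_iff.2 hczc.eq)))
    have hzc : z ∉ zpowers c := fun h => part_not_le_fixed hG hM hnil hg hz hzo hzg hnab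
      ((le_centralizer_iff.1 (zpowers_le.2 hc.2)).trans (centralizer_le (Set.singleton_subset_iff.2 h)))
    have hE₂card : Nat.card E₂ = q ^ 2 := by
      rw [hE₂, CfsgLib.Solvable.card_sup_of_disjoint ?_ ?_, Nat.card_zpowers, Nat.card_zpowers, hzo, hco, sq]
      · exact (zpowers_le.2 (centralizer_le_normalizer _
          (FixedLine.le_centralizer_zpowers le_rfl (mem_centralizer_singleton_iff.2 hczc.eq))))
      · rw [eq_bot_iff]
        rintro w ⟨hw1, hw2⟩
        by_contra hw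
        have hwo : orderOf w = q := orderOf_eq_prime
          (orderOf_dvd_iff_pow_eq_one.1 (hzo ▸ Nat.card_zpowers z ▸ Subgroup.orderOf_dvd_natCard _ hw1)) hw
        refine hzc (zpowers_le.2 hw2 (?_ : z ∈ zpowers w))
        have he : zpowers w = zpowers z := eq_of_le_of_card_ge (zpowers_le.2 hw1)
          (by rw [Nat.card_zpowers, Nat.card_zpowers, hzo, hwo])
        exact he ▸ mem_zpowers z
    have hmax : ∀ B : Subgroup P, Cfsg.IsElementaryAbelian q B → E₂.subgroupOf P ≤ B → B = E₂.subgroupOf P := by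
      intro B hB hle
      refine (eq_of_le_of_card_ge hle ?_).symm
      have hBm : Cfsg.IsElementaryAbelian q (B.map P.subtype) := by
        haveI := hB.1
        exact ⟨map_isMulCommutative _ _, by rintro _ ⟨b, hb, rfl⟩; rw [← map_pow, hB.2 b hb, map_one]⟩
      have hzB : (⟨z, hzP⟩ : P) ∈ B := hle (mem_sup_left (mem_zpowers z))
      have hBf : B.map P.subtype ≤ M ⊓ N := by
        refine le_trans ?_ (fixed_le_meet hG hM hnil hz hCN)
        rintro _ ⟨b, hb, rfl⟩
        refine ⟨Bender.qc_le _ _ b.2, mem_centralizer_singleton_iff.2 ?_⟩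
        haveI := hB.1
        exact congrArg Subtype.val (setLike_mul_comm hb hzB)
      have h1 := Uniq.rankLE_elementary (Compl.rank_le_two hG hN hcN q hp.out) hBf hBm
      rw [card_map_of_injective P.subtype_injective] at h1
      rwa [Nat.card_congr (subgroupOfEquivOfLe hE₂P).toEquiv, hE₂card]
    have hEe : Cfsg.IsElementaryAbelian q (E₂.subgroupOf P) := by
      haveI := hE₂e.1
      exact ⟨⟨⟨fun a b => Subtype.ext (Subtype.ext (setLike_mul_comm (mem_subgroupOf.1 a.2) (mem_subgroupOf.1 b.2)))⟩⟩,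
        fun a ha => Subtype.ext (hE₂e.2 _ ha)⟩
    obtain ⟨hnT, -, -, hTc, hTi⟩ := Cfsg.Agent.S1453.result q hp2 hPp hr (E₂.subgroupOf P) hEe
      (by rw [Nat.card_congr (subgroupOfEquivOfLe hE₂P).toEquiv, hE₂card]) hmax
    set T := centralizer ((closure {y : P | y ∈ Subgroup.upperCentralSeries P 2 ∧ y ^ q = 1} : Subgroup P) : Set P)
    refine hnT ?_
    haveI := hTc
    have hzT : (⟨z, hzP⟩ : P) ∈ T := by
      have h := Subgroup.pow_index_mem T (⟨x, hx⟩ : P)
      rw [hTi] at h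
      exact (show (⟨x, hx⟩ : P) ^ q = ⟨z, hzP⟩ from Subtype.ext hxz) ▸ h
    have hcT : (⟨c, hc.1⟩ : P) ∈ T := mem_centralizer_iff.2 fun y _ =>
      Subtype.ext (mem_centralizer_iff.1 hc.2 y y.2)
    intro w hw
    have hw' : w ∈ (zpowers (⟨z, hzP⟩ : P) ⊔ zpowers ⟨c, hc.1⟩) := by
      have h : (w : G) ∈ ((zpowers (⟨z, hzP⟩ : P) ⊔ zpowers ⟨c, hc.1⟩).map P.subtype) := by
        rw [Subgroup.map_sup, MonoidHom.map_zpowers, MonoidHom.map_zpowers]; exact hw
      obtain ⟨w', hw', e⟩ := h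
      exact Subtype.ext e ▸ hw'
    exact sup_le (zpowers_le.2 hzT) (zpowers_le.2 hcT) hw'

end CfsgLib.OddLocal.Kap
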