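import Cfsg.Agent.OddLocal.KappaScalar

/-!
Cyclic groups of odd order centralizing the centre of a nonabelian group of order `p ^ 3`.
-/

set_option autoImplicit false
set_option linter.style.haveILetI false
set_option linter.unusedSectionVars false

namespace CfsgLib.OddLocal.Kap

open Subgroup
open scoped commutatorElement Pointwise

universe u

variable {G : Type u} [Group G] [Finite G]

/-- A cyclic group fixing the derived subgroup of a group of order `p ^ 3` and nothing more has order dividing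
`p - 1` or `p + 1`. -/
theorem cyclic_card_dvd_of_cube {p : ℕ} [hp : Fact p.Prime] {P K : Subgroup G} (hP : Nat.card P = p ^ 3)
    (hnab : ¬ IsMulCommutative P) (hKc : IsCyclic K) (hKodd : Odd (Nat.card K)) (hpK : ¬ p ∣ Nat.card K)
    (hKP : K ≤ normalizer (P : Set G)) (hfix : ⁅P, P⁆ ≤ centralizer (K : Set G))
    (hfpf : ∀ k ∈ K, k ≠ 1 → P ⊓ centralizer ({k} : Set G) ≤ ⁅P, P⁆) :
    Nat.card K ∣ p - 1 ∨ Nat.card K ∣ p + 1 := by
  classical
  have hPp : IsPGroup p P := IsPGroup.of_card hP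
  haveI := hPp.isNilpotent
  set Z := ⁅P, P⁆ with hZ
  have hZP : Z ≤ P := commutator_le.2 fun a ha b hb =>
    P.mul_mem (P.mul_mem (P.mul_mem ha hb) (P.inv_mem ha)) (P.inv_mem hb)
  set C : Subgroup P := center P with hC
  have hC1 : C ≠ ⊥ := by
    haveI : Nontrivial P := Finite.one_lt_card_iff_nontrivial.1
      (hP ▸ Nat.one_lt_pow (by norm_num) hp.out.one_lt)
    haveI := hPp.center_nontrivial
    exact nontrivial_iff_ne_bot _ |>.1 inferInstance
  -- the centre has order `p` and is the derived subgroup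
  obtain ⟨i, hi⟩ := IsPGroup.iff_card.1 (hPp.to_subgroup C)
  have hidx : Nat.card C * C.index = p ^ 3 := by rw [C.card_mul_index, hP]
  have hi0 : i ≠ 0 := fun e => hC1 (eq_bot_of_card_eq _ (by rw [hi, e, pow_zero]))
  have hnc : ¬ IsCyclic (P ⧸ C) := fun hcy => by
    haveI := hcy
    exact hnab ⟨⟨fun a b => commutative_of_cyclic_center_quotient (QuotientGroup.mk' C)
      (by rw [QuotientGroup.ker_mk']) a b⟩⟩
  obtain ⟨j, hj⟩ := hPp.index C
  have hij : i + j = 3 := Nat.pow_right_injective hp.out.two_le (show p ^ (i + j) = p ^ 3 by rw [pow_add, ← hi, ← hj, hidx])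
  have hj2 : j = 2 := by
    by_contra h
    refine hnc ?_
    rcases (show j = 0 ∨ j = 1 by omega) with rfl | rfl
    · haveI : Subsingleton (P ⧸ C) := (Nat.card_eq_one_iff_unique.1 (by rw [← index_eq_card, hj, pow_zero])).1
      infer_instance
    · exact isCyclic_of_prime_card (p := p) (by rw [← index_eq_card, hj, pow_one])
  have hi1 : i = 1 := by omega
  have hQe : ∀ x : P, x ^ p ∈ C := fun x => by
    rw [← QuotientGroup.eq_one_iff, QuotientGroup.mk_pow]
    by_contra hne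
    refine hnc (isCyclic_of_orderOf_eq_card (x : P ⧸ C) ?_)
    have hd : orderOf (x : P ⧸ C) ∣ p ^ 2 := by
      rw [← hj2, ← hj, index_eq_card]; exact orderOf_dvd_natCard _
    obtain ⟨k, hk, hko⟩ := (Nat.dvd_prime_pow hp.out).1 hd
    rw [← index_eq_card, hj, hj2, hko]
    rcases (show k = 0 ∨ k = 1 ∨ k = 2 by omega) with rfl | rfl | rfl
    · rw [pow_zero, orderOf_eq_one_iff] at hko
      exact absurd (by rw [hko, one_pow]) hne
    · exact absurd (by rw [← pow_one p, ← hko, pow_orderOf_eq_one]) hne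
    · rfl
  have hDC : commutator P ≤ C := by
    have hab : ∀ a b : P ⧸ C, a * b = b * a :=
      fun a b => (IsPGroup.commutative_of_card_eq_prime_sq (p := p) (by rw [← index_eq_card, hj, hj2])) a b
    rw [_root_.commutator_def, commutator_le]
    intro a _ b _
    rw [← QuotientGroup.eq_one_iff, ← QuotientGroup.mk'_apply, map_commutatorElement,
      commutatorElement_eq_one_iff_mul_comm]
    exact hab _ _
  have hD1 : commutator P ≠ ⊥ := fun h => hnab ⟨⟨fun a b =>
    commutatorElement_eq_one_iff_mul_comm.1 (mem_bot.1 (h ▸ commutator_mem_commutator (mem_top a) (mem_top b)))⟩⟩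
  have hDeq : commutator P = C := eq_of_le_of_card_ge hDC (by
    obtain ⟨l, hl⟩ := IsPGroup.iff_card.1 (hPp.to_subgroup (commutator P))
    rw [hi, hi1, hl]
    refine Nat.pow_le_pow_right hp.out.pos (Nat.one_le_iff_ne_zero.2 fun e => hD1 ?_)
    exact eq_bot_of_card_eq _ (by rw [hl, e, pow_zero]))
  have hmemZ : ∀ {x : P}, (x : G) ∈ Z ↔ x ∈ C := fun {x} => by
    rw [hZ, ← map_subtype_commutator, hDeq]
    exact ⟨fun ⟨y, hy, e⟩ => Subtype.ext e ▸ hy, fun h => mem_map_of_mem _ h⟩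
  have hZc : ∀ z ∈ Z, ∀ x ∈ P, x * z = z * x := fun z hz x hx =>
    congrArg Subtype.val (mem_center_iff.1 (hmemZ.1 (show ((⟨z, hZP hz⟩ : P) : G) ∈ Z from hz)) ⟨x, hx⟩)
  have hpow : ∀ x ∈ P, x ^ p ∈ Z := fun x hx => hmemZ.2 (hQe ⟨x, hx⟩)
  have hcomm : ∀ x ∈ P, ∀ y ∈ P, ⁅x, y⁆ ∈ Z := fun x hx y hy => commutator_mem_commutator hx hy
  -- bilinearity
  have hpowL : ∀ (n : ℕ), ∀ v ∈ P, ∀ w ∈ P, ⁅v ^ n, w⁆ = ⁅v, w⁆ ^ n := by
    intro n v hv w hw
    induction n with
    | zero => simp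
    | succ n ih =>
      rw [pow_succ', show ⁅v * v ^ n, w⁆ = v * ⁅v ^ n, w⁆ * v⁻¹ * ⁅v, w⁆ by simp only [commutatorElement_def]; group, ih, hZc _ (pow_mem (hcomm v hv w hw) n) v hv,
        mul_inv_cancel_right, ← pow_succ]
  have hmulZ : ∀ z ∈ Z, ∀ v ∈ P, ∀ w ∈ P, ⁅v * z, w⁆ = ⁅v, w⁆ := by
    intro z hz v hv w hw
    rw [show ⁅v * z, w⁆ = v * ⁅z, w⁆ * v⁻¹ * ⁅v, w⁆ by simp only [commutatorElement_def]; group, show ⁅z, w⁆ = 1 from
      commutatorElement_eq_one_iff_mul_comm.2 (hZc z hz w hw).symm, mul_one, mul_inv_cancel, one_mul]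
  have hswap : ∀ v w : G, ⁅v, w⁆⁻¹ = ⁅w, v⁆ := fun v w => commutatorElement_inv v w
  -- `zpowers v ⊔ Z` for `v` outside `Z`
  have hline : ∀ {v w : G}, v ∈ P → w ∈ P → v ∉ Z → ⁅v, w⁆ = 1 → w ∈ zpowers v ⊔ Z := by
    intro v w hv hw hvZ h1
    by_contra hwL
    set L := zpowers v ⊔ Z with hL
    have hLP : L ≤ P := sup_le (zpowers_le.2 hv) hZP
    have hlt : L < L ⊔ zpowers w := lt_of_le_of_ne le_sup_left fun e => hwL (e ▸ mem_sup_right (mem_zpowers w))
    have hWP : L ⊔ zpowers w ≤ P := sup_le hLP (zpowers_le.2 hw)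
    have hcard : ∀ {A B : Subgroup G}, A < B → B ≤ P → p * Nat.card A ≤ Nat.card B := by
      intro A B hAB hBP
      obtain ⟨a, ha⟩ := IsPGroup.iff_card.1 (hPp.to_le (hAB.le.trans hBP))
      obtain ⟨b, hb⟩ := IsPGroup.iff_card.1 (hPp.to_le hBP)
      have h := Set.ncard_lt_ncard (SetLike.coe_ssubset_coe.2 hAB) (Set.toFinite _)
      rw [← Nat.card_coe_set_eq, ← Nat.card_coe_set_eq] at h
      have hab : a < b := (Nat.pow_lt_pow_iff_right hp.out.one_lt).1 (by rw [← ha, ← hb]; exact h)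
      rw [ha, hb, ← pow_succ']
      exact Nat.pow_le_pow_right hp.out.pos hab
    have hZL : Z < L := lt_of_le_of_ne le_sup_right fun e => hvZ (e.symm ▸ mem_sup_left (mem_zpowers v))
    have hZ1 : 1 < Nat.card Z := by
      rw [hZ, ← map_subtype_commutator, card_map_of_injective P.subtype_injective, hDeq, hi, hi1, pow_one]
      exact hp.out.one_lt
    have htop : L ⊔ zpowers w = P := by
      refine eq_of_le_of_card_ge hWP ?_
      have h2 := hcard hlt hWP
      have h3 := hcard hZL hLP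
      have h4 : Nat.card Z = p := by
        rw [hZ, ← map_subtype_commutator, card_map_of_injective P.subtype_injective, hDeq, hi, hi1, pow_one]
      rw [hP]
      calc p ^ 3 = p * (p * p) := by ring
        _ ≤ p * Nat.card L := Nat.mul_le_mul_left _ (h4 ▸ h3)
        _ ≤ _ := h2
    refine hvZ (show ((⟨v, hv⟩ : P) : G) ∈ Z from hmemZ.2 (mem_center_iff.2 fun x => Subtype.ext ?_))
    have hx : (x : G) ∈ centralizer ({v} : Set G) := by
      refine (htop.ge.trans (sup_le (sup_le ?_ ?_) ?_)) x.2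
      · exact zpowers_le.2 (mem_centralizer_singleton_iff.2 rfl)
      · exact fun z hz => mem_centralizer_singleton_iff.2 (hZc z hz v hv).symm
      · exact zpowers_le.2 (mem_centralizer_singleton_iff.2 (commutatorElement_eq_one_iff_mul_comm.1 h1).symm)
    exact mem_centralizer_singleton_iff.1 hx
  -- orbits on lines
  have hact : ∀ k ∈ K, ∀ x ∈ P, k * x * k⁻¹ ∈ P := fun k hk x hx => (mem_normalizer_iff.1 (hKP hk) x).1 hx
  have hfixZ : ∀ k ∈ K, ∀ z ∈ Z, k * z * k⁻¹ = z := fun k hk z hz => by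
    rw [mem_centralizer_iff.1 (hfix hz) k hk, mul_inv_cancel_right]
  have hfix1 : ∀ k ∈ K, ∀ v ∈ P, v ∉ Z → ∀ z ∈ Z, k * v * k⁻¹ = v * z → k = 1 := by
    intro k hk v hv hvZ z hz e
    by_contra hk1
    have hit : ∀ n : ℕ, k ^ n * v * (k ^ n)⁻¹ = v * z ^ n := by
      intro n
      induction n with
      | zero => simp
      | succ n ih =>
        rw [show k ^ (n + 1) * v * (k ^ (n + 1))⁻¹ = k * (k ^ n * v * (k ^ n)⁻¹) * k⁻¹ by rw [pow_succ']; group,
          ih, show k * (v * z ^ n) * k⁻¹ = (k * v * k⁻¹) * (k * z ^ n * k⁻¹) by group, e,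
          hfixZ k hk _ (pow_mem hz n), mul_assoc, ← pow_succ']
    have h := hit (orderOf k)
    rw [pow_orderOf_eq_one, one_mul, inv_one, mul_one] at h
    have hz1 : z ^ orderOf k = 1 := (mul_left_cancel (a := v) (by rw [mul_one]; exact h.symm))
    have hzp : z ^ Nat.card Z = 1 := congrArg Subtype.val (pow_card_eq_one' (x := (⟨z, hz⟩ : Z)))
    have hzc : orderOf z ∣ Nat.gcd (orderOf k) (Nat.card Z) :=
      Nat.dvd_gcd (orderOf_dvd_of_pow_eq_one hz1) (orderOf_dvd_of_pow_eq_one hzp)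
    have hg : Nat.gcd (orderOf k) (Nat.card Z) = 1 := by
      refine Nat.coprime_of_dvd fun q hq h1 h2 => hpK ?_
      have h4 : Nat.card Z = p := by
        rw [hZ, ← map_subtype_commutator, card_map_of_injective P.subtype_injective, hDeq, hi, hi1, pow_one]
      rw [h4] at h2
      exact (Nat.prime_dvd_prime_iff_eq hq hp.out).1 h2 ▸ h1.trans (Subgroup.orderOf_dvd_natCard _ hk)
    rw [hg, Nat.dvd_one, orderOf_eq_one_iff] at hzc
    rw [hzc, mul_one] at e
    exact hvZ (hfpf k hk hk1 ⟨hv, mem_centralizer_singleton_iff.2 (mul_inv_eq_iff_eq_mul.1 e).symm⟩)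
  by_cases hl : ∃ v ∈ P, v ∉ Z ∧ ∀ k ∈ K, ∃ i : ℕ, ∃ z ∈ Z, k * v * k⁻¹ = v ^ i * z
  · obtain ⟨v, hv, hvZ, hv'⟩ := hl
    left
    haveI := hKc
    obtain ⟨k, hk⟩ := IsCyclic.exists_ofOrder_eq_natCard (α := K)
    obtain ⟨i, z, hz, he⟩ := hv' k k.2
    have hit : ∀ n : ℕ, ∃ z' ∈ Z, (k : G) ^ n * v * ((k : G) ^ n)⁻¹ = v ^ (i ^ n) * z' := by
      intro n
      induction n with
      | zero => exact ⟨1, Z.one_mem, by simp⟩
      | succ n ih =>
        obtain ⟨z', hz', e'⟩ := ih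
        refine ⟨z ^ i ^ n * z', Z.mul_mem (pow_mem hz _) hz', ?_⟩
        rw [show (k : G) ^ (n + 1) * v * ((k : G) ^ (n + 1))⁻¹ = k * ((k : G) ^ n * v * ((k : G) ^ n)⁻¹) * (k : G)⁻¹
          by rw [pow_succ']; group, e',
          show (k : G) * (v ^ i ^ n * z') * (k : G)⁻¹ = (k * v ^ i ^ n * (k : G)⁻¹) * (k * z' * (k : G)⁻¹) by group,
          ← conj_pow, he, hfixZ k k.2 z' hz', (show Commute (v ^ i) z from hZc z hz _ (pow_mem hv i)).mul_pow,
          ← pow_mul, ← pow_succ', mul_assoc]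
    by_cases hip : p ∣ i
    · obtain ⟨c, rfl⟩ := hip
      refine absurd ?_ hvZ
      have hkv : (k : G) * v * (k : G)⁻¹ ∈ Z := by
        rw [he, pow_mul]; exact Z.mul_mem (pow_mem (hpow v hv) _) hz
      have h := hfixZ (k : G)⁻¹ (K.inv_mem k.2) _ hkv
      rw [show (k : G)⁻¹ * (k * v * (k : G)⁻¹) * (k : G)⁻¹⁻¹ = v by group] at h
      exact h.symm ▸ hkv
    obtain ⟨z', hz', e'⟩ := hit (p - 1)
    have hf : i ^ (p - 1) ≡ 1 [MOD p] := by
      rw [← Nat.totient_prime hp.out]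
      exact Nat.ModEq.pow_totient ((hp.out.coprime_iff_not_dvd.2 hip).symm)
    obtain ⟨c, hc⟩ : p ∣ i ^ (p - 1) - 1 := (Nat.modEq_iff_dvd' (Nat.one_le_iff_ne_zero.2
      (pow_ne_zero _ (fun h => hip (by rw [h]; exact dvd_zero p))))).1 hf.symm
    have hpe : i ^ (p - 1) = 1 + p * c := by
      rw [← hc]
      exact (Nat.add_sub_cancel' (Nat.one_le_iff_ne_zero.2 (pow_ne_zero _ (fun h => hip (by rw [h]; exact dvd_zero p))))).symm
    rw [hpe, pow_add, pow_one, pow_mul, mul_assoc (a := v)] at e'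
    have h1 := hfix1 _ (pow_mem k.2 (p - 1)) v hv hvZ _ (Z.mul_mem (pow_mem (hpow v hv) c) hz') e'
    rw [← hk, ← Subgroup.orderOf_coe]
    exact orderOf_dvd_of_pow_eq_one h1
  right
  push Not at hl
  -- no element moves a line into itself
  have hfree : ∀ k ∈ K, ∀ v ∈ P, v ∉ Z → (∃ i : ℕ, ∃ z ∈ Z, k * v * k⁻¹ = v ^ i * z) → k = 1 := by
    intro s hs v hv hvZ ⟨i, z, hz, he⟩
    by_contra hs1
    obtain ⟨k, hk, hkv⟩ := hl v hv hvZ
    -- the lines of `v`, `k v k⁻¹` and `k² v k⁻²` are fixed by `s`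
    have hsk : ∀ g ∈ K, s * (g * v * g⁻¹) * s⁻¹ = (g * v * g⁻¹) ^ i * z := by
      intro g hg
      haveI := hKc
      letI := IsCyclic.commGroup (α := K)
      have hc : s * g = g * s := congrArg Subtype.val (mul_comm (⟨s, hs⟩ : K) ⟨g, hg⟩)
      rw [show s * (g * v * g⁻¹) * s⁻¹ = (s * g) * v * (s * g)⁻¹ by group, hc,
        show (g * s) * v * (g * s)⁻¹ = g * (s * v * s⁻¹) * g⁻¹ by group, he,
        show g * (v ^ i * z) * g⁻¹ = (g * v ^ i * g⁻¹) * (g * z * g⁻¹) by group, ← conj_pow, hfixZ g hg z hz]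
    set w := k * v * k⁻¹ with hw
    have hwP : w ∈ P := hact k hk v hv
    have hne : ⁅v, w⁆ ≠ 1 := fun h => by
      have hmem := hline hv hwP hvZ h
      rw [← SetLike.mem_coe, coe_mul_of_left_le_normalizer_right (zpowers v) Z
        (fun g hg => mem_normalizer_iff.2 fun y => by
          have hgP : g ∈ P := zpowers_le.2 hv hg
          exact ⟨fun hy => by rw [hZc y hy g hgP, mul_inv_cancel_right]; exact hy, fun hy => by
            have h := hZc _ hy g⁻¹ (P.inv_mem hgP)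
            have he2 : g⁻¹ * (g * y * g⁻¹) * g = g * y * g⁻¹ := by rw [h]; group
            rw [show g⁻¹ * (g * y * g⁻¹) * g = y by group] at he2
            exact he2.symm ▸ hy⟩)] at hmem
      obtain ⟨a, ha, b, hb, hab⟩ := hmem
      obtain ⟨n, rfl⟩ := (Submonoid.mem_powers_iff _ _).1 ((mem_powers_iff_mem_zpowers).2 ha)
      exact hkv n b hb hab.symm
    have h1 : ⁅v, w⁆ = ⁅v, w⁆ ^ (i * i) := by
      have hc : s * ⁅v, w⁆ * s⁻¹ = ⁅v, w⁆ := hfixZ s hs _ (hcomm v hv w hwP)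
      have hc2 : s * ⁅v, w⁆ * s⁻¹ = ⁅s * v * s⁻¹, s * w * s⁻¹⁆ := by
        rw [commutatorElement_def, commutatorElement_def]; group
      conv_lhs => rw [← hc, hc2, he, hsk k hk]
      rw [hmulZ z hz _ (pow_mem hv i) _ (P.mul_mem (pow_mem hwP i) (hZP hz)), hpowL i v hv _
        (P.mul_mem (pow_mem hwP i) (hZP hz)), ← hswap (w ^ i * z) v, hmulZ z hz _ (pow_mem hwP i) v hv,
        hpowL i w hwP v hv, ← hswap v w]
      simp only [inv_pow, inv_inv]
      rw [← pow_mul]
    have hii : orderOf ⁅v, w⁆ ∣ i * i - 1 := by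
      rcases Nat.eq_zero_or_pos (i * i) with h0 | h0
      · rw [h0, pow_zero] at h1; exact absurd h1 hne
      refine orderOf_dvd_of_pow_eq_one (mul_left_cancel (a := ⁅v, w⁆) ?_)
      rw [mul_one, ← pow_succ', Nat.sub_add_cancel h0]
      exact h1.symm
    have hpo : p ∣ orderOf ⁅v, w⁆ := by
      have hd : orderOf ⁅v, w⁆ ∣ p ^ 3 := hP ▸ Subgroup.orderOf_dvd_natCard _ (hZP (hcomm v hv w hwP))
      obtain ⟨l, -, hl'⟩ := (Nat.dvd_prime_pow hp.out).1 hd
      rw [hl']
      exact dvd_pow_self p fun e => hne (orderOf_eq_one_iff.1 (by rw [hl', e, pow_zero]))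
    have hp_ii : p ∣ i * i - 1 := hpo.trans hii
    -- so `s²` fixes the line of `v` pointwise, and `s` has odd order
    have hs2 : s * s = 1 := by
      refine hfix1 _ (K.mul_mem hs hs) v hv hvZ ((v ^ p) ^ ((i * i - 1) / p) * (z ^ i * z)) ?_ ?_
      · exact Z.mul_mem (pow_mem (hpow v hv) _) (Z.mul_mem (pow_mem hz _) hz)
      · rw [show (s * s) * v * (s * s)⁻¹ = s * (s * v * s⁻¹) * s⁻¹ by group, he,
          show s * (v ^ i * z) * s⁻¹ = (s * v ^ i * s⁻¹) * (s * z * s⁻¹) by group, ← conj_pow, he, hfixZ s hs z hz,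
          (show Commute (v ^ i) z from hZc z hz _ (pow_mem hv i)).mul_pow, ← pow_mul, ← pow_mul,
          Nat.mul_div_cancel' hp_ii]
        rcases Nat.eq_zero_or_pos (i * i) with h0 | h0
        · rw [h0, pow_zero] at h1; exact absurd h1 hne
        conv_lhs => rw [show i * i = (i * i - 1) + 1 by omega, pow_succ']
        rw [mul_assoc, mul_assoc]
    refine hs1 (orderOf_eq_one_iff.1 (Nat.dvd_one.1 ?_))
    have hd2 : orderOf s ∣ 2 := orderOf_dvd_of_pow_eq_one (by rw [pow_two, hs2])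
    rcases (Nat.dvd_prime Nat.prime_two).1 hd2 with h | h
    · rw [h]
    · obtain ⟨c, hc⟩ := hKodd
      have := h ▸ Subgroup.orderOf_dvd_natCard _ hs
      omega
  -- count the lines
  have hZc4 : Nat.card Z = p := by
    rw [hZ, ← map_subtype_commutator, card_map_of_injective P.subtype_injective, hDeq, hi, hi1, pow_one]
  set D : Set G := (P : Set G) \ (Z : Set G) with hD
  let f : G → Subgroup G := fun v => zpowers v ⊔ Z
  have hfle : ∀ {v : G}, v ∈ P → f v ≤ P := fun hv => sup_le (zpowers_le.2 hv) hZP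
  have hnorm : ∀ {v : G}, v ∈ P → zpowers v ≤ normalizer (Z : Set G) := fun {v} hv g hg => by
    have hgP : g ∈ P := zpowers_le.2 hv hg
    exact mem_normalizer_iff.2 fun y => ⟨fun hy => by rw [hZc y hy g hgP, mul_inv_cancel_right]; exact hy,
      fun hy => by
        have h := hZc _ hy g⁻¹ (P.inv_mem hgP)
        have he2 : g⁻¹ * (g * y * g⁻¹) * g = g * y * g⁻¹ := by rw [h]; group
        rw [show g⁻¹ * (g * y * g⁻¹) * g = y by group] at he2
        exact he2.symm ▸ hy⟩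
  have hmemf : ∀ {v x : G}, v ∈ P → x ∈ f v → ∃ n : ℕ, ∃ z ∈ Z, x = v ^ n * z := by
    intro v x hv hx
    rw [← SetLike.mem_coe, coe_mul_of_left_le_normalizer_right (zpowers v) Z (hnorm hv)] at hx
    obtain ⟨a, ha, b, hb, rfl⟩ := hx
    obtain ⟨n, rfl⟩ := (Submonoid.mem_powers_iff _ _).1 ((mem_powers_iff_mem_zpowers).2 ha)
    exact ⟨n, b, hb, rfl⟩
  have hfeq : ∀ {v x : G}, v ∈ D → x ∈ D → x ∈ f v → f x = f v := by
    intro v x hv hx hxv
    refine le_antisymm (sup_le (zpowers_le.2 hxv) le_sup_right) ?_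
    refine sup_le (zpowers_le.2 ?_) le_sup_right
    refine hline hx.1 hv.1 hx.2 (commutatorElement_eq_one_iff_mul_comm.2 ?_)
    obtain ⟨n, z, hz, rfl⟩ := hmemf hv.1 hxv
    rw [mul_assoc, ← hZc z hz v hv.1, ← mul_assoc, ← mul_assoc, ← pow_succ, pow_succ']
  have hcs : ∀ H : Subgroup G, Nat.card H = (H : Set G).ncard := fun H => Nat.card_coe_set_eq (H : Set G)
  let Λ : Set (Subgroup G) := f '' D
  haveI : Fintype Λ := Fintype.ofFinite Λ
  let act : MulAction K Λ :=
    { smul := fun k L => ⟨(L : Subgroup G).map (MulAut.conj (k : G)).toMonoidHom, by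
        obtain ⟨v, hv, e⟩ := L.2
        refine ⟨k * v * (k : G)⁻¹, ⟨hact k k.2 v hv.1, fun h => hv.2 ?_⟩, ?_⟩
        · have h2 := hfixZ (k : G)⁻¹ (K.inv_mem k.2) _ h
          rw [show (k : G)⁻¹ * (k * v * (k : G)⁻¹) * (k : G)⁻¹⁻¹ = v by group] at h2
          exact h2.symm ▸ h
        · rw [← e, Subgroup.map_sup, MonoidHom.map_zpowers]
          refine congrArg₂ (· ⊔ ·) rfl (le_antisymm ?_ ?_)
          · exact fun z hz => ⟨z, hz, hfixZ k k.2 z hz⟩
          · rintro _ ⟨z, hz, rfl⟩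
            show (k : G) * z * (k : G)⁻¹ ∈ Z
            rw [hfixZ k k.2 z hz]; exact hz⟩
      one_smul := fun L => Subtype.ext (by
        show (L : Subgroup G).map (MulAut.conj ((1 : K) : G)).toMonoidHom = L
        rw [OneMemClass.coe_one, map_one]
        exact map_id _)
      mul_smul := fun a b L => Subtype.ext (by
        show (L : Subgroup G).map (MulAut.conj ((a * b : K) : G)).toMonoidHom = _
        rw [Subgroup.coe_mul, ← TH.map_conj_map_conj]
        rfl) }
  have hst : ∀ L : Λ, MulAction.stabilizer K L = ⊥ := by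
    intro L
    refine (eq_bot_iff_forall _).2 fun k hk => Subtype.ext ?_
    obtain ⟨v, hv, e⟩ := L.2
    have he : (L : Subgroup G).map (MulAut.conj (k : G)).toMonoidHom = L := congrArg Subtype.val hk
    refine hfree k k.2 v hv.1 hv.2 ?_
    refine hmemf hv.1 ?_
    rw [e]
    exact he ▸ mem_map_of_mem _ (e ▸ (mem_sup_left (mem_zpowers v) : v ∈ f v))
  have hdiv : Nat.card K ∣ Nat.card Λ := by
    rw [Nat.card_congr (MulAction.selfEquivOrbitsQuotientProd hst), Nat.card_prod]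
    exact dvd_mul_left _ _
  -- the size of a punctured line
  have hcardL : ∀ v ∈ D, Nat.card (f v) = p ^ 2 := by
    intro v hv
    obtain ⟨a, ha⟩ := IsPGroup.iff_card.1 (hPp.to_le (hfle hv.1))
    have h1 : Z < f v := lt_of_le_of_ne le_sup_right fun e => hv.2 (e.symm ▸ mem_sup_left (mem_zpowers v))
    have h1' : Nat.card Z < Nat.card (f v) := by
      rw [hcs Z, hcs (f v)]
      exact Set.ncard_lt_ncard (SetLike.coe_ssubset_coe.2 h1) (Set.toFinite _)
    have h2 : Nat.card (f v) < p ^ 3 := by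
      rw [← hP]
      refine lt_of_le_of_ne (card_le_of_le (hfle hv.1)) fun e => hnab ?_
      have hfP : f v = P := eq_of_le_of_card_ge (hfle hv.1) e.ge
      refine ⟨⟨fun a b => Subtype.ext ?_⟩⟩
      obtain ⟨n, z, hz, ha'⟩ := hmemf hv.1 (hfP.ge a.2)
      obtain ⟨m, z', hz', hb'⟩ := hmemf hv.1 (hfP.ge b.2)
      have hab : Commute (a : G) b := by
        rw [ha', hb']
        exact ((Commute.pow_pow_self v n m).mul_right (hZc z' hz' _ (pow_mem hv.1 n))).mul_left
          ((hZc z hz _ (P.mul_mem (pow_mem hv.1 m) (hZP hz'))).symm)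
      exact hab.eq
    rw [hZc4, ha] at h1'
    rw [ha] at h2 ⊢
    have ha3 : a < 3 := (Nat.pow_lt_pow_iff_right hp.out.one_lt).1 h2
    have ha1 : 1 < a := (Nat.pow_lt_pow_iff_right hp.out.one_lt).1 (by rwa [pow_one])
    rw [show a = 2 by omega]
  have hDc : Nat.card D + p = p ^ 3 := by
    rw [← hP, ← hZc4, Nat.card_coe_set_eq, hcs Z, hcs P]
    exact Set.ncard_diff_add_ncard_of_subset hZP
  let e : D ≃ Σ L : Λ, {x : G // x ∈ (L : Subgroup G) ∧ x ∉ Z} :=
    { toFun := fun x => ⟨⟨f x, x, x.2, rfl⟩, x, mem_sup_left (mem_zpowers _), x.2.2⟩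
      invFun := fun y => ⟨y.2, by
        obtain ⟨v, hv, e⟩ := y.1.2
        have hle : (y.1 : Subgroup G) ≤ P := le_trans (le_of_eq e.symm) (hfle hv.1)
        exact ⟨hle y.2.2.1, y.2.2.2⟩⟩
      left_inv := fun x => rfl
      right_inv := fun y => by
        obtain ⟨⟨L, v, hv, rfl⟩, x, hx, hxZ⟩ := y
        exact Sigma.subtype_ext (Subtype.ext (hfeq hv ⟨hfle hv.1 hx, hxZ⟩ hx)) rfl }
  have hfib : ∀ L : Λ, Nat.card {x : G // x ∈ (L : Subgroup G) ∧ x ∉ Z} + p = p ^ 2 := by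
    rintro ⟨L, v, hv, rfl⟩
    rw [← hcardL v hv, ← hZc4, hcs Z, hcs (f v)]
    refine Eq.trans ?_ (Set.ncard_diff_add_ncard_of_subset (s := (Z : Set G)) (t := ((f v : Subgroup G) : Set G))
      (le_sup_right : Z ≤ f v))
    rw [← Nat.card_coe_set_eq]
    rfl
  have hcount : Nat.card Λ * (p ^ 2 - p) = p ^ 3 - p := by
    have h := Nat.card_congr e
    rw [Nat.card_sigma] at h
    have hc : ∀ L : Λ, Nat.card {x : G // x ∈ (L : Subgroup G) ∧ x ∉ Z} = p ^ 2 - p := fun L =>
      Nat.eq_sub_of_add_eq (hfib L)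
    rw [Finset.sum_congr rfl (fun L _ => hc L), Finset.sum_const, Finset.card_univ, smul_eq_mul,
      ← Nat.card_eq_fintype_card] at h
    rw [← h]
    exact Nat.eq_sub_of_add_eq hDc
  have hlt : p < p ^ 2 := by
    calc p = p ^ 1 := (pow_one p).symm
      _ < p ^ 2 := Nat.pow_lt_pow_right hp.out.one_lt (by norm_num)
  have hΛ : Nat.card Λ = p + 1 := by
    refine Nat.eq_of_mul_eq_mul_right (Nat.sub_pos_of_lt hlt) (hcount.trans ?_)
    refine Nat.sub_eq_of_eq_add ?_
    obtain ⟨q, hq⟩ := Nat.exists_eq_add_of_le hlt.le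
    rw [show p ^ 2 - p = q by omega]
    have : p ^ 3 = p * (p + q) := by rw [← hq]; ring
    have h2 : p * p = p + q := by rw [← hq]; ring
    rw [this]
    calc p * (p + q) = p * p + p * q := by ring
      _ = p + q + p * q := by rw [h2]
      _ = (p + 1) * q + p := by ring
  exact hΛ ▸ hdiv

end CfsgLib.OddLocal.Kap
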