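import Cfsg.Agent.OddLocal.SigmaMeet

/-!
Subgroups all of whose primes lie in `σ(M)` are conjugate into `M_σ`.
-/

set_option autoImplicit false
set_option linter.style.haveILetI false
set_option linter.unusedSectionVars false

namespace CfsgLib.OddLocal.Tau

open Subgroup Cfsg CfsgLib.OddLocal
open scoped commutatorElement Pointwise

universe u

variable {G : Type u} [Group G] [Finite G]

/-- Conjugates of elementary abelian subgroups are elementary abelian. -/
theorem elementary_map {q : ℕ} {A : Subgroup G} (hA : Cfsg.IsElementaryAbelian q A) (f : G →* G) :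
    Cfsg.IsElementaryAbelian q (A.map f) := by
  haveI := hA.1
  refine ⟨Subgroup.map_isMulCommutative _ _, ?_⟩
  rintro _ ⟨a, ha, rfl⟩
  rw [← map_pow, hA.2 a ha, map_one]

/-- Transfer of an invariant full `r`-subgroup into `M`. -/
theorem invariant_transfer {r : ℕ} [Fact r.Prime] {M A R R' : Subgroup G} (hR : IsPGroup r R) (hRd : ¬ r ∣ R.index)
    (hR' : IsPGroup r R') (hR'd : ¬ r ∣ R'.index) (hR'M : R' ≤ M) (hAR' : A ≤ normalizer (R' : Set G))
    (hNA : normalizer (A : Set G) ≤ M)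
    (hconj : ∀ g : G, A.map (MulAut.conj g).toMonoidHom ≤ normalizer (R : Set G) →
      ∃ n ∈ normalizer (R : Set G), A.map (MulAut.conj g).toMonoidHom = A.map (MulAut.conj n).toMonoidHom) :
    R ≤ M := by
  obtain ⟨h, hh⟩ := MulAction.exists_smul_eq G (hR.toSylow hRd) (hR'.toSylow hR'd)
  have e : R.map (MulAut.conj h).toMonoidHom = R' := by
    have h1 := congrArg Sylow.toSubgroup hh
    rw [← CfsgLib.SZ.conj_smul_eq_map]
    exact h1
  have hle : A.map (MulAut.conj h⁻¹).toMonoidHom ≤ normalizer (R : Set G) := by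
    rintro _ ⟨a, ha, rfl⟩
    have h2 : R'.map (MulAut.conj a).toMonoidHom = R' := mem_normalizer_iff_map_conj_eq.1 (hAR' ha)
    refine mem_normalizer_iff_map_conj_eq.2 ?_
    show R.map (MulAut.conj (h⁻¹ * a * h⁻¹⁻¹)).toMonoidHom = R
    rw [← TH.map_conj_map_conj, ← TH.map_conj_map_conj, inv_inv, e, h2, ← e, Uniq.map_conj_inv]
  obtain ⟨n, hn, hne⟩ := hconj h⁻¹ hle
  have hnR : R.map (MulAut.conj n).toMonoidHom = R := mem_normalizer_iff_map_conj_eq.1 hn
  have hhn : h * n ∈ normalizer (A : Set G) := by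
    refine mem_normalizer_iff_map_conj_eq.2 ?_
    show A.map (MulAut.conj (h * n)).toMonoidHom = A
    rw [← TH.map_conj_map_conj, ← hne, TH.map_conj_map_conj, mul_inv_cancel]
    ext y
    simp
  intro x hx
  have h3 : (h * n) * x * (h * n)⁻¹ ∈ R' := by
    rw [← e, ← hnR, TH.map_conj_map_conj]
    exact ⟨x, hx, rfl⟩
  simpa [mul_assoc] using mul_mem (mul_mem (inv_mem (hNA hhn)) (hR'M h3)) (hNA hhn)

variable (hG : Cfsg.IsMinSimpleOddOrder G)
include hG

/-- Invariant Sylow subgroups of `G` inside `M_σ`. -/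
theorem exists_invariant_sigma {q r : ℕ} [hq : Fact q.Prime] [hr : Fact r.Prime] {M A : Subgroup G}
    (hM : IsCoatom M) (hqσ : q ∈ Cfsg.sigma M) (hqβ : q ∉ Cfsg.beta M) (hrσ : r ∈ Cfsg.sigma M) (hrq : r ≠ q)
    (hA : IsPGroup q A) (hAM : A ≤ M) :
    ∃ R : Subgroup G, R ≤ Cfsg.sigmaCore M ∧ IsPGroup r R ∧ A ≤ normalizer (R : Set G) ∧ ¬ r ∣ R.index := by
  set K := Cfsg.sigmaCore M
  set O := Excep.opc q K
  have hAO : A ≤ normalizer (O : Set G) :=
    hAM.trans ((TH.le_normalizer_core M).trans (Excep.normalizer_le_normalizer_opc q K))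
  obtain ⟨R, -, hRO, hR, hAR, hRd⟩ := Excep.exists_inv_sylow (t := r) hAO
    (Excep.coprime_of_pgroup hA (hq.out.coprime_iff_not_dvd.1 (Excep.opc_coprime q K).symm))
    (Or.inl (hG.2.2.2 A (ne_top_of_le_ne_top hM.1 hAM))) bot_le IsPGroup.of_bot le_normalizer_of_normal
  obtain ⟨k, hk⟩ := Beta.npc_index (Beta.npc_sigma hG hM hq.out hqσ.2.1 hqβ)
  refine ⟨R, hRO.trans (Excep.opc_le q K), hR, hAR, Excep.index_not_dvd hRO hRd ?_⟩
  refine Excep.index_not_dvd (Excep.opc_le q K) ?_ ((Sig.sigma_core hG hM).2.1.2 r hr.out hrσ)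
  rw [relIndex, Excep.opc_subgroupOf, hk]
  exact fun h => hrq ((Nat.prime_dvd_prime_iff_eq hr.out hq.out).1 (hr.out.dvd_of_dvd_pow h))

/-- Frattini argument over `L_α` for a prime of `σ(L)`. -/
theorem frattini_alpha {q : ℕ} [hq : Fact q.Prime] {L S : Subgroup G} (hL : IsCoatom L) (hqσ : q ∈ Cfsg.sigma L)
    (hS : IsPGroup q S) (hSL : S ≤ L) (hd : ¬ q ∣ S.relIndex L) :
    L ≤ Cfsg.alphaCore L ⊔ (L ⊓ normalizer (S : Set G)) := by
  classical
  have hαL : Cfsg.alphaCore L ≤ L := map_subtype_le _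
  have hαn : L ≤ normalizer (Cfsg.alphaCore L : Set G) := TH.le_normalizer_core L
  have hL' : ⁅L, L⁆ ≤ L := commutator_le_self L
  have hSd : S ≤ ⁅L, L⁆ := Sig.le_derived hG hL hqσ hS hSL
  set N := Cfsg.alphaCore L ⊔ S with hN
  have hNd : N ≤ ⁅L, L⁆ :=
    sup_le ((Sig.alphaCore_le_sigmaCore hG hL).trans (Sig.sigma_core hG hL).2.2) hSd
  have hder : ⁅L, L⁆ ≤ normalizer (N : Set G) := by
    refine Excep.le_of_sylows fun r hr hrd => ?_
    haveI := Fact.mk hr
    by_cases hrq : r = q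
    · subst hrq
      refine ⟨S, le_inf hSd ((le_sup_right : S ≤ N).trans le_normalizer), fun h => hd ?_⟩
      exact h.trans (Dvd.intro _ (relIndex_mul_relIndex S ⁅L, L⁆ L hSd hL'))
    · obtain ⟨T⟩ : Nonempty (Sylow r ↥⁅L, L⁆) := inferInstance
      refine ⟨(T : Subgroup ↥⁅L, L⁆).map _, le_inf (map_subtype_le _) ?_, by
        rw [relIndex, ← comap_subtype, comap_map_eq_self_of_injective (⁅L, L⁆).subtype_injective]
        exact T.not_dvd_index⟩
      have hc : ⁅S, (T : Subgroup ↥⁅L, L⁆).map ⁅L, L⁆.subtype⁆ ≤ Cfsg.alphaCore L :=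
        Excep.commutator_le_alphaCore hG hL hSd (map_subtype_le _)
          (IsPGroup.coprime_card_of_ne q r (Ne.symm hrq) _ _ hS (T.2.map _))
      intro t ht
      refine Uniq.mem_normalizer_of_map_le ?_
      rw [hN, Subgroup.map_sup]
      refine sup_le (le_trans (le_of_eq ?_) le_sup_left) ?_
      · exact mem_normalizer_iff_map_conj_eq.1 (hαn (hL' ((map_subtype_le _) ht)))
      · rintro _ ⟨s, hs, rfl⟩
        show t * s * t⁻¹ ∈ Cfsg.alphaCore L ⊔ S
        have h1 : ⁅s⁻¹, t⁆ ∈ Cfsg.alphaCore L := hc (commutator_mem_commutator (inv_mem hs) ht)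
        have e : t * s * t⁻¹ = s * ⁅s⁻¹, t⁆ := by rw [commutatorElement_def]; group
        rw [e]
        exact mul_mem (mem_sup_right hs) (mem_sup_left h1)
  have hNn : L ≤ normalizer (N : Set G) := by
    intro g hg
    refine Uniq.mem_normalizer_of_map_le ?_
    have e : (⁅L, L⁆ : Subgroup G).map (MulAut.conj g).toMonoidHom = ⁅L, L⁆ :=
      mem_normalizer_iff_map_conj_eq.1 (normalizer_commutator_ge_left L L hg)
    have hSg : S.map (MulAut.conj g).toMonoidHom ≤ N := by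
      refine Excep.le_of_hall hNd hder ((map_mono hSd).trans e.le) (Excep.coprime_of_pgroup (hS.map _) fun h => hd ?_)
      exact (h.trans (relIndex_dvd_of_le_left _ (le_sup_right : S ≤ N))).trans
        (Dvd.intro _ (relIndex_mul_relIndex S ⁅L, L⁆ L hSd hL'))
    rw [hN, Subgroup.map_sup]
    exact sup_le ((le_of_eq (mem_normalizer_iff_map_conj_eq.1 (hαn hg))).trans le_sup_left) hSg
  have hfr := Excep.frattini_le (hNd.trans hL') hNn (le_sup_right : S ≤ N) hS fun h =>
    hd (h.trans (Dvd.intro _ (relIndex_mul_relIndex S N L le_sup_right (hNd.trans hL'))))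
  refine hfr.trans (sup_le (sup_le le_sup_left ?_) le_sup_right)
  exact (le_inf hSL le_normalizer).trans le_sup_right

omit hG in
/-- Subgroups with primes in `π` of a solvable product `K H` are conjugate into `H` when `K` has none. -/
theorem conj_into_of_product {π : Set ℕ} {L H K Y : Subgroup G} (hs : Group.IsSolvable L) (hH : H ≤ L) (hK : K ≤ L)
    (hn : L ≤ normalizer (K : Set G)) (hLe : L ≤ K ⊔ H) (hKπ : ∀ r : ℕ, r.Prime → r ∈ π → ¬ r ∣ Nat.card K)
    (hY : Y ≤ L) (hYπ : ∀ r : ℕ, r.Prime → r ∣ Nat.card Y → r ∈ π) :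
    ∃ g ∈ L, Y.map (MulAut.conj g).toMonoidHom ≤ H := by
  obtain ⟨W, hW⟩ := CfsgLib.InvariantHall.exists_isPiHallOf (π := π)
    (haveI := hs; solvable_of_solvable_injective (inclusion_injective hH))
  have hHK : H.relIndex L ∣ Nat.card K := by
    have h1 := CfsgLib.Solvable.card_sup_mul_card_inf (hH.trans hn)
    have e : H ⊔ K = L := le_antisymm (sup_le hH hK) (hLe.trans (le_of_eq (sup_comm _ _)))
    rw [e] at h1
    refine Dvd.intro (Nat.card ↥(H ⊓ K)) ?_ |>.trans dvd_rfl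
    have h2 := CfsgLib.InvariantHall.relIndex_mul_card hH
    refine Nat.eq_of_mul_eq_mul_left (Nat.card_pos (α := H)) ?_
    rw [← h1, ← h2]; ring
  have hWL : Cfsg.IsPiHallOf π W L := by
    refine ⟨hW.1.trans hH, hW.2.1, fun r hr hrπ hd => ?_⟩
    rw [← relIndex_mul_relIndex W H L hW.1 hH] at hd
    rcases hr.dvd_mul.1 hd with h | h
    · exact hW.2.2 r hr hrπ h
    · exact hKπ r hr hrπ (h.trans hHK)
  haveI := hs
  obtain ⟨X, hXc, hX⟩ := CfsgLib.Hall.hall (G := L) (a := Nat.card W) (b := W.relIndex L)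
    (CfsgLib.InvariantHall.relIndex_mul_card hWL.1).symm (CfsgLib.InvariantHall.coprime_of_isPiHallOf hWL)
  obtain ⟨g₁, hg₁⟩ := hX (Y.subgroupOf L) (by
    rw [Nat.card_congr (subgroupOfEquivOfLe hY).toEquiv]
    exact Nat.coprime_of_dvd fun r hr h1 h2 => hWL.2.2 r hr (hYπ r hr h1) h2)
  obtain ⟨g₂, hg₂⟩ := CfsgLib.Hall.hall_conj (G := L) (a := Nat.card W) (b := W.relIndex L)
    (CfsgLib.InvariantHall.relIndex_mul_card hWL.1).symm (CfsgLib.InvariantHall.coprime_of_isPiHallOf hWL)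
    hXc (Nat.card_congr (subgroupOfEquivOfLe hWL.1).toEquiv)
  refine ⟨g₂ * g₁, (g₂ * g₁).2, ?_⟩
  rintro _ ⟨y, hy, rfl⟩
  have h2 : MulAut.conj (g₂ * g₁) • (⟨y, hY hy⟩ : L) ∈ W.subgroupOf L := by
    rw [map_mul, mul_smul, ← hg₂]
    exact smul_mem_pointwise_smul _ _ _ (hg₁ (smul_mem_pointwise_smul _ _ _ hy))
  exact hW.1 h2

/-- No prime of `σ(M)` divides a suitable normal complement in another maximal subgroup. -/
theorem exists_product {q : ℕ} [hq : Fact q.Prime] {M L S : Subgroup G} (hM : IsCoatom M)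
    (hqσ : q ∈ Cfsg.sigma M) (hL : IsCoatom L) (hne : L ≠ M) (hS : IsPGroup q S) (hSM : S ≤ M) (hSL : S ≤ L)
    (hSd : ¬ q ∣ S.relIndex L) (hS1 : S ≠ ⊥) (hcyc : IsCyclic S → normalizer (S : Set G) ≤ L ∧ ¬ q ∣ S.index) :
    ∃ K : Subgroup G, K ≤ Cfsg.sigmaCore L ∧ K ≤ L ∧ L ≤ normalizer (K : Set G) ∧ L ≤ K ⊔ (M ⊓ L) ∧
      (q ∈ Cfsg.sigma L ∨ Cfsg.sigmaCore L ⊓ M = ⊥) ∧
      ∀ r : ℕ, r.Prime → r ∈ Cfsg.sigma M → ¬ r ∣ Nat.card K := by
  classical
  have hq2 : q ≠ 2 := CfsgLib.CN.MinSimple.p_ne_two hG (hqσ.2.1.trans M.card_subgroup_dvd_card)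
  have hqL : q ∣ Nat.card L := (Excep.isPGroup_ne_bot_dvd hS hS1).trans (card_dvd_of_le hSL)
  by_cases hqL' : q ∈ Cfsg.sigma L
  · have hd : ¬ q ∣ S.index := Excep.index_not_dvd hSL hSd (Sig.not_dvd_index hqL')
    have hr : Cfsg.PRankLE q 2 S := by
      by_contra h
      exact hne (Uniq.eq_of (UThm.rank_three_unique hG hS h) hL hSL hM hSM)
    have hαM : q ∉ Cfsg.alpha M := fun h => Excep.rank_of_full hS hd h hr
    have hαL : q ∉ Cfsg.alpha L := fun h => Excep.rank_of_full hS hd h hr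
    refine ⟨Cfsg.alphaCore L, Sig.alphaCore_le_sigmaCore hG hL, map_subtype_le _, TH.le_normalizer_core L,
      (frattini_alpha hG hL hqL' hS hSL hSd).trans (sup_le_sup_left (le_inf (inf_le_right.trans
        (Sig.normalizer_sylow_le hqσ (hS.toSylow hd) hSM)) inf_le_left) _), Or.inl hqL', fun r hr' hrσ hdvd => ?_⟩
    haveI := Fact.mk hr'
    have hrα : r ∈ Cfsg.alpha L := (Sig.alpha_core hG hL).1.2.1 r hr' hdvd
    have hrq : r ≠ q := fun e => hαL (e ▸ hrα)
    obtain ⟨R, -, hRK, hR, hSR, hRd⟩ := Excep.exists_inv_sylow (t := r) (K := Cfsg.alphaCore L)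
      (hSL.trans (TH.le_normalizer_core L))
      (Excep.coprime_of_pgroup hS fun h => hαL ((Sig.alpha_core hG hL).1.2.1 q hq.out h))
      (Or.inl (hG.2.2.2 S (ne_top_of_le_ne_top hM.1 hSM))) bot_le IsPGroup.of_bot le_normalizer_of_normal
    have hRi : ¬ r ∣ R.index := Excep.index_not_dvd hRK hRd ((Sig.alpha_hall hG hL).2 r hr' hrα)
    have hRL : R ≤ L := hRK.trans (map_subtype_le _)
    obtain ⟨R', hR'K, hR', hSR', hR'd⟩ := exists_invariant_sigma hG hM hqσ (fun h => hαM h.1) hrσ hrq hS hSM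
    have hRM : R ≤ M := invariant_transfer hR hRi hR' hR'd (hR'K.trans (map_subtype_le _)) hSR'
      (Sig.normalizer_sylow_le hqσ (hS.toSylow hd) hSM) fun g hg => by
        have hd1 : ¬ q ∣ (S.subgroupOf (normalizer (R : Set G))).index := fun h =>
          hd (h.trans (Dvd.intro _ (relIndex_mul_index hSR)))
        have hd2 : ¬ q ∣ ((S.map (MulAut.conj g).toMonoidHom).subgroupOf (normalizer (R : Set G))).index := fun h =>
          hd (by rw [← index_map_equiv S (MulAut.conj g)]; exact h.trans (Dvd.intro _ (relIndex_mul_index hg)))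
        obtain ⟨n, hn⟩ := MulAction.exists_smul_eq (normalizer (R : Set G))
          ((hS.comap_subtype (K := normalizer (R : Set G))).toSylow hd1)
          (((hS.map _).comap_subtype (K := normalizer (R : Set G))).toSylow hd2)
        refine ⟨n, n.2, ?_⟩
        have h1 : MulAut.conj n • (S.subgroupOf (normalizer (R : Set G))) =
            (S.map (MulAut.conj g).toMonoidHom).subgroupOf (normalizer (R : Set G)) := congrArg Sylow.toSubgroup hn
        have h2 := congrArg (Subgroup.map (normalizer (R : Set G)).subtype) h1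
        rw [CfsgLib.SZ.conj_smul_map, map_subgroupOf_eq_of_le hSR, map_subgroupOf_eq_of_le hg,
          CfsgLib.SZ.conj_smul_eq_map] at h2
        exact h2.symm
    have hu := UThm.rank_three_unique hG hR (Excep.rank_of_full hR hRi hrα)
    exact hne (Uniq.eq_of hu hL hRL hM hRM)
  · have hnc : ¬ IsCyclic S := fun h => hqL' (Excep.mem_sigma_of_sylow (hS.toSylow (hcyc h).2) hSL (hcyc h).1 hqL)
    obtain ⟨A, hAS, hA, hA2⟩ := Uniq.exists_sq hq2 hS hnc
    have hAL : A ≤ L := hAS.trans hSL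
    have hAM : A ≤ M := hAS.trans hSM
    have hr2 : Cfsg.PRankLE q 2 L := by
      by_contra h
      exact hqL' (Sig.alpha_subset_sigma hG hL ⟨hq.out, h⟩)
    have hmax : ∀ B : Subgroup G, Cfsg.IsElementaryAbelian q B → A ≤ B → B = A := fun B hB hAB => by
      have hBC : B ≤ centralizer (A : Set G) := fun b hb => mem_centralizer_iff.2 fun a ha =>
        CfsgLib.Signalizer.commute hB (hAB ha) hb
      exact (eq_of_le_of_card_ge hAB ((Uniq.rankLE_elementary hr2
        (hBC.trans (centralizer_le_coatom hG hA hA2 hL hAL)) hB).trans hA2.ge)).symm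
    have hNA : normalizer (A : Set G) ≤ M :=
      normalizer_le_of_noncyclic hG hM hqσ (IsPGroup.of_card hA2) hAM (CfsgLib.Signalizer.not_isCyclic hA hA2.ge)
    have hqβ : q ∉ Cfsg.beta M := fun hβ => by
      obtain ⟨T, hT⟩ := (IsPGroup.of_card hA2 : IsPGroup q A).exists_le_sylow
      obtain ⟨B, -, hB, hlt⟩ := hβ.2.2.2 T A hT hA hA2
      exact hlt.ne' (hmax B hB hlt.le)
    obtain ⟨E, hE, hAE⟩ := exists_complement_over hG hA hA2 hL hAL hqL' hmax
    have hEN := complement_normalizes hG hA hA2 hL hAL hqL' hmax hE hAE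
    refine ⟨Cfsg.sigmaCore L, le_rfl, map_subtype_le _, TH.le_normalizer_core L, fun x hx => ?_,
      Or.inr (inter_eq_bot hG hA hA2 hL hAL hqL' hmax hM (Ne.symm hne) hAM), fun r hr' hrσ hdvd => ?_⟩
    · obtain ⟨a, ha, b, hb, rfl⟩ := hE.2.2.2 x hx
      exact mul_mem (mem_sup_right ⟨hNA (hEN ha), hE.1 ha⟩) (mem_sup_left hb)
    haveI := Fact.mk hr'
    have hrσL : r ∈ Cfsg.sigma L := (Sig.sigma_core hG hL).1.2.1 r hr' hdvd
    have hrq : r ≠ q := fun e => hqL' (e ▸ hrσL)
    have hbot := inter_eq_bot hG hA hA2 hL hAL hqL' hmax hM (Ne.symm hne) hAM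
    obtain ⟨R, -, hRK, hR, hAR, hRd⟩ := Excep.exists_inv_sylow (t := r) (K := Cfsg.sigmaCore L)
      (hAL.trans (TH.le_normalizer_core L))
      (Excep.coprime_of_pgroup (IsPGroup.of_card hA2) (not_dvd_sigmaCore hG hL hqL'))
      (Or.inl (hG.2.2.2 A (ne_top_of_le_ne_top hM.1 hAM))) bot_le IsPGroup.of_bot le_normalizer_of_normal
    have hRi : ¬ r ∣ R.index := Excep.index_not_dvd hRK hRd ((Sig.sigma_core hG hL).2.1.2 r hr' hrσL)
    have hRL : R ≤ L := hRK.trans (map_subtype_le _)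
    obtain ⟨R', hR'K, hR', hAR', hR'd⟩ :=
      exists_invariant_sigma hG hM hqσ hqβ hrσ hrq (IsPGroup.of_card hA2) hAM
    have hNR : normalizer (R : Set G) ≤ L := Sig.normalizer_sylow_le hrσL (hR.toSylow hRi) hRL
    have hRM : R ≤ M := invariant_transfer hR hRi hR' hR'd (hR'K.trans (map_subtype_le _)) hAR' hNA fun g hg => by
      obtain ⟨T, hT⟩ := ((IsPGroup.of_card hA2 : IsPGroup q A).comap_subtype
        (K := normalizer (R : Set G))).exists_le_sylow
      obtain ⟨T', hT'⟩ := (((IsPGroup.of_card hA2 : IsPGroup q A).map (MulAut.conj g).toMonoidHom).comap_subtype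
        (K := normalizer (R : Set G))).exists_le_sylow
      obtain ⟨n, hn⟩ := MulAction.exists_smul_eq (normalizer (R : Set G)) T T'
      set U := (T' : Subgroup ↥(normalizer (R : Set G))).map (normalizer (R : Set G)).subtype
      have h1 : A.map (MulAut.conj g).toMonoidHom ≤ U := by
        rw [← map_subgroupOf_eq_of_le hg]
        exact map_mono hT'
      have h2 : A.map (MulAut.conj (n : G)).toMonoidHom ≤ U := by
        rintro _ ⟨a, ha, rfl⟩
        refine mem_map.2 ⟨MulAut.conj n ⟨a, hAR ha⟩, ?_, rfl⟩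
        rw [← hn, Sylow.coe_subgroup_smul]
        exact smul_mem_pointwise_smul _ _ _ (hT (show (⟨a, hAR ha⟩ : normalizer (R : Set G)) ∈ _ from ha))
      have hUL : U ≤ L := (map_subtype_le _).trans hNR
      have hUc := commutative_of_not_sigma hG hL hqL' (T'.2.map _) hUL
      have hrU : Cfsg.PRankLE q 2 U := Uniq.rankLE_mono hUL hr2
      have hinj : ∀ c : G, Nat.card (A.map (MulAut.conj c).toMonoidHom) = q ^ 2 := fun c => by
        rw [card_map_of_injective (f := (MulAut.conj c).toMonoidHom) (MulAut.conj c).injective, hA2]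
      refine ⟨n, n.2, (eq_of_le_of_card_ge (fun x hx => ?_) (by rw [hinj, hinj])).symm⟩
      exact mem_of_commute_rank hrU h1 (elementary_map hA _) (hinj g) (h2 hx) ((elementary_map hA _).2 x hx)
        fun e he => congrArg Subtype.val (hUc.is_comm.comm ⟨e, h1 he⟩ ⟨x, h2 hx⟩)
    have hR1 : R ≤ ⊥ := hbot ▸ le_inf hRK hRM
    exact hRi (by rw [le_bot_iff.1 hR1, index_bot]; exact hrσ.2.1.trans M.card_subgroup_dvd_card)

/-- The product decomposition of a maximal subgroup over the normalizer of a `q`-subgroup of `M`. -/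
theorem exists_product_over {q : ℕ} [hq : Fact q.Prime] {M L X : Subgroup G} (hM : IsCoatom M)
    (hqσ : q ∈ Cfsg.sigma M) (hL : IsCoatom L) (hne : L ≠ M) (hX : IsPGroup q X) (hX1 : X ≠ ⊥) (hXM : X ≤ M)
    (hNL : normalizer (X : Set G) ≤ L) :
    ∃ K : Subgroup G, K ≤ Cfsg.sigmaCore L ∧ K ≤ L ∧ L ≤ normalizer (K : Set G) ∧ L ≤ K ⊔ (M ⊓ L) ∧
      (q ∈ Cfsg.sigma L ∨ Cfsg.sigmaCore L ⊓ M = ⊥) ∧
      ∀ r : ℕ, r.Prime → r ∈ Cfsg.sigma M → ¬ r ∣ Nat.card K := by
  classical
  have hXL : X ≤ L := le_normalizer.trans hNL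
  obtain ⟨S', hS'⟩ := (hX.comap_subtype (K := M ⊓ L)).exists_le_sylow
  set S := (S' : Subgroup ↥(M ⊓ L)).map (M ⊓ L).subtype
  have hXS : X ≤ S := by
    rw [← map_subgroupOf_eq_of_le (le_inf hXM hXL)]
    exact map_mono hS'
  have hSle : S ≤ M ⊓ L := map_subtype_le _
  have hS : IsPGroup q S := S'.2.map _
  have hmaxS : ∀ T : Subgroup G, IsPGroup q T → S ≤ T → T ≤ M ⊓ L → T = S := fun T hT hST hTle => by
    have h := S'.is_maximal' (hT.comap_subtype (K := M ⊓ L)) fun x hx => hST (mem_map_of_mem _ hx)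
    have h' := congrArg (Subgroup.map (M ⊓ L).subtype) h
    rwa [← Subgroup.subgroupOf, map_subgroupOf_eq_of_le hTle] at h'
  obtain ⟨-, hSd⟩ := meet_sylow hG hM hqσ hXS hNL hS hSle hmaxS
  exact exists_product hG hM hqσ hL hne hS (hSle.trans inf_le_left)
    (hSle.trans inf_le_right) hSd (fun e => hX1 (le_bot_iff.1 (e ▸ hXS))) fun hc => by
      haveI := hc
      haveI : IsCyclic X := Subgroup.isCyclic_of_le hXS
      obtain ⟨u, hu⟩ := (Subgroup.isCyclic_iff_exists_zpowers_eq_top X).1 inferInstance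
      have hNS : normalizer (S : Set G) ≤ L :=
        ((UTool.normalizer_le_normalizer_zpowers hc (hXS (hu ▸ mem_zpowers u))).trans (le_of_eq (by rw [hu]))).trans hNL
      refine ⟨hNS, ?_⟩
      obtain ⟨T, hT⟩ := (hS.comap_subtype (K := M)).exists_le_sylow
      have hSQ : S ≤ (T : Subgroup M).map M.subtype := by
        rw [← map_subgroupOf_eq_of_le (hSle.trans inf_le_left)]
        exact map_mono hT
      have e : S = (T : Subgroup M).map M.subtype := by
        by_contra hne'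
        have hlt := CfsgLib.Fusion.lt_inf_normalizer (T.2.map _) (lt_of_le_of_ne hSQ hne')
        exact hlt.ne' (hmaxS _ ((T.2.map _).to_le inf_le_left) hlt.le
          (le_inf (inf_le_left.trans (map_subtype_le _)) (inf_le_right.trans hNS)))
      refine Excep.index_not_dvd (hSle.trans inf_le_left) ?_ (Sig.not_dvd_index hqσ)
      rw [e, relIndex, ← comap_subtype, comap_map_eq_self_of_injective M.subtype_injective]
      exact T.not_dvd_index

omit hG in
/-- Conjugating back. -/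
theorem map_conj_comp {Y : Subgroup G} (g h : G) :
    (Y.map (MulAut.conj g).toMonoidHom).map (MulAut.conj h).toMonoidHom = Y.map (MulAut.conj (h * g)).toMonoidHom :=
  TH.map_conj_map_conj Y h g

/-- Subgroups with primes in `σ(M)` are conjugate into `M_σ`. -/
theorem conj_into_sigmaCore {M Y : Subgroup G} (hM : IsCoatom M) (hY1 : Y ≠ ⊥)
    (hY : ∀ p : ℕ, p.Prime → p ∣ Nat.card Y → p ∈ Cfsg.sigma M) :
    ∃ g : G, Y.map (MulAut.conj g).toMonoidHom ≤ Cfsg.sigmaCore M := by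
  classical
  have hYt : Y ≠ ⊤ := fun e => by
    obtain ⟨p, hp, hd⟩ := Nat.exists_prime_and_dvd (fun h => hM.1 (index_eq_one.1 h) : M.index ≠ 1)
    haveI := Fact.mk hp
    exact Sig.not_dvd_index (hY p hp (by rw [e, card_top]; exact hd.trans M.index_dvd_card)) hd
  have hYs : Group.IsSolvable Y := hG.2.2.2 Y hYt
  obtain ⟨q, hq, hqd⟩ := Nat.exists_prime_and_dvd (show Nat.card (Cfsg.fittingOf Y) ≠ 1 from fun h => hY1 (by
    have e : Cfsg.fittingOf Y = ⊥ := eq_bot_of_card_eq _ h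
    refine le_bot_iff.1 (le_trans (le_inf le_rfl ?_) ((Bender.centralizer_fitting_le hYs).trans e.le))
    intro y _
    exact mem_centralizer_iff.2 fun x hx => by rw [e] at hx; simp [mem_bot.1 hx]))
  haveI := Fact.mk hq
  set X₀ := Bender.qc q Y
  have hX₀ : IsPGroup q X₀ := Bender.isPGroup_qc Y
  have hX₀1 : X₀ ≠ ⊥ := Bender.qc_ne_bot hqd
  have hqσ : q ∈ Cfsg.sigma M := hY q hq (hqd.trans (card_dvd_of_le (Bender.fitting_le Y)))
  -- conjugate `O_q(Y)` into `M`
  obtain ⟨T, hT⟩ := hX₀.exists_le_sylow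
  obtain ⟨S₀, hS₀M, -⟩ := Sig.exists_sylow hqσ
  obtain ⟨g, hg⟩ := MulAction.exists_smul_eq G T S₀
  set X := X₀.map (MulAut.conj g).toMonoidHom with hXdef
  set Y' := Y.map (MulAut.conj g).toMonoidHom with hY'def
  have hXM : X ≤ M := by
    refine le_trans ?_ hS₀M
    rw [← hg, Sylow.coe_subgroup_smul]
    rintro _ ⟨x, hx, rfl⟩
    exact smul_mem_pointwise_smul _ _ _ (hT hx)
  have hY'π : ∀ p : ℕ, p.Prime → p ∣ Nat.card Y' → p ∈ Cfsg.sigma M := fun p hp hd => hY p hp (by
    rwa [hY'def, card_map_of_injective (f := (MulAut.conj g).toMonoidHom) (MulAut.conj g).injective] at hd)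
  have hX1 : X ≠ ⊥ := fun e => hX₀1 ((map_eq_bot_iff_of_injective _ (MulAut.conj g).injective).1 e)
  have hYN : Y' ≤ normalizer (X : Set G) :=
    (map_mono (Bender.le_normalizer_qc q Y)).trans (le_normalizer_map _)
  obtain ⟨L, hL, hNL⟩ := (eq_top_or_exists_le_coatom (normalizer (X : Set G))).resolve_left
    (CfsgLib.CN.MinSimple.normalizer_ne_top hG (hX₀.map _).isNilpotent hX1)
  suffices h : ∃ c : G, Y'.map (MulAut.conj c).toMonoidHom ≤ M by
    obtain ⟨c, hc⟩ := h
    refine ⟨c * g, ?_⟩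
    rw [← map_conj_comp]
    exact Excep.le_sigmaCore hG hM hc fun p hp hd => hY'π p hp (by
      rwa [card_map_of_injective (f := (MulAut.conj c).toMonoidHom) (MulAut.conj c).injective] at hd)
  by_cases hne : L = M
  · exact ⟨1, by rintro _ ⟨y, hy, rfl⟩; simpa using hne.le (hNL (hYN hy))⟩
  have hXL : X ≤ L := le_normalizer.trans hNL
  obtain ⟨K, -, hKL, hKn, hLe, -, hKσ⟩ := exists_product_over hG hM hqσ hL hne (hX₀.map _) hX1 hXM hNL
  obtain ⟨c, -, hc⟩ := conj_into_of_product (hG.2.2.2 L hL.1) (inf_le_right : M ⊓ L ≤ L) hKL hKn hLe hKσ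
    (hYN.trans hNL) hY'π
  exact ⟨c, hc.trans inf_le_left⟩

end CfsgLib.OddLocal.Tau
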