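import Cfsg.Agent.OddLocal.KappaStructure
import Cfsg.Agent.S1425

/-!
Consequences of the structure over a Hall `κ(M)`-subgroup: the fixed points `C_{M_σ}(K)`.
-/

set_option autoImplicit false
set_option linter.style.haveILetI false
set_option linter.unusedSectionVars false

namespace CfsgLib.OddLocal.Kap

open Subgroup Cfsg CfsgLib.OddLocal
open scoped commutatorElement Pointwise

universe u

variable {G : Type u} [Group G] [Finite G]

theorem conj_in {M E H U : Subgroup G} (hE : Cfsg.IsComplIn E (Cfsg.sigmaCore M) M) (hHE : H ≤ E)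
    (hEU : E ≤ normalizer (U : Set G)) (hU : Cfsg.IsComplIn U H E) {v c x x' : G} (hv : v ∈ U)
    (hc : c ∈ Cfsg.sigmaCore M) (hx : x ∈ H) (hx' : x' ∈ H) (h : v * c * x * (v * c)⁻¹ = x') :
    Commute c x ∧ Commute v x := by
  set K := Cfsg.sigmaCore M
  have hxE : x ∈ E := hHE hx
  have hvE : v ∈ E := hU.1 hv
  have e1 : v⁻¹ * x' * v * x⁻¹ = c * (x * c⁻¹ * x⁻¹) := by rw [← h]; group
  have h0 : v⁻¹ * x' * v * x⁻¹ ∈ E ⊓ K :=
    ⟨E.mul_mem (E.mul_mem (E.mul_mem (E.inv_mem hvE) (hHE hx')) hvE) (E.inv_mem hxE),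
      e1 ▸ K.mul_mem hc ((mem_normalizer_iff.1 (TH.le_normalizer_core M (hE.1 hxE)) _).1 (K.inv_mem hc))⟩
  rw [hE.2.2.1, mem_bot] at h0
  have hcx : Commute c x := by
    rw [e1, mul_eq_one_iff_eq_inv] at h0
    show c * x = x * c
    conv_lhs => rw [h0]
    group
  have hx'v : x' = v * x * v⁻¹ := by
    rw [← h, show v * c * x * (v * c)⁻¹ = v * (c * x * c⁻¹) * v⁻¹ by group, hcx.eq, mul_inv_cancel_right]
  refine ⟨hcx, ?_⟩
  have h1 : x' * x⁻¹ ∈ U ⊓ H := by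
    refine ⟨?_, H.mul_mem hx' (H.inv_mem hx)⟩
    rw [hx'v, show v * x * v⁻¹ * x⁻¹ = v * (x * v⁻¹ * x⁻¹) by group]
    exact mul_mem hv ((mem_normalizer_iff.1 (hEU hxE) _).1 (inv_mem hv))
  rw [hU.2.2.1, mem_bot, mul_inv_eq_one, hx'v, mul_inv_eq_iff_eq_mul] at h1
  exact h1

variable (hG : Cfsg.IsMinSimpleOddOrder G)
include hG

variable {M H : Subgroup G} (hM : IsCoatom M) (hH : Cfsg.IsPiHallOf (Cfsg.kappa M) H M) (hH1 : H ≠ ⊥)
include hM hH hH1

theorem fixed_ne_bot : Cfsg.sigmaCore M ⊓ centralizer (H : Set G) ≠ ⊥ := by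
  obtain ⟨E, U, -, hHE, -, -, -, -, -, -, hpr, -, q, hq1, a, ha, hao⟩ := kappa_data hG hM hH hH1
  haveI := Fact.mk hq1.1
  rw [← hpr a ha fun e => hq1.1.ne_one (by rw [← hao, e, orderOf_one])]
  exact kappa_fixed (hH.2.1 q hq1.1 (dvd_of_mem ha hao)) (hH.1 ha) hao

/-- Elements of prime order of `C_{M_σ}(K)` have their centralizers in `M` only. -/
theorem fixed_centralizer {s : ℕ} [Fact s.Prime] {y : G}
    (hy : y ∈ Cfsg.sigmaCore M ⊓ centralizer (H : Set G)) (hyo : orderOf y = s) :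
    (centralizer ({y} : Set G) ≤ M ∧ ∀ L : Subgroup G, IsCoatom L → centralizer ({y} : Set G) ≤ L → L = M) ∧
      ∀ P : Subgroup G, IsPGroup s P → P ≤ Cfsg.sigmaCore M → ¬ s ∣ P.relIndex (Cfsg.sigmaCore M) →
        Cfsg.InUniqueMaximal P := by
  obtain ⟨E, U, -, -, -, -, -, -, -, -, -, -, q, hq1, a, ha, hao⟩ := kappa_data hG hM hH hH1
  haveI := Fact.mk hq1.1
  exact fixed_unique hG hM hq1 (hH.1 ha) hao hy.1 hyo (mem_centralizer_iff.1 hy.2 a ha).symm

/-- BG 14.2: normalizers of subgroups of prime order of `K`. -/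
theorem line_normalizers {X : Subgroup G} (hXH : X ≤ H) (hX : (Nat.card X).Prime) :
    M ⊓ normalizer (X : Set G) = H ⊔ (Cfsg.sigmaCore M ⊓ centralizer (H : Set G)) ∧
      M ⊓ normalizer (H : Set G) = H ⊔ (Cfsg.sigmaCore M ⊓ centralizer (H : Set G)) ∧
      ∀ L : Subgroup G, IsCoatom L → normalizer (X : Set G) ≤ L → X ≤ Cfsg.sigmaCore L := by
  obtain ⟨E, U, hE, hHE, -, hEU, -, -, hU, hUfpf, hpr, hnor, -⟩ := kappa_data hG hM hH hH1
  haveI := Fact.mk hX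
  obtain ⟨x₀, hx₀⟩ := exists_prime_orderOf_dvd_card' (G := X) (Nat.card X) dvd_rfl
  obtain ⟨x, hx, hxo⟩ : ∃ x ∈ X, orderOf x = Nat.card X := ⟨x₀, x₀.2, by rw [orderOf_coe, hx₀]⟩
  have hXx : X = zpowers x := (eq_of_le_of_card_ge (zpowers_le.2 hx) (by rw [Nat.card_zpowers, hxo])).symm
  have hx1 : x ≠ 1 := fun e => hX.ne_one (by rw [← hxo, e, orderOf_one])
  have hxH := hXH hx
  refine ⟨?_, normalizer_in hG hE hHE hEU hU le_rfl le_normalizer inf_le_right
    (le_bot_iff.1 ((inf_le_inf_left U (centralizer_le (Set.singleton_subset_iff.2 hxH))).trans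
      (hUfpf x hxH hx1).le)), fun L hL hNL => ?_⟩
  · rw [hXx]
    refine normalizer_in hG hE hHE hEU hU (zpowers_le.2 hxH) (hnor x hxH (hxo ▸ hX)) ?_ ?_
    · exact ((inf_le_inf_left _ (FixedLine.centralizer_zpowers_le x)).trans (hpr x hxH hx1).le).trans inf_le_right
    · exact le_bot_iff.1 ((inf_le_inf_left U (FixedLine.centralizer_zpowers_le x)).trans (hUfpf x hxH hx1).le)
  · obtain ⟨s, hs, y, hy, hyo⟩ := exists_order_prime (fixed_ne_bot hG hM hH hH1)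
    haveI := Fact.mk hs
    have hκ := hH.2.1 _ hX (dvd_of_mem hxH hxo)
    rw [hXx] at hNL
    have hσ := mem_sigma_over hG hM hL hκ.2.2.1 (kappa_rank hκ) hxo hNL hy.1 hyo
      (show Commute x y from mem_centralizer_iff.1 hy.2 x hxH) (fixed_centralizer hG hM hH hH1 hy hyo).1
    rw [hXx, zpowers_le]
    exact mem_core_of_order hG hL (j := 1) (hNL (le_normalizer (mem_zpowers x))) (by rw [hxo, pow_one]) hσ

/-- `C_{M_σ}(K)` meets the other conjugates of `M` trivially. -/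
theorem fixed_meet_conj {g : G} (hg : g ∉ M) :
    (Cfsg.sigmaCore M ⊓ centralizer (H : Set G)) ⊓ M.map (MulAut.conj g).toMonoidHom = ⊥ := by
  by_contra hne
  obtain ⟨s, hs, y, ⟨hy, hyg⟩, hyo⟩ := exists_order_prime hne
  haveI := Fact.mk hs
  obtain ⟨hC, -⟩ := fixed_centralizer hG hM hH hH1 hy hyo
  obtain ⟨m, hm, e⟩ := hyg
  have h : (zpowers y).map (MulAut.conj g⁻¹).toMonoidHom ≤ M := by
    rw [MonoidHom.map_zpowers, zpowers_le, show (MulAut.conj g⁻¹).toMonoidHom y = m by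
      rw [← e]; show g⁻¹ * (g * m * g⁻¹) * g⁻¹⁻¹ = m; group]
    exact hm
  obtain ⟨m', hm', c, hc, e'⟩ := Sig.fusion_in hG hM (mem_sigma_of_mem_core hG hM hs hy.1 hyo)
    (IsPGroup.of_card (n := 1) (by rw [Nat.card_zpowers, hyo, pow_one]))
    (zpowers_le.2 (map_subtype_le _ hy.1)) g⁻¹ h
  have hcM : c ∈ M := hC.1 (FixedLine.centralizer_zpowers_le y hc)
  exact hg (inv_mem_iff.1 (e' ▸ mul_mem hm' hcM))

/-- `K` meets its other conjugates in `M` trivially. -/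
theorem kappa_meet_conj {g : G} (hgM : g ∈ M) (hg : g ∉ H ⊔ (Cfsg.sigmaCore M ⊓ centralizer (H : Set G))) :
    H ⊓ H.map (MulAut.conj g).toMonoidHom = ⊥ := by
  obtain ⟨E, U, hE, hHE, -, hEU, -, -, hU, hUfpf, hpr, -, -⟩ := kappa_data hG hM hH hH1
  refine (eq_bot_iff_forall _).2 fun x ⟨hx, x₀, hx₀, e⟩ => by_contra fun hx1 => hg ?_
  obtain ⟨ge, hge, c, hc, rfl⟩ := hE.2.2.2 g hgM
  obtain ⟨v, hv, k, hk, rfl⟩ := hU.2.2.2 ge hge
  set c' := k * c * k⁻¹ with hc'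
  set z := k * x₀ * k⁻¹ with hz
  have hzH : z ∈ H := mul_mem (mul_mem hk hx₀) (inv_mem hk)
  have hc'K : c' ∈ Cfsg.sigmaCore M :=
    (mem_normalizer_iff.1 (TH.le_normalizer_core M (hE.1 (hHE hk))) c).1 hc
  have e' : v * k * c * x₀ * (v * k * c)⁻¹ = x := e
  have h : v * c' * z * (v * c')⁻¹ = x := by rw [← e', hc', hz]; group
  obtain ⟨hcz, hvz⟩ := conj_in hE hHE hEU hU hv hc'K hzH hx h
  have hz1 : z ≠ 1 := fun e1 => hx1 (by rw [← h, e1]; group)
  have hv1 : v = 1 := mem_bot.1 ((hUfpf z hzH hz1).le ⟨hv, mem_centralizer_singleton_iff.2 hvz.eq⟩)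
  have hc'H : c' ∈ Cfsg.sigmaCore M ⊓ centralizer (H : Set G) :=
    (hpr z hzH hz1).le ⟨hc'K, mem_centralizer_singleton_iff.2 hcz.eq⟩
  rw [hv1, one_mul, show k * c = c' * k by rw [hc']; group]
  exact mul_mem (mem_sup_right hc'H) (mem_sup_left hk)

/-- A `σ(M)`-group meeting `C_{M_σ}(K)` lies in `M_σ`. -/
theorem le_core_of_meet {Y : Subgroup G} (hY : ∀ p : ℕ, p.Prime → p ∣ Nat.card Y → p ∈ Cfsg.sigma M)
    (hne : Y ⊓ (Cfsg.sigmaCore M ⊓ centralizer (H : Set G)) ≠ ⊥) : Y ≤ Cfsg.sigmaCore M := by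
  obtain ⟨s, hs, y, hy, hyo⟩ := exists_order_prime hne
  haveI := Fact.mk hs
  obtain ⟨g, hg⟩ := Cfsg.Agent.S1425.result hG M hM Y (fun e => hs.ne_one (by
    rw [← hyo, orderOf_eq_one_iff]; exact mem_bot.1 (e.le hy.1))) hY
  have hgM : g ∈ M := by
    by_contra hgM
    have h := (fixed_meet_conj hG hM hH hH1 (g := g⁻¹) (fun h => hgM (inv_mem_iff.1 h))).le
      ⟨hy.2, g * y * g⁻¹, map_subtype_le _ (hg ⟨y, hy.1, rfl⟩), by
        show g⁻¹ * (g * y * g⁻¹) * g⁻¹⁻¹ = y; group⟩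
    exact hs.ne_one (by rw [← hyo, orderOf_eq_one_iff]; exact mem_bot.1 h)
  intro z hz
  have h := (mem_normalizer_iff.1 (TH.le_normalizer_core M hgM) z).2 (hg ⟨z, hz, rfl⟩)
  exact h

/-- The primes of `C_{M_σ}(K)` avoid `β(M)`; its Sylow subgroups are not full. -/
theorem sylow_not_le_fixed {p : ℕ} [hp : Fact p.Prime] {S : Subgroup G} (hSp : IsPGroup p S)
    (hSK : S ≤ Cfsg.sigmaCore M) (hSd : ¬ p ∣ S.relIndex (Cfsg.sigmaCore M))
    (hpY : p ∣ Nat.card ↥(Cfsg.sigmaCore M ⊓ centralizer (H : Set G))) :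
    ¬ S ≤ Cfsg.sigmaCore M ⊓ centralizer (H : Set G) := by
  classical
  intro hle
  set K := Cfsg.sigmaCore M with hK
  obtain ⟨E, U, -, -, -, -, -, -, -, -, -, -, q, hq1, a, ha, hao⟩ := kappa_data hG hM hH hH1
  haveI := Fact.mk hq1.1
  have hpσ : p ∈ Cfsg.sigma M := (Sig.sigma_core hG hM).1.2.1 p hp.out (hpY.trans (card_dvd_of_le inf_le_left))
  have hSM : S ≤ M := hSK.trans (map_subtype_le _)
  have hSi : ¬ p ∣ S.index := Excep.index_not_dvd hSK hSd ((Sig.sigma_core hG hM).2.1.2 p hp.out hpσ)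
  let R : Sylow p G := hSp.toSylow hSi
  have hS1 : S ≠ ⊥ := Sig.sylow_ne_bot hpσ R
  obtain ⟨s, hs, y, hy, hyo⟩ := exists_order_prime hS1
  obtain rfl : p = s := by
    obtain ⟨k, hk⟩ := IsPGroup.iff_card.1 hSp
    exact ((Nat.prime_dvd_prime_iff_eq hs hp.out).1 (hs.dvd_of_dvd_pow (hk ▸ dvd_of_mem hy hyo))).symm
  have hya : Commute y a := (mem_centralizer_iff.1 (hle hy).2 a ha).symm
  have hCy := (fixed_centralizer hG hM hH hH1 (hle hy) hyo).1
  have hac : Nat.card (zpowers a) = q := by rw [Nat.card_zpowers, hao]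
  obtain ⟨N, hN, hNa⟩ := (eq_top_or_exists_le_coatom (normalizer (zpowers a : Set G))).resolve_left
    (Excep.normalizer_line_ne_top hG hac)
  have hqN := mem_sigma_over hG hM hN hq1.2.1 hq1.2.2.2.2 hao hNa (hle hy).1 hyo hya.symm hCy
  have hNM : N ≠ M := line_ne hG hM hN hq1.2.1 hq1.2.2.2.2 hao hNa
  have hpN : p ∉ Cfsg.sigma N := sigma_disjoint_of_tau_one hG hM hN hqN hq1 hpσ
  have hSN : S ≤ N := fun z hz => centralizer_le_over hG hNa
    (mem_centralizer_singleton_iff.2 (mem_centralizer_iff.1 (hle hz).2 a ha).symm)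
  have hr : Cfsg.PRankLE p 1 N := by
    by_contra hr
    have hτ : p ∈ Cfsg.tau2 N := ⟨hp.out, hpN, by_contra fun h => hpN (Sig.alpha_subset_sigma hG hN ⟨hp.out, h⟩), hr⟩
    have h := Tau.tau_element_centralizer hG hN (hSN hy) (fun e => hp.out.ne_one (by rw [← hyo, e, orderOf_one]))
      (fun v hv hvd => (Nat.prime_dvd_prime_iff_eq hv hp.out).1 (hyo ▸ hvd) ▸ hτ)
      (mem_core_of_order hG hN (j := 1) (hNa (le_normalizer (mem_zpowers a))) (by rw [hao, pow_one]) hqN)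
      (fun e => hq1.1.ne_one (by rw [← hao, e, orderOf_one])) hya.eq
    exact hNM (hCy.2 N hN h.1)
  have hp2 : p ≠ 2 := CfsgLib.CN.MinSimple.p_ne_two hG ((dvd_of_mem hy hyo).trans S.card_subgroup_dvd_card)
  haveI hSc : IsCyclic S := Compl.cyclic_of_rank_one hp2 hSp (Uniq.rankLE_mono hSN hr)
  have hβ : p ∉ Cfsg.beta M := fun h => Excep.rank_of_full hSp hSi h.1 fun B _ hBe => by
    exact (PLenZ.card_le_of_cyclic_exp inferInstance hBe).trans (Nat.le_self_pow two_ne_zero p)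
  have hnar : Cfsg.IsNarrow p S := by
    refine Or.inl fun B _ hBe => ?_
    exact (PLenZ.card_le_of_cyclic_exp inferInstance hBe).trans (Nat.le_self_pow two_ne_zero p)
  have hac' : ¬ p ∣ Nat.card (zpowers a) := by
    rw [hac]
    exact fun h => hq1.2.1 ((Nat.prime_dvd_prime_iff_eq hp.out hq1.1).1 h ▸ hpσ)
  obtain ⟨V, hVS, haV, hpV, -, hfix⟩ := exists_normalizer_complement hG R (Sig.sylow_ne_bot hpσ R) (X := zpowers a)
    (zpowers_le.2 (centralizer_le_normalizer _ (mem_centralizer_iff.2 fun z hz =>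
      (mem_centralizer_iff.1 (hle hz).2 a ha).symm))) hac'
  rw [zpowers_le] at haV
  have hSb : ⁅(R : Subgroup G), (R : Subgroup G)⁆ = ⊥ := commutator_eq_bot_iff_le_centralizer.2
    (le_centralizer_iff_isMulCommutative.2 (show IsMulCommutative S from inferInstance))
  have h := hfix ⟨hy, mem_centralizer_iff.2 fun v hv => mem_centralizer_singleton_iff.1
    (complement_centralizes hG hM hq1 hao hSK hSp hpσ hβ hnar (hVS.trans (Sig.normalizer_sylow_le hpσ R hSM))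
      hVS haV hpV hy (fun e => hp.out.ne_one (by rw [← hyo, e, orderOf_one])) hya hv)⟩
  rw [hSb, mem_bot] at h
  exact hp.out.ne_one (by rw [← hyo, h, orderOf_one])

end CfsgLib.OddLocal.Kap
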