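import Cfsg.Agent.OddLocal.KappaTypes
import Cfsg.Agent.OddLocal.KappaNonTI
import Cfsg.Agent.OddLocal.KappaSymplectic
import Cfsg.Agent.S1430
import Cfsg.Agent.S1454

/-!
Type V.
-/

set_option autoImplicit false
set_option linter.style.haveILetI false
set_option linter.unusedSectionVars false

namespace CfsgLib.OddLocal.Kap

open Subgroup Cfsg CfsgLib.OddLocal
open scoped commutatorElement Pointwise

universe u

variable {G : Type u} [Group G] [Finite G]

theorem derived_le_part {S : Subgroup G} (hS : Group.IsNilpotent S) {p : ℕ} [Fact p.Prime]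
    (h : ∀ (r : ℕ) [Fact r.Prime], r ≠ p → IsMulCommutative (Bender.qc r S)) :
    ⁅S, S⁆ ≤ ⁅Bender.qc p S, Bender.qc p S⁆ := by
  set P := Bender.qc p S
  set C := S ⊓ centralizer (S : Set G)
  have hC : ∀ (r : ℕ) [Fact r.Prime], r ≠ p → Bender.qc r S ≤ C := fun r _ hr =>
    le_inf (Bender.qc_le r S) (le_centralizer_iff.1 (nilpotent_le_of_qc hS fun s _ => by
      by_cases hsr : s = r
      · subst hsr
        haveI := h s hr
        exact le_centralizer _
      · exact qc_le_centralizer_qc hsr))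
  have hle : S ≤ P ⊔ C := nilpotent_le_of_qc hS fun r _ => by
    by_cases hr : r = p
    · subst hr; exact le_sup_left
    · exact (hC r hr).trans le_sup_right
  have hn : P ≤ normalizer (C : Set G) := fun a ha => centralizer_le_normalizer _
    (mem_centralizer_iff.2 fun b hb => (mem_centralizer_iff.1 hb.2 a (Bender.qc_le p S ha)).symm)
  rw [commutator_le]
  intro a ha b hb
  have ha' := hle ha
  have hb' := hle hb
  rw [← SetLike.mem_coe, coe_mul_of_left_le_normalizer_right P C hn] at ha' hb'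
  obtain ⟨x, hx, c, hc, rfl⟩ := ha'
  obtain ⟨y, hy, d, hd, rfl⟩ := hb'
  have h1 : ⁅x * c, y * d⁆ = x * ⁅c, y * d⁆ * x⁻¹ * (⁅x, y⁆ * (y * ⁅x, d⁆ * y⁻¹)) := by
    simp only [commutatorElement_def]; group
  rw [h1, show ⁅c, y * d⁆ = 1 from commutatorElement_eq_one_iff_mul_comm.2 (mem_centralizer_iff.1 hc.2 _ hb).symm,
    show ⁅x, d⁆ = 1 from commutatorElement_eq_one_iff_mul_comm.2
      (mem_centralizer_iff.1 hd.2 x (Bender.qc_le p S hx))]
  simpa using commutator_mem_commutator hx hy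

variable (hG : Cfsg.IsMinSimpleOddOrder G)
include hG

theorem exists_meet_of_not_ti {M : Subgroup G} (hTI : ¬ Cfsg.IsTISubset (Cfsg.fittingHallOf M : Set G)) :
    ∃ (p : ℕ) (_ : p.Prime) (g z : G), g ∉ M ∧ z ∈ Cfsg.fittingHallOf M ∧ orderOf z = p ∧
      g⁻¹ * z * g ∈ Cfsg.fittingHallOf M := by
  unfold Cfsg.IsTISubset at hTI
  push Not at hTI
  obtain ⟨g, hg, x, hx, hgx, hx1⟩ := hTI
  have hne : g * x * g⁻¹ ≠ 1 := fun e => hx1 (by
    have h : x = g⁻¹ * (g * x * g⁻¹) * g := by group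
    rw [h, e]; group)
  obtain ⟨p, hp, z, hz, hzo, -⟩ := exists_prime_root (mem_zpowers (g * x * g⁻¹)) hne
  refine ⟨p, hp, g, z, fun h => hg (FittingHall.le_normalizer_of M h), zpowers_le.2 hgx hz, hzo, ?_⟩
  obtain ⟨i, rfl⟩ := mem_zpowers_iff.1 hz
  rw [conj_zpow, show g⁻¹ * (g * x ^ i * g⁻¹) * g = x ^ i by group]
  exact zpow_mem hx i

variable {M K U : Subgroup G} (hM : IsCoatom M) (hKU : Cfsg.IsSigmaDecomposition M K U) (hK1 : K ≠ ⊥)
include hM hKU hK1

theorem typeFive_cases (hU : U = ⊥) (hF : Cfsg.fittingHallOf M = Cfsg.sigmaCore M) :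
    Cfsg.IsTISubset (Cfsg.fittingHallOf M : Set G) ∨
      (∃ p : ℕ, p.Prime ∧ p ∣ Nat.card (Cfsg.fittingHallOf M) ∧ Nat.card K ∣ p - 1 ∧
        IsCyclic (Cfsg.pPrimeCore p (Cfsg.fittingHallOf M))) ∨
      (∃ p : ℕ, p.Prime ∧ p ∣ Nat.card (Cfsg.fittingHallOf M) ∧
        Nat.card (Cfsg.pCore p (Cfsg.fittingHallOf M)) = p ^ 3 ∧
        Nat.card K ∣ p + 1 ∧ IsCyclic (Cfsg.pPrimeCore p (Cfsg.fittingHallOf M))) := by
  rw [or_iff_not_imp_left]
  intro hTI
  obtain ⟨p, hp, g, z, hg, hz, hzo, hzg⟩ := exists_meet_of_not_ti hG hTI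
  haveI := Fact.mk hp
  have hnil : Group.IsNilpotent (Cfsg.sigmaCore M) := hF ▸ FittingHall.nilpotent_of M
  rw [hF] at hz hzg ⊢
  set S := Cfsg.sigmaCore M with hS
  set P := Bender.qc p S with hPdef
  obtain ⟨hder, hle2⟩ := Cfsg.Agent.S1365.result hG M hM K U hKU hK1
  rw [hU, bot_sup_eq] at hder
  rw [hder] at hle2
  have hstar1 := fixed_ne_bot hG hM hKU.hall hK1
  have hnab : ¬ IsMulCommutative P := fun hab => hstar1 (by
    have hcomm : IsMulCommutative S := nilpotent_commutative_of_qc hnil fun r _ => by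
      by_cases hr : r = p
      · subst hr; exact hab
      · exact qc_commutative hG hM hnil hg hz hzo hzg hr
    haveI := hcomm
    exact le_bot_iff.1 (hle2.trans (commutator_eq_bot_iff_le_centralizer.2 (le_centralizer S)).le))
  have hcyc : IsCyclic (Cfsg.pPrimeCore p ↥S) := prime_core_cyclic hG hM hnil hg hz hzo hzg hnab
  have hpS : p ∣ Nat.card S := dvd_of_mem hz hzo
  have hpσ : p ∈ Cfsg.sigma M := mem_sigma_of_mem_core hG hM hp hz hzo
  have hpK : ¬ p ∣ Nat.card K := fun h => (hKU.hall.2.1 p hp h).2.2.1 hpσ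
  have hPp : IsPGroup p P := Bender.isPGroup_qc _
  have hPM : P ≤ M := (Bender.qc_le p S).trans (map_subtype_le _)
  have hMP : M ≤ normalizer (P : Set G) := (TH.le_normalizer_core M).trans
    (UTool.normalizer_le_normalizer_map _ _ (PLenZ.characteristic_pCore p))
  have hKP : K ≤ normalizer (P : Set G) := hKU.hall.1.trans hMP
  have hK' : star M K ≤ ⁅P, P⁆ := hle2.trans (derived_le_part hnil fun r _ hr =>
    qc_commutative hG hM hnil hg hz hzo hzg hr)
  have hfpf : ∀ k ∈ K, k ≠ 1 → P ⊓ centralizer ({k} : Set G) ≤ star M K := fun k hk hk1 =>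
    (inf_le_inf_right _ (Bender.qc_le p S)).trans (star_fixed hG hM hKU.hall hK1 hk hk1).le
  have hstarc : IsCyclic ↥(star M K) := (Cfsg.Agent.S1364.result hG M hM K U hKU hK1).1
  have hfaith : ∀ k ∈ K, k ∈ centralizer (P : Set G) → k = 1 := fun k hk hkc => by_contra fun hk1 => by
    have hle : P ≤ star M K := (le_inf le_rfl fun x hx => mem_centralizer_singleton_iff.2
      (mem_centralizer_iff.1 hkc x hx)).trans (hfpf k hk hk1)
    haveI := hstarc
    haveI := isCyclic_of_injective (inclusion hle) (inclusion_injective _)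
    letI := IsCyclic.commGroup (α := P)
    exact hnab ⟨⟨fun a b => mul_comm a b⟩⟩
  haveI := hKU.cyclic
  obtain ⟨k, hk⟩ := IsCyclic.exists_ofOrder_eq_natCard (α := K)
  have hpM : p ∣ Nat.card M := hpS.trans (card_dvd_of_le (map_subtype_le _))
  have hp2 : p ≠ 2 := CfsgLib.CN.MinSimple.p_ne_two hG (hpM.trans M.card_subgroup_dvd_card)
  have hKodd : Odd (Nat.card K) := hG.1.of_dvd_nat K.card_subgroup_dvd_card
  by_cases hr : Cfsg.PRankLE p 2 P
  · obtain ⟨E, hE, -⟩ := Tau.exists_complement_of hG hM (X := ⊥) bot_le fun q hq h => by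
      rw [card_bot, Nat.dvd_one] at h; exact absurd h hq.ne_one
    have hpE : (Nat.card E).Coprime p := Nat.Coprime.symm (hp.coprime_iff_not_dvd.2 fun h =>
      (Compl.card_eq hG hM hE).2.2 p hp h hpσ)
    obtain ⟨-, h⟩ := CfsgLib.FGSA.RankTwoOperator.main hp2 hPp (fun e => hnab (by rw [e]; infer_instance))
      (fun A hA hAe => hr A hA hAe) (hE.1.trans hMP) hpE
      (hG.1.of_dvd_nat E.card_subgroup_dvd_card) (part_action hG hM hnil hE)
    obtain ⟨R₁, R₂, hsup, hcomm, hna1, hc1, he1, hcyc2, hom⟩ := h.resolve_left hnab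
    have hR₂P : R₂ ≤ P := hsup ▸ le_sup_right
    have hR₁P : R₁ ≤ P := hsup ▸ le_sup_left
    -- `R₂` is central
    have hR₂c : ∀ b ∈ R₂, ∀ x ∈ P, x * b = b * x := by
      intro b hb x hx
      haveI := hcyc2
      letI := IsCyclic.commGroup (α := R₂)
      have hle : P ≤ centralizer ({b} : Set G) := hsup.ge.trans (sup_le
        (fun a ha => mem_centralizer_singleton_iff.2 (hcomm a ha b hb))
        fun a ha => mem_centralizer_singleton_iff.2 (congrArg Subtype.val (mul_comm (⟨a, ha⟩ : R₂) ⟨b, hb⟩)))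
      exact mem_centralizer_singleton_iff.1 (hle hx)
    have hD : ⁅P, P⁆ ≤ ⁅R₁, R₁⁆ := by
      rw [commutator_le]
      intro a ha b hb
      have hn : R₁ ≤ normalizer (R₂ : Set G) := fun a ha => centralizer_le_normalizer _
        (mem_centralizer_iff.2 fun b hb => (hcomm a ha b hb).symm)
      have ha' := hsup.ge ha
      have hb' := hsup.ge hb
      rw [← SetLike.mem_coe, coe_mul_of_left_le_normalizer_right R₁ R₂ hn] at ha' hb'
      obtain ⟨x, hx, c, hc, rfl⟩ := ha'
      obtain ⟨y, hy, d, hd, rfl⟩ := hb'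
      rw [show ⁅x * c, y * d⁆ = x * ⁅c, y * d⁆ * x⁻¹ * (⁅x, y⁆ * (y * ⁅x, d⁆ * y⁻¹)) by
          simp only [commutatorElement_def]; group,
        show ⁅c, y * d⁆ = 1 from commutatorElement_eq_one_iff_mul_comm.2 (hR₂c c hc _ hb).symm,
        show ⁅x, d⁆ = 1 from commutatorElement_eq_one_iff_mul_comm.2 (hR₂c d hd x (hR₁P hx))]
      simpa using commutator_mem_commutator hx hy
    -- `K` fixes `R₁'` pointwise, and so `R₂`
    set Z := ⁅R₁, R₁⁆ with hZ
    have hZle : ∀ y ∈ R₂, y ^ p = 1 → y ∈ Z := fun y hy hyp => hom.le (subset_closure ⟨hy, hyp⟩)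
    have hstarne : star M K ≠ ⊥ := hstar1
    obtain ⟨w, hw, hw1⟩ := (bot_or_exists_ne_one _).resolve_left hstarne
    have hwZ : w ∈ Z := hD (hK' hw)
    have hZR₂ : Z ≤ R₂ := hom ▸ (closure_le R₂).2 fun x hx => hx.1
    have hPZ : ⁅P, P⁆ ≤ R₂ := hD.trans hZR₂
    have hwp : orderOf w = p := by
      refine orderOf_eq_prime ?_ hw1
      have hle : closure {x : G | x ∈ R₂ ∧ x ^ p = 1} ≤
          (⊤ : Subgroup G) := le_top
      haveI := hcyc2
      letI := IsCyclic.commGroup (α := R₂)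
      let W : Subgroup R₂ := (powMonoidHom p : R₂ →* R₂).ker
      have hW : closure {x : G | x ∈ R₂ ∧ x ^ p = 1} ≤ W.map R₂.subtype := (closure_le _).2 fun x hx =>
        ⟨⟨x, hx.1⟩, Subtype.ext hx.2, rfl⟩
      obtain ⟨v, hv, rfl⟩ := hW (hom.ge hwZ)
      exact congrArg Subtype.val (show v ^ p = 1 from hv)
    have hR₂star : R₂ ≤ star M K := by
      refine le_inf (hR₂P.trans (Bender.qc_le p S)) (le_centralizer_iff.1 ?_)
      set C := P ⊓ centralizer (P : Set G)
      have hR₂C : R₂ ≤ C := le_inf hR₂P fun b hb => mem_centralizer_iff.2 (hR₂c b hb)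
      have hKC : K ≤ normalizer (C : Set G) :=
        (le_inf hKP (hKP.trans (TH.normalizer_le_normalizer_centralizer P))).trans inf_normalizer_le_normalizer_inf
      have hCc : IsCyclic C := part_center_cyclic hG hM hnil hg hz hzo hzg hnab
      exact (Excep.centralizes_cyclic hp2 (hPp.to_le inf_le_left) hCc hKC
        (Nat.Coprime.symm (hp.coprime_iff_not_dvd.2 hpK)) (hR₂C (hZR₂ hwZ)) hwp fun x hx =>
        mem_centralizer_singleton_iff.2 (mem_centralizer_iff.1 hw.2 x hx)).trans (centralizer_le hR₂C)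
    have hR₂Z : R₂ ≤ Z := hR₂star.trans (hK'.trans hD)
    have hPR : P = R₁ := le_antisymm (hsup.ge.trans (sup_le le_rfl (hR₂Z.trans
      (commutator_le.2 fun a ha b hb => R₁.mul_mem (R₁.mul_mem (R₁.mul_mem ha hb) (R₁.inv_mem ha)) (R₁.inv_mem hb)))))
      hR₁P
    have hP3 : Nat.card P = p ^ 3 := hPR ▸ hc1
    have hfix : ⁅P, P⁆ ≤ centralizer (K : Set G) := by
      refine (hPZ.trans hR₂star).trans inf_le_right
    rcases cyclic_card_dvd_of_cube hP3 hnab hKU.cyclic hKodd hpK hKP hfix (fun k hk hk1 => (hfpf k hk hk1).trans hK')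
      with h | h
    · exact Or.inl ⟨p, hp, hpS, h, hcyc⟩
    · refine Or.inr ⟨p, hp, hpS, ?_, h, hcyc⟩
      rw [← hP3, hPdef]
      exact (card_map_of_injective S.subtype_injective).symm
  · left
    refine ⟨p, hp, hpS, ?_, hcyc⟩
    have hpd : ¬ p ∣ (P.subgroupOf M).index := by
      rw [← relIndex, ← relIndex_mul_relIndex _ S M (Bender.qc_le p S) (map_subtype_le _)]
      exact fun h => (hp.dvd_mul.1 h).elim (qc_not_dvd_relIndex hnil) ((Sig.sigma_core hG hM).1.2.2 p hp hpσ)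
    have hPsp : IsPGroup p ↥(P.subgroupOf M) := hPp.comap_subtype
    have hn : Cfsg.IsNarrow p ↥(P.subgroupOf M) :=
      Beta.narrow_of_not_beta hG hM hpM (meet_not_beta hG hM hnil hg hz hzo hzg) (hPsp.toSylow hpd)
    have hr' : ¬ Cfsg.PRankLE p 2 ↥(P.subgroupOf M) := fun h => hr (by
      obtain ⟨e⟩ : Nonempty (↥(P.subgroupOf M) ≃* P) := ⟨subgroupOfEquivOfLe hPM⟩
      intro A hA hAe
      haveI := hA
      have h' := h (A.map e.symm.toMonoidHom) (Subgroup.map_isMulCommutative A _) (by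
        rintro _ ⟨a, ha, rfl⟩; rw [← map_pow, hAe a ha, map_one])
      rwa [card_map_of_injective e.symm.injective] at h')
    haveI : (P.subgroupOf M).Normal := (normal_subgroupOf_iff_le_normalizer hPM).2 hMP
    have hfaithM : K.subgroupOf M ⊓ centralizer (P.subgroupOf M : Set M) = ⊥ := (eq_bot_iff_forall _).2 fun x hx =>
      Subtype.ext (hfaith x hx.1 (mem_centralizer_iff.2 fun y hy =>
        congrArg Subtype.val (mem_centralizer_iff.1 hx.2 ⟨y, hPM hy⟩ hy)))
    have hs : Group.IsSolvable ↥(K.subgroupOf M) := by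
      haveI : Group.IsSolvable M := hG.2.2.2 M hM.1
      infer_instance
    have h := (Cfsg.Agent.S1454.result p hp2 (P.subgroupOf M) (K.subgroupOf M) hPsp hn
      (le_top.trans (normalizer_eq_top_iff.2 inferInstance).ge) hs
      (by rw [Nat.card_congr (subgroupOfEquivOfLe hKU.hall.1).toEquiv]; exact hKodd) hfaithM).2.1 hr'
      ⟨k, hKU.hall.1 k.2⟩ k.2
    rw [Subgroup.orderOf_mk, Subgroup.orderOf_coe, hk] at h
    exact h (Nat.Coprime.symm (hp.coprime_iff_not_dvd.2 hpK))

end CfsgLib.OddLocal.Kap
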