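import Cfsg.Agent.OddLocal.KappaCosets

/-!
The number of elements in `M̃` (BG 14.6).
-/

set_option autoImplicit false
set_option linter.style.haveILetI false
set_option linter.unusedSectionVars false

namespace CfsgLib.OddLocal.Kap

open Subgroup Cfsg CfsgLib.OddLocal
open scoped commutatorElement Pointwise

universe u

variable {G : Type u} [Group G] [Finite G]

theorem conj_orderOf (g x : G) : orderOf (g * x * g⁻¹) = orderOf x := (MulAut.conj g).orderOf_eq x

theorem conj_eq_iff {g a b : G} : g * b * g⁻¹ = a ↔ g⁻¹ * a * g = b := by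
  constructor <;> rintro rfl <;> group

variable (hG : Cfsg.IsMinSimpleOddOrder G)
include hG

theorem mem_sigmaCore_conj {L : Subgroup G} (hL : IsCoatom L) {r : G} (hr : r ∈ Cfsg.sigmaCore L) (g : G) :
    g * r * g⁻¹ ∈ Cfsg.sigmaCore (L.map (MulAut.conj g).toMonoidHom) := by
  refine (zpowers_le.1 (Excep.le_sigmaCore hG (Uniq.coatom_conj hL g)
    (zpowers_le.2 ⟨r, map_subtype_le _ hr, rfl⟩) fun p hp hd => ?_))
  rw [Nat.card_zpowers, conj_orderOf] at hd
  exact sigma_map g (sigma_of_order hG hL hr p hp hd)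

theorem mem_sigmaCore_of_conj {M : Subgroup G} (hM : IsCoatom M) {g a : G} (ha : a ∈ Cfsg.sigmaCore M)
    (hg : g⁻¹ * a * g ∈ M) : g⁻¹ * a * g ∈ Cfsg.sigmaCore M := by
  refine zpowers_le.1 (Excep.le_sigmaCore hG hM (zpowers_le.2 hg) fun p hp hd => ?_)
  have h := conj_orderOf g⁻¹ a
  rw [inv_inv] at h
  rw [Nat.card_zpowers, h] at hd
  exact sigma_of_order hG hM ha p hp hd

/-- `R(x)` is trivial on `M` and covers the conjugates of `M` containing `x`. -/
theorem supportR_covers {M : Subgroup G} (hM : IsCoatom M) {x : G} (hx : x ∈ Cfsg.sigmaCore M) (hx1 : x ≠ 1) :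
    Cfsg.supportR M x ⊓ M = ⊥ ∧ ∀ g : G, g⁻¹ * x * g ∈ M → ∃ r ∈ Cfsg.supportR M x, r⁻¹ * g ∈ M := by
  have hfix : ∀ {g r : G}, M.map (MulAut.conj r).toMonoidHom = M.map (MulAut.conj g).toMonoidHom → r⁻¹ * g ∈ M := by
    intro g r h
    refine eq_of_conj_eq hG hM ?_
    rw [← Tau.map_conj_comp, ← h, Tau.map_conj_comp, inv_mul_cancel, map_one]
    exact map_id M
  have h1 : M.map (MulAut.conj (1 : G)).toMonoidHom = M := by rw [map_one]; exact map_id M
  refine ⟨?_, fun g hg => ?_⟩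
  · by_cases hxC : centralizer ({x} : Set G) ≤ M
    · rw [supportR_eq_bot hG hxC, bot_inf_eq]
    obtain ⟨N, hN, hCN, hu, -, hcompl, hnil, -⟩ := exists_over hG hM hx hx1 hxC
    rw [supportR_eq hG hxC hN hCN hu hnil]
    exact le_bot_iff.1 ((le_inf (le_inf inf_le_right (inf_le_left.trans (inf_le_left.trans (map_subtype_le _))))
      (inf_le_left.trans inf_le_left)).trans hcompl.2.2.1.le)
  · rcases conjugate_over hG hM hx hx1 (g := g) ⟨g⁻¹ * x * g, hg, by
      show g * (g⁻¹ * x * g) * g⁻¹ = x; group⟩ with e | ⟨N, hN, hCN, hxC, r, hr, e⟩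
    · exact ⟨1, one_mem _, hfix (h1.trans e.symm)⟩
    · obtain ⟨N', hN', hCN', hu, -, -, hnil, -⟩ := exists_over hG hM hx hx1 hxC
      obtain rfl := hu N hN hCN
      exact ⟨r, by rwa [supportR_eq hG hxC hN' hCN' hu hnil], hfix e⟩

/-- `R` is equivariant under `M`. -/
theorem supportR_conj {M : Subgroup G} (hM : IsCoatom M) {b : G} (hb : b ∈ Cfsg.sigmaCore M) (hb1 : b ≠ 1) {m : G}
    (hm : m ∈ M) {r : G} (hr : r ∈ Cfsg.supportR M b) : m * r * m⁻¹ ∈ Cfsg.supportR M (m * b * m⁻¹) := by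
  by_cases hbC : centralizer ({b} : Set G) ≤ M
  · rw [supportR_eq_bot hG hbC, Subgroup.mem_bot] at hr
    subst hr
    rw [mul_one, mul_inv_cancel]
    exact one_mem _
  obtain ⟨L, hL, hCL, hu, -, -, hnil, -⟩ := exists_over hG hM hb hb1 hbC
  rw [supportR_eq hG hbC hL hCL hu hnil] at hr
  set a := m * b * m⁻¹ with ha_def
  have ha : a ∈ Cfsg.sigmaCore M := (mem_normalizer_iff.1 (TH.le_normalizer_core M hm) b).1 hb
  have ha1 : a ≠ 1 := fun e => hb1 (by rw [show b = m⁻¹ * a * m by rw [ha_def]; group, e]; group)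
  have hC : ∀ c : G, c ∈ centralizer ({a} : Set G) → m⁻¹ * c * m ∈ centralizer ({b} : Set G) := by
    intro c hc
    have h : c * a = a * c := mem_centralizer_singleton_iff.1 hc
    refine mem_centralizer_singleton_iff.2 ?_
    calc m⁻¹ * c * m * b = m⁻¹ * (c * a) * m := by rw [ha_def]; group
      _ = b * (m⁻¹ * c * m) := by rw [h, ha_def]; group
  have haC : ¬ centralizer ({a} : Set G) ≤ M := fun h => hbC fun c hc => by
    have h2 : m * c * m⁻¹ ∈ M := h (mem_centralizer_singleton_iff.2 (by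
      have h' : c * b = b * c := mem_centralizer_singleton_iff.1 hc
      calc m * c * m⁻¹ * a = m * (c * b) * m⁻¹ := by rw [ha_def]; group
        _ = a * (m * c * m⁻¹) := by rw [h', ha_def]; group))
    have h3 := M.mul_mem (M.mul_mem (M.inv_mem hm) h2) hm
    rwa [show m⁻¹ * (m * c * m⁻¹) * m = c by group] at h3
  obtain ⟨N, hN, hCN, huN, -, -, hnilN, -⟩ := exists_over hG hM ha ha1 haC
  rw [supportR_eq hG haC hN hCN huN hnilN]
  have e : L.map (MulAut.conj m).toMonoidHom = N := huN _ (Uniq.coatom_conj hL m) fun c hc =>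
    ⟨m⁻¹ * c * m, hCL (hC c hc), by show m * (m⁻¹ * c * m) * m⁻¹ = c; group⟩
  refine ⟨e ▸ mem_sigmaCore_conj hG hL hr.1 m, mem_centralizer_singleton_iff.2 ?_⟩
  have h' : r * b = b * r := mem_centralizer_singleton_iff.1 hr.2
  calc m * r * m⁻¹ * a = m * (r * b) * m⁻¹ := by rw [ha_def]; group
    _ = a * (m * r * m⁻¹) := by rw [h', ha_def]; group

/-- BG 14.6: the number of elements in `M̃`. -/
theorem card_tilde {M : Subgroup G} (hM : IsCoatom M) :
    Set.ncard (Cfsg.tildeOf M ((Cfsg.sigmaCore M : Set G) \ {1})) = (Nat.card (Cfsg.sigmaCore M) - 1) * M.index := by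
  classical
  haveI := Fintype.ofFinite G
  set K := Cfsg.sigmaCore M
  set A : Finset G := Finset.univ.filter (fun b => b ∈ K ∧ b ≠ 1) with hA
  set D : Finset (G × G) := Finset.univ ×ˢ A
  set k : G × G → G := fun p => p.1 * p.2 * p.1⁻¹ with hk
  set T : Finset G := Finset.univ.filter (fun z => z ∈ Cfsg.tildeOf M ((K : Set G) \ {1})) with hT
  -- the `σ`-part of an element of the set
  have hex : ∀ z : G, ∃ a : G, z ∈ T → ∃ b r y : G, b ∈ K ∧ b ≠ 1 ∧ r ∈ Cfsg.supportR M b ∧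
      z = y * (b * r) * y⁻¹ ∧ a = y * b * y⁻¹ := by
    intro z
    by_cases hz : z ∈ T
    · obtain ⟨b, hb, r, hr, y, e⟩ := (Finset.mem_filter.1 hz).2
      exact ⟨y * b * y⁻¹, fun _ => ⟨b, r, y, hb.1, fun h => hb.2 h, hr, e, rfl⟩⟩
    · exact ⟨1, fun h => absurd h hz⟩
  choose f hf using hex
  have hfk : ∀ z ∈ T, f z ∈ D.image k := fun z hz => by
    obtain ⟨b, r, y, hb, hb1, -, -, e⟩ := hf z hz
    exact Finset.mem_image.2 ⟨(y, b), Finset.mem_product.2 ⟨Finset.mem_univ _,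
      Finset.mem_filter.2 ⟨Finset.mem_univ _, hb, hb1⟩⟩, e.symm⟩
  have hkk : ∀ p ∈ D, k p ∈ D.image k := fun p hp => Finset.mem_image_of_mem k hp
  have hfib : ∀ a' ∈ D.image k, (D.filter (fun p => k p = a')).card =
      Nat.card M * (T.filter (fun z => f z = a')).card := by
    intro a' ha'
    obtain ⟨⟨h, a⟩, hp, e⟩ := Finset.mem_image.1 ha'
    obtain ⟨-, ha⟩ := Finset.mem_product.1 hp
    obtain ⟨-, haK, ha1⟩ := Finset.mem_filter.1 ha
    dsimp [k] at e
    subst e
    obtain ⟨hdisj, hcov⟩ := supportR_covers hG hM haK ha1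
    set R := Cfsg.supportR M a
    set Rf : Finset G := Finset.univ.filter (fun r => r ∈ R)
    set Mf : Finset G := Finset.univ.filter (fun r => r ∈ M)
    have hRC : ∀ r ∈ R, Commute a r := fun r hr => (supportR_spec hG hM haK ha1 hr).1
    have hMf : Mf.card = Nat.card M := by
      rw [Nat.card_eq_fintype_card, Fintype.card_subtype]
    -- the fibre of `k`
    have hD : (D.filter (fun p => k p = h * a * h⁻¹)) =
        (Rf ×ˢ Mf).image (fun q => (h * q.1 * q.2, q.2⁻¹ * a * q.2)) := by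
      ext ⟨g, b⟩
      simp only [Finset.mem_filter, Finset.mem_image, Finset.mem_product, Finset.mem_univ, true_and, Prod.exists,
        Prod.mk.injEq, D, A, Rf, Mf, k]
      constructor
      · rintro ⟨⟨hb, -⟩, e⟩
        have hgb : (h⁻¹ * g) * b * (h⁻¹ * g)⁻¹ = a := by
          rw [show (h⁻¹ * g) * b * (h⁻¹ * g)⁻¹ = h⁻¹ * (g * b * g⁻¹) * h by group, e]; group
        have hb' := conj_eq_iff.1 hgb
        obtain ⟨r, hr, hm⟩ := hcov (h⁻¹ * g) (hb' ▸ map_subtype_le _ hb)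
        refine ⟨r, r⁻¹ * (h⁻¹ * g), ⟨hr, hm⟩, by group, ?_⟩
        rw [← hb', show (r⁻¹ * (h⁻¹ * g))⁻¹ * a * (r⁻¹ * (h⁻¹ * g)) = (h⁻¹ * g)⁻¹ * (r * a * r⁻¹) * (h⁻¹ * g) by group,
          ← (hRC r hr).eq, mul_inv_cancel_right]
      · rintro ⟨r, m, ⟨hr, hm⟩, rfl, rfl⟩
        refine ⟨⟨(mem_normalizer_iff''.1 (TH.le_normalizer_core M hm) a).1 haK, fun e => ha1 ?_⟩, ?_⟩
        · rw [show a = m * (m⁻¹ * a * m) * m⁻¹ by group, e]; group
        · rw [show h * r * m * (m⁻¹ * a * m) * (h * r * m)⁻¹ = h * (r * a * r⁻¹) * h⁻¹ by group, ← (hRC r hr).eq,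
            mul_inv_cancel_right]
    -- the fibre of `f`
    have hTf : (T.filter (fun z => f z = h * a * h⁻¹)) = Rf.image (fun r => h * (a * r) * h⁻¹) := by
      ext z
      simp only [Finset.mem_filter, Finset.mem_image, Finset.mem_univ, true_and, Rf]
      constructor
      · rintro ⟨hz, e⟩
        obtain ⟨b, r, y, hb, hb1, hr, hz', e'⟩ := hf z hz
        rw [e] at e'
        have hgb : (h⁻¹ * y) * b * (h⁻¹ * y)⁻¹ = a := by
          rw [show (h⁻¹ * y) * b * (h⁻¹ * y)⁻¹ = h⁻¹ * (y * b * y⁻¹) * h by group, ← e']; group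
        have hb' := conj_eq_iff.1 hgb
        obtain ⟨r', hr', hm⟩ := hcov (h⁻¹ * y) (hb' ▸ map_subtype_le _ hb)
        set m := r'⁻¹ * (h⁻¹ * y) with hm_def
        have hmb : m * b * m⁻¹ = a := by
          rw [hm_def, show r'⁻¹ * (h⁻¹ * y) * b * (r'⁻¹ * (h⁻¹ * y))⁻¹ =
            r'⁻¹ * ((h⁻¹ * y) * b * (h⁻¹ * y)⁻¹) * r' by group, hgb, mul_assoc, (hRC r' hr').eq, inv_mul_cancel_left]
        have h1 := supportR_conj hG hM hb hb1 hm hr
        rw [hmb] at h1
        refine ⟨r' * (m * r * m⁻¹) * r'⁻¹, R.mul_mem (R.mul_mem hr' h1) (R.inv_mem hr'), ?_⟩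
        have h2 : r' * (a * (m * r * m⁻¹)) * r'⁻¹ = a * (r' * (m * r * m⁻¹) * r'⁻¹) := by
          rw [← mul_assoc r', ← (hRC r' hr').eq]; group
        rw [← h2, hz', ← hmb, hm_def]
        group
      · rintro ⟨r, hr, rfl⟩
        have hz : h * (a * r) * h⁻¹ ∈ T := Finset.mem_filter.2 ⟨Finset.mem_univ _, a, ⟨haK, ha1⟩, r, hr, h, rfl⟩
        refine ⟨hz, ?_⟩
        obtain ⟨b, r₂, y, hb, hb1, hr₂, e, e'⟩ := hf _ hz
        obtain ⟨c1, d1, -⟩ := supportR_spec hG hM haK ha1 hr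
        obtain ⟨c2, d2, -⟩ := supportR_spec hG hM hb hb1 hr₂
        rw [e']
        refine part_unique (π := Cfsg.sigma M) (b := y * r₂ * y⁻¹) (b' := h * r * h⁻¹) ?_ ?_ ?_ ?_ ?_ ?_ ?_
        · exact c2.map (MulAut.conj y).toMonoidHom
        · exact c1.map (MulAut.conj h).toMonoidHom
        · rw [conj_orderOf]; exact sigma_of_order hG hM hb
        · rw [conj_orderOf]; exact sigma_of_order hG hM haK
        · rw [conj_orderOf]; exact d2
        · rw [conj_orderOf]; exact d1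
        · rw [show y * b * y⁻¹ * (y * r₂ * y⁻¹) = y * (b * r₂) * y⁻¹ by group, ← e]; group
    rw [hD, hTf, Finset.card_image_of_injOn, Finset.card_image_of_injective _ fun r r' e =>
      mul_left_cancel (mul_left_cancel (mul_right_cancel e)), Finset.card_product, hMf, mul_comm]
    rintro ⟨r, m⟩ hq ⟨r', m'⟩ hq' e
    simp only [Finset.coe_product, Finset.coe_filter, Finset.mem_univ, true_and, Set.mem_prod, Set.mem_setOf_eq, Rf,
      Mf] at hq hq'
    have e1 : h * r * m = h * r' * m' := congrArg Prod.fst e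
    rw [mul_assoc, mul_assoc, mul_left_cancel_iff] at e1
    have h3 : r'⁻¹ * r ∈ R ⊓ M := by
      refine ⟨R.mul_mem (R.inv_mem hq'.1) hq.1, ?_⟩
      rw [show r'⁻¹ * r = m' * m⁻¹ by rw [eq_mul_inv_iff_mul_eq, mul_assoc, e1, inv_mul_cancel_left]]
      exact M.mul_mem hq'.2 (M.inv_mem hq.2)
    rw [hdisj, Subgroup.mem_bot, inv_mul_eq_one] at h3
    subst h3
    exact Prod.ext rfl (mul_left_cancel e1)
  have hsum : D.card = Nat.card M * T.card := by
    rw [Finset.card_eq_sum_card_fiberwise hkk, Finset.card_eq_sum_card_fiberwise hfk, Finset.mul_sum]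
    exact Finset.sum_congr rfl hfib
  have hAc : A.card + 1 = Nat.card K := by
    rw [Nat.card_eq_fintype_card, Fintype.card_subtype,
      show A = (Finset.univ.filter (fun b => b ∈ K)).erase 1 by
        ext b; simp [A, and_comm],
      Finset.card_erase_add_one (by simp)]
  have hTc : T.card = Set.ncard (Cfsg.tildeOf M ((K : Set G) \ {1})) := by
    rw [← Set.ncard_coe_finset]; congr 1; ext z; simp [T]
  rw [Finset.card_product, Finset.card_univ, ← Nat.card_eq_fintype_card, ← card_mul_index M] at hsum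
  rw [← hTc, ← hAc, Nat.add_sub_cancel]
  have hsum' : Nat.card M * (A.card * M.index) = Nat.card M * T.card := by rw [← hsum]; ring
  exact (Nat.eq_of_mul_eq_mul_left Nat.card_pos hsum').symm

end CfsgLib.OddLocal.Kap
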