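import Cfsg.Agent.OddLocal.UniquenessBasic
import Cfsg.Agent.FGSA.RankTwoSolvable

/-!
Bender's method: maximal subgroups whose Fitting subgroup involves at least two primes.
-/

set_option autoImplicit false
set_option linter.style.haveILetI false
set_option linter.unusedSectionVars false

namespace CfsgLib.OddLocal.Bender

open Subgroup Cfsg CfsgLib.OddLocal

universe u

variable {G : Type u} [Group G] [Finite G]

/-- `O_s(H)` inside the ambient group. -/
def qc (s : ℕ) (H : Subgroup G) : Subgroup G := (Cfsg.pCore s H).map H.subtype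

/-- `O_s(Z(F(H)))` inside the ambient group. -/
def zc (s : ℕ) (H : Subgroup G) : Subgroup G := qc s H ⊓ centralizer (fittingOf H : Set G)

theorem qc_le (s : ℕ) (H : Subgroup G) : qc s H ≤ H := map_subtype_le _

theorem fitting_le (H : Subgroup G) : fittingOf H ≤ H := map_subtype_le _

theorem le_normalizer_qc (s : ℕ) (H : Subgroup G) : H ≤ normalizer (qc s H : Set G) := by
  rw [← normal_subgroupOf_iff_le_normalizer (qc_le s H), qc, ← comap_subtype,
    comap_map_eq_self_of_injective H.subtype_injective]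
  exact CfsgLib.Solvable.pCore_normal s

theorem le_normalizer_fitting (H : Subgroup G) : H ≤ normalizer (fittingOf H : Set G) := by
  rw [← normal_subgroupOf_iff_le_normalizer (fitting_le H), fittingOf, ← comap_subtype,
    comap_map_eq_self_of_injective H.subtype_injective]
  exact CfsgLib.Solvable.fittingSubgroup_normal

theorem nilpotent_fitting (H : Subgroup G) : Group.IsNilpotent (fittingOf H) :=
  CfsgLib.CN.nilpotent_map CfsgLib.Solvable.isNilpotent_fittingSubgroup _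

theorem le_fitting {H N : Subgroup G} (hNH : N ≤ H) (hn : H ≤ normalizer (N : Set G))
    (hN : Group.IsNilpotent N) : N ≤ fittingOf H := by
  rw [fittingOf, ← map_subgroupOf_eq_of_le hNH]
  refine map_mono (CfsgLib.Solvable.le_fittingSubgroup ((normal_subgroupOf_iff_le_normalizer hNH).2 hn) ?_)
  haveI := hN
  exact Group.nilpotent_of_surjective (subgroupOfEquivOfLe hNH).symm.toMonoidHom (MulEquiv.surjective _)

theorem centralizer_fitting_le {H : Subgroup G} (hH : Group.IsSolvable H) :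
    H ⊓ centralizer (fittingOf H : Set G) ≤ fittingOf H := by
  rintro x ⟨hx, hxc⟩
  haveI := hH
  refine ⟨⟨x, hx⟩, CfsgLib.Fitting.centralizer_fittingSubgroup_le_of_solvable
    (mem_centralizer_iff.2 fun y hy => Subtype.ext ?_), rfl⟩
  exact mem_centralizer_iff.1 hxc y (mem_map_of_mem _ hy)

theorem eq_one_of_pgroups {s r : ℕ} [Fact s.Prime] [Fact r.Prime] (hsr : s ≠ r) {A B : Subgroup G}
    (hA : IsPGroup s A) (hB : IsPGroup r B) {x : G} (hxA : x ∈ A) (hxB : x ∈ B) : x = 1 :=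
  orderOf_eq_one_iff.1 (Nat.eq_one_of_dvd_coprimes (IsPGroup.coprime_card_of_ne s r hsr A B hA hB)
    (A.orderOf_dvd_natCard hxA) (B.orderOf_dvd_natCard hxB))

variable {s : ℕ} [Fact s.Prime]

theorem isPGroup_qc (H : Subgroup G) : IsPGroup s (qc s H) :=
  (CfsgLib.Solvable.isPGroup_pCore s).map _

theorem qc_le_fitting (H : Subgroup G) : qc s H ≤ fittingOf H :=
  le_fitting (qc_le s H) (le_normalizer_qc s H) (isPGroup_qc H).isNilpotent

theorem mem_qc {H : Subgroup G} {f : G} (hf : f ∈ fittingOf H) {j : ℕ} (hj : orderOf f = s ^ j) : f ∈ qc s H := by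
  obtain ⟨x, hx, rfl⟩ := hf
  refine mem_map_of_mem _ (CfsgLib.FGSA.RankTwoSolvable.mem_pCore_of_mem_fitting Fact.out (j := j) ?_ hx)
  rwa [Subgroup.coe_subtype, orderOf_coe] at hj

theorem qc_ne_bot {H : Subgroup G} (h : s ∣ Nat.card (fittingOf H)) : qc s H ≠ ⊥ := by
  obtain ⟨x, hx⟩ := exists_prime_orderOf_dvd_card' s h
  intro hb
  have hm : (x : G) ∈ qc s H := mem_qc x.2 (j := 1) (by rw [orderOf_coe, hx, pow_one])
  rw [hb, mem_bot] at hm
  rw [← orderOf_eq_one_iff, orderOf_coe, hx] at hm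
  exact (Fact.out : s.Prime).ne_one hm

theorem dvd_fitting_of_qc {H : Subgroup G} (h : qc s H ≠ ⊥) : s ∣ Nat.card (fittingOf H) := by
  obtain ⟨k, hk⟩ := IsPGroup.iff_card.1 (isPGroup_qc (s := s) H)
  refine dvd_trans ?_ (card_dvd_of_le (qc_le_fitting (s := s) H))
  rw [hk]
  exact dvd_pow_self s fun e => h (eq_bot_of_card_eq _ (by rw [hk, e, pow_zero]))

theorem zc_le (H : Subgroup G) : zc s H ≤ qc s H := inf_le_left

theorem le_normalizer_zc (H : Subgroup G) : H ≤ normalizer (zc s H : Set G) :=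
  le_trans (le_inf (le_normalizer_qc s H)
    ((le_normalizer_fitting H).trans (TH.normalizer_le_normalizer_centralizer _))) inf_normalizer_le_normalizer_inf

theorem zc_ne_bot {H : Subgroup G} (h : qc s H ≠ ⊥) : zc s H ≠ ⊥ := by
  obtain ⟨z, hz, hz1, hzc⟩ := CfsgLib.CN.exists_central (isPGroup_qc (s := s) H).isNilpotent h
  intro hb
  refine hz1 (mem_bot.1 (hb ▸ (mem_inf.2 ⟨hz, mem_centralizer_iff.2 ?_⟩ : z ∈ zc s H)))
  intro f hf
  refine mem_centralizer_singleton_iff.1 (?_ : f ∈ centralizer ({z} : Set G))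
  revert hf
  refine fun hf => CfsgLib.FGSA.le_of_prime_power_mem (A := fittingOf H) (fun r hr a ha hak => ?_) hf
  obtain ⟨j, hj⟩ := hak
  refine mem_centralizer_singleton_iff.2 ?_
  by_cases hrs : r = s
  · subst hrs
    exact (hzc a (mem_qc ha hj)).eq
  obtain ⟨k, hk⟩ := IsPGroup.iff_card.1 (isPGroup_qc (s := s) H)
  exact (CfsgLib.CN.commute_in (nilpotent_fitting H) ha (qc_le_fitting H hz)
    ((((Nat.coprime_primes hr Fact.out).2 hrs).pow j k).coprime_dvd_right
      (hk ▸ (qc s H).orderOf_dvd_natCard hz) |> fun h => hj.symm ▸ h)).eq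

/-- The image of a normalized subgroup of order prime to `s` centralizes the `s`-core of a quotient. -/
theorem cross {H Zs U X : Subgroup G} (hZs : IsPGroup s Zs) (hC : centralizer (Zs : Set G) ≤ H)
    (hHU : H ≤ normalizer (U : Set G)) (hUs : (Nat.card U).Coprime s) (hcomm : U ≤ centralizer (Zs : Set G))
    (hZX : Zs ≤ X) (hUX : U ≤ X) (N : Subgroup X) [N.Normal] (hN : (Nat.card N).Coprime s) :
    (U.subgroupOf X).map (QuotientGroup.mk' N) ≤ centralizer (Cfsg.pCore s (X ⧸ N) : Set (X ⧸ N)) := by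
  set f := QuotientGroup.mk' N
  set F := Cfsg.pCore s (X ⧸ N)
  have hF : IsPGroup s F := CfsgLib.Solvable.isPGroup_pCore s
  haveI : F.Normal := CfsgLib.Solvable.pCore_normal s
  set Q := (U.subgroupOf X).map f
  set Z := Zs.subgroupOf X
  have hUc : (Nat.card (U.subgroupOf X)).Coprime s := by
    rwa [Nat.card_congr (subgroupOfEquivOfLe hUX).toEquiv]
  have hQ : (Nat.card Q).Coprime s := hUc.coprime_dvd_left (card_map_dvd _ _)
  have hZp : IsPGroup s Z := hZs.of_equiv (subgroupOfEquivOfLe hZX).symm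
  have hPQ : Z.map f ≤ centralizer (Q : Set (X ⧸ N)) := by
    rintro _ ⟨z, hz, rfl⟩
    refine mem_centralizer_iff.2 ?_
    rintro _ ⟨h, hh, rfl⟩
    rw [← map_mul, ← map_mul]
    exact congrArg f (Subtype.ext (mem_centralizer_iff.1 (hcomm hh) _ hz).symm)
  have hfix : F ⊓ centralizer (Z.map f : Set (X ⧸ N)) ≤ centralizer (Q : Set (X ⧸ N)) := by
    rintro g ⟨hgF, hgb⟩
    obtain ⟨g, rfl⟩ := QuotientGroup.mk'_surjective N g
    haveI := hZp.isNilpotent
    obtain ⟨j, hj⟩ := IsPGroup.iff_card.1 hZp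
    obtain ⟨c, hc1, hc2⟩ := CfsgLib.Coprime.exists_commute_mem_coset Z N le_normalizer_of_normal
      (hj ▸ (hN.pow_right j).symm) g (fun a ha => by
        rw [← QuotientGroup.ker_mk' N, MonoidHom.mem_ker]
        change f (g⁻¹ * (a * g * a⁻¹)) = 1
        rw [map_mul, map_mul, map_mul, map_inv, map_inv, mem_centralizer_iff.1 hgb (f a) ⟨a, ha, rfl⟩,
          mul_inv_cancel_right, inv_mul_cancel])
    have hcg : f c = f g := by
      have h1 : f (g⁻¹ * c) = 1 := (QuotientGroup.eq_one_iff _).2 hc2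
      rw [map_mul, map_inv, inv_mul_eq_one] at h1
      exact h1.symm
    have hcH : (c : G) ∈ H := hC (mem_centralizer_iff.2 fun z hz =>
      congrArg Subtype.val (hc1 ⟨z, hZX hz⟩ (mem_subgroupOf.2 hz)))
    refine mem_centralizer_iff.2 ?_
    rintro _ ⟨h, hh, rfl⟩
    show f h * f g = f g * f h
    rw [← hcg, ← mul_inv_eq_iff_eq_mul, ← mul_inv_eq_one]
    have hK : h * c * h⁻¹ * c⁻¹ ∈ U.subgroupOf X := by
      rw [mul_assoc h, mul_assoc h, mem_subgroupOf]
      exact mul_mem (mem_subgroupOf.1 hh) ((mem_normalizer_iff.1 (hHU hcH) _).1 (inv_mem (mem_subgroupOf.1 hh)))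
    have hd : f (h * c * h⁻¹ * c⁻¹) ∈ F := by
      simp only [map_mul, map_inv]
      exact mul_mem (Normal.conj_mem inferInstance _ (hcg ▸ hgF) _) (inv_mem (hcg ▸ hgF))
    have h1 := CfsgLib.CharP.eq_one_of_mem_pgroup hF hd
      ((hUc.coprime_dvd_left ((U.subgroupOf X).orderOf_dvd_natCard hK)).coprime_dvd_left (orderOf_map_dvd f _))
    simpa only [map_mul, map_inv] using h1
  have hnorm : ∀ V : Subgroup (X ⧸ N), V ≤ normalizer (F : Set (X ⧸ N)) := fun V => le_normalizer_of_normal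
  have hc := CfsgLib.CoprimeAct.p_times_q_aux (Nat.card F) s (Z.map f) Q F rfl (hZp.map f) hQ hF hPQ
    (hnorm _) (hnorm _) hfix
  exact le_centralizer_iff.1 (commutator_eq_bot_iff_le_centralizer.1 hc)

/-- The same without a quotient. -/
theorem cross_qc {H Zs U X : Subgroup G} (hZs : IsPGroup s Zs) (hC : centralizer (Zs : Set G) ≤ H)
    (hHU : H ≤ normalizer (U : Set G)) (hUs : (Nat.card U).Coprime s) (hcomm : U ≤ centralizer (Zs : Set G))
    (hZX : Zs ≤ X) (hUX : U ≤ X) : qc s X ≤ centralizer (U : Set G) := by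
  have h := cross hZs hC hHU hUs hcomm hZX hUX (⊥ : Subgroup X) (by simp)
  rintro _ ⟨x, hx, rfl⟩
  refine mem_centralizer_iff.2 fun u hu => ?_
  have hx' : QuotientGroup.mk' (⊥ : Subgroup X) x ∈ Cfsg.pCore s (X ⧸ (⊥ : Subgroup X)) :=
    CfsgLib.Solvable.le_pCore s ((CfsgLib.Solvable.pCore_normal s).map _ (QuotientGroup.mk'_surjective _))
      ((CfsgLib.Solvable.isPGroup_pCore s).map _) (mem_map_of_mem _ hx)
  have h1 := mem_centralizer_iff.1 (h (mem_map_of_mem _ (mem_subgroupOf.2 hu :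
    (⟨u, hUX hu⟩ : X) ∈ U.subgroupOf X))) _ hx'
  rw [← map_mul, ← map_mul, QuotientGroup.mk'_apply, QuotientGroup.mk'_apply, QuotientGroup.eq, mem_bot,
    inv_mul_eq_one] at h1
  exact (congrArg Subtype.val h1).symm

/-- Prime-power elements of the Fitting subgroup suffice. -/
theorem fitting_le_of_qc {H X : Subgroup G} (h : ∀ (r : ℕ) [Fact r.Prime], qc r H ≤ X) : fittingOf H ≤ X :=
  CfsgLib.FGSA.le_of_prime_power_mem fun r hr a ha ⟨j, hj⟩ => by
    haveI := Fact.mk hr
    exact h r (mem_qc ha hj)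

theorem qc_dvd {H : Subgroup G} {r : ℕ} [Fact r.Prime] {K : Subgroup G} (hK : IsPGroup r K) (hK1 : K ≠ ⊥)
    (h : K ≤ fittingOf H) : r ∣ Nat.card (fittingOf H) := by
  obtain ⟨k, hk⟩ := IsPGroup.iff_card.1 hK
  refine dvd_trans ?_ (card_dvd_of_le h)
  rw [hk]
  exact dvd_pow_self r fun e => hK1 (eq_bot_of_card_eq _ (by rw [hk, e, pow_zero]))

variable (hG : Cfsg.IsMinSimpleOddOrder G)
include hG

theorem centralizer_le_of_normal {H : Subgroup G} (hH : IsCoatom H) {K : Subgroup G} (hKH : K ≤ H)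
    (hn : H ≤ normalizer (K : Set G)) (hK : K ≠ ⊥) : centralizer (K : Set G) ≤ H :=
  (centralizer_le_normalizer _).trans (Uniq.coatom_normalizer_eq hG hH hKH hn hK).le

variable {H : Subgroup G} (hH : IsCoatom H) (h2 : 2 ≤ (Nat.card (fittingOf H)).primeFactors.card)
include hH h2

omit hG hH in
theorem exists_other (s : ℕ) : ∃ r : ℕ, r.Prime ∧ r ≠ s ∧ r ∣ Nat.card (fittingOf H) := by
  by_contra h
  push Not at h
  have : (Nat.card (fittingOf H)).primeFactors ⊆ {s} := fun r hr => by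
    rw [Nat.mem_primeFactors] at hr
    by_contra hne
    exact h r hr.1 (by simpa using hne) hr.2.1
  exact absurd (h2.trans (Finset.card_le_card this)) (by simp)

/-- Invariant subgroups of order prime to `F(H)` lie in the corresponding core of every proper overgroup. -/
theorem invariant_le_core {A : Subgroup G} (hAH : A ≤ H) (hA : Group.IsSolvable A)
    (hZ : ∀ (r : ℕ) [Fact r.Prime], zc r H ≤ A)
    (hone : ∀ W : Subgroup G, W ≤ H → A ≤ normalizer (W : Set G) →
      (∀ r : ℕ, r.Prime → r ∣ Nat.card W → r ∈ primesNotDvd (Nat.card (fittingOf H))) → W = ⊥)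
    {X W : Subgroup G} (hX : X ≠ ⊤) (hAX : A ≤ X) (hWX : W ≤ X) (hn : A ≤ normalizer (W : Set G))
    (hW : ∀ r : ℕ, r.Prime → r ∣ Nat.card W → r ∈ primesNotDvd (Nat.card (fittingOf H))) :
    W ≤ piCoreOf (primesNotDvd (Nat.card (fittingOf H))) X := by
  set σ := primesNotDvd (Nat.card (fittingOf H))
  haveI : Group.IsSolvable X := hG.2.2.2 X hX
  set N := piCore σ X
  set f := QuotientGroup.mk' N
  have hNσ : ∀ r : ℕ, r.Prime → r ∣ Nat.card N → r ∈ σ := fun r hr hd =>
    Cfsg.Agent.S3743.isPi_of_sup _ (fun M hM => hM.1) (fun M hM => hM.2) r hr hd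
  have hcore : ∀ (r : ℕ) [Fact r.Prime], r ∈ σ → Cfsg.pCore r (X ⧸ N) = ⊥ := by
    intro r _ hr
    set R := (Cfsg.pCore r (X ⧸ N)).comap f
    have hRn : R.Normal := (CfsgLib.Solvable.pCore_normal r).comap f
    have hle : R ≤ N := le_sSup ⟨hRn, fun t ht htd => by
      have hcard : Nat.card R ∣ Nat.card N * Nat.card (Cfsg.pCore r (X ⧸ N)) := by
        have h1 := relIndex_ker (f := f) R
        have h2 : N ≤ R := fun x hx => by
          simp only [R, mem_comap, f, QuotientGroup.mk'_apply, (QuotientGroup.eq_one_iff x).2 hx, one_mem]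
        rw [QuotientGroup.ker_mk'] at h1
        rw [← relIndex_bot_left R, ← relIndex_mul_relIndex ⊥ N R bot_le h2, relIndex_bot_left, h1]
        exact Nat.mul_dvd_mul_left _ (card_dvd_of_le (map_comap_le _ _))
      rcases ht.dvd_mul.1 (htd.trans hcard) with h | h
      · exact hNσ t ht h
      · obtain ⟨k, hk⟩ := IsPGroup.iff_card.1 (CfsgLib.Solvable.isPGroup_pCore (G := X ⧸ N) r)
        rw [hk] at h
        exact (Nat.prime_dvd_prime_iff_eq ht Fact.out).1 (ht.dvd_of_dvd_pow h) ▸ hr⟩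
    rw [← map_comap_eq_self_of_surjective (QuotientGroup.mk'_surjective N) (Cfsg.pCore r (X ⧸ N)),
      Subgroup.map_eq_bot_iff, QuotientGroup.ker_mk']
    exact hle
  set Wb := (W.subgroupOf X).map f
  have hWbσ : ∀ r : ℕ, r.Prime → r ∣ Nat.card Wb → r ∈ σ := fun r hr hd => hW r hr
    (Nat.card_congr (subgroupOfEquivOfLe hWX).toEquiv ▸ hd.trans (card_map_dvd _ _))
  have key : ∀ (s : ℕ) [Fact s.Prime], Wb ≤ centralizer (Cfsg.pCore s (X ⧸ N) : Set (X ⧸ N)) := by
    intro s hs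
    by_cases hsσ : s ∈ σ
    · rw [hcore s hsσ]
      intro x _
      exact mem_centralizer_iff.2 fun y hy => by rw [SetLike.mem_coe, mem_bot] at hy; simp [hy]
    have hsF : s ∣ Nat.card (fittingOf H) := by
      by_contra h
      exact hsσ ⟨hs.out, h⟩
    obtain ⟨r, hr, hrs, hrF⟩ := exists_other h2 s
    haveI := Fact.mk hr
    have hZs : zc s H ≠ ⊥ := zc_ne_bot (qc_ne_bot hsF)
    have hZr : zc r H ≠ ⊥ := zc_ne_bot (qc_ne_bot hrF)
    have hCs : centralizer (zc s H : Set G) ≤ H :=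
      centralizer_le_of_normal hG hH ((zc_le H).trans (qc_le s H)) (le_normalizer_zc H) hZs
    have hCr : centralizer (zc r H : Set G) ≤ H :=
      centralizer_le_of_normal hG hH ((zc_le H).trans (qc_le r H)) (le_normalizer_zc H) hZr
    have hrp : IsPGroup r (zc r H) := (isPGroup_qc H).to_le (zc_le H)
    have hsp : IsPGroup s (zc s H) := (isPGroup_qc H).to_le (zc_le H)
    obtain ⟨k, hk⟩ := IsPGroup.iff_card.1 hrp
    have hc := cross (X := X) hsp hCs (le_normalizer_zc (s := r) H)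
      (hk ▸ ((Nat.coprime_primes hr Fact.out).2 hrs).pow_left k)
      (fun x hx => mem_centralizer_iff.2 fun z hz =>
        (mem_centralizer_iff.1 (mem_inf.1 hx).2 z (qc_le_fitting H (zc_le H hz))))
      ((hZ s).trans hAX) ((hZ r).trans hAX) N (Nat.coprime_comm.1 (hs.out.coprime_iff_not_dvd.2
        fun hd => hsσ (hNσ s hs.out hd)))
    have hWr : zc r H ≤ normalizer (W : Set G) := (hZ r).trans hn
    have hcop : (Nat.card (zc r H)).Coprime (Nat.card W) := by
      rw [hk]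
      exact (hr.coprime_iff_not_dvd.2 fun hd => (hW r hr hd).2 hrF).pow_left k
    haveI := hrp.isNilpotent
    have hfix : W ⊓ centralizer (zc r H : Set G) = ⊥ := by
      refine le_bot_iff.1 (le_of_le_of_eq (inf_le_inf_left W hCr) (hone _ inf_le_right ?_ fun t ht htd =>
        hW t ht (htd.trans (card_dvd_of_le inf_le_left))))
      exact le_trans (le_inf hn (hAH.trans le_normalizer)) inf_normalizer_le_normalizer_inf
    have hWcomm : ⁅W, zc r H⁆ = W := by
      have h := CfsgLib.CoprimeAct.commutator_sup_centralizer hWr hcop (Or.inl inferInstance)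
      rwa [hfix, sup_bot_eq] at h
    haveI : (centralizer (Cfsg.pCore s (X ⧸ N) : Set (X ⧸ N))).Normal := by
      haveI := CfsgLib.Solvable.pCore_normal (G := X ⧸ N) s
      exact Subgroup.normal_centralizer
    have hW' : (⁅W, zc r H⁆).subgroupOf X = ⁅W.subgroupOf X, (zc r H).subgroupOf X⁆ := by
      apply Subgroup.map_injective X.subtype_injective
      rw [map_commutator, map_subgroupOf_eq_of_le hWX, map_subgroupOf_eq_of_le ((hZ r).trans hAX),
        map_subgroupOf_eq_of_le (hWcomm.le.trans hWX)]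
    calc Wb = ((⁅W, zc r H⁆).subgroupOf X).map f := by rw [hWcomm]
      _ = ⁅Wb, ((zc r H).subgroupOf X).map f⁆ := by rw [hW', map_commutator]
      _ ≤ ⁅Wb, centralizer (Cfsg.pCore s (X ⧸ N) : Set (X ⧸ N))⁆ := commutator_mono le_rfl hc
      _ ≤ centralizer (Cfsg.pCore s (X ⧸ N) : Set (X ⧸ N)) := commutator_le_right _ _
  have hbot : Wb = ⊥ := by
    refine le_bot_iff.1 (CfsgLib.FGSA.le_of_prime_power_mem fun r hr a ha ⟨j, hj⟩ => ?_)
    haveI := Fact.mk hr
    rcases Nat.eq_zero_or_pos j with rfl | hj0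
    · rw [pow_zero, orderOf_eq_one_iff] at hj
      exact hj ▸ one_mem _
    have hrσ : r ∈ σ := hWbσ r hr ((dvd_pow_self r hj0.ne').trans (hj ▸ Wb.orderOf_dvd_natCard ha))
    have haF : a ∈ Cfsg.fittingSubgroup (X ⧸ N) := by
      refine CfsgLib.Fitting.centralizer_fittingSubgroup_le_of_solvable (mem_centralizer_iff.2 fun y hy => ?_)
      refine mem_centralizer_singleton_iff.1 (?_ : y ∈ centralizer ({a} : Set (X ⧸ N)))
      refine CfsgLib.FGSA.le_of_prime_power_mem (A := Cfsg.fittingSubgroup (X ⧸ N))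
        (fun t ht b hb ⟨i, hi⟩ => ?_) hy
      haveI := Fact.mk ht
      exact mem_centralizer_singleton_iff.2 (mem_centralizer_iff.1 (key t ha) b
        (CfsgLib.FGSA.RankTwoSolvable.mem_pCore_of_mem_fitting ht hi hb))
    rw [← hcore r hrσ]
    exact CfsgLib.FGSA.RankTwoSolvable.mem_pCore_of_mem_fitting hr hj haF
  intro w hw
  exact ⟨⟨w, hWX hw⟩, (QuotientGroup.eq_one_iff _).1 (mem_bot.1 (hbot ▸ mem_map_of_mem f
    (mem_subgroupOf.2 hw : (⟨w, hWX hw⟩ : X) ∈ W.subgroupOf X))), rfl⟩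

omit hH h2 in
/-- Cores of two maximal subgroups containing each other's Fitting subgroups. -/
theorem core_le_core {H L : Subgroup G} (hH : IsCoatom H) (hL : IsCoatom L) (hFL : fittingOf H ≤ L)
    (hVH : fittingOf L ≤ H) {r : ℕ} [Fact r.Prime] (hr : qc r H ≠ ⊥) (hr' : qc r L ≠ ⊥) :
    Uniq.coreOf r H ≤ Uniq.coreOf r L := by
  set O := Uniq.coreOf r H
  haveI hLs : Group.IsSolvable L := hG.2.2.2 L hL.1
  haveI hHs : Group.IsSolvable H := hG.2.2.2 H hH.1
  have hOH : O ≤ H := Uniq.coreOf_le H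
  have hOc : (Nat.card O).Coprime r := Uniq.coprime_coreOf H
  have hOn : H ≤ normalizer (O : Set G) := Uniq.le_normalizer_coreOf H
  have hOs : Group.IsSolvable O := hG.2.2.2 O fun h => hH.1 (top_le_iff.1 (h ▸ hOH))
  have hVrH : qc r L ≤ H := (qc_le_fitting L).trans hVH
  have hFO : fittingOf O ≤ fittingOf H :=
    le_fitting ((fitting_le O).trans hOH) (fun h hh => by
      refine Uniq.mem_normalizer_of_map_le (le_fitting ?_ ?_ ?_)
      · exact (map_mono (fitting_le O)).trans (Uniq.conj_map_eq_of_mem (hOn hh)).le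
      · conv_lhs => rw [← Uniq.conj_map_eq_of_mem (hOn hh)]
        exact (map_mono (le_normalizer_fitting O)).trans (le_normalizer_map _)
      · exact CfsgLib.CN.nilpotent_map (nilpotent_fitting O) _)
      (nilpotent_fitting O)
  have hVO : ∀ v ∈ qc r L, ∀ f ∈ fittingOf O, v * f = f * v := by
    intro v hv f hf
    refine (mem_centralizer_singleton_iff.1 (?_ : f ∈ centralizer ({v} : Set G))).symm
    refine CfsgLib.FGSA.le_of_prime_power_mem (A := fittingOf O) (fun t ht a ha ⟨j, hj⟩ => ?_) hf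
    haveI := Fact.mk ht
    refine mem_centralizer_singleton_iff.2 ?_
    rcases eq_or_ne a 1 with rfl | ha1
    · simp
    have htr : t ≠ r := by
      rintro rfl
      refine ha1 (orderOf_eq_one_iff.1 (Nat.eq_one_of_dvd_coprimes ?_ (dvd_refl _) hj.dvd))
      exact (hOc.coprime_dvd_left (O.orderOf_dvd_natCard (fitting_le O ha))).pow_right j
    have haH : a ∈ qc t H := mem_qc (hFO ha) hj
    have h1 : a * v * a⁻¹ * v⁻¹ ∈ qc r L :=
      mul_mem ((mem_normalizer_iff.1 (le_normalizer_qc r L (hFL (qc_le_fitting H haH))) v).1 hv) (inv_mem hv)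
    have h2 : a * v * a⁻¹ * v⁻¹ ∈ qc t H := by
      rw [mul_assoc a, mul_assoc a]
      exact mul_mem haH ((mem_normalizer_iff.1 (le_normalizer_qc t H (hVrH hv)) _).1 (inv_mem haH))
    exact mul_inv_eq_iff_eq_mul.1 (mul_inv_eq_one.1 (eq_one_of_pgroups htr (isPGroup_qc H) (isPGroup_qc L) h2 h1))
  have hVcent : O ≤ centralizer (qc r L : Set G) := by
    intro o ho
    refine mem_centralizer_iff.2 fun v hv => ?_
    have hvn : v ∈ normalizer (O : Set G) := hOn (hVrH hv)
    have hc : v * o * v⁻¹ * o⁻¹ ∈ fittingOf O := by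
      refine centralizer_fitting_le hOs (mem_inf.2 ⟨mul_mem ((mem_normalizer_iff.1 hvn o).1 ho) (inv_mem ho),
        mem_centralizer_iff.2 fun f hf => ?_⟩)
      have hf' : o⁻¹ * f * o ∈ fittingOf O := (mem_normalizer_iff''.1 (le_normalizer_fitting O ho) f).1 hf
      have hw1 : Commute v f := hVO v hv f hf
      have hw2 : Commute v (o⁻¹ * f * o) := hVO v hv _ hf'
      calc f * (v * o * v⁻¹ * o⁻¹) = v * o * ((o⁻¹ * f * o) * v⁻¹) * o⁻¹ := by
            rw [← mul_assoc, ← mul_assoc, ← mul_assoc, ← hw1.eq]; group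
        _ = v * o * (v⁻¹ * (o⁻¹ * f * o)) * o⁻¹ := by rw [hw2.inv_left.eq]
        _ = (v * o * v⁻¹ * o⁻¹) * f := by group
    obtain ⟨k, hk⟩ := IsPGroup.iff_card.1 (isPGroup_qc (s := r) L)
    have h1 := Uniq.eq_one_of_shift (y := o) hc
      ((((hOc.coprime_dvd_left (card_dvd_of_le (fitting_le O))).pow_right k).symm).coprime_dvd_left
        (hk ▸ (qc r L).orderOf_dvd_natCard hv))
      (hVO v hv _ hc) (by simp [mul_assoc])
    exact mul_inv_eq_iff_eq_mul.1 (mul_inv_eq_one.1 h1)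
  have hOL : O ≤ L := hVcent.trans (centralizer_le_of_normal hG hL (qc_le r L) (le_normalizer_qc r L) hr')
  have hcomm : O ≤ centralizer (qc r H : Set G) := by
    intro o ho
    refine mem_centralizer_iff.2 fun x hx => ?_
    have h1 : x * o * x⁻¹ * o⁻¹ ∈ O :=
      mul_mem ((mem_normalizer_iff.1 (hOn (qc_le r H hx)) o).1 ho) (inv_mem ho)
    have h2 : x * o * x⁻¹ * o⁻¹ ∈ qc r H := by
      rw [mul_assoc x, mul_assoc x]
      exact mul_mem hx ((mem_normalizer_iff.1 (le_normalizer_qc r H (hOH ho)) _).1 (inv_mem hx))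
    exact mul_inv_eq_iff_eq_mul.1 (mul_inv_eq_one.1 (CfsgLib.CharP.eq_one_of_mem_pgroup (isPGroup_qc H) h2
      (hOc.coprime_dvd_left (O.orderOf_dvd_natCard h1))))
  haveI : (Cfsg.pPrimeCore r L).Normal := CfsgLib.Solvable.pPrimeCore_normal r
  have hc := cross (X := L) (isPGroup_qc (s := r) H)
    (centralizer_le_of_normal hG hH (qc_le r H) (le_normalizer_qc r H) hr) hOn hOc hcomm
    ((qc_le_fitting H).trans hFL) hOL (Cfsg.pPrimeCore r L) (CfsgLib.Solvable.coprime_card_pPrimeCore r)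
  intro o ho
  set f := QuotientGroup.mk' (Cfsg.pPrimeCore r L)
  have h1 : f ⟨o, hOL ho⟩ ∈ Cfsg.pCore r (L ⧸ Cfsg.pPrimeCore r L) :=
    CfsgLib.Fitting.centralizer_pCore_le (CfsgLib.Fitting.pPrimeCore_quotient_eq_bot r)
      (hc (mem_map_of_mem f (mem_subgroupOf.2 ho : (⟨o, hOL ho⟩ : L) ∈ O.subgroupOf L)))
  refine ⟨⟨o, hOL ho⟩, (QuotientGroup.eq_one_iff _).1 ?_, rfl⟩
  refine CfsgLib.CharP.eq_one_of_mem_pgroup (CfsgLib.Solvable.isPGroup_pCore r) h1 ?_
  refine (hOc.coprime_dvd_left ?_).coprime_dvd_left (orderOf_map_dvd f _)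
  rw [orderOf_mk]
  exact O.orderOf_dvd_natCard ho

/-- A maximal subgroup whose Fitting subgroup involves two primes is the only one over a subgroup
without nontrivial invariant subgroups of order prime to it. -/
theorem eq_of_no_invariant {A : Subgroup G} (hZ : ∀ (r : ℕ) [Fact r.Prime], zc r H ≤ A)
    (hinv : ∀ Y : Subgroup G, A ≤ normalizer (Y : Set G) →
      (∀ r : ℕ, r.Prime → r ∣ Nat.card Y → r ∈ primesNotDvd (Nat.card (fittingOf H))) → Y = ⊥)
    {L : Subgroup G} (hL : IsCoatom L) (hAL : A ≤ L) : L = H := by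
  haveI hLs : Group.IsSolvable L := hG.2.2.2 L hL.1
  haveI hHs : Group.IsSolvable H := hG.2.2.2 H hH.1
  set nF := Nat.card (fittingOf H)
  have hLπ : ∀ (s : ℕ) [Fact s.Prime], qc s L ≠ ⊥ → s ∣ nF := by
    intro s hs hne
    by_contra hns
    refine hne (hinv _ (hAL.trans (le_normalizer_qc s L)) fun t ht htd => ?_)
    obtain ⟨k, hk⟩ := IsPGroup.iff_card.1 (isPGroup_qc (s := s) L)
    rw [hk] at htd
    rw [(Nat.prime_dvd_prime_iff_eq ht hs.out).1 (ht.dvd_of_dvd_pow htd)]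
    exact ⟨hs.out, hns⟩
  have hcentral : ∀ (s r : ℕ) [Fact s.Prime] [Fact r.Prime], r ≠ s → s ∣ nF → r ∣ nF →
      qc s L ≤ centralizer (zc r H : Set G) := by
    intro s r _ _ hrs hs hr
    obtain ⟨k, hk⟩ := IsPGroup.iff_card.1 ((isPGroup_qc (s := r) H).to_le (zc_le H))
    exact cross_qc ((isPGroup_qc (s := s) H).to_le (zc_le H))
      (centralizer_le_of_normal hG hH ((zc_le H).trans (qc_le s H)) (le_normalizer_zc H) (zc_ne_bot (qc_ne_bot hs)))
      (le_normalizer_zc (s := r) H) (hk ▸ ((Nat.coprime_primes Fact.out Fact.out).2 hrs).pow_left k)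
      (fun x hx => mem_centralizer_iff.2 fun z hz =>
        mem_centralizer_iff.1 (mem_inf.1 hx).2 z (qc_le_fitting H (zc_le H hz)))
      ((hZ s).trans hAL) ((hZ r).trans hAL)
  have hVH : fittingOf L ≤ H := fitting_le_of_qc fun s hs => by
    rcases eq_or_ne (qc s L) ⊥ with h | h
    · rw [h]; exact bot_le
    obtain ⟨r, hr, hrs, hrF⟩ := exists_other h2 s
    haveI := Fact.mk hr
    exact (hcentral s r hrs (hLπ s h) hrF).trans
      (centralizer_le_of_normal hG hH ((zc_le H).trans (qc_le r H)) (le_normalizer_zc H) (zc_ne_bot (qc_ne_bot hrF)))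
  have hπ : ∀ (s : ℕ) [Fact s.Prime], s ∣ nF → qc s L ≠ ⊥ := by
    intro s hs hsF hbot
    have hz : zc s H ≤ fittingOf L := by
      refine le_trans (le_inf ((hZ s).trans hAL) ?_) (centralizer_fitting_le hLs)
      refine le_centralizer_iff.1 (fitting_le_of_qc fun t ht => ?_)
      rcases eq_or_ne (qc t L) ⊥ with h | h
      · rw [h]; exact bot_le
      exact hcentral t s (fun e => h (by subst e; exact hbot)) (hLπ t h) hsF
    refine zc_ne_bot (qc_ne_bot hsF) (le_bot_iff.1 fun x hx => ?_)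
    obtain ⟨k, hk⟩ := IsPGroup.iff_orderOf.1 ((isPGroup_qc (s := s) H).to_le (zc_le H)) ⟨x, hx⟩
    rw [← hbot]
    exact mem_qc (hz hx) (j := k) (by rwa [← orderOf_mk x hx])
  have hFL : fittingOf H ≤ L := fitting_le_of_qc fun s hs => by
    rcases eq_or_ne (qc s H) ⊥ with h | h
    · rw [h]; exact bot_le
    have hsF : s ∣ nF := dvd_fitting_of_qc h
    obtain ⟨r, hr, hrs, hrF⟩ := exists_other h2 s
    haveI := Fact.mk hr
    obtain ⟨k, hk⟩ := IsPGroup.iff_card.1 ((isPGroup_qc (s := r) L).to_le (zc_le L))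
    refine (cross_qc ((isPGroup_qc (s := s) L).to_le (zc_le L))
      (centralizer_le_of_normal hG hL ((zc_le L).trans (qc_le s L)) (le_normalizer_zc L) (zc_ne_bot (hπ s hsF)))
      (le_normalizer_zc (s := r) L) (hk ▸ ((Nat.coprime_primes hr Fact.out).2 hrs).pow_left k)
      (fun x hx => mem_centralizer_iff.2 fun z hz =>
        mem_centralizer_iff.1 (mem_inf.1 hx).2 z (qc_le_fitting L (zc_le L hz)))
      ((zc_le L).trans ((qc_le_fitting L).trans hVH)) ((zc_le L).trans ((qc_le_fitting L).trans hVH))).trans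
      (centralizer_le_of_normal hG hL ((zc_le L).trans (qc_le r L)) (le_normalizer_zc L) (zc_ne_bot (hπ r hrF)))
  obtain ⟨r, hr, -, hrF⟩ := exists_other h2 0
  haveI := Fact.mk hr
  obtain ⟨t, ht, htr, htF⟩ := exists_other h2 r
  haveI := Fact.mk ht
  have heq : Uniq.coreOf r H = Uniq.coreOf r L :=
    le_antisymm (core_le_core hG hH hL hFL hVH (qc_ne_bot hrF) (hπ r hrF))
      (core_le_core hG hL hH hVH hFL (hπ r hrF) (qc_ne_bot hrF))
  have hne : Uniq.coreOf r H ≠ ⊥ := by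
    refine ne_bot_of_le_ne_bot (qc_ne_bot (s := t) htF) ?_
    refine map_mono (CfsgLib.Solvable.le_pPrimeCore r (CfsgLib.Solvable.pCore_normal t) ?_)
    obtain ⟨k, hk⟩ := IsPGroup.iff_card.1 (CfsgLib.Solvable.isPGroup_pCore (G := H) t)
    exact hk ▸ ((Nat.coprime_primes ht hr).2 htr).pow_left k
  rw [← Uniq.coatom_normalizer_eq hG hH (Uniq.coreOf_le H) (Uniq.le_normalizer_coreOf H) hne, heq]
  exact (Uniq.coatom_normalizer_eq hG hL (Uniq.coreOf_le L) (Uniq.le_normalizer_coreOf L) (heq ▸ hne)).symm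

omit hH h2 in
/-- Transitivity forces the invariant subgroups of order prime to a large `A ≤ F(M)` to be trivial. -/
theorem no_invariant {M A : Subgroup G} (hM : IsCoatom M) (hTH : Cfsg.TransitivityHypothesis A)
    (hAF : A ≤ fittingOf M) (hZ : ¬ Cfsg.RankLE 2 ↥(A ⊓ centralizer (A : Set G)))
    (hπ : ∀ r : ℕ, r.Prime → r ∣ Nat.card (fittingOf M) → r ∣ Nat.card A) :
    ∀ Y : Subgroup G, A ≤ normalizer (Y : Set G) →
      (∀ r : ℕ, r.Prime → r ∣ Nat.card Y → r ∈ primesNotDvd (Nat.card A)) → Y = ⊥ := by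
  haveI hMs : Group.IsSolvable M := hG.2.2.2 M hM.1
  set F := fittingOf M
  have hFM : F ≤ M := fitting_le M
  have hAM : A ≤ M := hAF.trans hFM
  have hsmall : ∀ W : Subgroup G, W ≤ M → W ≤ centralizer (F : Set G) →
      (∀ r : ℕ, r.Prime → r ∣ Nat.card W → r ∈ primesNotDvd (Nat.card A)) → W = ⊥ := by
    intro W hWM hWC hW
    refine eq_bot_of_card_eq _ ?_
    by_contra hne
    obtain ⟨r, hr, hrd⟩ := Nat.exists_prime_and_dvd hne
    exact (hW r hr hrd).2 (hπ r hr (hrd.trans (card_dvd_of_le ((le_inf hWM hWC).trans (centralizer_fitting_le hMs)))))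
  have hF1 : F ≠ ⊥ := fun h => hTH.1 (le_bot_iff.1 (h ▸ hAF))
  have hNF : normalizer (F : Set G) = M := Uniq.coatom_normalizer_eq hG hM hFM (le_normalizer_fitting M) hF1
  intro Y hY hYσ
  have hAs : Group.IsSolvable A := hG.2.2.2 A hTH.2.1
  refine le_bot_iff.1 (Uniq.le_of_forall_qgroup hAs hY
    (TH.coprime_of_primes (fun _ _ h => h) hYσ) fun q hq Q hQY hQ hAQ => ?_)
  rcases eq_or_ne Q ⊥ with h | hQ1
  · exact h.le
  have hqA : ¬ q ∣ Nat.card A := by
    obtain ⟨k, hk⟩ := IsPGroup.iff_card.1 hQ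
    refine (hYσ q hq.out ((dvd_trans ?_ (card_dvd_of_le hQY)))).2
    rw [hk]
    exact dvd_pow_self q fun e => hQ1 (eq_bot_of_card_eq _ (by rw [hk, e, pow_zero]))
  have htr : ∀ Q₁ ∈ maxInvSubgroups ⊤ A {q}, ∀ Q₂ ∈ maxInvSubgroups ⊤ A {q}, TH.Rel A Q₁ Q₂ :=
    fun Q₁ h₁ Q₂ h₂ => TH.rel_of_rankThree hG hTH hqA hZ h₁ h₂
  haveI := nilpotent_fitting M
  obtain ⟨-, -, hsub, hfac⟩ := Cfsg.Agent.S1395.result hG A hTH q hq.out hqA F
    (fun h => hM.1 (top_le_iff.1 (h ▸ hFM))) hπ hAF (Uniq.subnormal_of_nilpotent (N := F) _) htr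
  obtain ⟨Q₀, -, hQ₀⟩ := TH.exists_max_ge (q := q) (X := F) (IsPGroup.of_bot (p := q)) le_normalizer_of_normal
  have hK : piCoreOf (primesNotDvd (Nat.card A)) (centralizer (F : Set G)) = ⊥ :=
    hsmall _ ((TH.core_le _).trans ((centralizer_le_normalizer _).trans hNF.le)) (TH.core_le _) (TH.core_primes _)
  have hMN : M ≤ normalizer (Q₀ : Set G) := by
    have h := (hfac Q₀ hQ₀).2
    rw [hK, bot_sup_eq, hNF] at h
    exact h.le.trans inf_le_right
  have hQ₀1 : Q₀ = ⊥ := by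
    by_contra hne
    have hN := CfsgLib.CN.MinSimple.normalizer_ne_top hG (TH.isPGroup_of_mem hQ₀.1).isNilpotent hne
    have hQM : Q₀ ≤ M := (hM.le_iff.1 hMN).resolve_left hN ▸ le_normalizer
    refine hne (hsmall Q₀ hQM ?_ (fun r hr hd => ⟨hr, ?_⟩))
    · intro x hx
      refine mem_centralizer_iff.2 fun y hy => ?_
      have h1 : y * x * y⁻¹ * x⁻¹ ∈ Q₀ := mul_mem ((mem_normalizer_iff.1 (hMN (hFM hy)) x).1 hx) (inv_mem hx)
      have h2 : y * x * y⁻¹ * x⁻¹ ∈ F := by
        rw [mul_assoc y, mul_assoc y]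
        exact mul_mem hy ((mem_normalizer_iff.1 (le_normalizer_fitting M (hQM hx)) _).1 (inv_mem hy))
      have hco : (Nat.card F).Coprime (Nat.card Q₀) := by
        obtain ⟨k, hk⟩ := IsPGroup.iff_card.1 (TH.isPGroup_of_mem hQ₀.1)
        rw [hk]
        exact ((hq.out.coprime_iff_not_dvd.2 fun hd => hqA (hπ q hq.out hd)).symm).pow_right k
      exact mul_inv_eq_iff_eq_mul.1 (mul_inv_eq_one.1 (orderOf_eq_one_iff.1
        (Nat.eq_one_of_dvd_coprimes hco (F.orderOf_dvd_natCard h2) (Q₀.orderOf_dvd_natCard h1))))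
    · rw [hQ₀.1.2.1 r hr hd]
      exact hqA
  obtain ⟨Q₁, hQQ₁, hQ₁⟩ := TH.exists_max_ge hQ hAQ
  obtain ⟨k, -, hk⟩ := htr Q₀ (hsub hQ₀) Q₁ hQ₁
  rw [hk, hQ₀1, Subgroup.map_bot] at hQQ₁
  exact hQQ₁

omit hH h2 in
/-- The first uniqueness theorem: the case of a Fitting subgroup involving another prime. -/
theorem fitting_case {p : ℕ} [Fact p.Prime] {M A₀ : Subgroup G} (hM : IsCoatom M)
    (hA₀ : A₀ ≤ fittingOf M) (hA₀e : Cfsg.IsElementaryAbelian p A₀) (hA₀3 : p ^ 3 ≤ Nat.card A₀)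
    (hnp : ¬ IsPGroup p ↥(fittingOf M)) :
    Cfsg.InUniqueMaximal (fittingOf M ⊓ centralizer (A₀ : Set G)) := by
  haveI hMs : Group.IsSolvable M := hG.2.2.2 M hM.1
  set F := fittingOf M
  set A := F ⊓ centralizer (A₀ : Set G)
  have hFM : F ≤ M := fitting_le M
  have hAF : A ≤ F := inf_le_left
  have hA₀A : A₀ ≤ A := le_inf hA₀ fun a ha => mem_centralizer_iff.2 fun b hb => CfsgLib.Signalizer.commute hA₀e hb ha
  have hA₀1 : A₀ ≠ ⊥ := fun h => by
    rw [h, card_bot] at hA₀3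
    exact absurd hA₀3 (not_le.2 (Nat.one_lt_pow (by norm_num) (Fact.out : p.Prime).one_lt))
  have hA1 : A ≠ ⊥ := ne_bot_of_le_ne_bot hA₀1 hA₀A
  have hAtop : A ≠ ⊤ := fun h => hM.1 (top_le_iff.1 (h ▸ hAF.trans hFM))
  have hA : Group.IsSolvable A := hG.2.2.2 A hAtop
  have hZ : ∀ (r : ℕ) [Fact r.Prime], zc r M ≤ A := fun r _ => le_inf ((zc_le M).trans (qc_le_fitting M))
    (inf_le_right.trans (centralizer_le (SetLike.coe_subset_coe.2 hA₀)))
  have hπ : ∀ r : ℕ, r.Prime → r ∣ Nat.card F → r ∣ Nat.card A := fun r hr hd => by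
    haveI := Fact.mk hr
    obtain ⟨k, hk⟩ := IsPGroup.iff_card.1 ((isPGroup_qc (s := r) M).to_le (zc_le M))
    refine dvd_trans ?_ (card_dvd_of_le (hZ r))
    rw [hk]
    exact dvd_pow_self r fun e => zc_ne_bot (qc_ne_bot hd) (eq_bot_of_card_eq _ (by rw [hk, e, pow_zero]))
  have hσ : primesNotDvd (Nat.card A) = primesNotDvd (Nat.card F) := by
    ext r
    exact ⟨fun h => ⟨h.1, fun hd => h.2 (hπ r h.1 hd)⟩, fun h => ⟨h.1, fun hd => h.2 (hd.trans (card_dvd_of_le hAF))⟩⟩
  have hpF : p ∣ Nat.card F := qc_dvd (CfsgLib.Signalizer.isPGroup hA₀e) hA₀1 hA₀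
  have h2 : 2 ≤ (Nat.card F).primeFactors.card := by
    obtain ⟨r, hr, hrd, hrp⟩ : ∃ r : ℕ, r.Prime ∧ r ∣ Nat.card F ∧ r ≠ p := by
      by_contra h
      push Not at h
      exact hnp (IsPGroup.of_card (Nat.eq_prime_pow_of_unique_prime_dvd Nat.card_pos.ne' fun {d} hd hdd => h d hd hdd))
    calc 2 = ({p, r} : Finset ℕ).card := (Finset.card_pair hrp.symm).symm
      _ ≤ _ := Finset.card_le_card fun x hx => by
        rw [Finset.mem_insert, Finset.mem_singleton] at hx
        rcases hx with rfl | rfl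
        · exact Nat.mem_primeFactors.2 ⟨Fact.out, hpF, Nat.card_pos.ne'⟩
        · exact Nat.mem_primeFactors.2 ⟨hr, hrd, Nat.card_pos.ne'⟩
  have hone : ∀ W : Subgroup G, W ≤ M → A ≤ normalizer (W : Set G) →
      (∀ r : ℕ, r.Prime → r ∣ Nat.card W → r ∈ primesNotDvd (Nat.card F)) → W = ⊥ := by
    intro W hWM hn hW
    refine le_bot_iff.1 fun w hw => ?_
    have hco : (Nat.card F).Coprime (Nat.card W) := Nat.coprime_of_dvd fun r hr h1 h2 => (hW r hr h2).2 h1
    have hwA : w ∈ centralizer (A : Set G) := mem_centralizer_iff.2 fun a ha => by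
      have h1 : a * w * a⁻¹ * w⁻¹ ∈ W := mul_mem ((mem_normalizer_iff.1 (hn ha) w).1 hw) (inv_mem hw)
      have h2 : a * w * a⁻¹ * w⁻¹ ∈ F := by
        rw [mul_assoc a, mul_assoc a]
        exact mul_mem (hAF ha) ((mem_normalizer_iff.1 (le_normalizer_fitting M (hWM hw)) _).1 (inv_mem (hAF ha)))
      exact mul_inv_eq_iff_eq_mul.1 (mul_inv_eq_one.1 (orderOf_eq_one_iff.1
        (Nat.eq_one_of_dvd_coprimes hco (F.orderOf_dvd_natCard h2) (W.orderOf_dvd_natCard h1))))
    have hwF := Uniq.centralizes_nilpotent (nilpotent_fitting M) hAF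
      (inf_le_inf_left F (centralizer_le (SetLike.coe_subset_coe.2 hA₀A))) hwA (le_normalizer_fitting M (hWM hw))
      (hco.symm.coprime_dvd_left (W.orderOf_dvd_natCard hw))
    exact mem_bot.2 (orderOf_eq_one_iff.1 (Nat.eq_one_of_dvd_coprimes hco
      (F.orderOf_dvd_natCard (centralizer_fitting_le hMs (mem_inf.2 ⟨hWM hw, hwF⟩))) (W.orderOf_dvd_natCard hw)))
  have hTH : Cfsg.TransitivityHypothesis A := by
    refine ⟨hA1, hAtop, fun X hX hAX => ?_⟩
    refine le_antisymm (sSup_le fun W hW => ?_) (le_sSup ⟨TH.core_le X, TH.core_primes X, hAX.trans (TH.le_normalizer_core X)⟩)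
    rw [hσ] at hW ⊢
    exact invariant_le_core hG hM h2 (hAF.trans hFM) hA hZ hone hX hAX hW.1 hW.2.2 hW.2.1
  have hrk : ¬ Cfsg.RankLE 2 ↥(A ⊓ centralizer (A : Set G)) := fun h => by
    have h1 := Uniq.rankLE_elementary (h p Fact.out) (le_inf hA₀A fun a ha => mem_centralizer_iff.2 fun b hb =>
      (mem_centralizer_iff.1 (mem_inf.1 hb).2 a ha).symm) hA₀e
    exact absurd (hA₀3.trans h1) (not_le.2 (Nat.pow_lt_pow_right (Fact.out : p.Prime).one_lt (by norm_num)))
  have hinv := no_invariant hG hM hTH hAF hrk hπ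
  rw [hσ] at hinv
  exact ⟨M, ⟨hM, hAF.trans hFM⟩, fun L hL => eq_of_no_invariant hG hM h2 hZ hinv hL.1 hL.2⟩

end CfsgLib.OddLocal.Bender
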