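import Cfsg.Agent.OddLocal.KappaPairApps
import Cfsg.Agent.OddLocal.BetaCore
import Cfsg.Agent.OddLocal.Bender
import Cfsg.Agent.S1426
import Cfsg.Agent.S1408

/-!
Primes of `σ(M)` for `M` with `K ≠ 1` and `U ≠ 1`, and the TI property of `F(M)` (BG Theorem D, type II).
-/

set_option autoImplicit false
set_option linter.style.haveILetI false
set_option linter.unusedSectionVars false

namespace CfsgLib.OddLocal.Kap

open Subgroup Cfsg CfsgLib.OddLocal
open scoped commutatorElement Pointwise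

universe u

variable {G : Type u} [Group G] [Finite G]
variable (hG : Cfsg.IsMinSimpleOddOrder G)
include hG

/-- For `s ∉ β(M)` an `s'`-element of `M'` normalizing an `s`-subgroup of `M'` centralizes it. -/
theorem npc_centralizes {M : Subgroup G} (hM : IsCoatom M) {s : ℕ} [hs : Fact s.Prime] (hsM : s ∣ Nat.card M)
    (hsβ : s ∉ Cfsg.beta M) {w : G} (hw : w ∈ ⁅M, M⁆) (hws : ¬ s ∣ orderOf w) {A : Subgroup G} (hA : IsPGroup s A)
    (hAM : A ≤ ⁅M, M⁆) (hwA : w ∈ normalizer (A : Set G)) : A ≤ centralizer ({w} : Set G) := by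
  obtain ⟨P, N, hN, hNP⟩ := (Beta.structure_of_not_beta hG hM hsM hsβ).2.2
  haveI := hN
  obtain ⟨k, hk⟩ := IsPGroup.iff_card.1 P.2
  have hNidx : N.index = s ^ k := by rw [Subgroup.IsComplement'.index_eq_card (Subgroup.IsComplement'.symm hNP), hk]
  have hNs : ¬ s ∣ Nat.card N := fun h => P.not_dvd_index (h.trans
    (dvd_of_eq (Subgroup.IsComplement'.index_eq_card hNP).symm))
  have hwN : (⟨w, hw⟩ : ↥⁅M, M⁆) ∈ N := Beta.le_of_coprime_index (Q := zpowers (⟨w, hw⟩ : ↥⁅M, M⁆)) (by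
    rw [Nat.card_zpowers, ← orderOf_coe, hNidx]
    exact ((hs.out.coprime_iff_not_dvd.2 hws).pow_left k).symm) (mem_zpowers _)
  intro a ha
  refine mem_centralizer_singleton_iff.2 ?_
  set c : ↥⁅M, M⁆ := ⁅(⟨a, hAM ha⟩ : ↥⁅M, M⁆), ⟨w, hw⟩⁆ with hc
  have hcN : c ∈ N := by
    rw [hc, commutatorElement_def]
    exact mul_mem (hN.conj_mem _ hwN _) (inv_mem hwN)
  have hce : (c : G) = a * (w * a⁻¹ * w⁻¹) := by
    rw [hc]
    show a * w * a⁻¹ * w⁻¹ = _
    group
  have hcA : (c : G) ∈ A := hce ▸ A.mul_mem ha ((mem_normalizer_iff.1 hwA _).1 (A.inv_mem ha))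
  obtain ⟨j, hj⟩ := IsPGroup.iff_orderOf.1 hA ⟨_, hcA⟩
  rw [← orderOf_coe] at hj
  simp only at hj
  have h1 : orderOf (c : G) ∣ Nat.card N := by rw [orderOf_coe]; exact N.orderOf_dvd_natCard hcN
  have hc1 : (c : G) = 1 := orderOf_eq_one_iff.1 (Nat.eq_one_of_dvd_coprimes
    ((hs.out.coprime_iff_not_dvd.2 hNs).pow_left j) (dvd_of_eq hj) h1)
  have h2 : ⁅a, w⁆ = 1 := by rw [← hc1, hce, commutatorElement_def]; group
  exact commutatorElement_eq_one_iff_mul_comm.1 h2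

/-- With `U ≠ 1` and `K ≠ 1` all primes of `σ(M)` are in `β(M)`. -/
theorem sigma_subset_beta {M K U : Subgroup G} (hM : IsCoatom M) (hKU : Cfsg.IsSigmaDecomposition M K U)
    (hK1 : K ≠ ⊥) (hU1 : U ≠ ⊥) {s : ℕ} (hs : s ∈ Cfsg.sigma M) : s ∈ Cfsg.beta M := by
  haveI := Fact.mk hs.1
  by_contra hsβ
  obtain ⟨hσh, -, hσ'⟩ := Sig.sigma_core hG hM
  have hUH := decomp_hall hG hM hKU
  have hsC : s ∣ Nat.card (Cfsg.sigmaCore M) := by
    have h := hs.2.1
    rw [← CfsgLib.InvariantHall.relIndex_mul_card (show Cfsg.sigmaCore M ≤ M from map_subtype_le _)] at h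
    exact (hs.1.dvd_mul.1 h).resolve_right (hσh.2.2 s hs.1 hs)
  obtain ⟨R, -, hRσ, hRs, hUR, hRd⟩ := Excep.exists_inv_sylow (t := s) (hUH.1.trans (TH.le_normalizer_core M))
    (Nat.coprime_of_dvd fun q hq h1 h2 => (hUH.2.1 q hq h1).2.2 (hσh.2.1 q hq h2))
    (Or.inl (solvable_le hG hM hUH.1)) (bot_le : (⊥ : Subgroup G) ≤ _) IsPGroup.of_bot (Excep.le_normalizer_bot _)
  have hR1 : R ≠ ⊥ := fun e => hRd (by rw [e, relIndex_bot_left]; exact hsC)
  have hcent : ∀ u ∈ U, R ≤ centralizer ({u} : Set G) := fun u hu =>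
    npc_centralizes hG hM hs.2.1 hsβ (decomp_le_derived hG hM hKU hK1 hu)
      (fun h => (hUH.2.1 s hs.1 (h.trans (U.orderOf_dvd_natCard hu))).2.2 hs) hRs (hRσ.trans hσ') (hUR hu)
  obtain ⟨t, ht, u, hu, huo⟩ := exists_order_prime hU1
  haveI := Fact.mk ht
  obtain ⟨-, htκ, htσ⟩ := hUH.2.1 t ht (dvd_of_mem hu huo)
  obtain ⟨y, hy, hy1⟩ := (bot_or_exists_ne_one R).resolve_left hR1
  have hτ : t ∈ Cfsg.tau2 M := (mem_kappa_or_tau_two hG hM (hUH.1 hu) huo htσ (hRσ hy) hy1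
    (show Commute u y from (mem_centralizer_singleton_iff.1 (hcent u hu hy)).symm)).resolve_left htκ
  obtain ⟨B, hBM, hB, hB2⟩ := Uniq.exists_elementary hτ.2.2.2
  have hle : M ≤ Cfsg.sigmaCore M ⊔ (U ⊔ K) := fun m hm => by
    obtain ⟨a, ha, b, hb, rfl⟩ := hKU.compl.2.2.2 m hm
    exact mul_mem (mem_sup_right (mem_sup_left ha))
      ((sup_le (le_sup_right.trans le_sup_right) le_sup_left : K ⊔ Cfsg.sigmaCore M ≤ Cfsg.sigmaCore M ⊔ (U ⊔ K)) hb)
  obtain ⟨g, hg, hgB⟩ := Tau.conj_into_of_product (π := {t}) (solvable_le hG hM le_rfl)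
    (sup_le hUH.1 hKU.hall.1 : U ⊔ K ≤ M) (map_subtype_le _ : Cfsg.sigmaCore M ≤ M) (TH.le_normalizer_core M) hle
    (fun r hr hrt => hrt.symm ▸ not_dvd_core hG hM ht htσ) hBM fun r hr hd => by
      rw [hB2] at hd
      exact (Nat.prime_dvd_prime_iff_eq hr ht).1 (hr.dvd_of_dvd_pow hd)
  set B' := B.map (MulAut.conj g).toMonoidHom
  have hB'2 : Nat.card B' = t ^ 2 := by rw [card_map_of_injective (MulAut.conj g).injective, hB2]
  have hB'U : B' ≤ U := Excep.le_of_hall le_sup_left (sup_le le_normalizer hKU.normal) hgB (by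
    rw [hB'2]
    exact ((ht.coprime_iff_not_dvd.2 fun h => hUH.2.2 t ht ⟨ht, htκ, htσ⟩
      (h.trans (Dvd.intro _ (relIndex_mul_relIndex U (U ⊔ K) M le_sup_left (sup_le hUH.1 hKU.hall.1))))).pow_left 2))
  have hfix := (Cfsg.Agent.S1417.result hG M hM t hτ B' ⟨hB'U.trans hUH.1, Tau.elementary_map hB _, hB'2⟩).2.2.2.1
  refine hy1 (Subgroup.mem_bot.1 (hfix.le ⟨hRσ hy, mem_centralizer_iff.2 fun b hb => ?_⟩))
  exact (mem_centralizer_singleton_iff.1 (hcent b (hB'U hb) hy)).symm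

/-- With `U ≠ 1` and `K ≠ 1` the group `M_σ` meets no other conjugate of `M`. -/
theorem core_meet_conj_eq_bot {M K U : Subgroup G} (hM : IsCoatom M) (hKU : Cfsg.IsSigmaDecomposition M K U)
    (hK1 : K ≠ ⊥) (hU1 : U ≠ ⊥) {g : G} (hg : g ∉ M) :
    Cfsg.sigmaCore M ⊓ M.map (MulAut.conj g).toMonoidHom = ⊥ := by
  by_contra hne
  obtain ⟨s, hs, z, hz, hzo⟩ := exists_order_prime hne
  obtain ⟨E, hE, -⟩ := Tau.exists_complement_of hG hM (X := ⊥) bot_le fun q hq h => by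
    rw [card_bot, Nat.dvd_one] at h; exact absurd h hq.ne_one
  exact ((Cfsg.Agent.S1426.result hG M hM E hE).2.2 g hg).2.1 s hs (dvd_of_mem hz hzo)
    (sigma_subset_beta hG hM hKU hK1 hU1 (sigma_of_order hG hM hz.1 s hs (dvd_of_eq hzo.symm)))

/-- BG Theorem D: with `U ≠ 1` and `K ≠ 1` the group `F(M)` is a TI-set. -/
theorem fitting_ti {M K U : Subgroup G} (hM : IsCoatom M) (hKU : Cfsg.IsSigmaDecomposition M K U)
    (hK1 : K ≠ ⊥) (hU1 : U ≠ ⊥) : Cfsg.IsTISubset (Cfsg.fittingOf M : Set G) ∧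
      Cfsg.sigmaCore M ≤ Cfsg.fittingOf M := by
  have hnil := nilpotent_of_outer hG hM (hasOuter_of_decomp hG hM hKU hU1)
  have hσM : Cfsg.sigmaCore M ≤ M := map_subtype_le _
  have hσF : Cfsg.sigmaCore M ≤ Cfsg.fittingOf M := Bender.le_fitting hσM (TH.le_normalizer_core M) hnil
  refine ⟨?_, hσF⟩
  intro g hg w hw hgw
  by_contra hw1
  have hgM : g ∉ M := fun h => hg (Bender.le_normalizer_fitting M h)
  obtain ⟨t, ht, z, hz, hzo, -⟩ := exists_prime_root (mem_zpowers w) hw1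
  haveI := Fact.mk ht
  have hz1 : z ≠ 1 := fun e => ht.ne_one (by rw [← hzo, e, orderOf_one])
  have hzF : z ∈ Cfsg.fittingOf M := zpowers_le.2 hw hz
  have hzF' : g * z * g⁻¹ ∈ Cfsg.fittingOf M := by
    have h := zpowers_le.2 hgw (show g * z * g⁻¹ ∈ zpowers (g * w * g⁻¹) by
      obtain ⟨i, rfl⟩ := mem_zpowers_iff.1 hz
      exact mem_zpowers_iff.2 ⟨i, by rw [conj_zpow]⟩)
    exact h
  have hzM : z ∈ M := Bender.fitting_le M hzF
  by_cases htσ : t ∈ Cfsg.sigma M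
  · have hzσ : z ∈ Cfsg.sigmaCore M := mem_core_of_order hG hM (j := 1) hzM (by rw [hzo, pow_one]) htσ
    have hmem : z ∈ Cfsg.sigmaCore M ⊓ M.map (MulAut.conj g⁻¹).toMonoidHom :=
      ⟨hzσ, g * z * g⁻¹, Bender.fitting_le M hzF', by show g⁻¹ * (g * z * g⁻¹) * g⁻¹⁻¹ = z; group⟩
    rw [core_meet_conj_eq_bot hG hM hKU hK1 hU1 (fun h => hgM (inv_mem_iff.1 h)), mem_bot] at hmem
    exact hz1 hmem
  -- a `τ₂`-element centralizing `M_σ` has its centralizer only in `M`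
  have key : ∀ v : G, v ∈ Cfsg.fittingOf M → orderOf v = t →
      Subgroup.centralizer ({v} : Set G) ≤ M ∧
        ∀ L : Subgroup G, IsCoatom L → Subgroup.centralizer ({v} : Set G) ≤ L → L = M := by
    intro v hv hvo
    have hv1 : v ≠ 1 := fun e => ht.ne_one (by rw [← hvo, e, orderOf_one])
    obtain ⟨s, hs, y, hy, hyo⟩ := exists_order_prime (show Cfsg.sigmaCore M ≠ ⊥ from
      fun e => by simpa [e] using fixed_ne_bot hG hM hKU.hall hK1)
    have hy1 : y ≠ 1 := fun e => hs.ne_one (by rw [← hyo, e, orderOf_one])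
    have hvM : v ∈ M := Bender.fitting_le M hv
    have hc : Bender.qc t M ≤ centralizer (Cfsg.sigmaCore M : Set G) :=
      centralizes_of_disjoint (hσM.trans (Bender.le_normalizer_qc t M))
        ((Bender.qc_le t M).trans (TH.le_normalizer_core M))
        (Excep.coprime_of_pgroup (Bender.isPGroup_qc M) (not_dvd_core hG hM ht htσ))
    have hvy : Commute y v :=
      mem_centralizer_iff.1 (hc (Bender.mem_qc hv (j := 1) (by rw [hvo, pow_one]))) y hy
    have hτ : t ∈ Cfsg.tau2 M := by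
      refine (mem_kappa_or_tau_two hG hM hvM hvo htσ hy hy1 hvy.symm).resolve_left fun hκ => ?_
      obtain ⟨H, hH, hvH, hH1⟩ := exists_hall_kappa hG hM hvM hvo hκ
      have h := star_fixed hG hM hH hH1 hvH hv1
      have hKσ : Cfsg.sigmaCore M ≤ star M H := by
        rw [← h]
        refine le_inf le_rfl fun c hc' => mem_centralizer_singleton_iff.2 ?_
        exact mem_centralizer_iff.1 (hc (Bender.mem_qc hv (j := 1) (by rw [hvo, pow_one]))) c hc'
      have hsC : s ∣ Nat.card (Cfsg.sigmaCore M) := dvd_of_mem hy hyo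
      haveI := Fact.mk hs
      obtain ⟨S⟩ : Nonempty (Sylow s ↥(Cfsg.sigmaCore M)) := inferInstance
      refine sylow_not_le_fixed hG hM hH hH1 (p := s) (S.2.map (Cfsg.sigmaCore M).subtype) (map_subtype_le _)
        (fun hd => ?_) (hsC.trans (card_dvd_of_le hKσ)) ((map_subtype_le _).trans hKσ)
      rw [relIndex, ← comap_subtype, comap_map_eq_self_of_injective (Cfsg.sigmaCore M).subtype_injective] at hd
      exact S.not_dvd_index hd
    exact Tau.tau_element_centralizer hG hM hvM hv1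
      (fun r hr hd => by rw [hvo] at hd; exact (Nat.prime_dvd_prime_iff_eq hr ht).1 hd ▸ hτ) hy hy1 hvy.symm.eq
  have h1 := key z hzF hzo
  have h2 := key _ hzF' (by rw [conj_orderOf, hzo])
  have h3 : centralizer ({z} : Set G) ≤ M.map (MulAut.conj g⁻¹).toMonoidHom := fun c hc =>
    ⟨g * c * g⁻¹, h2.1 (mem_centralizer_singleton_iff.2
      ((show Commute c z from mem_centralizer_singleton_iff.1 hc).map (MulAut.conj g).toMonoidHom).eq),
      by show g⁻¹ * (g * c * g⁻¹) * g⁻¹⁻¹ = c; group⟩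
  exact hgM (inv_mem_iff.1 (eq_of_conj_eq hG hM (h1.2 _ (Uniq.coatom_conj hM g⁻¹) h3)))

end CfsgLib.OddLocal.Kap
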