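import Cfsg.Agent.OddLocal.KappaPartition
import Cfsg.Agent.OddLocal.BetaCore

/-!
A bound for the primes moving a narrow Sylow subgroup.
-/

set_option autoImplicit false
set_option linter.style.haveILetI false
set_option linter.unusedSectionVars false

namespace CfsgLib.OddLocal.Kap

open Subgroup Cfsg CfsgLib.OddLocal

universe u

variable {G : Type u} [Group G] [Finite G]
variable (hG : Cfsg.IsMinSimpleOddOrder G)
include hG

/-- An element of prime order `t` moving a normal `s`-subgroup of `M`, with `s ∉ β(M)`, has `t < s`. -/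
theorem prime_lt {M : Subgroup G} (hM : IsCoatom M) {s t : ℕ} [hs : Fact s.Prime] [ht : Fact t.Prime]
    (hts : t ≠ s) (hsβ : s ∉ Cfsg.beta M) {S : Subgroup G} (hS : IsPGroup s S) (hSM : S ≤ M)
    (hMS : M ≤ normalizer (S : Set G)) {v : G} (hvM : v ∈ M) (hvo : orderOf v = t)
    (hmove : ¬ S ≤ centralizer ({v} : Set G)) : t < s := by
  have hS1 : S ≠ ⊥ := fun e => hmove (e ▸ bot_le)
  have hsM : s ∣ Nat.card M := (Excep.isPGroup_ne_bot_dvd hS hS1).trans (card_dvd_of_le hSM)
  have hb := (Beta.structure_of_not_beta hG hM hsM hsβ).1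
  set O := Excep.opc s M
  by_cases hvO : v ∈ O
  · refine absurd (fun y hy => ?_) hmove
    refine mem_centralizer_singleton_iff.2 ?_
    have hd : S ≤ centralizer (O : Set G) := centralizes_of_disjoint ((Excep.opc_le s M).trans hMS)
      (hSM.trans (Excep.le_normalizer_opc s M))
      (Excep.coprime_of_pgroup hS (hs.out.coprime_iff_not_dvd.1 (Excep.opc_coprime s M).symm))
    exact (mem_centralizer_iff.1 (hd hy) v hvO).symm
  · have htd : t ∣ O.relIndex M := by
      by_contra h
      exact hvO (Excep.le_of_hall (Excep.opc_le s M) (Excep.le_normalizer_opc s M) (zpowers_le.2 hvM)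
        (by rw [Nat.card_zpowers, hvo]; exact ht.out.coprime_iff_not_dvd.2 h) (mem_zpowers v))
    rw [relIndex, Excep.opc_subgroupOf] at htd
    exact lt_of_le_of_ne (hb t ht.out htd) hts

end CfsgLib.OddLocal.Kap
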