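import Cfsg.Agent.OddLocal.KappaBasic
import Mathlib.RingTheory.RootsOfUnity.PrimitiveRoots

/-!
A noncyclic abelian group acting on a group of order `s ^ 2` contains a scalar.
-/

set_option autoImplicit false
set_option linter.style.haveILetI false
set_option linter.unusedSectionVars false

namespace CfsgLib.OddLocal.Kap

open Subgroup Cfsg CfsgLib.OddLocal

universe u

variable {G : Type u} [Group G] [Finite G]

/-- An element normalizing a line acts on it by a power. -/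
theorem exists_conj_pow {a b : G} (h : a * b * a⁻¹ ∈ zpowers b) : ∃ c : ℕ, a * b * a⁻¹ = b ^ c := by
  have hfin : IsOfFinOrder b := isOfFinOrder_of_finite b
  obtain ⟨c, hc⟩ := Submonoid.mem_powers_iff _ _ |>.1 (hfin.mem_powers_iff_mem_zpowers.2 h)
  exact ⟨c, hc.symm⟩

theorem conj_iterate {a b : G} {c : ℕ} (h : a * b * a⁻¹ = b ^ c) (i : ℕ) :
    a ^ i * b * (a ^ i)⁻¹ = b ^ c ^ i := by
  induction i with
  | zero => simp
  | succ i ih =>
    rw [pow_succ', mul_inv_rev, show a * a ^ i * b * ((a ^ i)⁻¹ * a⁻¹) = a * (a ^ i * b * (a ^ i)⁻¹) * a⁻¹ by group,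
      ih, ← conj_pow, h, ← pow_mul, pow_succ']

/-- A noncyclic group of exponent `t` acting faithfully on `B` has an element normalizing every line of `B`. -/
theorem exists_scalar {s t : ℕ} [hs : Fact s.Prime] [ht : Fact t.Prime] (hts : t ≠ s) {A B : Subgroup G}
    (hA : Cfsg.IsElementaryAbelian t A) (hA2 : Nat.card A = t ^ 2)
    (hB : Cfsg.IsElementaryAbelian s B) (hB2 : Nat.card B = s ^ 2)
    (hAB : A ≤ normalizer (B : Set G)) (hfaith : ∀ a ∈ A, (∀ b ∈ B, a * b = b * a) → a = 1) :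
    ∃ z ∈ A, z ≠ 1 ∧ ∀ x ∈ B, z * x * z⁻¹ ∈ zpowers x := by
  classical
  haveI := hA.1
  haveI := hB.1
  have hcop : ¬ t ∣ Nat.card B := fun h => hts (by
    rw [hB2] at h
    exact (Nat.prime_dvd_prime_iff_eq ht.out hs.out).1 (ht.out.dvd_of_dvd_pow h))
  have hBcomm : ∀ b ∈ B, ∀ b' ∈ B, Commute b b' := fun b hb b' hb' =>
    congrArg Subtype.val (hB.1.is_comm.comm ⟨b, hb⟩ ⟨b', hb'⟩)
  have hAcomm : ∀ a ∈ A, ∀ a' ∈ A, Commute a a' := fun a ha a' ha' =>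
    congrArg Subtype.val (hA.1.is_comm.comm ⟨a, ha⟩ ⟨a', ha'⟩)
  have hline : ∀ b ∈ B, b ≠ 1 → Nat.card (zpowers b) = s := fun b hb hb1 => by
    rw [Nat.card_zpowers]; exact orderOf_eq_prime (hB.2 b hb) hb1
  have hmove : ∀ a ∈ A, a ≠ 1 → ∀ b ∈ B, b ≠ 1 → Commute a b → ∀ b' ∈ B, b' ∉ zpowers b → ¬ Commute a b' := by
    intro a ha ha1 b hb hb1 hab b' hb' hb'b hab'
    refine ha1 (hfaith a ha fun v hv => ?_)
    have hle : zpowers b ⊔ zpowers b' ≤ B := sup_le (zpowers_le.2 hb) (zpowers_le.2 hb')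
    have heq : zpowers b ⊔ zpowers b' = B := by
      refine eq_of_le_of_card_ge hle ?_
      obtain ⟨k, -, hk⟩ := (Nat.dvd_prime_pow hs.out).1 (hB2 ▸ card_dvd_of_le hle)
      rw [hB2, hk]
      refine Nat.pow_le_pow_right hs.out.pos ?_
      by_contra hk2
      have h1 : Nat.card ↥(zpowers b ⊔ zpowers b') ≤ Nat.card (zpowers b) := by
        rw [hk, hline b hb hb1]
        conv_rhs => rw [← pow_one s]
        exact Nat.pow_le_pow_right hs.out.pos (by omega)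
      exact hb'b ((eq_of_le_of_card_ge le_sup_left h1).ge (mem_sup_right (mem_zpowers b')))
    have h : B ≤ centralizer ({a} : Set G) := heq ▸ sup_le
      (zpowers_le.2 (mem_centralizer_singleton_iff.2 hab.symm.eq))
      (zpowers_le.2 (mem_centralizer_singleton_iff.2 hab'.symm.eq))
    exact (mem_centralizer_singleton_iff.1 (h hv)).symm
  -- two eigenlines
  obtain ⟨a₁, ha₁, ha₁1, b₁, hb₁, hb₁1, h₁⟩ : ∃ a ∈ A, a ≠ 1 ∧ ∃ b ∈ B, b ≠ 1 ∧ Commute a b := by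
    by_contra h
    push Not at h
    have hle : B ≤ ⊥ := Excep.le_of_lines hA hA2 hAB hcop fun Y hYA hY b hb => by
      obtain ⟨a, ha, ha1⟩ := (bot_or_exists_ne_one Y).resolve_left fun e => ht.out.ne_one (by
        rw [← hY, e, card_bot])
      refine Subgroup.mem_bot.2 (by_contra fun hb1 => h a (hYA ha) ha1 b hb.1 hb1 ?_)
      exact mem_centralizer_iff.1 hb.2 a ha
    rw [le_bot_iff.1 hle, card_bot] at hB2
    exact (Nat.one_lt_pow two_ne_zero hs.out.one_lt).ne hB2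
  obtain ⟨a₂, ha₂, ha₂1, b₂, hb₂, hb₂b, h₂⟩ :
      ∃ a ∈ A, a ≠ 1 ∧ ∃ b ∈ B, b ∉ zpowers b₁ ∧ Commute a b := by
    by_contra h
    push Not at h
    have hle : B ≤ zpowers b₁ := Excep.le_of_lines hA hA2 hAB hcop fun Y hYA hY b hb => by
      obtain ⟨a, ha, ha1⟩ := (bot_or_exists_ne_one Y).resolve_left fun e => ht.out.ne_one (by
        rw [← hY, e, card_bot])
      refine by_contra fun hb1 => h a (hYA ha) ha1 b hb.1 hb1 ?_
      exact mem_centralizer_iff.1 hb.2 a ha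
    have := Nat.le_of_dvd Nat.card_pos (card_dvd_of_le hle)
    rw [hB2, hline b₁ hb₁ hb₁1] at this
    exact absurd this (not_le.2 (lt_self_pow₀ hs.out.one_lt one_lt_two))
  have hb₂1 : b₂ ≠ 1 := fun e => hb₂b (e ▸ one_mem _)
  have hb₁b : b₁ ∉ zpowers b₂ := fun h => hb₂b ((eq_of_le_of_card_ge (zpowers_le.2 h)
    (by rw [hline b₁ hb₁ hb₁1, hline b₂ hb₂ hb₂1])).ge (mem_zpowers b₂))
  -- the fixed line of an element is preserved by all of `A`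
  have hkey : ∀ a ∈ A, a ≠ 1 → ∀ b ∈ B, b ≠ 1 → Commute a b → ∀ a' ∈ A, ∃ c : ℕ, a' * b * a'⁻¹ = b ^ c := by
    intro a ha ha1 b hb hb1 hab a' ha'
    refine exists_conj_pow (by_contra fun hn => ?_)
    refine hmove a ha ha1 b hb hb1 hab _ ((mem_normalizer_iff.1 (hAB ha') b).1 hb) hn ?_
    exact ((hAcomm a ha a' ha').mul_right hab).mul_right (hAcomm a ha a' ha').inv_right
  obtain ⟨c, hc⟩ := hkey a₂ ha₂ ha₂1 b₂ hb₂ hb₂1 h₂ a₁ ha₁
  obtain ⟨d, hd⟩ := hkey a₁ ha₁ ha₁1 b₁ hb₁ hb₁1 h₁ a₂ ha₂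
  have hpow : ∀ {b : G}, b ∈ B → b ≠ 1 → ∀ {m n : ℕ}, b ^ m = b ^ n ↔ (m : ZMod s) = (n : ZMod s) := by
    intro b hb hb1 m n
    rw [pow_eq_pow_iff_modEq, orderOf_eq_prime (hB.2 b hb) hb1, ZMod.natCast_eq_natCast_iff]
  have hroot : ∀ {a b : G} {e : ℕ}, a ∈ A → b ∈ B → b ≠ 1 → a * b * a⁻¹ = b ^ e → ((e : ZMod s)) ^ t = 1 := by
    intro a b e ha hb hb1 he
    have h := conj_iterate he t
    rw [hA.2 a ha, inv_one, mul_one, one_mul] at h
    have h' : b ^ 1 = b ^ e ^ t := by rwa [pow_one]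
    have := (hpow hb hb1).1 h'
    push_cast at this
    exact this.symm
  have hd1 : (d : ZMod s) ≠ 1 := fun h => by
    refine hmove a₂ ha₂ ha₂1 b₂ hb₂ hb₂1 h₂ b₁ hb₁ hb₁b ?_
    have h' : b₁ ^ d = b₁ ^ 1 := (hpow hb₁ hb₁1).2 (by rw [h, Nat.cast_one])
    rw [pow_one] at h'
    rw [h', mul_inv_eq_iff_eq_mul] at hd
    exact hd
  have hprim : IsPrimitiveRoot (d : ZMod s) t :=
    (orderOf_eq_prime (hroot ha₂ hb₁ hb₁1 hd) hd1) ▸ IsPrimitiveRoot.orderOf (d : ZMod s)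
  haveI : NeZero t := ⟨ht.out.ne_zero⟩
  obtain ⟨i, -, hi⟩ := hprim.eq_pow_of_pow_eq_one (hroot ha₁ hb₂ hb₂1 hc)
  have hz₁ : a₁ * a₂ ^ i * b₁ * (a₁ * a₂ ^ i)⁻¹ = b₁ ^ c := by
    have h := conj_iterate hd i
    have h' : b₁ ^ d ^ i = b₁ ^ c := (hpow hb₁ hb₁1).2 (by push_cast; exact hi)
    rw [mul_inv_rev, show a₁ * a₂ ^ i * b₁ * ((a₂ ^ i)⁻¹ * a₁⁻¹) = a₁ * (a₂ ^ i * b₁ * (a₂ ^ i)⁻¹) * a₁⁻¹ by group,
      h, h', ← conj_pow, h₁.eq, mul_inv_cancel_right]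
  have hz₂ : a₁ * a₂ ^ i * b₂ * (a₁ * a₂ ^ i)⁻¹ = b₂ ^ c := by
    rw [mul_inv_rev, show a₁ * a₂ ^ i * b₂ * ((a₂ ^ i)⁻¹ * a₁⁻¹) = a₁ * (a₂ ^ i * b₂ * (a₂ ^ i)⁻¹) * a₁⁻¹ by group,
      (h₂.pow_left i).eq, mul_inv_cancel_right, hc]
  have hzA : a₁ * a₂ ^ i ∈ A := A.mul_mem ha₁ (A.pow_mem ha₂ i)
  refine ⟨a₁ * a₂ ^ i, hzA, fun hz => ?_, fun x hx => ?_⟩
  · -- otherwise `a₁` would centralize `B`
    rw [hz, one_mul, inv_one, mul_one] at hz₂
    refine hmove a₁ ha₁ ha₁1 b₁ hb₁ hb₁1 h₁ b₂ hb₂ hb₂b ?_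
    rw [← hz₂, mul_inv_eq_iff_eq_mul] at hc
    exact hc
  · let Z : Subgroup G :=
      { carrier := {v | v ∈ B ∧ a₁ * a₂ ^ i * v * (a₁ * a₂ ^ i)⁻¹ = v ^ c}
        one_mem' := ⟨B.one_mem, by simp⟩
        mul_mem' := by
          rintro v w ⟨hv, hv'⟩ ⟨hw, hw'⟩
          refine ⟨B.mul_mem hv hw, ?_⟩
          rw [(hBcomm v hv w hw).mul_pow, ← hv', ← hw']
          group
        inv_mem' := by
          rintro v ⟨hv, hv'⟩
          refine ⟨B.inv_mem hv, ?_⟩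
          rw [inv_pow, ← hv']
          group }
    have hle : B ≤ Z := by
      have h0 : zpowers b₁ ⊔ zpowers b₂ = B := by
        refine eq_of_le_of_card_ge (sup_le (zpowers_le.2 hb₁) (zpowers_le.2 hb₂)) ?_
        obtain ⟨k, -, hk⟩ := (Nat.dvd_prime_pow hs.out).1
          (hB2 ▸ card_dvd_of_le (sup_le (zpowers_le.2 hb₁) (zpowers_le.2 hb₂) : zpowers b₁ ⊔ zpowers b₂ ≤ B))
        rw [hB2, hk]
        refine Nat.pow_le_pow_right hs.out.pos ?_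
        by_contra hk2
        have h1 : Nat.card ↥(zpowers b₁ ⊔ zpowers b₂) ≤ Nat.card (zpowers b₁) := by
          rw [hk, hline b₁ hb₁ hb₁1]
          conv_rhs => rw [← pow_one s]
          exact Nat.pow_le_pow_right hs.out.pos (by omega)
        exact hb₂b ((eq_of_le_of_card_ge le_sup_left h1).ge (mem_sup_right (mem_zpowers b₂)))
      exact h0 ▸ sup_le (zpowers_le.2 ⟨hb₁, hz₁⟩) (zpowers_le.2 ⟨hb₂, hz₂⟩)
    exact (hle hx).2 ▸ pow_mem (mem_zpowers x) c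

end CfsgLib.OddLocal.Kap
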