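import Cfsg.Agent.OddLocal.KappaFrobenius
import Cfsg.Agent.OddLocal.KappaScalar
import Cfsg.Agent.OddLocal.KappaPrimeBound
import Cfsg.Agent.S1404
import Cfsg.Agent.S1416
import Cfsg.Agent.S1425

/-!
BG 14.13: the maximal subgroups over centralizers of elements of `M_σ`.
-/

set_option autoImplicit false
set_option linter.style.haveILetI false
set_option linter.unusedSectionVars false

namespace CfsgLib.OddLocal.Kap

open Subgroup Cfsg CfsgLib.OddLocal
open scoped commutatorElement Pointwise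

universe u

variable {G : Type u} [Group G] [Finite G]
variable (hG : Cfsg.IsMinSimpleOddOrder G)
include hG

/-- A nilpotent `M_σ` is its own Fitting subgroup: its `p`-elements lie in `O_p(M_σ)`. -/
theorem mem_qc_core {M : Subgroup G} (hM : IsCoatom M) (hnil : Group.IsNilpotent (Cfsg.sigmaCore M)) {r j : ℕ}
    [Fact r.Prime] (hr : r ∈ Cfsg.sigma M) {y : G} (hy : y ∈ M) (hyo : orderOf y = r ^ j) :
    y ∈ Bender.qc r (Cfsg.sigmaCore M) :=
  Bender.mem_qc ((Bender.le_fitting le_rfl le_normalizer hnil) (mem_core_of_order hG hM hy hyo hr)) hyo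

theorem qc_core_normal (M : Subgroup G) (r : ℕ) [Fact r.Prime] :
    M ≤ normalizer (Bender.qc r (Cfsg.sigmaCore M) : Set G) :=
  (TH.le_normalizer_core M).trans (UTool.normalizer_le_normalizer_map _ _ (PLenZ.characteristic_pCore r))

/-- No nontrivial element of a prime in `σ(M)` centralizes a conjugate of a plane of a prime in `τ₂(M)`. -/
theorem no_centralized {M A : Subgroup G} (hM : IsCoatom M) {t : ℕ} [ht : Fact t.Prime] (hτ : t ∈ Cfsg.tau2 M)
    (hAM : A ≤ M) (hA : Cfsg.IsElementaryAbelian t A) (hA2 : Nat.card A = t ^ 2) {s : ℕ} [hs : Fact s.Prime]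
    (hsM : s ∈ Cfsg.sigma M) {v g : G} (hvo : orderOf v = s) (hc : ∀ a ∈ A, Commute v (g * a * g⁻¹)) : False := by
  set u := g⁻¹ * v * g with hu
  have huC : u ∈ centralizer (A : Set G) := mem_centralizer_iff.2 fun a ha => by
    have h := (hc a ha).map (MulAut.conj g⁻¹).toMonoidHom
    have h' : Commute (g⁻¹ * v * g⁻¹⁻¹) (g⁻¹ * (g * a * g⁻¹) * g⁻¹⁻¹) := h
    rw [inv_inv, show g⁻¹ * (g * a * g⁻¹) * g = a by group] at h'
    exact h'.eq.symm
  have huM : u ∈ M := (Cfsg.Agent.S1416.result hG M hM t A ⟨hAM, hA, hA2⟩).1 huC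
  have huo : orderOf u = s := by
    rw [hu, show g⁻¹ * v * g = g⁻¹ * v * g⁻¹⁻¹ by group, conj_orderOf, hvo]
  have h := (Cfsg.Agent.S1417.result hG M hM t hτ A ⟨hAM, hA, hA2⟩).2.2.2.1.le
    ⟨mem_core_of_order hG hM (j := 1) huM (by rw [huo, pow_one]) hsM, huC⟩
  exact hs.out.ne_one (by rw [← huo, orderOf_eq_one_iff]; exact Subgroup.mem_bot.1 h)

/-- With `κ(N) = ∅` an element of prime order outside `σ(N) ∪ τ₂(N)` fixes no point of `N_σ`. -/
theorem not_fixed_of_empty {N : Subgroup G} (hN : IsCoatom N) (hκ : Cfsg.kappa N = ∅) {t : ℕ} [Fact t.Prime]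
    (htσ : t ∉ Cfsg.sigma N) (htτ : t ∉ Cfsg.tau2 N) {e w : G} (heN : e ∈ N) (heo : orderOf e = t)
    (hw : w ∈ Cfsg.sigmaCore N) (hw1 : w ≠ 1) (hew : Commute e w) : False := by
  rcases mem_kappa_or_tau_two hG hN heN heo htσ hw hw1 hew with h | h
  · rw [hκ] at h; exact h
  · exact htτ h

section Pair

variable {M N : Subgroup G} (hM : IsCoatom M) (hN : IsCoatom N) {x : G} {s : ℕ} [hs : Fact s.Prime]
  (hx : x ∈ Cfsg.sigmaCore M) (hxo : orderOf x = s) (hxC : centralizer ({x} : Set G) ≤ N)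
  (hsτ : s ∈ Cfsg.tau2 N) (hcompl : Cfsg.IsComplIn (M ⊓ N) (Cfsg.sigmaCore N) N)
  (hnilM : Group.IsNilpotent (Cfsg.sigmaCore M)) (hnilN : Group.IsNilpotent (Cfsg.sigmaCore N))
include hM hN hx hxo hxC hsτ hcompl hnilM

/-- An element of a `τ₂(M)`-plane moves the Sylow subgroup containing `x`. -/
theorem pair_move {t : ℕ} [ht : Fact t.Prime] (hτ : t ∈ Cfsg.tau2 M) {A : Subgroup G} (hAM : A ≤ M)
    (hA : Cfsg.IsElementaryAbelian t A) (hA2 : Nat.card A = t ^ 2) : t < s := by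
  have hsM : s ∈ Cfsg.sigma M := mem_sigma_of_mem_core hG hM hs.out hx hxo
  have hideal := (Cfsg.Agent.S1408.result hG N hN s hsτ.2.1 hsτ.2.2.1 hsτ.2.2.2).1
  have hxS := mem_qc_core hG hM hnilM (j := 1) hsM (map_subtype_le _ hx) (by rw [hxo, pow_one])
  obtain ⟨a, ha, ha1, hmove⟩ : ∃ a ∈ A, a ≠ 1 ∧ ¬ Bender.qc s (Cfsg.sigmaCore M) ≤ centralizer ({a} : Set G) := by
    by_contra h
    push Not at h
    refine no_centralized hG hM hτ hAM hA hA2 hsM (g := 1) hxo fun a ha => ?_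
    rw [one_mul, inv_one, mul_one]
    by_cases ha1 : a = 1
    · rw [ha1]; exact Commute.one_right x
    · exact mem_centralizer_singleton_iff.1 (h a ha ha1 hxS)
  exact prime_lt hG hM (fun e => hτ.2.1 (e ▸ hsM)) (fun hβ => hideal hβ.2) (Bender.isPGroup_qc _)
    ((Bender.qc_le s _).trans (map_subtype_le _)) (qc_core_normal hG M s) (hAM ha)
    (orderOf_eq_prime (hA.2 a ha) ha1) hmove

include hnilN

/-- A prime of `τ₂(M)` is neither in `σ(N)` nor in `τ₂(N)`. -/
theorem pair_tau {t : ℕ} [ht : Fact t.Prime] (hτ : t ∈ Cfsg.tau2 M) : t ∉ Cfsg.sigma N ∧ t ∉ Cfsg.tau2 N := by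
  have hsM : s ∈ Cfsg.sigma M := mem_sigma_of_mem_core hG hM hs.out hx hxo
  have hts : t ≠ s := fun e => hτ.2.1 (e ▸ hsM)
  obtain ⟨A, hAM, hA, hA2⟩ := Uniq.exists_elementary hτ.2.2.2
  have hxN : x ∈ N := hxC (mem_centralizer_singleton_iff.2 rfl)
  refine ⟨fun htN => ?_, fun htN => ?_⟩
  · have hidealt := (Cfsg.Agent.S1408.result hG M hM t hτ.2.1 hτ.2.2.1 hτ.2.2.2).1
    have hlt := pair_move hG hM hN hx hxo hxC hsτ hcompl hnilM hτ hAM hA hA2
    obtain ⟨g, hg⟩ := Cfsg.Agent.S1425.result hG N hN A (fun e => by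
      rw [e, card_bot] at hA2; exact (Nat.one_lt_pow two_ne_zero ht.out.one_lt).ne hA2) fun r hr hd => by
        rw [hA2] at hd
        exact (Nat.prime_dvd_prime_iff_eq hr ht.out).1 (hr.dvd_of_dvd_pow hd) ▸ htN
    have hmove : ¬ Bender.qc t (Cfsg.sigmaCore N) ≤ centralizer ({x} : Set G) := fun h =>
      no_centralized hG hM hτ hAM hA hA2 hsM hxo (g := g) fun a ha => by
        by_cases ha1 : a = 1
        · rw [ha1, mul_one, mul_inv_cancel]; exact Commute.one_right x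
        · have hm : g * a * g⁻¹ ∈ Cfsg.sigmaCore N := hg ⟨a, ha, rfl⟩
          have := h (mem_qc_core hG hN hnilN (j := 1) htN (map_subtype_le _ hm)
            (by rw [conj_orderOf, pow_one]; exact orderOf_eq_prime (hA.2 a ha) ha1))
          exact (mem_centralizer_singleton_iff.1 this).symm
    exact lt_asymm hlt (prime_lt hG hN (Ne.symm hts) (fun hβ => hidealt hβ.2) (Bender.isPGroup_qc _)
      ((Bender.qc_le t _).trans (map_subtype_le _)) (qc_core_normal hG N t) hxN hxo hmove)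
  · -- planes of both primes in the complement commute
    have conjIn : ∀ {r : ℕ}, r.Prime → r ∈ Cfsg.tau2 N → ∃ W : Subgroup G, W ≤ M ⊓ N ∧
        Cfsg.IsElementaryAbelian r W ∧ Nat.card W = r ^ 2 := by
      intro r hr hrτ
      haveI := Fact.mk hr
      obtain ⟨W, hWN, hW, hW2⟩ := Uniq.exists_elementary hrτ.2.2.2
      obtain ⟨g, hg, hgW⟩ := Tau.conj_into_of_product (π := {r}) (solvable_le hG hN le_rfl) hcompl.1
        (map_subtype_le _ : Cfsg.sigmaCore N ≤ N) (TH.le_normalizer_core N)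
        (by rw [sup_comm]; exact (Compl.card_eq hG hN hcompl).2.1.ge)
        (fun q hq hqr => hqr.symm ▸ not_dvd_core hG hN hr hrτ.2.1) hWN fun q hq hd => by
          rw [hW2] at hd
          exact (Nat.prime_dvd_prime_iff_eq hq hr).1 (hq.dvd_of_dvd_pow hd)
      exact ⟨_, hgW, Tau.elementary_map hW _, by rw [card_map_of_injective (MulAut.conj g).injective, hW2]⟩
    obtain ⟨B, hBF, hB, hB2⟩ := conjIn hs.out hsτ
    obtain ⟨W, hWF, hW, hW2⟩ := conjIn ht.out htN
    obtain ⟨⟨hFB, -⟩, -, -⟩ := Cfsg.Agent.S1418.result hG N hN (M ⊓ N) hcompl s hsτ B ⟨hBF, hB, hB2⟩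
    obtain ⟨⟨hFW, -⟩, -, -⟩ := Cfsg.Agent.S1418.result hG N hN (M ⊓ N) hcompl t htN W ⟨hWF, hW, hW2⟩
    have hcomm : B ≤ centralizer (W : Set G) := centralizes_of_disjoint (hWF.trans hFB) (hBF.trans hFW) (by
      rw [hB2, hW2]; exact ((Nat.coprime_primes hs.out ht.out).2 (Ne.symm hts)).pow 2 2)
    have hBσ : B ≤ Cfsg.sigmaCore M := Excep.le_sigmaCore hG hM (hBF.trans inf_le_left) fun r hr hd => by
      rw [hB2] at hd
      exact (Nat.prime_dvd_prime_iff_eq hr hs.out).1 (hr.dvd_of_dvd_pow hd) ▸ hsM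
    have h := (Cfsg.Agent.S1417.result hG M hM t hτ W ⟨hWF.trans inf_le_left, hW, hW2⟩).2.2.2.1
    have hB1 : B = ⊥ := le_bot_iff.1 (h ▸ le_inf hBσ hcomm)
    rw [hB1, card_bot] at hB2
    exact (Nat.one_lt_pow two_ne_zero hs.out.one_lt).ne hB2

/-- BG 14.13(a), with `κ(M) = κ(N) = ∅`. -/
theorem pair_tau_two (hκM : Cfsg.kappa M = ∅) (hκN : Cfsg.kappa N = ∅)
    (hu : ∀ L : Subgroup G, IsCoatom L → centralizer ({x} : Set G) ≤ L → L = N)
    {p : ℕ} [hp : Fact p.Prime] (hpN : p ∈ Cfsg.sigma N) (hpM : p ∣ Nat.card M) (hpσ : p ∉ Cfsg.sigma M) :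
    Cfsg.tau2 M = ∅ := by
  by_contra hne
  obtain ⟨t, hτ⟩ := Set.nonempty_iff_ne_empty.2 hne
  haveI := Fact.mk hτ.1
  obtain ⟨htN, htτN⟩ := pair_tau hG hM hN hx hxo hxC hsτ hcompl hnilM hnilN hτ
  have hpτ : p ∉ Cfsg.tau2 M := fun h => (pair_tau hG hM hN hx hxo hxC hsτ hcompl hnilM hnilN h).1 hpN
  have hsM : s ∈ Cfsg.sigma M := mem_sigma_of_mem_core hG hM hs.out hx hxo
  have hideals := (Cfsg.Agent.S1408.result hG N hN s hsτ.2.1 hsτ.2.2.1 hsτ.2.2.2).1
  have hidealt := (Cfsg.Agent.S1408.result hG M hM t hτ.2.1 hτ.2.2.1 hτ.2.2.2).1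
  obtain ⟨w₀, hw₀⟩ := exists_prime_orderOf_dvd_card' (G := M) p hpM
  have hwo : orderOf (w₀ : G) = p := by rw [Subgroup.orderOf_coe, hw₀]
  set w : G := (w₀ : G) with hwdef
  have hwM : w ∈ M := w₀.2
  have hw1 : w ≠ 1 := fun e => hp.out.ne_one (by rw [← hwo, e, orderOf_one])
  obtain ⟨E, hE, hwE⟩ := Tau.exists_complement_of hG hM (X := zpowers w) (zpowers_le.2 hwM) fun r hr hd => by
    rw [Nat.card_zpowers, hwo] at hd
    exact (Nat.prime_dvd_prime_iff_eq hr hp.out).1 hd ▸ hpσ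
  rw [zpowers_le] at hwE
  obtain ⟨A₀, hA₀M, hA₀, hA₀2⟩ := Uniq.exists_elementary hτ.2.2.2
  obtain ⟨m, hm, hmA⟩ := Tau.conj_into_of_product (π := {t}) (solvable_le hG hM le_rfl) hE.1
    (map_subtype_le _ : Cfsg.sigmaCore M ≤ M) (TH.le_normalizer_core M)
    (by rw [sup_comm]; exact (Compl.card_eq hG hM hE).2.1.ge)
    (fun r hr hrt => hrt.symm ▸ not_dvd_core hG hM hτ.1 hτ.2.1) hA₀M fun r hr hd => by
      rw [hA₀2] at hd
      exact (Nat.prime_dvd_prime_iff_eq hr hτ.1).1 (hr.dvd_of_dvd_pow hd)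
  set A := A₀.map (MulAut.conj m).toMonoidHom
  have hA : Cfsg.IsElementaryAbelian t A := Tau.elementary_map hA₀ _
  have hA2 : Nat.card A = t ^ 2 := by rw [card_map_of_injective (MulAut.conj m).injective, hA₀2]
  have hAM : A ≤ M := hmA.trans hE.1
  obtain ⟨⟨hEA, -⟩, -, -⟩ := Cfsg.Agent.S1418.result hG M hM E hE t hτ A ⟨hmA, hA, hA2⟩
  have hts' : t < s := pair_move hG hM hN hx hxo hxC hsτ hcompl hnilM hτ hAM hA hA2
  have hwfix : Cfsg.sigmaCore M ⊓ centralizer ({w} : Set G) = ⊥ := by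
    by_contra h
    obtain ⟨v, hv, hv1⟩ := (bot_or_exists_ne_one _).resolve_left h
    rcases mem_kappa_or_tau_two hG hM hwM hwo hpσ hv.1 hv1
      (show Commute w v from (mem_centralizer_singleton_iff.1 hv.2).symm) with h' | h'
    · rw [hκM] at h'; exact h'
    · exact hpτ h'
  obtain ⟨a, ha, ha1, haw⟩ : ∃ a ∈ A, a ≠ 1 ∧ Commute a w := by
    by_contra h
    push Not at h
    have hfp : A ⊓ centralizer ({w} : Set G) = ⊥ := le_bot_iff.1 fun a ha =>
      Subgroup.mem_bot.2 (by_contra fun ha1 => h a ha.1 ha1 (mem_centralizer_singleton_iff.1 ha.2))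
    have hk := frobenius_kills (solvable_le hG hM (map_subtype_le _))
      (solvable_le hG hM (sup_le hAM (zpowers_le.2 hwM))) hwo (not_dvd_core hG hM hp.out hpσ)
      (by rw [hA2]; exact (hτ.1.coprime_iff_not_dvd.2 (not_dvd_core hG hM hτ.1 hτ.2.1)).pow_left 2)
      (hAM.trans (TH.le_normalizer_core M)) (TH.le_normalizer_core M hwM) (hEA hwE) hfp
      (hwfix.le.trans bot_le)
    refine Tau.sigmaCore_ne_bot hG hM (one_lt_card_coatom hG hM) (le_bot_iff.1 ?_)
    rw [← (Cfsg.Agent.S1417.result hG M hM t hτ A ⟨hAM, hA, hA2⟩).2.2.2.1]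
    exact le_inf le_rfl hk
  have hao : orderOf a = t := orderOf_eq_prime (hA.2 a ha) ha1
  -- `w` inside `N_σ`
  obtain ⟨c, hc⟩ := Cfsg.Agent.S1425.result hG N hN (zpowers w) (fun e => hw1 (zpowers_eq_bot.1 e))
    fun r hr hd => by
      rw [Nat.card_zpowers, hwo] at hd
      exact (Nat.prime_dvd_prime_iff_eq hr hp.out).1 hd ▸ hpN
  set w' := c * w * c⁻¹ with hw'
  set a' := c * a * c⁻¹ with ha'
  have hw'σ : w' ∈ Cfsg.sigmaCore N := hc ⟨w, mem_zpowers w, rfl⟩
  have hw'o : orderOf w' = p := by rw [hw', conj_orderOf, hwo]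
  have hw'1 : w' ≠ 1 := fun e => hw1 (conj_eq_one_iff.1 e)
  have ha'o : orderOf a' = t := by rw [ha', conj_orderOf, hao]
  have haw' : Commute a' w' := haw.map (MulAut.conj c).toMonoidHom
  have ha'C : a' ∈ centralizer ({w'} : Set G) := mem_centralizer_singleton_iff.2 haw'.eq
  have hnotC : ¬ centralizer ({w'} : Set G) ≤ N := fun h =>
    not_fixed_of_empty hG hN hκN htN htτN (h ha'C) ha'o hw'σ hw'1 haw'
  obtain ⟨R, hR, hCR, -, -, hcR, hnilR, hτR, -⟩ := exists_over hG hN hw'σ hw'1 hnotC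
  have hpR : p ∈ Cfsg.tau2 R := hτR p hp.out (dvd_of_eq hw'o.symm)
  have hw'NR : w' ∈ N ⊓ R := ⟨map_subtype_le _ hw'σ, hCR (mem_centralizer_singleton_iff.2 rfl)⟩
  have htR : t ∈ Cfsg.sigma R := by
    by_contra h
    obtain ⟨e, he, heo, hec⟩ := exists_in_complement hcR hτ.1 (not_dvd_core hG hR hτ.1 h) hw'NR (hCR ha'C)
      ha'o haw'
    exact not_fixed_of_empty hG hN hκN htN htτN he.1 heo hw'σ hw'1 hec
  have hidealp := (Cfsg.Agent.S1408.result hG R hR p hpR.2.1 hpR.2.2.1 hpR.2.2.2).1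
  have hpt : p ≠ t := fun e => htN (e ▸ hpN)
  have hTR : Bender.qc t (Cfsg.sigmaCore R) ≤ R := (Bender.qc_le t _).trans (map_subtype_le _)
  have ha'T : a' ∈ Bender.qc t (Cfsg.sigmaCore R) :=
    mem_qc_core hG hR hnilR (j := 1) htR (hCR ha'C) (by rw [ha'o, pow_one])
  -- `p < t`
  have hplt : p < t := by
    obtain ⟨W, hWR, hW, hW2⟩ := Uniq.exists_elementary hpR.2.2.2
    obtain ⟨v, hv, hv1, hmove⟩ : ∃ v ∈ W, v ≠ 1 ∧ ¬ Bender.qc t (Cfsg.sigmaCore R) ≤ centralizer ({v} : Set G) := by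
      by_contra h
      push Not at h
      have h' := (Cfsg.Agent.S1417.result hG R hR p hpR W ⟨hWR, hW, hW2⟩).2.2.2.1.le
        (show a' ∈ _ from ⟨Bender.qc_le t _ ha'T, mem_centralizer_iff.2 fun v hv => by
          by_cases hv1 : v = 1
          · rw [hv1, one_mul, mul_one]
          · exact (mem_centralizer_singleton_iff.1 (h v hv hv1 ha'T)).symm⟩)
      exact hτ.1.ne_one (by rw [← ha'o, orderOf_eq_one_iff]; exact Subgroup.mem_bot.1 h')
    exact prime_lt hG hR hpt (fun hβ => hidealt hβ.2) (Bender.isPGroup_qc _) hTR (qc_core_normal hG R t)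
      (hWR hv) (orderOf_eq_prime (hW.2 v hv) hv1) hmove
  -- `t` does not divide `|N|`
  have htn : ¬ t ∣ Nat.card N := fun hd => by
    obtain ⟨b, hb⟩ := exists_prime_orderOf_dvd_card' (G := N) t hd
    have hbo : orderOf (b : G) = t := by rw [Subgroup.orderOf_coe, hb]
    refine lt_asymm hplt (prime_lt hG hN (Ne.symm hpt) (fun hβ => hidealp hβ.2) (Bender.isPGroup_qc _)
      ((Bender.qc_le p _).trans (map_subtype_le _)) (qc_core_normal hG N p) b.2 hbo fun h => ?_)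
    refine not_fixed_of_empty hG hN hκN htN htτN b.2 hbo hw'σ hw'1 ?_
    exact (show Commute w' b from mem_centralizer_singleton_iff.1 (h (mem_qc_core hG hN hnilN (j := 1) hpN
      (map_subtype_le _ hw'σ) (by rw [hw'o, pow_one])))).symm
  -- `s` does not divide `|R|`
  have hsn : ¬ s ∣ Nat.card R := fun hd => by
    obtain ⟨v, hv⟩ := exists_prime_orderOf_dvd_card' (G := R) s hd
    have hvo : orderOf (v : G) = s := by rw [Subgroup.orderOf_coe, hv]
    obtain ⟨d, hd'⟩ := Cfsg.Agent.S1425.result hG R hR A (fun e => by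
      rw [e, card_bot] at hA2; exact (Nat.one_lt_pow two_ne_zero hτ.1.one_lt).ne hA2) fun r hr hr' => by
        rw [hA2] at hr'
        exact (Nat.prime_dvd_prime_iff_eq hr hτ.1).1 (hr.dvd_of_dvd_pow hr') ▸ htR
    refine lt_asymm hts' (prime_lt hG hR (fun e => hτ.2.1 (e ▸ hsM)) (fun hβ => hidealt hβ.2)
      (Bender.isPGroup_qc _) hTR (qc_core_normal hG R t) v.2 hvo fun h => ?_)
    refine no_centralized hG hM hτ hAM hA hA2 hsM hvo (g := d) fun b hb => ?_
    by_cases hb1 : b = 1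
    · rw [hb1, mul_one, mul_inv_cancel]; exact Commute.one_right _
    · have hm : d * b * d⁻¹ ∈ Cfsg.sigmaCore R := hd' ⟨b, hb, rfl⟩
      exact (mem_centralizer_singleton_iff.1 (h (mem_qc_core hG hR hnilR (j := 1) htR (map_subtype_le _ hm)
        (by rw [conj_orderOf, pow_one]; exact orderOf_eq_prime (hA.2 b hb) hb1)))).symm
  have hxN : x ∈ N := hxC (mem_centralizer_singleton_iff.2 rfl)
  have hxM : x ∈ M := map_subtype_le _ hx
  have hx1 : x ≠ 1 := fun e => hs.out.ne_one (by rw [← hxo, e, orderOf_one])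
  have hmax := (Cfsg.Agent.S1408.result hG N hN s hsτ.2.1 hsτ.2.2.1 hsτ.2.2.2).2
  obtain ⟨B₀, hB₀N, hB₀, hB₀2⟩ := Uniq.exists_elementary hsτ.2.2.2
  obtain ⟨n, hn, hnB⟩ := Tau.conj_into_of_product (π := {s}) (solvable_le hG hN le_rfl) hcompl.1
    (map_subtype_le _ : Cfsg.sigmaCore N ≤ N) (TH.le_normalizer_core N)
    (by rw [sup_comm]; exact (Compl.card_eq hG hN hcompl).2.1.ge)
    (fun q hq hqr => hqr.symm ▸ not_dvd_core hG hN hs.out hsτ.2.1) hB₀N fun q hq hd => by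
      rw [hB₀2] at hd
      exact (Nat.prime_dvd_prime_iff_eq hq hs.out).1 (hq.dvd_of_dvd_pow hd)
  set B := B₀.map (MulAut.conj n).toMonoidHom
  have hB : Cfsg.IsElementaryAbelian s B := Tau.elementary_map hB₀ _
  have hB2 : Nat.card B = s ^ 2 := by rw [card_map_of_injective (MulAut.conj n).injective, hB₀2]
  have hBM : B ≤ M := hnB.trans inf_le_left
  obtain ⟨⟨-, hlines⟩, -, -⟩ := Cfsg.Agent.S1418.result hG N hN (M ⊓ N) hcompl s hsτ B ⟨hnB, hB, hB2⟩
  have hxB : x ∈ B := hlines (zpowers x) (zpowers_le.2 ⟨hxM, hxN⟩) (by rw [Nat.card_zpowers, hxo]) (mem_zpowers x)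
  set S := Bender.qc s (Cfsg.sigmaCore M) with hS
  have hSM : S ≤ M := (Bender.qc_le s _).trans (map_subtype_le _)
  have hSd : ¬ s ∣ S.index := by
    intro h
    obtain ⟨Q⟩ : Nonempty (Sylow s ↥(Cfsg.sigmaCore M)) := inferInstance
    have hQ : (Q : Subgroup ↥(Cfsg.sigmaCore M)).map (Cfsg.sigmaCore M).subtype ≤ S := by
      rintro _ ⟨y, hy, rfl⟩
      obtain ⟨j, hj⟩ := IsPGroup.iff_orderOf.1 Q.2 ⟨y, hy⟩
      exact mem_qc_core hG hM hnilM (j := j) hsM (map_subtype_le _ y.2) (by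
        rw [← hj]
        exact (orderOf_injective (Cfsg.sigmaCore M).subtype Subtype.val_injective y).trans
          (orderOf_injective (Q : Subgroup ↥(Cfsg.sigmaCore M)).subtype Subtype.val_injective ⟨y, hy⟩))
    refine Excep.index_not_dvd (t := s) (map_subtype_le _ : (Q : Subgroup ↥(Cfsg.sigmaCore M)).map
      (Cfsg.sigmaCore M).subtype ≤ Cfsg.sigmaCore M) ?_ ((Sig.sigma_core hG hM).2.1.2 s hs.out hsM)
      (h.trans (index_dvd_of_le hQ))
    rw [relIndex, ← comap_subtype, comap_map_eq_self_of_injective (Cfsg.sigmaCore M).subtype_injective]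
    exact Q.not_dvd_index
  by_cases hSc : IsMulCommutative S
  · -- a scalar element normalizes the line of `x`
    have hBS : B ≤ S := fun b hb => by
      by_cases hb1 : b = 1
      · exact hb1 ▸ one_mem _
      · exact mem_qc_core hG hM hnilM (j := 1) hsM (hBM hb) (by
          rw [pow_one]; exact orderOf_eq_prime (hB.2 b hb) hb1)
    have hAB : A ≤ normalizer (B : Set G) := fun v hv => by
      refine Uniq.mem_normalizer_of_map_le ?_
      rintro _ ⟨b, hb, rfl⟩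
      show v * b * v⁻¹ ∈ B
      have hbS : v * b * v⁻¹ ∈ S := (mem_normalizer_iff.1 (qc_core_normal hG M s (hAM hv)) b).1 (hBS hb)
      exact Excep.mem_of_commute hB (hmax B (hnB.trans inf_le_right) hB hB2)
        (by rw [conj_pow, hB.2 b hb, mul_one, mul_inv_cancel])
        fun y hy => congrArg Subtype.val (hSc.is_comm.comm (⟨y, hBS hy⟩ : S) ⟨_, hbS⟩)
    obtain ⟨z, hz, hz1, hzX⟩ := exists_scalar (s := s) (t := t) (fun e => hτ.2.1 (e ▸ hsM)) hA hA2 hB hB2 hAB
      fun v hv hcv => by_contra fun hv1 => htn (dvd_of_mem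
        (hxC (mem_centralizer_singleton_iff.2 (hcv x hxB))) (orderOf_eq_prime (hA.2 v hv) hv1))
    obtain ⟨i, hi⟩ := mem_zpowers_iff.1 (hzX x hxB)
    have hline : zpowers (z * x * z⁻¹) = zpowers x := eq_of_le_of_card_ge (zpowers_le.2 (hzX x hxB)) (by
      rw [Nat.card_zpowers, Nat.card_zpowers, conj_orderOf])
    obtain ⟨j, hj⟩ := mem_zpowers_iff.1 (hline.ge (mem_zpowers x))
    have hzN : z ∈ N := by
      refine eq_of_conj_eq hG hN (hu _ (Uniq.coatom_conj hN z) fun y hy => ?_)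
      refine mem_map_conj_iff.2 (hxC (mem_centralizer_singleton_iff.2 ?_))
      have h1 : Commute y (z * x * z⁻¹) := by
        rw [← hi]
        exact (show Commute y x from mem_centralizer_singleton_iff.1 hy).zpow_right i
      have h2 := h1.map (MulAut.conj z⁻¹).toMonoidHom
      have h3 : Commute (z⁻¹ * y * z⁻¹⁻¹) (z⁻¹ * (z * x * z⁻¹) * z⁻¹⁻¹) := h2
      rw [inv_inv, show z⁻¹ * (z * x * z⁻¹) * z = x by group] at h3
      exact h3.eq
    exact htn (dvd_of_mem hzN (orderOf_eq_prime (hA.2 z hz) hz1))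
  · -- `x` centralizes `N_σ`
    have hnab : ∀ P : Sylow s G, ¬ IsMulCommutative (P : Subgroup G) := fun P hcP => hSc (by
      haveI := hcP
      let Q : Sylow s G := (Bender.isPGroup_qc (s := s) (Cfsg.sigmaCore M)).toSylow hSd
      have e : ↥(Q : Subgroup G) ≃* ↥(P : Subgroup G) := Q.equiv P
      have h : IsMulCommutative ↥(Q : Subgroup G) :=
        ⟨⟨fun y z => e.injective (by rw [map_mul, map_mul]; exact mul_comm' _ _)⟩⟩
      exact h)
    obtain ⟨-, -, hlast⟩ := Cfsg.Agent.S1419.result hG N hN (M ⊓ N) hcompl s hsτ hnab B ⟨hnB, hB, hB2⟩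
    have hxA : zpowers x = B ⊓ centralizer (Cfsg.sigmaCore N : Set G) := by
      by_contra hne'
      exact (hlast (zpowers x) (zpowers_le.2 ⟨hxM, hxN⟩) (by rw [Nat.card_zpowers, hxo]) hne').2
        ((FixedLine.centralizer_zpowers_le x).trans hxC)
    have hxw : Commute w' x := mem_centralizer_iff.1 (hxA.le (mem_zpowers x)).2 w' hw'σ
    exact hsn (dvd_of_mem (hCR (mem_centralizer_singleton_iff.2 hxw.symm.eq)) hxo)

end Pair

end CfsgLib.OddLocal.Kap
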