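import Cfsg.Agent.OddLocal.KappaSupportInv
import Cfsg.Agent.OddLocal.KappaATI
import Cfsg.Agent.OddLocal.KappaTilde
import Cfsg.Agent.OddLocal.KappaDichotomy
import Cfsg.Agent.S1436
import Cfsg.Prelude.Def_OddOrderChar

/-!
The Dade hypothesis for the supports of a maximal subgroup.
-/

set_option autoImplicit false
set_option linter.style.haveILetI false
set_option linter.unusedSectionVars false

namespace CfsgLib.OddLocal.Kap

open Subgroup Cfsg CfsgLib.OddLocal
open scoped commutatorElement Pointwise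

universe u

variable {G : Type u} [Group G] [Finite G]

theorem conj_back (g a : G) : g⁻¹ * (g * a * g⁻¹) * g⁻¹⁻¹ = a := by group

theorem inv_mem_back {M : Subgroup G} {g : G} (h : g⁻¹ ∈ M) : g ∈ M := inv_inv g ▸ M.inv_mem h

variable (hG : Cfsg.IsMinSimpleOddOrder G)
include hG

variable {M : Subgroup G} (hM : IsCoatom M)
include hM

theorem mem_core_of_conj {g a : G} (ha : a ∈ Cfsg.sigmaCore M) (hga : g * a * g⁻¹ ∈ M) :
    g * a * g⁻¹ ∈ Cfsg.sigmaCore M :=
  Excep.le_sigmaCore hG hM (zpowers_le.2 hga) (fun r hr hd => by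
    rw [Nat.card_zpowers] at hd
    exact sigma_of_order hG hM ha r hr (hd.trans (dvd_of_eq (conj_orderOf g a)))) (mem_zpowers _)

/-- Fusion of elements of `M_σ` inside `M` is realized in `M`. -/
theorem core_fusion {g a : G} (ha : a ∈ Cfsg.sigmaCore M) (hga : g * a * g⁻¹ ∈ M) :
    ∃ n ∈ M, n * a * n⁻¹ = g * a * g⁻¹ := by
  by_cases h1 : a = 1
  · exact ⟨1, M.one_mem, by rw [h1]; group⟩
  have hne : Cfsg.sigmaCore M ≠ ⊥ := fun e => h1 (mem_bot.1 (e.le ha))
  obtain ⟨n, hn, he⟩ := hall_fusion hG hM (H := Cfsg.sigmaCore M) le_rfl hne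
    (by rw [relIndex_self]; exact Nat.coprime_one_right _) ha (mem_core_of_conj hG hM ha hga)
  exact ⟨n, hn.1, he⟩

/-- An element of `A₀(M) \ A(M)` moves into `M` only under `M`. -/
theorem joint_mem {W₁ V W₂ : Subgroup G} (hP : Cfsg.IsTypePWith M W₁ V W₂) {m w g : G} (hm : m ∈ M)
    (hw : w ∈ W₁ ⊔ W₂) (h1 : w ∉ W₁) (hg : g * (m * w * m⁻¹) * g⁻¹ ∈ M) : g ∈ M := by
  obtain ⟨hs, hs1⟩ := power_in_W2 hP hw h1
  set s := w ^ Nat.card W₁
  have hsS : s ∈ Cfsg.sigmaCore M := fittingHallOf_le_sigmaCore hG hM (hP.W₂_le hs).1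
  obtain ⟨K, U, hKU⟩ := exists_decomp_any hG hM
  have hK1 : K ≠ ⊥ := (kappa_nonempty_iff hG hM hKU).1 (kappa_of_typeP hG hM hP)
  obtain ⟨p, hp, hd⟩ := Nat.exists_prime_and_dvd (fun h => hP.W₁_ne (eq_bot_of_card_eq W₁ h))
  haveI := Fact.mk hp
  have hcard : Nat.card W₁ = Nat.card K := Nat.eq_of_mul_eq_mul_left (Nat.card_pos (α := ↥⁅M, M⁆))
    ((FittingHall.card_complIn hP.W₁_compl).symm.trans (FittingHall.card_complIn (derived_compl hG hM hKU hK1)))
  obtain ⟨y, hy⟩ := exists_prime_orderOf_dvd_card' (G := W₁) p hd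
  have hyo : orderOf (y : G) = p := by rw [Subgroup.orderOf_coe, hy]
  have hys : Commute (y : G) s := hP.selfNormalizing.2.2.2.1 _ y.2 _ hs
  have hC := centralizer_le_of_kappa hG hM (hP.W₁_compl.2.1 y.2) hyo (hKU.hall.2.1 p hp (hcard ▸ hd)) hsS hs1 hys
  have hms : m * s * m⁻¹ ∈ Cfsg.sigmaCore M := conj_mem_of_le_normalizer (TH.le_normalizer_core M) hm hsS
  have hgs : g * (m * s * m⁻¹) * g⁻¹ ∈ M := by
    rw [show m * s * m⁻¹ = (m * w * m⁻¹) ^ Nat.card W₁ from conj_pow.symm, ← conj_pow]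
    exact M.pow_mem hg _
  obtain ⟨n, hn, he⟩ := core_fusion hG hM hms hgs
  have hc : m⁻¹ * n⁻¹ * g * m ∈ centralizer ({s} : Set G) := mem_centralizer_singleton_iff.2 (by
    calc m⁻¹ * n⁻¹ * g * m * s = m⁻¹ * n⁻¹ * (g * (m * s * m⁻¹) * g⁻¹) * g * m := by group
      _ = s * (m⁻¹ * n⁻¹ * g * m) := by rw [← he]; group)
  rw [show g = n * m * (m⁻¹ * n⁻¹ * g * m) * m⁻¹ by group]
  exact M.mul_mem (M.mul_mem (M.mul_mem hn hm) (hC hc)) (M.inv_mem hm)

/-- `A(M) \ M_σ` lies in `A(M) \ M_σ` of the local analysis. -/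
theorem typeA_diff_subset {K U : Subgroup G} (hKU : Cfsg.IsSigmaDecomposition M K U) :
    Cfsg.typeA M \ (Cfsg.sigmaCore M : Set G) ⊆ Cfsg.sigmaA M U \ (Cfsg.sigmaCore M : Set G) := by
  rintro a ⟨ha, hn⟩
  have haM := (typeA_subset M ha).1
  have hcore := (typeCore_hall hG hM).1
  have hbot : K = ⊥ → a ∈ U ⊔ Cfsg.sigmaCore M := fun hK => by
    obtain ⟨b, hb, c, hc, rfl⟩ := hKU.compl.2.2.2 a haM
    rw [hK, bot_sup_eq] at hc
    exact mul_mem (mem_sup_left hb) (mem_sup_right hc)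
  by_cases hI : Cfsg.IsOfTypeI M
  · simp only [Cfsg.typeA, if_pos hI, Set.mem_ofPred_eq] at ha
    obtain ⟨-, -, y, hy, hy1, he⟩ := ha
    exact ⟨⟨⟨haM, y, fittingHallOf_le_sigmaCore hG hM hy, hy1, he⟩, hbot (bot_of_typeF hG hM hKU hI.1)⟩, hn⟩
  · simp only [Cfsg.typeA, if_neg hI, Set.mem_ofPred_eq] at ha
    obtain ⟨haD, -, y, hy, hy1, he⟩ := ha
    refine ⟨⟨⟨haM, y, hcore hy, hy1, he⟩, ?_⟩, hn⟩
    by_cases hK : K = ⊥
    · exact hbot hK
    · exact (Cfsg.Agent.S1365.result hG M hM K U hKU hK).1.le haD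

/-- An element of `A₀(M)` lies in `M_σ`, or its centralizer and its fusion are controlled by `M`. -/
theorem support_cases {a : G} (ha : a ∈ Cfsg.typeA0 M) :
    a ∈ Cfsg.sigmaCore M ∨ ((∀ g : G, g * a * g⁻¹ ∈ Cfsg.typeA0 M → g ∈ M) ∧ centralizer ({a} : Set G) ≤ M) := by
  have haM : a ∈ M := (typeA0_subset M ha).1
  have haJ := ha
  rcases haJ with haA | ⟨-, W₁, V, W₂, hP, m, hm, w, hw, h1, -, rfl⟩
  · by_cases haS : a ∈ Cfsg.sigmaCore M
    · exact Or.inl haS
    refine Or.inr ?_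
    obtain ⟨K, U, hKU⟩ := exists_decomp_any hG hM
    have has := typeA_diff_subset hG hM hKU ⟨haA, haS⟩
    obtain ⟨b, c, hb, hc, -, e, hbσ, hcσ⟩ := exists_pi_parts (Cfsg.sigma M) a
    have hC : centralizer ({a} : Set G) ≤ M := fun z hz => by
      refine (part_unique_max hG hM hKU has hb hc e hbσ hcσ).1 (mem_centralizer_singleton_iff.2 ?_)
      obtain ⟨i, rfl⟩ := mem_zpowers_iff.1 hc
      exact ((show Commute z a from mem_centralizer_singleton_iff.1 hz).zpow_right i).eq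
    refine ⟨fun g hg => ?_, hC⟩
    rcases hg with hgA | ⟨-, W₁, V, W₂, hP, m, hm, w, hw, h1, -, he⟩
    · have hgS : g * a * g⁻¹ ∉ Cfsg.sigmaCore M := fun h => haS (by
        have := mem_core_of_conj hG hM (g := g⁻¹) h (by rw [conj_back]; exact haM)
        rwa [conj_back] at this)
      have hg' := typeA_diff_subset hG hM hKU ⟨hgA, hgS⟩
      by_contra hgM
      refine (typeA_subset M haA).2 (sigmaA_diff_ti hG hM hKU g ?_ a has hg')
      have hn : normalizer (Cfsg.sigmaA M U \ (Cfsg.sigmaCore M : Set G)) = M := by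
        refine set_normalizer_eq hG hM (fun z hz => ⟨hz.1.1.1, fun h => hz.2 ?_⟩) ⟨a, has⟩ fun n hn z hz => ?_
        · rw [Set.mem_singleton_iff] at h; subst h; exact Subgroup.one_mem _
        · obtain ⟨⟨⟨hzM, y, hy, hy1, hzy⟩, hzU⟩, hzσ⟩ := hz
          exact ⟨⟨⟨M.mul_mem (M.mul_mem hn hzM) (M.inv_mem hn), n * y * n⁻¹,
            conj_mem_of_le_normalizer (TH.le_normalizer_core M) hn hy, fun h => hy1 (conj_eq_one_iff.1 h),
            ((show Commute z y from hzy).map (MulAut.conj n).toMonoidHom).eq⟩,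
            conj_mem_of_le_normalizer (decomp_normal hG hM hKU) hn hzU⟩, fun h => hzσ (by
            have := conj_mem_of_le_normalizer (TH.le_normalizer_core M) (M.inv_mem hn) h
            rwa [conj_back] at this)⟩
      rwa [hn]
    · refine inv_mem_back (joint_mem hG hM hP hm hw h1 (g := g⁻¹) ?_)
      rw [← he, conj_back]; exact haM
  · have hkey : ∀ g : G, g * (m * w * m⁻¹) * g⁻¹ ∈ M → g ∈ M := fun g hg => joint_mem hG hM hP hm hw h1 hg
    refine Or.inr ⟨fun g hg => hkey g (typeA0_subset M hg).1, fun c hc => hkey c ?_⟩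
    rw [mem_centralizer_singleton_iff.1 hc, mul_inv_cancel_right]
    exact haM

theorem supportR_le_centralizer (a : G) : Cfsg.supportR M a ≤ centralizer ({a} : Set G) := by
  unfold Cfsg.supportR
  split_ifs
  · exact inf_le_right
  · exact bot_le

theorem supportR_centralizer_conj (a : G) {c u : G} (hc : c ∈ centralizer ({a} : Set G))
    (hu : u ∈ Cfsg.supportR M a) : c * u * c⁻¹ ∈ Cfsg.supportR M a := by
  unfold Cfsg.supportR at hu ⊢
  split_ifs at hu ⊢ with h
  · have hcL : c ∈ Classical.choose h.2.exists := (Classical.choose_spec h.2.exists).2 hc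
    exact ⟨conj_mem_of_le_normalizer (le_normalizer.trans (normalizer_le_fittingHallOf _)) hcL hu.1,
      (centralizer ({a} : Set G)).mul_mem ((centralizer ({a} : Set G)).mul_mem hc hu.2)
        ((centralizer ({a} : Set G)).inv_mem hc)⟩
  · rw [Subgroup.mem_bot] at hu
    rw [hu, mul_one, mul_inv_cancel]
    exact one_mem _

/-- The order of `R(a)` is prime to the order of every `C_M(b)`. -/
theorem support_coprime {a b : G} (ha : a ∈ Cfsg.typeA0 M) (hb : b ∈ Cfsg.typeA0 M) :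
    Nat.Coprime (Nat.card (Cfsg.supportR M a)) (Nat.card ↥(M ⊓ centralizer ({b} : Set G))) := by
  by_cases haC : centralizer ({a} : Set G) ≤ M
  · rw [supportR_eq_bot hG haC, card_bot]; exact Nat.coprime_one_left _
  obtain haS := (support_cases hG hM ha).resolve_right fun h => haC h.2
  have ha1 : a ≠ 1 := (typeA0_subset M ha).2
  obtain ⟨N, hN, hCN, hu, hnc, -, hnil, -⟩ := exists_over hG hM haS ha1 haC
  rw [supportR_eq hG haC hN hCN hu hnil]
  refine Nat.coprime_of_dvd fun r hr h1 h2 => ?_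
  haveI := Fact.mk hr
  have hrN : r ∈ Cfsg.sigma N := (Sig.sigma_core hG hN).1.2.1 r hr (h1.trans (card_dvd_of_le inf_le_left))
  have hrM : r ∉ Cfsg.sigma M := fun h => by
    obtain ⟨g, hg⟩ := conj_of_common hG hM hN h hrN
    exact hnc g hg
  obtain ⟨hκ, hτ⟩ := (Cfsg.Agent.S1436.result hG M hM a haS ha1 haC N hN hCN).1
    ⟨r, hrN, h2.trans (card_dvd_of_le inf_le_left)⟩
  -- every element of `M` centralizing a non-trivial element of `M_σ` is a `σ(M)`-element
  have hσ : ∀ (c y : G) (q : ℕ), q.Prime → q ∣ orderOf c → c ∈ M → y ∈ Cfsg.sigmaCore M → y ≠ 1 → Commute c y →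
      q ∈ Cfsg.sigma M := by
    intro c y q hq hd hc hy hy1 hcy
    by_contra hqσ
    haveI := Fact.mk hq
    rcases mem_kappa_or_tau_two hG hM (M.pow_mem hc (orderOf c / q))
      (orderOf_pow_orderOf_div (orderOf_pos c).ne' hd) hqσ hy hy1 (hcy.pow_left _) with h | h
    · rw [hκ] at h; exact h
    · rw [hτ] at h; exact h
  have hbS : b ∈ Cfsg.sigmaCore M := by
    rcases hb with hbA | ⟨-, W₁, V, W₂, hP, -⟩
    · by_contra hbS
      obtain ⟨K, U, hKU⟩ := exists_decomp_any hG hM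
      obtain ⟨⟨⟨hbM, y, hy, hy1, hby⟩, -⟩, -⟩ := typeA_diff_subset hG hM hKU ⟨hbA, hbS⟩
      exact hbS (Excep.le_sigmaCore hG hM (zpowers_le.2 hbM) (fun q hq hd => by
        rw [Nat.card_zpowers] at hd
        exact hσ b y q hq hd hbM hy hy1 hby) (mem_zpowers b))
    · have h := kappa_of_typeP hG hM hP
      rw [hκ] at h
      exact absurd h Set.not_nonempty_empty
  obtain ⟨z, hz⟩ := exists_prime_orderOf_dvd_card' (G := ↥(M ⊓ centralizer ({b} : Set G))) r h2
  exact hrM (hσ (z : G) b r hr (by rw [Subgroup.orderOf_coe, hz]) z.2.1 hbS (typeA0_subset M hb).2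
    (mem_centralizer_singleton_iff.1 z.2.2))

/-- The Dade hypothesis for every `M`-invariant subset of `A₀(M)`. -/
theorem dade_of_subset {A : Set G} (hA : A ⊆ Cfsg.typeA0 M) (hinv : ∀ m ∈ M, ∀ a ∈ A, m * a * m⁻¹ ∈ A) :
    Cfsg.DadeHypothesis A M (Cfsg.supportR M) where
  one_not_mem h := (typeA0_subset M (hA h)).2 rfl
  subset a ha := (typeA0_subset M (hA ha)).1
  conj_mem := hinv
  fusion a ha g hg := by
    rcases support_cases hG hM (hA ha) with h | ⟨h, -⟩
    · exact core_fusion hG hM h (typeA0_subset M (hA hg)).1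
    · exact ⟨g, h g (hA hg), rfl⟩
  le_centralizer a _ := supportR_le_centralizer hG hM a
  conj_mem_H a _ c hc u hu := supportR_centralizer_conj hG hM a hc hu
  inf_eq_bot a ha := by
    rcases support_cases hG hM (hA ha) with h | ⟨-, h⟩
    · refine le_bot_iff.1 ((le_inf inf_le_left (inf_le_right.trans inf_le_left)).trans
        (supportR_covers hG hM h (typeA0_subset M (hA ha)).2).1.le)
    · rw [supportR_eq_bot hG h, bot_inf_eq]
  sup_eq a ha := by
    refine le_antisymm (sup_le (supportR_le_centralizer hG hM a) inf_le_right) fun c hc => ?_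
    have haM : a ∈ M := (typeA0_subset M (hA ha)).1
    by_cases haC : centralizer ({a} : Set G) ≤ M
    · exact mem_sup_right ⟨haC hc, hc⟩
    have haS := (support_cases hG hM (hA ha)).resolve_right fun h => haC h.2
    obtain ⟨r, hr, hrc⟩ := (supportR_covers hG hM haS (typeA0_subset M (hA ha)).2).2 c (by
      rw [mul_assoc, (mem_centralizer_singleton_iff.1 hc).symm, inv_mul_cancel_left]; exact haM)
    rw [show c = r * (r⁻¹ * c) by group]
    exact mul_mem (mem_sup_left hr)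
      (mem_sup_right ⟨hrc, (centralizer ({a} : Set G)).mul_mem
        ((centralizer ({a} : Set G)).inv_mem (supportR_le_centralizer hG hM a hr)) hc⟩)
  coprime a ha b hb := support_coprime hG hM (hA ha) (hA hb)

end CfsgLib.OddLocal.Kap
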