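import Cfsg.Prelude.Def_OddOrderLocal
import Cfsg.Prelude.Def_OddOrder
import Cfsg.Agent.OddLocal.CNMinimal
import Cfsg.Agent.Signalizer.Basic
import Cfsg.Agent.Transfer.Alperin
import Cfsg.Agent.S3743

/-!
Conjugacy of maximal invariant `q`-subgroups under the transitivity hypothesis in a minimal simple
group of odd order.
-/

set_option autoImplicit false
set_option linter.style.haveILetI false
set_option linter.unusedSectionVars false

namespace CfsgLib.OddLocal.TH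

open Subgroup Cfsg Pointwise

variable {G : Type*} [Group G] [Finite G]

local notation "N[" Q "]" => Subgroup.normalizer (SetLike.coe Q)
local notation "C[" Q "]" => Subgroup.centralizer (SetLike.coe Q)

/-! ### Cores and invariant families -/

theorem core_le {σ : Set ℕ} (X : Subgroup G) : piCoreOf σ X ≤ X := map_subtype_le _

theorem le_core {σ : Set ℕ} {X N : Subgroup G} (hNX : N ≤ X) (hX : X ≤ N[N])
    (hσ : ∀ q : ℕ, q.Prime → q ∣ Nat.card N → q ∈ σ) : N ≤ piCoreOf σ X := by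
  rw [piCoreOf, ← map_subgroupOf_eq_of_le hNX]
  refine map_mono (le_sSup ⟨(normal_subgroupOf_iff_le_normalizer hNX).2 hX, fun q hq hd => ?_⟩)
  rw [Nat.card_congr (subgroupOfEquivOfLe hNX).toEquiv] at hd
  exact hσ q hq hd

theorem core_primes {σ : Set ℕ} (X : Subgroup G) :
    ∀ q : ℕ, q.Prime → q ∣ Nat.card (piCoreOf σ X) → q ∈ σ := by
  intro q hq hd
  rw [piCoreOf, card_map_of_injective X.subtype_injective] at hd
  exact Cfsg.Agent.S3743.isPi_of_sup _ (fun N hN => hN.1) (fun N hN => hN.2) q hq hd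

theorem le_normalizer_core {σ : Set ℕ} (X : Subgroup G) : X ≤ N[piCoreOf σ X] := by
  rw [← normal_subgroupOf_iff_le_normalizer (core_le X), piCoreOf, ← comap_subtype,
    comap_map_eq_self_of_injective X.subtype_injective]
  exact piCore_normal σ X

theorem le_normalizer_of_map_le {U Y : Subgroup G}
    (h : ∀ y ∈ U, Y.map (MulAut.conj y).toMonoidHom ≤ Y) : U ≤ N[Y] :=
  CfsgLib.Signalizer.le_normalizer_of_conj_mem fun b hb u hu => h b hb ⟨u, hu, rfl⟩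

theorem normalizer_le_normalizer_core {σ : Set ℕ} {X U : Subgroup G} (hU : U ≤ N[X]) :
    U ≤ N[piCoreOf σ X] := by
  refine le_normalizer_of_map_le fun y hy => ?_
  have hX : X.map (MulAut.conj y).toMonoidHom = X := mem_normalizer_iff_map_conj_eq.1 (hU hy)
  refine le_core ((map_mono (core_le X)).trans hX.le) ?_ fun q hq hd => core_primes X q hq (hd.trans (card_map_dvd _ _))
  exact hX.ge.trans ((map_mono (le_normalizer_core X)).trans (le_normalizer_map _))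

theorem map_conj_inf_centralizer {U : Subgroup G} {y : G} (hy : y ∈ N[U]) :
    y ∈ N[(C[U] : Subgroup G)] := by
  have h : ∀ y ∈ N[U], ∀ u ∈ C[U], y * u * y⁻¹ ∈ C[U] := by
    intro y hy u hu
    refine mem_centralizer_iff.2 fun a ha => ?_
    have ha' : y⁻¹ * a * y ∈ U := (mem_normalizer_iff''.1 hy a).1 ha
    calc a * (y * u * y⁻¹) = y * ((y⁻¹ * a * y) * u) * y⁻¹ := by group
      _ = y * (u * (y⁻¹ * a * y)) * y⁻¹ := by rw [mem_centralizer_iff.1 hu _ ha']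
      _ = y * u * y⁻¹ * a := by group
  exact CfsgLib.Signalizer.le_normalizer_of_conj_mem h hy

theorem normalizer_le_normalizer_centralizer (U : Subgroup G) : N[U] ≤ N[(C[U] : Subgroup G)] :=
  fun _ hy => map_conj_inf_centralizer hy

variable {q : ℕ}

theorem isPGroup_of_mem [Fact q.Prime] {X Q : Subgroup G} (hQ : Q ∈ invSubgroups ⊤ X {q}) : IsPGroup q Q :=
  IsPGroup.of_card (Nat.eq_prime_pow_of_unique_prime_dvd Nat.card_pos.ne' fun {d} hd hdd => hQ.2.1 d hd hdd)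

theorem mem_inv [Fact q.Prime] {X Q : Subgroup G} (hQ : IsPGroup q Q) (hn : X ≤ N[Q]) :
    Q ∈ invSubgroups ⊤ X {q} := by
  refine ⟨le_top, fun r hr hdvd => ?_, hn⟩
  obtain ⟨k, hk⟩ := IsPGroup.iff_card.1 hQ
  rw [hk] at hdvd
  exact (Nat.prime_dvd_prime_iff_eq hr Fact.out).1 (hr.dvd_of_dvd_pow hdvd)

theorem exists_max_ge [Fact q.Prime] {X Q : Subgroup G} (hQ : IsPGroup q Q) (hn : X ≤ N[Q]) :
    ∃ R, Q ≤ R ∧ R ∈ maxInvSubgroups ⊤ X {q} := by
  obtain ⟨R, hQR, h1, hmax⟩ := exists_maximal_ge_of_wellFoundedGT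
    (fun R : Subgroup G => R ∈ invSubgroups ⊤ X {q}) Q (mem_inv hQ hn)
  exact ⟨R, hQR, h1, fun S hS hle => le_antisymm (hmax hS hle) hle⟩

/-- A maximal member invariant under a larger group is maximal for it. -/
theorem mem_max_of_le {X Y Q : Subgroup G} (hXY : X ≤ Y) (hQ : Q ∈ maxInvSubgroups ⊤ X {q})
    (hY : Y ≤ N[Q]) : Q ∈ maxInvSubgroups ⊤ Y {q} :=
  ⟨⟨le_top, hQ.1.2.1, hY⟩, fun R hR hle => hQ.2 R ⟨le_top, hR.2.1, hXY.trans hR.2.2⟩ hle⟩

theorem map_conj_map_conj (Q : Subgroup G) (x y : G) :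
    (Q.map (MulAut.conj y).toMonoidHom).map (MulAut.conj x).toMonoidHom = Q.map (MulAut.conj (x * y)).toMonoidHom := by
  rw [map_map]
  congr 1
  ext z
  simp [mul_assoc]

theorem map_conj_one (Q : Subgroup G) : Q.map (MulAut.conj (1 : G)).toMonoidHom = Q := by
  have h : (MulAut.conj (1 : G)).toMonoidHom = MonoidHom.id G := by ext z; simp
  rw [h, map_id]

theorem inv_conj {X Q : Subgroup G} {c : G} (hc : c ∈ N[X]) (hQ : Q ∈ invSubgroups ⊤ X {q}) :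
    Q.map (MulAut.conj c).toMonoidHom ∈ invSubgroups ⊤ X {q} := by
  refine ⟨le_top, fun r hr hd => hQ.2.1 r hr (hd.trans (card_map_dvd _ _)), ?_⟩
  exact ((mem_normalizer_iff_map_conj_eq.1 hc).ge : X ≤ X.map (MulAut.conj c).toMonoidHom).trans
    ((map_mono hQ.2.2).trans (le_normalizer_map _))

theorem max_conj {X Q : Subgroup G} {c : G} (hc : c ∈ N[X]) (hQ : Q ∈ maxInvSubgroups ⊤ X {q}) :
    Q.map (MulAut.conj c).toMonoidHom ∈ maxInvSubgroups ⊤ X {q} := by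
  refine ⟨inv_conj hc hQ.1, fun R hR hle => ?_⟩
  have h1 := hQ.2 (R.map (MulAut.conj c⁻¹).toMonoidHom) (inv_conj (inv_mem hc) hR) (by
    have h := map_mono (f := (MulAut.conj c⁻¹).toMonoidHom) hle
    rwa [map_conj_map_conj, inv_mul_cancel, map_conj_one] at h)
  rw [← h1, map_conj_map_conj, mul_inv_cancel, map_conj_one]

/-! ### The transitivity hypothesis -/

variable (A : Subgroup G)

/-- `O_{π(A)'}(C(A))`. -/
abbrev K : Subgroup G := piCoreOf (primesNotDvd (Nat.card A)) (C[A] : Subgroup G)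

/-- Conjugacy under `O_{π(A)'}(C(A))`. -/
def Rel (Q₁ Q₂ : Subgroup G) : Prop := ∃ k ∈ K A, Q₂ = Q₁.map (MulAut.conj k).toMonoidHom

variable {A}

theorem Rel.refl (Q : Subgroup G) : Rel A Q Q := ⟨1, one_mem _, (map_conj_one Q).symm⟩

theorem Rel.symm {Q₁ Q₂ : Subgroup G} (h : Rel A Q₁ Q₂) : Rel A Q₂ Q₁ := by
  obtain ⟨k, hk, rfl⟩ := h
  exact ⟨k⁻¹, inv_mem hk, by rw [map_conj_map_conj, inv_mul_cancel, map_conj_one]⟩

theorem Rel.trans {Q₁ Q₂ Q₃ : Subgroup G} (h : Rel A Q₁ Q₂) (h' : Rel A Q₂ Q₃) : Rel A Q₁ Q₃ := by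
  obtain ⟨k, hk, rfl⟩ := h
  obtain ⟨l, hl, rfl⟩ := h'
  exact ⟨l * k, mul_mem hl hk, map_conj_map_conj _ _ _⟩

theorem k_le_centralizer : K A ≤ (C[A] : Subgroup G) := core_le _

theorem coprime_of_primes {N : Subgroup G} {n : ℕ} (h : ∀ r : ℕ, r.Prime → r ∣ n → r ∣ Nat.card A)
    (hN : ∀ r : ℕ, r.Prime → r ∣ Nat.card N → r ∈ primesNotDvd (Nat.card A)) : n.Coprime (Nat.card N) :=
  Nat.coprime_of_dvd fun r hr h1 h2 => (hN r hr h2).2 (h r hr h1)

theorem q_mem [Fact q.Prime] (hqA : ¬ q ∣ Nat.card A) {Q : Subgroup G} (hQ : IsPGroup q Q) :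
    ∀ r : ℕ, r.Prime → r ∣ Nat.card Q → r ∈ primesNotDvd (Nat.card A) := by
  intro r hr hd
  obtain ⟨k, hk⟩ := IsPGroup.iff_card.1 hQ
  rw [hk] at hd
  obtain rfl := (Nat.prime_dvd_prime_iff_eq hr Fact.out).1 (hr.dvd_of_dvd_pow hd)
  exact ⟨hr, hqA⟩

variable (hG : Cfsg.IsMinSimpleOddOrder G) (hA : Cfsg.TransitivityHypothesis A)

include hG hA

theorem solvable_self : Group.IsSolvable A := hG.2.2.2 A hA.2.1

theorem normalizer_ne_top {X : Subgroup G} (h1 : X ≠ ⊥) (h2 : X ≠ ⊤) : N[X] ≠ ⊤ := fun h => by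
  haveI := hG.2.1
  haveI : X.Normal := normalizer_eq_top_iff.1 h
  exact h2 ((IsSimpleGroup.eq_bot_or_eq_top_of_normal X inferInstance).resolve_left h1)

theorem le_core_of_invariant {X W : Subgroup G} (hX : X ≠ ⊤) (hAX : A ≤ X) (hWX : W ≤ X) (hn : A ≤ N[W])
    (hW : ∀ r : ℕ, r.Prime → r ∣ Nat.card W → r ∈ primesNotDvd (Nat.card A)) :
    W ≤ piCoreOf (primesNotDvd (Nat.card A)) X :=
  le_of_le_of_eq (le_sSup (show W ∈ invSubgroups X A (primesNotDvd (Nat.card A)) from ⟨hWX, hW, hn⟩))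
    (hA.2.2 X hX hAX)

/-- `π(A)'`-subgroups of `C(A)` lie in `K`. -/
theorem le_k {W : Subgroup G} (hWC : W ≤ (C[A] : Subgroup G))
    (hW : ∀ r : ℕ, r.Prime → r ∣ Nat.card W → r ∈ primesNotDvd (Nat.card A)) : W ≤ K A := by
  set X := A ⊔ (C[A] : Subgroup G)
  have hXN : X ≤ N[A] := sup_le le_normalizer (centralizer_le_normalizer _)
  have hX : X ≠ ⊤ := fun h => normalizer_ne_top hG hA hA.1 hA.2.1 (top_unique (h ▸ hXN))
  set O := piCoreOf (primesNotDvd (Nat.card A)) X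
  have hWO : W ≤ O := le_core_of_invariant hG hA hX le_sup_left (hWC.trans le_sup_right) (by
    refine CfsgLib.Signalizer.le_normalizer_of_conj_mem fun a ha w hw => ?_
    rw [mem_centralizer_iff.1 (hWC hw) a ha, mul_inv_cancel_right]
    exact hw) hW
  have hOC : O ≤ (C[A] : Subgroup G) := fun o ho =>
    CfsgLib.CoprimeAct.mem_centralizer_of_normalizes (le_sup_left.trans (le_normalizer_core X))
      (coprime_of_primes (fun _ _ h => h) (core_primes X)) ho (hXN (core_le X ho))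
  exact hWO.trans (le_core hOC (le_sup_right.trans (le_normalizer_core X)) (core_primes X))

/-- `K ∩ C(P) = O_{π(A)'}(C(P))` for `P ≥ A`. -/
theorem k_inf_centralizer {P : Subgroup G} (hAP : A ≤ P) :
    K A ⊓ (C[P] : Subgroup G) = piCoreOf (primesNotDvd (Nat.card A)) (C[P] : Subgroup G) := by
  have hC : (C[P] : Subgroup G) ≤ C[A] := centralizer_le hAP
  refine le_antisymm (le_core inf_le_right ?_ ?_) (le_inf (le_k hG hA ((core_le _).trans hC) (core_primes _)) (core_le _))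
  · exact le_trans (le_inf (hC.trans (le_normalizer_core _)) le_normalizer) inf_normalizer_le_normalizer_inf
  · exact fun r hr hd => core_primes _ r hr (hd.trans (card_dvd_of_le inf_le_left))

variable [hq : Fact q.Prime] (hqA : ¬ q ∣ Nat.card A)
include hqA

/-- Two invariant `q`-subgroups of a proper subgroup over `A` are together after conjugating under `K`. -/
theorem exists_join {H R₁ R₂ : Subgroup G} (hH : H ≠ ⊤) (hAH : A ≤ H) (h₁ : R₁ ≤ H) (h₂ : R₂ ≤ H)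
    (hp₁ : IsPGroup q R₁) (hp₂ : IsPGroup q R₂) (hn₁ : A ≤ N[R₁]) (hn₂ : A ≤ N[R₂]) :
    ∃ k ∈ K A, ∃ S : Subgroup G, IsPGroup q S ∧ A ≤ N[S] ∧
      R₁.map (MulAut.conj k).toMonoidHom ≤ S ∧ R₂ ≤ S := by
  set K₀ := piCoreOf (primesNotDvd (Nat.card A)) H
  have hAK : A ≤ N[K₀] := hAH.trans (le_normalizer_core H)
  have hcop : (Nat.card A).Coprime (Nat.card K₀) := coprime_of_primes (fun _ _ h => h) (core_primes H)
  have hsolv : Group.IsSolvable A ∨ Group.IsSolvable K₀ := Or.inl (solvable_self hG hA)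
  obtain ⟨P₁, hP₁, hP₁n⟩ := CfsgLib.CoprimeAct.exists_invariant_sylow_ge hAK hcop hsolv q
    (le_core_of_invariant hG hA hH hAH h₁ hn₁ (q_mem hqA hp₁)) hp₁ hn₁
  obtain ⟨P₂, hP₂, hP₂n⟩ := CfsgLib.CoprimeAct.exists_invariant_sylow_ge hAK hcop hsolv q
    (le_core_of_invariant hG hA hH hAH h₂ hn₂ (q_mem hqA hp₂)) hp₂ hn₂
  obtain ⟨c, hc, hcP⟩ := CfsgLib.CoprimeAct.invariant_sylow_conj hAK hcop hsolv q P₁ P₂ hP₁n hP₂n
  have hck : (c : G) ∈ K A := le_k hG hA (W := K₀ ⊓ C[A]) inf_le_right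
    (fun r hr hd => core_primes H r hr (hd.trans (card_dvd_of_le inf_le_left))) ⟨c.2, hc⟩
  refine ⟨c, hck, (P₂ : Subgroup K₀).map K₀.subtype, P₂.2.map _, hP₂n, ?_, hP₂⟩
  rintro _ ⟨x, hx, rfl⟩
  obtain ⟨y, hy, rfl⟩ := hP₁ hx
  refine ⟨MulAut.conj c y, ?_, rfl⟩
  rw [← hcP]
  exact smul_mem_pointwise_smul _ _ _ hy

theorem rel_of_inf_ne_bot {Q₁ Q₂ : Subgroup G} (h₁ : Q₁ ∈ maxInvSubgroups ⊤ A {q})
    (h₂ : Q₂ ∈ maxInvSubgroups ⊤ A {q}) (hne : Q₁ ⊓ Q₂ ≠ ⊥) : Rel A Q₁ Q₂ := by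
  induction hn : Nat.card G - Nat.card ↥(Q₁ ⊓ Q₂) using Nat.strong_induction_on generalizing Q₁ Q₂ with
  | _ n ih => ?_
  subst hn
  by_cases heq : Q₁ = Q₂
  · exact heq ▸ Rel.refl _
  have hp₁ := isPGroup_of_mem h₁.1
  have hp₂ := isPGroup_of_mem h₂.1
  set D := Q₁ ⊓ Q₂ with hD
  have hD₁ : D < Q₁ := lt_of_le_of_ne inf_le_left fun h => heq (h₁.2 Q₂ h₂.1 (inf_eq_left.1 h)).symm
  have hD₂ : D < Q₂ := lt_of_le_of_ne inf_le_right fun h => heq (h₂.2 Q₁ h₁.1 (inf_eq_right.1 h))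
  have hAD : A ≤ N[D] := le_trans (le_inf h₁.1.2.2 h₂.1.2.2) inf_normalizer_le_normalizer_inf
  have hH : N[D] ≠ ⊤ := CfsgLib.CN.MinSimple.normalizer_ne_top hG (hp₁.to_le inf_le_left).isNilpotent hne
  have hAR : ∀ Q : Subgroup G, A ≤ N[Q] → A ≤ N[Q ⊓ N[D]] := fun Q hQ =>
    le_trans (le_inf hQ (hAD.trans le_normalizer)) inf_normalizer_le_normalizer_inf
  obtain ⟨k, hk, S, hS, hSn, hkS, h2S⟩ := exists_join hG hA hqA hH hAD (R₁ := Q₁ ⊓ N[D]) (R₂ := Q₂ ⊓ N[D])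
    inf_le_right inf_le_right (hp₁.to_le inf_le_left) (hp₂.to_le inf_le_left) (hAR _ h₁.1.2.2) (hAR _ h₂.1.2.2)
  obtain ⟨Q₃, hSQ, h₃⟩ := exists_max_ge hS hSn
  have h1' : Q₁.map (MulAut.conj k).toMonoidHom ∈ maxInvSubgroups ⊤ A {q} :=
    max_conj (centralizer_le_normalizer _ (k_le_centralizer hk)) h₁
  have step : ∀ {Q Q' R : Subgroup G}, Q ∈ maxInvSubgroups ⊤ A {q} → Q' ∈ maxInvSubgroups ⊤ A {q} →
      R ≤ Q → R ≤ Q' → Nat.card D < Nat.card R → Rel A Q Q' := by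
    intro Q Q' R hQ hQ' hRQ hRQ' hlt
    have hle : Nat.card R ≤ Nat.card ↥(Q ⊓ Q') := card_le_of_le (le_inf hRQ hRQ')
    have hG' : Nat.card ↥(Q ⊓ Q') ≤ Nat.card G := card_le_card_group _
    refine ih _ (by omega) hQ hQ' (fun h => ?_) rfl
    have hb : Nat.card ↥(Q ⊓ Q') = 1 := by rw [h, card_bot]
    have := Nat.card_pos (α := D)
    omega
  have hlt₁ := CfsgLib.Solvable.card_lt_of_lt (CfsgLib.Fusion.lt_inf_normalizer hp₁ hD₁)
  have hlt₂ := CfsgLib.Solvable.card_lt_of_lt (CfsgLib.Fusion.lt_inf_normalizer hp₂ hD₂)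
  have r13 : Rel A (Q₁.map (MulAut.conj k).toMonoidHom) Q₃ :=
    step h1' h₃ (map_mono inf_le_left) (hkS.trans hSQ)
      (by rwa [card_map_of_injective (MulAut.conj k).injective])
  have r23 : Rel A Q₂ Q₃ := step h₂ h₃ inf_le_left (h2S.trans hSQ) hlt₂
  exact (Rel.trans ⟨k, hk, rfl⟩ r13).trans r23.symm

theorem rel_of_meet {Q₁ Q₂ H : Subgroup G} (h₁ : Q₁ ∈ maxInvSubgroups ⊤ A {q})
    (h₂ : Q₂ ∈ maxInvSubgroups ⊤ A {q}) (hH : H ≠ ⊤) (hAH : A ≤ H) (hH₁ : H ⊓ Q₁ ≠ ⊥) (hH₂ : H ⊓ Q₂ ≠ ⊥) :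
    Rel A Q₁ Q₂ := by
  have hn : ∀ Q : Subgroup G, A ≤ N[Q] → A ≤ N[H ⊓ Q] := fun Q hQ =>
    le_trans (le_inf (hAH.trans le_normalizer) hQ) inf_normalizer_le_normalizer_inf
  obtain ⟨k, hk, S, hS, hSn, hkS, h2S⟩ := exists_join hG hA hqA hH hAH (R₁ := H ⊓ Q₁) (R₂ := H ⊓ Q₂)
    inf_le_left inf_le_left ((isPGroup_of_mem h₁.1).to_le inf_le_right)
    ((isPGroup_of_mem h₂.1).to_le inf_le_right) (hn _ h₁.1.2.2) (hn _ h₂.1.2.2)
  obtain ⟨Q₃, hSQ, h₃⟩ := exists_max_ge hS hSn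
  have r13 : Rel A (Q₁.map (MulAut.conj k).toMonoidHom) Q₃ := by
    refine rel_of_inf_ne_bot hG hA hqA (max_conj (centralizer_le_normalizer _ (k_le_centralizer hk)) h₁) h₃ ?_
    refine ne_bot_of_le_ne_bot (b := (H ⊓ Q₁).map (MulAut.conj k).toMonoidHom) (fun h => hH₁ ?_)
      (le_inf (map_mono inf_le_right) (hkS.trans hSQ))
    exact (map_eq_bot_iff_of_injective _ (f := (MulAut.conj k).toMonoidHom) (MulAut.conj k).injective).1 h
  have r23 : Rel A Q₂ Q₃ := rel_of_inf_ne_bot hG hA hqA h₂ h₃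
    (ne_bot_of_le_ne_bot hH₂ (le_inf inf_le_right (h2S.trans hSQ)))
  exact (Rel.trans ⟨k, hk, rfl⟩ r13).trans r23.symm

omit hqA in
theorem centralizer_singleton_ne_top {b : G} (hb : b ≠ 1) : centralizer ({b} : Set G) ≠ ⊤ := fun h => by
  refine CfsgLib.CN.MinSimple.normalizer_ne_top hG (CfsgLib.CN.nilpotent_zpowers b)
    (fun e => hb (zpowers_eq_bot.1 e)) (top_unique (h ▸ ?_))
  intro g hg
  refine centralizer_le_normalizer _ (mem_centralizer_iff.2 fun z hz => ?_)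
  obtain ⟨i, rfl⟩ := mem_zpowers_iff.1 hz
  exact ((show Commute g b from mem_centralizer_singleton_iff.1 hg).symm.zpow_left i).eq

omit hqA in
theorem le_centralizer_of_mem_center {b : G} (hb : b ∈ A ⊓ C[A]) : A ≤ centralizer ({b} : Set G) :=
  fun a ha => mem_centralizer_singleton_iff.2 (mem_centralizer_iff.1 hb.2 a ha)

theorem rel_of_rankThree (hZ : ¬ Cfsg.RankLE 2 ↥(A ⊓ (C[A] : Subgroup G))) {Q₁ Q₂ : Subgroup G}
    (h₁ : Q₁ ∈ maxInvSubgroups ⊤ A {q}) (h₂ : Q₂ ∈ maxInvSubgroups ⊤ A {q}) : Rel A Q₁ Q₂ := by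
  rcases eq_or_ne Q₁ ⊥ with hb | hQ₁
  · exact (h₁.2 Q₂ h₂.1 (hb ▸ bot_le)) ▸ Rel.refl _
  rcases eq_or_ne Q₂ ⊥ with hb | hQ₂
  · exact (h₂.2 Q₁ h₁.1 (hb ▸ bot_le)).symm ▸ Rel.refl _
  unfold Cfsg.RankLE at hZ
  push Not at hZ
  obtain ⟨r, hr, hr2⟩ := hZ
  haveI := Fact.mk hr
  unfold Cfsg.PRankLE at hr2
  push Not at hr2
  obtain ⟨B, hBc, hBe, hBcard⟩ := hr2
  set E := B.map (A ⊓ (C[A] : Subgroup G)).subtype
  have hEA : E ≤ A ⊓ C[A] := map_subtype_le _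
  have hE : Cfsg.IsElementaryAbelian r E := by
    haveI := hBc
    refine ⟨inferInstance, ?_⟩
    rintro _ ⟨x, hx, rfl⟩
    exact congrArg Subtype.val (hBe x hx)
  have hEcard : Nat.card E = Nat.card B := card_map_of_injective (Subgroup.subtype_injective _)
  obtain ⟨i, hi⟩ := IsPGroup.iff_card.1 (CfsgLib.Signalizer.isPGroup hE)
  have hi3 : r ^ 3 ≤ Nat.card E := by
    rw [hi]
    refine Nat.pow_le_pow_right hr.pos ?_
    by_contra hlt
    have : r ^ i ≤ r ^ 2 := Nat.pow_le_pow_right hr.pos (by omega)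
    omega
  have hrA : r ∣ Nat.card A := by
    refine dvd_trans ?_ (card_dvd_of_le (hEA.trans inf_le_left))
    rw [hi]
    refine dvd_pow_self r ?_
    rintro rfl
    have := one_lt_pow₀ hr.one_lt (n := 3) (by norm_num)
    rw [hi, pow_zero] at hi3
    omega
  have hrQ : ∀ {Q : Subgroup G}, IsPGroup q Q → ¬ r ∣ Nat.card Q := fun hQ hd => (q_mem hqA hQ r hr hd).2 hrA
  obtain ⟨b, hb, hb1, hm₁, hm₂⟩ := CfsgLib.Signalizer.exists_common_centralizer hE hi3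
    ((hEA.trans inf_le_left).trans h₁.1.2.2) ((hEA.trans inf_le_left).trans h₂.1.2.2)
    (hrQ (isPGroup_of_mem h₁.1)) (hrQ (isPGroup_of_mem h₂.1)) (D := ⊥)
    (fun h => hQ₁ (le_bot_iff.1 h)) (fun h => hQ₂ (le_bot_iff.1 h))
  refine rel_of_meet hG hA hqA h₁ h₂ (centralizer_singleton_ne_top hG hA hb1)
    (le_centralizer_of_mem_center hG hA (hEA hb)) ?_ ?_
  · rw [inf_comm]; exact fun h => hm₁ h.le
  · rw [inf_comm]; exact fun h => hm₂ h.le

theorem rel_of_rankTwo (hZ : ¬ Cfsg.RankLE 1 ↥(A ⊓ (C[A] : Subgroup G)))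
    (hqC : q ∣ Nat.card (C[A] : Subgroup G)) {Q₁ Q₂ : Subgroup G}
    (h₁ : Q₁ ∈ maxInvSubgroups ⊤ A {q}) (h₂ : Q₂ ∈ maxInvSubgroups ⊤ A {q}) : Rel A Q₁ Q₂ := by
  obtain ⟨c, hc⟩ := exists_prime_orderOf_dvd_card' q hqC
  set R := zpowers (c : G)
  have hR : IsPGroup q R := IsPGroup.of_card (n := 1) (by rw [Nat.card_zpowers, orderOf_coe, hc, pow_one])
  have hR1 : R ≠ ⊥ := by
    rw [Ne, zpowers_eq_bot]
    intro h
    rw [← orderOf_eq_one_iff, orderOf_coe, hc] at h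
    exact (Fact.out : q.Prime).ne_one h
  have hRC : R ≤ C[A] := zpowers_le.2 c.2
  have hAR : A ≤ N[R] := by
    refine CfsgLib.Signalizer.le_normalizer_of_conj_mem fun a ha w hw => ?_
    rw [mem_centralizer_iff.1 (hRC hw) a ha, mul_inv_cancel_right]
    exact hw
  obtain ⟨Q₀, hRQ, h₀⟩ := exists_max_ge hR hAR
  suffices h : ∀ Q : Subgroup G, Q ∈ maxInvSubgroups ⊤ A {q} → Rel A Q Q₀ from (h Q₁ h₁).trans (h Q₂ h₂).symm
  intro Q hQ
  rcases eq_or_ne Q ⊥ with hb | hQ0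
  · exact (hQ.2 Q₀ h₀.1 (hb ▸ bot_le)) ▸ Rel.refl _
  unfold Cfsg.RankLE at hZ
  push Not at hZ
  obtain ⟨r, hr, hr2⟩ := hZ
  haveI := Fact.mk hr
  unfold Cfsg.PRankLE at hr2
  push Not at hr2
  obtain ⟨B, hBc, hBe, hBcard⟩ := hr2
  set E := B.map (A ⊓ (C[A] : Subgroup G)).subtype
  have hEA : E ≤ A ⊓ C[A] := map_subtype_le _
  have hE : Cfsg.IsElementaryAbelian r E := by
    haveI := hBc
    refine ⟨inferInstance, ?_⟩
    rintro _ ⟨x, hx, rfl⟩
    exact congrArg Subtype.val (hBe x hx)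
  have hEcard : Nat.card E = Nat.card B := card_map_of_injective (Subgroup.subtype_injective _)
  obtain ⟨i, hi⟩ := IsPGroup.iff_card.1 (CfsgLib.Signalizer.isPGroup hE)
  have hlt : r < r ^ i := by
    rw [← hi, hEcard]; simpa using hBcard
  have hi2 : r ^ 2 ≤ Nat.card E := by
    rw [hi]
    refine Nat.pow_le_pow_right hr.pos ?_
    by_contra hlt'
    have : r ^ i ≤ r ^ 1 := Nat.pow_le_pow_right hr.pos (by omega)
    simp at this
    omega
  have hrA : r ∣ Nat.card A := by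
    refine dvd_trans ?_ (card_dvd_of_le (hEA.trans inf_le_left))
    rw [hi]
    refine dvd_pow_self r ?_
    rintro rfl
    simp at hlt
    exact hr.one_lt.not_ge (by omega)
  obtain ⟨b, hb, hb1, hm⟩ : ∃ b ∈ E, b ≠ 1 ∧ Q ⊓ centralizer ({b} : Set G) ≠ ⊥ := by
    by_contra hcon
    push Not at hcon
    exact hQ0 (le_bot_iff.1 (CfsgLib.Signalizer.le_of_forall_centralizer hE le_rfl hi2
      ((hEA.trans inf_le_left).trans hQ.1.2.2) (fun hd => (q_mem hqA (isPGroup_of_mem hQ.1) r hr hd).2 hrA)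
      fun e he he1 => (hcon e he he1).le))
  refine rel_of_meet hG hA hqA hQ h₀ (centralizer_singleton_ne_top hG hA hb1)
    (le_centralizer_of_mem_center hG hA (hEA hb)) (by rwa [inf_comm]) (ne_bot_of_le_ne_bot hR1 (le_inf ?_ hRQ))
  exact zpowers_le.2 (mem_centralizer_singleton_iff.2 (mem_centralizer_iff.1 c.2 b (hEA hb).1).symm)

/-- A maximal `P`-invariant `q`-subgroup is maximal `A`-invariant as soon as some maximal
`A`-invariant one is normalized by `P`. -/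
theorem max_subset {P : Subgroup G} (hP : P ≠ ⊤) (hPπ : ∀ r : ℕ, r.Prime → r ∣ Nat.card P → r ∣ Nat.card A)
    (hAP : A ≤ P) (hex : ∃ Q ∈ maxInvSubgroups ⊤ A {q}, P ≤ N[Q]) :
    maxInvSubgroups ⊤ P {q} ⊆ maxInvSubgroups ⊤ A {q} := by
  intro R hR
  have hRp := isPGroup_of_mem hR.1
  rcases eq_or_ne R ⊥ with hb | hR1
  · obtain ⟨Q, hQ, hPQ⟩ := hex
    exact (hR.2 Q ⟨le_top, hQ.1.2.1, hPQ⟩ (hb ▸ bot_le)) ▸ hQ
  obtain ⟨T, hRT, hT⟩ := exists_max_ge hRp (hAP.trans hR.1.2.2)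
  by_cases hlt : R = T
  · exact hlt ▸ hT
  exfalso
  have hTp := isPGroup_of_mem hT.1
  have hlt' := CfsgLib.Fusion.lt_inf_normalizer hTp (lt_of_le_of_ne hRT hlt)
  have hH : N[R] ≠ ⊤ := CfsgLib.CN.MinSimple.normalizer_ne_top hG hRp.isNilpotent hR1
  set K₀ := piCoreOf (primesNotDvd (Nat.card A)) N[R]
  have hW : T ⊓ N[R] ≤ K₀ := le_core_of_invariant hG hA hH (hAP.trans hR.1.2.2) inf_le_right
    (le_trans (le_inf hT.1.2.2 ((hAP.trans hR.1.2.2).trans le_normalizer)) inf_normalizer_le_normalizer_inf)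
    (q_mem hqA (hTp.to_le inf_le_left))
  obtain ⟨S, hRS, hSn⟩ := CfsgLib.CoprimeAct.exists_invariant_sylow_ge (hR.1.2.2.trans (le_normalizer_core N[R]))
    (coprime_of_primes hPπ (core_primes _)) (Or.inl (hG.2.2.2 P hP)) q
    ((le_inf hRT le_normalizer).trans hW) hRp hR.1.2.2
  have hSR := hR.2 _ (mem_inv (S.2.map _) hSn) hRS
  obtain ⟨S', hS'⟩ := ((hTp.to_le inf_le_left : IsPGroup q ↥(T ⊓ N[R])).comap_subtype (K := K₀)).exists_le_sylow
  have h1 : Nat.card ↥(T ⊓ N[R]) ≤ Nat.card R :=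
    calc Nat.card ↥(T ⊓ N[R]) = Nat.card ↥((T ⊓ N[R]).subgroupOf K₀) :=
          (Nat.card_congr (subgroupOfEquivOfLe hW).toEquiv).symm
      _ ≤ Nat.card S' := card_le_of_le hS'
      _ = Nat.card S := S'.card_eq_multiplicity.trans S.card_eq_multiplicity.symm
      _ = Nat.card R := (card_map_of_injective K₀.subtype_injective).symm.trans
          (congrArg (fun U : Subgroup G => Nat.card U) hSR)
  exact absurd (CfsgLib.Solvable.card_lt_of_lt hlt') (by omega)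

omit hqA in
/-- The statement carried along a subnormal series. -/
def Trans (_ : Cfsg.IsMinSimpleOddOrder G) (_ : Cfsg.TransitivityHypothesis A) (q : ℕ) (X : Subgroup G) : Prop :=
  (∀ Q₁ ∈ maxInvSubgroups ⊤ A {q}, ∀ Q₂ ∈ maxInvSubgroups ⊤ A {q}, X ≤ N[Q₁] → X ≤ N[Q₂] →
      ∃ k ∈ K A ⊓ (C[X] : Subgroup G), Q₂ = Q₁.map (MulAut.conj k).toMonoidHom) ∧
    ∃ Q ∈ maxInvSubgroups ⊤ A {q}, X ≤ N[Q]

theorem trans_step {X Y : Subgroup G} (hY : Y ≠ ⊤)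
    (hYπ : ∀ r : ℕ, r.Prime → r ∣ Nat.card Y → r ∣ Nat.card A) (hAX : A ≤ X) (hXY : X ≤ Y) (hn : Y ≤ N[X])
    (h : Trans hG hA q X) : Trans hG hA q Y := by
  have hX : X ≠ ⊤ := fun e => hY (top_unique (e ▸ hXY))
  have hXπ : ∀ r : ℕ, r.Prime → r ∣ Nat.card X → r ∣ Nat.card A :=
    fun r hr hd => hYπ r hr (hd.trans (card_dvd_of_le hXY))
  have hsub := max_subset hG hA hqA hX hXπ hAX h.2
  set KX := K A ⊓ (C[X] : Subgroup G) with hKX
  have hYK : Y ≤ N[KX] := by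
    rw [hKX, k_inf_centralizer hG hA hAX]
    exact normalizer_le_normalizer_core (hn.trans (normalizer_le_normalizer_centralizer X))
  have hcop : (Nat.card Y).Coprime (Nat.card KX) := coprime_of_primes hYπ
    fun r hr hd => core_primes _ r hr (hd.trans (card_dvd_of_le inf_le_left))
  have hsolv : Group.IsSolvable Y ∨ Group.IsSolvable KX := Or.inl (hG.2.2.2 Y hY)
  letI := MulAction.compHom (Subgroup G) (MulAut.conj : G →* MulAut G)
  have hsm : ∀ (g : G) (Q : Subgroup G), g • Q = Q.map (MulAut.conj g).toMonoidHom := fun _ _ => rfl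
  have hstab : ∀ g ∈ N[X], ∀ Q ∈ {Q | Q ∈ maxInvSubgroups ⊤ A {q} ∧ X ≤ N[Q]},
      g • Q ∈ {Q | Q ∈ maxInvSubgroups ⊤ A {q} ∧ X ≤ N[Q]} := by
    rintro g hg Q ⟨hQ, hXQ⟩
    have h' := max_conj hg (mem_max_of_le hAX hQ hXQ)
    exact ⟨hsub h', h'.1.2.2⟩
  obtain ⟨Q₀, hQ₀, hXQ₀⟩ := h.2
  obtain ⟨s, ⟨hs, -⟩, hfix⟩ := CfsgLib.SZ.exists_fixed hYK hcop hsolv
    {Q | Q ∈ maxInvSubgroups ⊤ A {q} ∧ X ≤ N[Q]} ⟨Q₀, hQ₀, hXQ₀⟩
    (fun a ha Q hQ => hstab a (hn ha) Q hQ)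
    (fun Q hQ Q' hQ' => by
      obtain ⟨k, hk, he⟩ := h.1 Q hQ.1 Q' hQ'.1 hQ.2 hQ'.2
      exact ⟨k, hk, by rw [hsm, he]⟩)
    (fun k hk Q hQ => hstab k (centralizer_le_normalizer _ hk.2) Q hQ)
  refine ⟨fun Q hQ Q' hQ' hYQ hYQ' => ?_, s, hs, fun a ha => mem_normalizer_iff_map_conj_eq.2 (hfix a ha)⟩
  obtain ⟨k, hk, he⟩ := h.1 Q hQ Q' hQ' (hXY.trans hYQ) (hXY.trans hYQ')
  obtain ⟨c, hc, hce⟩ := CfsgLib.SZ.exists_smul_eq_of_fixed hYK hcop hsolv
    (s := Q) (t := Q') (fun a ha => mem_normalizer_iff_map_conj_eq.1 (hYQ ha))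
    (fun a ha => mem_normalizer_iff_map_conj_eq.1 (hYQ' ha)) ⟨k, hk, by rw [hsm, he]⟩
  exact ⟨c, ⟨hc.1.1, hc.2⟩, hce.symm⟩

theorem trans_subnormal {P : Subgroup G} (hP : P ≠ ⊤)
    (hPπ : ∀ r : ℕ, r.Prime → r ∣ Nat.card P → r ∣ Nat.card A) {X : Subgroup P} (hX : X.IsSubnormal)
    (hAX : A ≤ X.map P.subtype) (h : Trans hG hA q (X.map P.subtype)) : Trans hG hA q P := by
  induction hX with
  | top => rwa [← MonoidHom.range_eq_map, range_subtype] at h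
  | step H K' hle _ hN ih =>
    refine ih (hAX.trans (map_mono hle)) (trans_step hG hA hqA ?_ ?_ hAX (map_mono hle) ?_ h)
    · exact fun e => hP (top_unique (e ▸ map_subtype_le K'))
    · exact fun r hr hd => hPπ r hr (hd.trans (card_dvd_of_le (map_subtype_le K')))
    · exact (map_mono ((normal_subgroupOf_iff_le_normalizer hle).1 hN)).trans (le_normalizer_map _)

end CfsgLib.OddLocal.TH
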