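import Cfsg.Agent.OddLocal.KappaDefAbelian
import Cfsg.Agent.OddLocal.KappaHall
import Cfsg.Agent.OddLocal.KappaPairApps
import Cfsg.Agent.OddLocal.Transitivity
import Cfsg.Agent.S1420

/-!
BG 15.4, 15.5: the Fitting subgroup and the derived subgroups of a maximal subgroup.
-/

set_option autoImplicit false
set_option linter.style.haveILetI false
set_option linter.unusedSectionVars false

namespace CfsgLib.OddLocal.Kap

open Subgroup Cfsg CfsgLib.OddLocal
open scoped commutatorElement Pointwise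

universe u

variable {G : Type u} [Group G] [Finite G]

/-- The Fitting subgroup of a normal subgroup is contained in the Fitting subgroup. -/
theorem fittingOf_le_of_normal {N X : Subgroup G} (hN : N ≤ X) (hn : X ≤ normalizer (N : Set G)) :
    Cfsg.fittingOf N ≤ Cfsg.fittingOf X :=
  Bender.le_fitting ((Bender.fitting_le N).trans hN)
    (hn.trans (UTool.normalizer_le_normalizer_map N _ inferInstance)) (Bender.nilpotent_fitting N)

variable (hG : Cfsg.IsMinSimpleOddOrder G)
include hG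

variable {M : Subgroup G} (hM : IsCoatom M)
include hM

/-- A nilpotent normal Hall subgroup of `M_σ`. -/
theorem exists_normal_hall : ∃ H : Subgroup G, H ≤ Cfsg.sigmaCore M ∧ H ≠ ⊥ ∧
    (Nat.card H).Coprime (H.relIndex (Cfsg.sigmaCore M)) ∧ M ≤ normalizer (H : Set G) ∧ Group.IsNilpotent H ∧
    H ≤ Cfsg.fittingHallOf M := by
  by_cases hnil : Group.IsNilpotent (Cfsg.sigmaCore M)
  · exact ⟨Cfsg.sigmaCore M, le_rfl, Tau.sigmaCore_ne_bot hG hM (one_lt_card_coatom hG hM),
      by rw [relIndex_self]; exact Nat.coprime_one_right _, TH.le_normalizer_core M, hnil,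
      (fittingHallOf_eq hG hM hnil).ge⟩
  · obtain ⟨K, hK, -⟩ := exists_hall_over (π := Cfsg.kappa M) (solvable_le hG hM le_rfl)
      (bot_le : (⊥ : Subgroup G) ≤ M) fun r hr hd => by rw [card_bot, Nat.dvd_one] at hd; exact absurd hd hr.ne_one
    haveI := Fact.mk (deficient_star_prime hG hM hK hnil)
    refine ⟨_, Bender.qc_le _ _, fun e => fixed_ne_bot hG hM hK (deficient_kappa hG hM hK hnil)
        (le_bot_iff.1 ((deficient_star_qc hG hM hK hnil (q := _) rfl).trans e.le)), ?_,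
      deficient_q_normal hG hM hK hnil rfl, (Bender.isPGroup_qc _).isNilpotent,
      deficient_q_le_fittingHall hG hM hK hnil rfl⟩
    exact Excep.coprime_of_pgroup (Bender.isPGroup_qc _) (deficient_sylow hG hM hK hnil)

/-- BG 15.4(a): `O_{σ'}(F(M))` is cyclic and a `τ₂(M)`-group, and `F(M) = F(M_σ) × O_{σ'}(F(M))`. -/
theorem fitting_split :
    IsCyclic ↥(Cfsg.piCoreOf {q | q.Prime ∧ q ∉ Cfsg.sigma M} (Cfsg.fittingOf M)) ∧
      (∀ p : ℕ, p.Prime → p ∣ Nat.card ↥(Cfsg.piCoreOf {q | q.Prime ∧ q ∉ Cfsg.sigma M} (Cfsg.fittingOf M)) →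
        p ∈ Cfsg.tau2 M) ∧
      Cfsg.fittingOf M = Cfsg.fittingOf (Cfsg.sigmaCore M) ⊔
        Cfsg.piCoreOf {q | q.Prime ∧ q ∉ Cfsg.sigma M} (Cfsg.fittingOf M) := by
  set Y := Cfsg.piCoreOf {q | q.Prime ∧ q ∉ Cfsg.sigma M} (Cfsg.fittingOf M)
  have hYM : Y ≤ M := (TH.core_le _).trans (Bender.fitting_le M)
  have hYn : M ≤ normalizer (Y : Set G) := TH.normalizer_le_normalizer_core (Bender.le_normalizer_fitting M)
  have hYσ : ∀ r : ℕ, r.Prime → r ∣ Nat.card Y → r ∉ Cfsg.sigma M := fun r hr hd => (TH.core_primes _ r hr hd).2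
  obtain ⟨H, hH, hH1, hHc, hHn, -, -⟩ := exists_normal_hall hG hM
  have hYH : Y ≤ centralizer (H : Set G) := centralizes_of_disjoint ((hH.trans (map_subtype_le _)).trans hYn)
    (hYM.trans hHn) (Nat.coprime_of_dvd fun r hr h1 h2 =>
      hYσ r hr h1 ((Sig.sigma_core hG hM).1.2.1 r hr (h2.trans (card_dvd_of_le hH))))
  obtain ⟨hc, hτ⟩ := hall_centralizer_part hG hM hH hH1 hHc hYM hYσ hYH
  refine ⟨hc, hτ, le_antisymm (Bender.fitting_le_of_qc fun r _ => ?_)
    (sup_le (fittingOf_le_of_normal (map_subtype_le _) (TH.le_normalizer_core M)) (TH.core_le _))⟩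
  have hr : r.Prime := Fact.out
  have hpr : ∀ t : ℕ, t.Prime → t ∣ Nat.card (Bender.qc r M) → t = r := fun t ht htd => by
    obtain ⟨j, hj⟩ := IsPGroup.iff_card.1 (Bender.isPGroup_qc (s := r) M)
    rw [hj] at htd
    exact (Nat.prime_dvd_prime_iff_eq ht hr).1 (ht.dvd_of_dvd_pow htd)
  by_cases hrσ : r ∈ Cfsg.sigma M
  · have hle : Bender.qc r M ≤ Cfsg.sigmaCore M := Excep.le_sigmaCore hG hM (Bender.qc_le r M)
      fun t ht htd => hpr t ht htd ▸ hrσ
    exact le_sup_of_le_left (Bender.le_fitting hle ((map_subtype_le _).trans (Bender.le_normalizer_qc r M))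
      (Bender.isPGroup_qc M).isNilpotent)
  · exact le_sup_of_le_right (TH.le_core (Bender.qc_le_fitting M)
      ((Bender.fitting_le M).trans (Bender.le_normalizer_qc r M)) fun t ht htd => ⟨ht, hpr t ht htd ▸ hrσ⟩)

theorem derived_two_le : ⁅⁅M, M⁆, ⁅M, M⁆⁆ ≤ Cfsg.fittingOf M := by
  set S := Cfsg.sigmaCore M
  have hSM : S ≤ M := map_subtype_le _
  by_cases hnil : Group.IsNilpotent S
  · refine le_trans ?_ (Bender.le_fitting hSM (TH.le_normalizer_core M) hnil)
    obtain ⟨E, hE, -⟩ := Tau.exists_complement_of hG hM (X := ⊥) bot_le fun q hq h => by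
      rw [card_bot, Nat.dvd_one] at h; exact absurd h hq.ne_one
    haveI hc := (Cfsg.Agent.S1420.result hG M hM E hE).2.1
    have hd1 : ⁅M, M⁆ ≤ ⁅E, E⁆ ⊔ S := by
      rw [commutator_le]
      intro a ha b hb
      obtain ⟨e, he, s, hs, rfl⟩ := hE.2.2.2 a ha
      obtain ⟨f, hf, t, ht, rfl⟩ := hE.2.2.2 b hb
      haveI : (S.subgroupOf M).Normal := (normal_subgroupOf_iff_le_normalizer hSM).2 (TH.le_normalizer_core M)
      have h1 : QuotientGroup.mk' (S.subgroupOf M) ⁅(⟨e, hE.1 he⟩ : M) * ⟨s, hSM hs⟩, ⟨f, hE.1 hf⟩ * ⟨t, hSM ht⟩⁆ =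
          QuotientGroup.mk' (S.subgroupOf M) ⁅(⟨e, hE.1 he⟩ : M), ⟨f, hE.1 hf⟩⁆ := by
        rw [map_commutatorElement, map_commutatorElement, map_mul, map_mul,
          show QuotientGroup.mk' (S.subgroupOf M) ⟨s, hSM hs⟩ = 1 from (QuotientGroup.eq_one_iff _).2 hs,
          show QuotientGroup.mk' (S.subgroupOf M) ⟨t, hSM ht⟩ = 1 from (QuotientGroup.eq_one_iff _).2 ht, mul_one, mul_one]
      have h2 : (⁅e, f⁆)⁻¹ * ⁅e * s, f * t⁆ ∈ S := (QuotientGroup.eq_one_iff
        ((⁅(⟨e, hE.1 he⟩ : M), (⟨f, hE.1 hf⟩ : M)⁆)⁻¹ * ⁅(⟨e, hE.1 he⟩ : M) * (⟨s, hSM hs⟩ : M), (⟨f, hE.1 hf⟩ : M) * (⟨t, hSM ht⟩ : M)⁆)).1 (by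
        show QuotientGroup.mk' (S.subgroupOf M) _ = 1
        rw [map_mul, map_inv, h1, inv_mul_cancel])
      rw [show ⁅e * s, f * t⁆ = ⁅e, f⁆ * ((⁅e, f⁆)⁻¹ * ⁅e * s, f * t⁆) by group]
      exact mul_mem (mem_sup_left (commutator_mem_commutator he hf)) (mem_sup_right h2)
    refine derived_le_of_abelian_mod (fun a ha b hb => congrArg Subtype.val (hc.is_comm.comm (⟨a, ha⟩ : ↥⁅E, E⁆) ⟨b, hb⟩))
      ((commutator_le.2 fun a ha b hb => E.mul_mem (E.mul_mem (E.mul_mem ha hb) (E.inv_mem ha)) (E.inv_mem hb)).trans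
        (hE.1.trans (TH.le_normalizer_core M))) hd1
  · obtain ⟨K, hK, -⟩ := exists_hall_over (π := Cfsg.kappa M) (solvable_le hG hM le_rfl)
      (bot_le : (⊥ : Subgroup G) ≤ M) fun r hr hd => by rw [card_bot, Nat.dvd_one] at hd; exact absurd hd hr.ne_one
    haveI := Fact.mk (deficient_star_prime hG hM hK hnil)
    obtain ⟨D, hD, hKD, hqD, hfpf, hDn⟩ := deficient_complement hG hM hK hnil (q := _) rfl
    have hcen := deficient_derived_centralizes hG hM hK hnil rfl hD hKD hqD hfpf hDn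
    rw [deficient_derived hG hM hK hnil]
    set Q := Bender.qc (Nat.card ↥(star M K)) S
    have hQn : S ≤ normalizer (Q : Set G) := Bender.le_normalizer_qc _ S
    haveI : (Q.subgroupOf S).Normal := (normal_subgroupOf_iff_le_normalizer hD.1).2 hQn
    set D' := ⁅D, D⁆
    have hD'D : D' ≤ D := commutator_le.2 fun a ha b hb => D.mul_mem (D.mul_mem (D.mul_mem ha hb) (D.inv_mem ha)) (D.inv_mem hb)
    have hN : S ≤ normalizer ((Q ⊔ D' : Subgroup G) : Set G) := fun s hs => by
      obtain ⟨a, ha, d, hd, rfl⟩ := hD.2.2.2 s hs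
      refine (normalizer ((Q ⊔ D' : Subgroup G) : Set G)).mul_mem (le_normalizer (mem_sup_left ha)) ?_
      refine Uniq.mem_normalizer_of_map_le ?_
      rw [Subgroup.map_sup]
      exact sup_le_sup (mem_normalizer_iff_map_conj_eq.1 (hQn (hD.2.1 hd))).le
        ((map_commutator _ _ _).le.trans (commutator_mono (mem_normalizer_iff_map_conj_eq.1 (le_normalizer hd)).le
          (mem_normalizer_iff_map_conj_eq.1 (le_normalizer hd)).le))
    have hnilN : Group.IsNilpotent ↥(Q ⊔ D') := by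
      haveI := (Bender.isPGroup_qc (s := Nat.card ↥(star M K)) S).isNilpotent
      haveI := hDn
      haveI : Group.IsNilpotent D' := Group.nilpotent_of_surjective (subgroupOfEquivOfLe hD'D).toMonoidHom
        (MulEquiv.surjective _)
      have hQD : Q ≤ normalizer (D' : Set G) := fun a ha => Uniq.mem_normalizer_of_map_le (by
        rintro _ ⟨c, hc, rfl⟩
        show a * c * a⁻¹ ∈ D'
        rw [show a * c = c * a from mem_centralizer_iff.1 (hcen hc) a ha, mul_inv_cancel_right]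
        exact hc)
      let f : (↥Q × ↥D') →* ↥(Q ⊔ D') :=
        { toFun := fun x => ⟨(x.1 : G) * x.2, mul_mem (mem_sup_left x.1.2) (mem_sup_right x.2.2)⟩
          map_one' := Subtype.ext (by simp)
          map_mul' := fun x y => Subtype.ext (by
            show (x.1 : G) * y.1 * (x.2 * y.2) = x.1 * x.2 * (y.1 * y.2)
            have hc : (x.2 : G) * y.1 = y.1 * x.2 := (mem_centralizer_iff.1 (hcen x.2.2) _ y.1.2).symm
            rw [mul_assoc, ← mul_assoc (y.1 : G), ← hc]; group) }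
      refine Group.nilpotent_of_surjective f fun z => ?_
      obtain ⟨a, ha, b, hb, e⟩ := (CfsgLib.Solvable.mem_sup_of_le_normalizer hQD).1 z.2
      exact ⟨⟨⟨a, ha⟩, ⟨b, hb⟩⟩, Subtype.ext e⟩
    have hle : ⁅S, S⁆ ≤ Q ⊔ D' := by
      rw [commutator_le]
      intro a ha b hb
      obtain ⟨s, hs, e, he, rfl⟩ := hD.2.2.2 a ha
      obtain ⟨t, ht, f, hf, rfl⟩ := hD.2.2.2 b hb
      have h1 : QuotientGroup.mk' (Q.subgroupOf S) ⁅(⟨s, hD.1 hs⟩ : S) * ⟨e, hD.2.1 he⟩, ⟨t, hD.1 ht⟩ * ⟨f, hD.2.1 hf⟩⁆ =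
          QuotientGroup.mk' (Q.subgroupOf S) ⁅(⟨e, hD.2.1 he⟩ : S), ⟨f, hD.2.1 hf⟩⁆ := by
        rw [map_commutatorElement, map_commutatorElement, map_mul, map_mul,
          show QuotientGroup.mk' (Q.subgroupOf S) ⟨s, hD.1 hs⟩ = 1 from (QuotientGroup.eq_one_iff _).2 hs,
          show QuotientGroup.mk' (Q.subgroupOf S) ⟨t, hD.1 ht⟩ = 1 from (QuotientGroup.eq_one_iff _).2 ht, one_mul, one_mul]
      have h2 : (⁅e, f⁆)⁻¹ * ⁅s * e, t * f⁆ ∈ Q := (QuotientGroup.eq_one_iff
        ((⁅(⟨e, hD.2.1 he⟩ : S), (⟨f, hD.2.1 hf⟩ : S)⁆)⁻¹ * ⁅(⟨s, hD.1 hs⟩ : S) * (⟨e, hD.2.1 he⟩ : S), (⟨t, hD.1 ht⟩ : S) * (⟨f, hD.2.1 hf⟩ : S)⁆)).1 (by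
        show QuotientGroup.mk' (Q.subgroupOf S) _ = 1
        rw [map_mul, map_inv, h1, inv_mul_cancel])
      rw [show ⁅s * e, t * f⁆ = ⁅e, f⁆ * ((⁅e, f⁆)⁻¹ * ⁅s * e, t * f⁆) by group]
      exact mul_mem (mem_sup_right (commutator_mem_commutator he hf)) (mem_sup_left h2)
    exact (hle.trans (Bender.le_fitting (sup_le hD.1 (hD'D.trans hD.2.1)) hN hnilN)).trans
      (fittingOf_le_of_normal hSM (TH.le_normalizer_core M))

/-- The quotient of `M'` by `M_F` is nilpotent. -/
theorem derived_quotient_nilpotent :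
    Group.IsNilpotent ↥((commutator ↥M).map (QuotientGroup.mk' (Cfsg.fittingHall ↥M))) := by
  set S := Cfsg.sigmaCore M
  have hSM : S ≤ M := map_subtype_le _
  set π := QuotientGroup.mk' (Cfsg.fittingHall ↥M)
  have hker : ∀ {y : G} (hy : y ∈ M), y ∈ Cfsg.fittingHallOf M → π ⟨y, hy⟩ = 1 := fun {y} hy h => by
    obtain ⟨z, hz, hzy⟩ := h
    obtain rfl : z = ⟨y, hy⟩ := Subtype.ext hzy
    exact (QuotientGroup.eq_one_iff _).2 hz
  by_cases hnil : Group.IsNilpotent S
  · obtain ⟨E, hE, -⟩ := Tau.exists_complement_of hG hM (X := ⊥) bot_le fun q hq h => by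
      rw [card_bot, Nat.dvd_one] at h; exact absurd h hq.ne_one
    haveI hc := (Cfsg.Agent.S1420.result hG M hM E hE).2.1
    set φ := π.comp (inclusion hE.1) with hφ
    have hsur : Function.Surjective φ := fun z => by
      obtain ⟨⟨m, hm⟩, rfl⟩ := QuotientGroup.mk'_surjective _ z
      obtain ⟨a, ha, b, hb, rfl⟩ := hE.2.2.2 m hm
      refine ⟨⟨a, ha⟩, ?_⟩
      show π ⟨a, hE.1 ha⟩ = π (⟨a, hE.1 ha⟩ * ⟨b, hSM hb⟩)
      rw [map_mul, hker (hSM hb) ((fittingHallOf_eq hG hM hnil).ge hb), mul_one]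
    have he : (commutator ↥M).map π = (commutator ↥E).map φ := by
      have h : ∀ {X Y : Type u} [Group X] [Group Y] (f : X →* Y), Function.Surjective f →
          (commutator X).map f = commutator Y := fun {X Y} _ _ f hf => by
        rw [_root_.commutator_def, _root_.commutator_def, map_commutator, ← MonoidHom.range_eq_map, MonoidHom.range_eq_top.2 hf]
      rw [h π (QuotientGroup.mk'_surjective _), h φ hsur]
    rw [he]
    haveI : IsMulCommutative (commutator ↥E) := ⟨⟨fun a b => by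
      refine Subtype.ext (E.subtype_injective ?_)
      have hm : ∀ x : commutator ↥E, ((x : E) : G) ∈ ⁅E, E⁆ := fun x =>
        map_subtype_commutator E ▸ mem_map_of_mem E.subtype x.2
      exact congrArg Subtype.val (hc.is_comm.comm (⟨_, hm a⟩ : ↥⁅E, E⁆) ⟨_, hm b⟩)⟩⟩
    letI : CommGroup (commutator ↥E) :=
      { (inferInstance : Group (commutator ↥E)) with mul_comm := fun a b => mul_comm' a b }
    exact CfsgLib.CN.nilpotent_map CommGroup.isNilpotent φ
  · obtain ⟨K, hK, -⟩ := exists_hall_over (π := Cfsg.kappa M) (solvable_le hG hM le_rfl)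
      (bot_le : (⊥ : Subgroup G) ≤ M) fun r hr hd => by rw [card_bot, Nat.dvd_one] at hd; exact absurd hd hr.ne_one
    haveI := Fact.mk (deficient_star_prime hG hM hK hnil)
    obtain ⟨D, hD, -, -, -, hDn⟩ := deficient_complement hG hM hK hnil (q := _) rfl
    have hQF := deficient_q_le_fittingHall hG hM hK hnil (q := Nat.card ↥(star M K)) rfl
    have hd := deficient_derived hG hM hK hnil
    haveI := hDn
    set φ := π.comp (inclusion (hD.2.1.trans hSM)) with hφ
    have he : (commutator ↥M).map π = φ.range := by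
      refine le_antisymm ?_ ?_
      · rintro _ ⟨m, hm, rfl⟩
        have hmS : (m : G) ∈ S := by
          have h := mem_map_of_mem M.subtype hm
          rw [map_subtype_commutator, hd] at h
          exact h
        obtain ⟨a, ha, b, hb, e⟩ := hD.2.2.2 _ hmS
        refine ⟨⟨b, hb⟩, ?_⟩
        show π ⟨b, hSM (hD.2.1 hb)⟩ = π m
        rw [show m = (⟨a, hSM (hD.1 ha)⟩ : M) * ⟨b, hSM (hD.2.1 hb)⟩ from Subtype.ext e, map_mul,
          hker (hSM (hD.1 ha)) (hQF ha), one_mul]
      · rintro _ ⟨d, rfl⟩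
        refine mem_map_of_mem π ?_
        have h : (d : G) ∈ (commutator ↥M).map M.subtype := by
          rw [map_subtype_commutator, hd]; exact hD.2.1 d.2
        obtain ⟨z, hz, hzd⟩ := h
        exact (show inclusion (hD.2.1.trans hSM) d = z from Subtype.ext hzd.symm) ▸ hz
    rw [he]
    exact Group.nilpotent_of_surjective φ.rangeRestrict φ.rangeRestrict_surjective

/-- BG 15.5: `F(M) = C_M(M_F) M_F`. -/
theorem fitting_eq_centralizer : Cfsg.fittingOf M =
    (M ⊓ centralizer (Cfsg.fittingHallOf M : Set G)) ⊔ Cfsg.fittingHallOf M := by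
  set F := Cfsg.fittingHallOf M with hF
  have hFM : F ≤ M := FittingHall.of_le M
  refine le_antisymm (Bender.fitting_le_of_qc fun r _ => ?_)
    (sup_le ?_ (Bender.le_fitting hFM (FittingHall.le_normalizer_of M) (FittingHall.nilpotent_of M)))
  · have hr : r.Prime := Fact.out
    have hpr : ∀ t : ℕ, t.Prime → t ∣ Nat.card (Bender.qc r M) → t = r := fun t ht htd => by
      obtain ⟨j, hj⟩ := IsPGroup.iff_card.1 (Bender.isPGroup_qc (s := r) M)
      rw [hj] at htd
      exact (Nat.prime_dvd_prime_iff_eq ht hr).1 (ht.dvd_of_dvd_pow htd)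
    by_cases hrF : r ∣ Nat.card F
    · exact le_sup_of_le_right (le_hall_of_normal hFM (FittingHall.coprime_relIndex M) (Bender.qc_le r M)
        (Bender.le_normalizer_qc r M) fun t ht htd => hpr t ht htd ▸ hrF)
    · exact le_sup_of_le_left (le_inf (Bender.qc_le r M) (centralizes_of_disjoint
        (hFM.trans (Bender.le_normalizer_qc r M)) ((Bender.qc_le r M).trans (FittingHall.le_normalizer_of M))
        (Excep.coprime_of_pgroup (Bender.isPGroup_qc M) hrF)))
  · set S := Cfsg.sigmaCore M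
    set C := M ⊓ centralizer (F : Set G) with hC
    have hCn : M ≤ normalizer (C : Set G) := (le_inf le_normalizer
      ((FittingHall.le_normalizer_of M).trans (TH.normalizer_le_normalizer_centralizer _))).trans
        inf_normalizer_le_normalizer_inf
    refine Bender.le_fitting inf_le_left hCn ?_
    have hSM : S ≤ M := map_subtype_le _
    by_cases hnil : Group.IsNilpotent S
    · have hSF : S = F := (fittingHallOf_eq hG hM hnil).symm
      obtain ⟨X, hX, hXc, -, he⟩ := hall_centralizer hG hM (le_refl S)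
        (Tau.sigmaCore_ne_bot hG hM (one_lt_card_coatom hG hM)) (by rw [relIndex_self]; exact Nat.coprime_one_right _)
      have hCe : C = (S ⊓ centralizer (S : Set G)) ⊔ X := by rw [hC, ← hSF]; exact he
      have hXX : X ≤ centralizer (X : Set G) := by
        letI := IsCyclic.commGroup (α := X)
        exact fun a ha => mem_centralizer_iff.2 fun b hb => congrArg Subtype.val (mul_comm (⟨b, hb⟩ : X) ⟨a, ha⟩)
      have hXS : X ≤ centralizer (S : Set G) := hX.trans inf_le_right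
      have hZX : S ⊓ centralizer (S : Set G) ≤ centralizer (X : Set G) :=
        le_centralizer_iff.1 (hXS.trans (centralizer_le inf_le_left))
      have hCC : C ≤ centralizer (C : Set G) := by
        rw [hCe]
        exact sup_le (le_centralizer_iff.1 (sup_le (inf_le_left.trans (le_centralizer_iff.1 inf_le_right))
          (le_centralizer_iff.1 hZX))) (le_centralizer_iff.1 (sup_le hZX hXX))
      haveI hc := le_centralizer_iff_isMulCommutative.1 hCC
      letI : CommGroup C := { (inferInstance : Group C) with mul_comm := hc.is_comm.comm }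
      exact CommGroup.isNilpotent
    · obtain ⟨K, hK, -⟩ := exists_hall_over (π := Cfsg.kappa M) (solvable_le hG hM le_rfl)
        (bot_le : (⊥ : Subgroup G) ≤ M) fun r hr hd => by rw [card_bot, Nat.dvd_one] at hd; exact absurd hd hr.ne_one
      haveI := Fact.mk (deficient_star_prime hG hM hK hnil)
      obtain ⟨D, hD, -, hqD, -, hDn⟩ := deficient_complement hG hM hK hnil (q := _) rfl
      have hQF := deficient_q_le_fittingHall hG hM hK hnil (q := Nat.card ↥(star M K)) rfl
      set Q := Bender.qc (Nat.card ↥(star M K)) S with hQ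
      obtain ⟨X, -, -, hXτ, he⟩ := hall_centralizer hG hM hD.1 (fun e => fixed_ne_bot hG hM hK
          (deficient_kappa hG hM hK hnil)
          (le_bot_iff.1 ((deficient_star_qc hG hM hK hnil (q := _) rfl).trans e.le)))
        (Excep.coprime_of_pgroup (Bender.isPGroup_qc _) (deficient_sylow hG hM hK hnil))
      have hX : X = ⊥ := by
        refine eq_bot_of_card_eq _ (by_contra fun h => ?_)
        obtain ⟨r, hr, hd⟩ := Nat.exists_prime_and_dvd h
        exact tau_two_empty_of_not_nilpotent hG hM hnil (hXτ r hr hd)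
      rw [hX, sup_bot_eq] at he
      have hCW : C ≤ S ⊓ centralizer (Q : Set G) := (inf_le_inf_left M (centralizer_le hQF)).trans he.le
      haveI hQn : (Q.subgroupOf S).Normal :=
        (normal_subgroupOf_iff_le_normalizer hD.1).2 (Bender.le_normalizer_qc _ S)
      haveI := hDn
      haveI : Group.IsNilpotent (S ⧸ Q.subgroupOf S) := by
        refine Group.nilpotent_of_surjective ((QuotientGroup.mk' (Q.subgroupOf S)).comp (inclusion hD.2.1)) fun z => ?_
        obtain ⟨⟨m, hm⟩, rfl⟩ := QuotientGroup.mk'_surjective _ z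
        obtain ⟨a, ha, b, hb, rfl⟩ := hD.2.2.2 m hm
        refine ⟨⟨b, hb⟩, ?_⟩
        show QuotientGroup.mk' (Q.subgroupOf S) ⟨b, hD.2.1 hb⟩ =
          QuotientGroup.mk' (Q.subgroupOf S) (⟨a, hD.1 ha⟩ * ⟨b, hD.2.1 hb⟩)
        rw [map_mul, show QuotientGroup.mk' (Q.subgroupOf S) ⟨a, hD.1 ha⟩ = 1 from (QuotientGroup.eq_one_iff _).2 ha,
          one_mul]
      refine Subgroup.isNilpotent_of_ker_le_center
        ((QuotientGroup.mk' (Q.subgroupOf S)).comp (inclusion (hCW.trans inf_le_left))) fun c hc => ?_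
      refine mem_center_iff.2 fun d => Subtype.ext ?_
      have hcQ : (c : G) ∈ Q := (QuotientGroup.eq_one_iff (inclusion (hCW.trans inf_le_left) c)).1 hc
      exact (mem_centralizer_iff.1 (hCW d.2).2 (c : G) hcQ).symm

/-- BG 15.5: with `κ(M)` nonempty, `F(M) ≤ M'`. -/
theorem fitting_le_derived (hκ : (Cfsg.kappa M).Nonempty) : Cfsg.fittingOf M ≤ ⁅M, M⁆ := by
  obtain ⟨p, hp⟩ := hκ
  haveI := Fact.mk hp.1
  obtain ⟨u₀, hu₀⟩ := exists_prime_orderOf_dvd_card' (G := M) p hp.2.1
  obtain ⟨K, hK, -, hK1⟩ := exists_hall_kappa hG hM (y := (u₀ : G)) u₀.2 (by rw [Subgroup.orderOf_coe, hu₀]) hp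
  obtain ⟨U, hKU⟩ := exists_decomp hG hM (kappa_cyclic hG hM hK) hK
  obtain ⟨-, hτ, he⟩ := fitting_split hG hM
  rw [he]
  refine sup_le ((Bender.fitting_le _).trans (Sig.sigma_core hG hM).2.2) ?_
  set Y := Cfsg.piCoreOf {q | q.Prime ∧ q ∉ Cfsg.sigma M} (Cfsg.fittingOf M)
  have hYM : Y ≤ M := (TH.core_le _).trans (Bender.fitting_le M)
  rw [derived_eq hG hM hKU hK1]
  have hn : M ≤ normalizer ((U ⊔ Cfsg.sigmaCore M : Subgroup G) : Set G) := decomp_normal hG hM hKU
  refine Excep.le_of_hall (sup_le hKU.compl.1 (map_subtype_le _)) hn hYM (Nat.coprime_of_dvd fun r hr h1 h2 => ?_)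
  refine (hτ r hr h1).2.2.2 (kappa_rank (hK.2.1 r hr (h2.trans ?_)))
  have hle : M ≤ K ⊔ (U ⊔ Cfsg.sigmaCore M) := fun m hm => by
    obtain ⟨a, ha, b, hb, rfl⟩ := hKU.compl.2.2.2 m hm
    exact mul_mem (mem_sup_right (mem_sup_left ha))
      ((sup_le le_sup_left (le_sup_right.trans le_sup_right) : K ⊔ Cfsg.sigmaCore M ≤ _) hb)
  have h1 := (card_dvd_of_le hle).trans (CfsgLib.Solvable.card_sup_dvd (hK.1.trans hn))
  rw [← CfsgLib.InvariantHall.relIndex_mul_card (sup_le hKU.compl.1 (map_subtype_le _) : U ⊔ Cfsg.sigmaCore M ≤ M),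
    mul_comm (Nat.card K)] at h1
  exact (Nat.mul_dvd_mul_iff_left Nat.card_pos).1 h1

end CfsgLib.OddLocal.Kap
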