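import Cfsg.Agent.OddLocal.TauTwoIrreducible
import Mathlib.NumberTheory.Multiplicity

/-!
For `p ∈ τ₂(M)`: a cyclic subgroup of maximal order in a full `p`-subgroup of a complement, invariant under a
cyclic `τ₁(M)`-subgroup, whose element of order `p` has no fixed point in `M_σ`.
-/

set_option autoImplicit false
set_option linter.style.haveILetI false
set_option linter.unusedSectionVars false

namespace CfsgLib.OddLocal.Tau

open Subgroup Cfsg CfsgLib.OddLocal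
open scoped commutatorElement Pointwise

universe u

variable {G : Type u} [Group G] [Finite G]

/-- An eigenvector for a coprime automorphism of an abelian group. -/
theorem exists_eigen {T : Subgroup G} (hTc : IsMulCommutative T) {g x : G} (hgT : g ∈ normalizer (T : Set G))
    (hx : x ∈ T) {n d c : ℕ} (hn : ∀ t ∈ T, t ^ n = 1) (hd : g ^ d ∈ centralizer (T : Set G))
    (hc : c ^ d ≡ 1 [MOD n]) :
    ∃ x' ∈ T, g * x' * g⁻¹ = x' ^ c ∧ ∀ Z : Subgroup G, Z ≤ T → g ∈ normalizer (Z : Set G) →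
      g * x * g⁻¹ * (x ^ c)⁻¹ ∈ Z → x' * (x ^ (d * c ^ (d - 1)))⁻¹ ∈ Z := by
  classical
  haveI := hTc
  letI : CommGroup T := { (inferInstance : Group T) with mul_comm := hTc.is_comm.comm }
  set f := normalizerMonoidHom T ⟨g, hgT⟩ with hf
  have hfd : f ^ d = 1 := by
    rw [hf, ← map_pow]
    refine MulEquiv.ext fun t => Subtype.ext ?_
    show ((⟨g, hgT⟩ ^ d : normalizer (T : Set G)) : G) * t * ((⟨g, hgT⟩ ^ d : normalizer (T : Set G)) : G)⁻¹ = t
    rw [SubmonoidClass.coe_pow, ← mem_centralizer_iff.1 hd t t.2, mul_inv_cancel_right]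
  set x₀ : T := ⟨x, hx⟩
  set x' := ∏ i ∈ Finset.range d, ((f ^ i) x₀) ^ c ^ (d - 1 - i) with hx'
  refine ⟨x', x'.2, ?_, fun Z hZT hgZ hZ => ?_⟩
  · have h : f x' = x' ^ c := by
      set k := fun i : ℕ => ((f ^ i) x₀) ^ c ^ (d - i) with hk
      have h1 : f x' = ∏ i ∈ Finset.range d, k (i + 1) := by
        rw [hx', map_prod]
        refine Finset.prod_congr rfl fun i _ => ?_
        rw [map_pow]
        simp only [hk]
        show (f ((f ^ i) x₀)) ^ _ = _
        rw [show f ((f ^ i) x₀) = (f ^ (i + 1)) x₀ by rw [pow_succ']; rfl, show d - (i + 1) = d - 1 - i by omega]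
      have h2 : x' ^ c = ∏ i ∈ Finset.range d, k i := by
        rw [hx', ← Finset.prod_pow]
        refine Finset.prod_congr rfl fun i hi => ?_
        simp only [hk]
        rw [← pow_mul, ← pow_succ, show d - i = d - 1 - i + 1 by have := Finset.mem_range.1 hi; omega]
      have hends : k d = k 0 := by
        simp only [hk, hfd, Nat.sub_self, pow_zero, pow_one, Nat.sub_zero]
        show x₀ = x₀ ^ c ^ d
        conv_lhs => rw [← pow_one x₀]
        refine (pow_eq_pow_iff_modEq.2 (hc.symm.of_dvd ?_))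
        exact orderOf_dvd_of_pow_eq_one (Subtype.ext (hn x hx))
      have h3 := Finset.prod_range_succ k d
      have h4 := Finset.prod_range_succ' k d
      rw [hends] at h3
      rw [h1, h2]
      exact mul_right_cancel (h4.symm.trans h3)
    exact congrArg Subtype.val h
  · set Z₀ := Z.subgroupOf T
    have hfZ : ∀ z ∈ Z₀, f z ∈ Z₀ := fun z hz => (mem_normalizer_iff.1 hgZ (z : G)).1 hz
    have hall : ∀ i : ℕ, (f ^ i) x₀ * (x₀ ^ c ^ i)⁻¹ ∈ Z₀ := by
      intro i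
      induction i with
      | zero => simp
      | succ i ih =>
        have e : (f ^ (i + 1)) x₀ * (x₀ ^ c ^ (i + 1))⁻¹ =
            f ((f ^ i) x₀ * (x₀ ^ c ^ i)⁻¹) * (f x₀ * (x₀ ^ c)⁻¹) ^ c ^ i := by
          rw [map_mul, map_inv, map_pow, mul_pow, inv_pow, ← pow_mul, ← pow_succ',
            show f ((f ^ i) x₀) = (f ^ (i + 1)) x₀ by rw [pow_succ']; rfl]
          group
        rw [e]
        exact mul_mem (hfZ _ ih) (pow_mem (show f x₀ * (x₀ ^ c)⁻¹ ∈ Z₀ from hZ) _)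
    have h : x' * (x₀ ^ (d * c ^ (d - 1)))⁻¹ ∈ Z₀ := by
      have e : x₀ ^ (d * c ^ (d - 1)) = ∏ i ∈ Finset.range d, (x₀ ^ c ^ i) ^ c ^ (d - 1 - i) := by
        rw [mul_comm, pow_mul]
        refine Eq.symm ((Finset.prod_congr rfl fun i hi => ?_).trans
          ((Finset.prod_const _).trans (by rw [Finset.card_range])))
        rw [← pow_mul, ← pow_add, show i + (d - 1 - i) = d - 1 by have := Finset.mem_range.1 hi; omega]
      rw [e, hx', ← div_eq_mul_inv, ← Finset.prod_div_distrib]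
      refine prod_mem fun i _ => ?_
      rw [← div_pow, div_eq_mul_inv]
      exact pow_mem (hall i) _
    exact h

/-- The points of `A` raised to the power `c` by `g`. -/
def eigenSpace {p : ℕ} {A : Subgroup G} (hA : Cfsg.IsElementaryAbelian p A) (g : G) (c : ℕ) : Subgroup G where
  carrier := {a | a ∈ A ∧ g * a * g⁻¹ = a ^ c}
  one_mem' := ⟨one_mem _, by simp⟩
  mul_mem' := fun {a b} ha hb => ⟨mul_mem ha.1 hb.1, by
    haveI := hA.1
    have hab : Commute a b := congrArg Subtype.val (mul_comm' (⟨a, ha.1⟩ : A) ⟨b, hb.1⟩)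
    rw [hab.mul_pow, ← ha.2, ← hb.2]; group⟩
  inv_mem' := fun {a} ha => ⟨inv_mem ha.1, by rw [inv_pow, ← ha.2]; group⟩

theorem exists_nat_pow {a b : G} (h : b ∈ zpowers a) : ∃ c : ℕ, b = a ^ c := by
  classical
  obtain ⟨i, hi, he⟩ := Finset.mem_image.1 ((mem_zpowers_iff_mem_range_orderOf).1 h)
  exact ⟨i, he.symm⟩

theorem conj_pow_eq {g a : G} {c : ℕ} (h : g * a * g⁻¹ = a ^ c) (i : ℕ) : g ^ i * a * (g ^ i)⁻¹ = a ^ c ^ i := by
  induction i with
  | zero => simp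
  | succ i ih =>
    rw [pow_succ, show g ^ i * g * a * (g ^ i * g)⁻¹ = g ^ i * (g * a * g⁻¹) * (g ^ i)⁻¹ by group, h, pow_succ,
      pow_mul, ← ih]
    exact (map_pow (MulAut.conj (g ^ i)) a c)

variable (hG : Cfsg.IsMinSimpleOddOrder G)
include hG

variable {p : ℕ} [hp : Fact p.Prime] {M E A T : Subgroup G}
  (hM : IsCoatom M) (hE : Cfsg.IsComplIn E (Cfsg.sigmaCore M) M) (hpτ : p ∈ Cfsg.tau2 M)
  (hA : Cfsg.IsElementaryAbelian p A) (hA2 : Nat.card A = p ^ 2) (hT : IsPGroup p T) (hAT : A ≤ T) (hTE : T ≤ E)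
  (hTd : ¬ p ∣ T.relIndex E)
  {g : G} (hgE : g ∈ E) (hg1 : ∀ q : ℕ, q.Prime → q ∣ orderOf g → q ∈ Cfsg.tau1 M)
  (hfix : ∀ e ∈ E, e ≠ 1 → (∀ q : ℕ, q.Prime → q ∣ orderOf e → q ∈ Cfsg.tau1 M ∪ Cfsg.tau3 M) →
    Cfsg.sigmaCore M ⊓ centralizer ({e} : Set G) = ⊥)
include hM hE hpτ hA hA2 hT hAT hTE hTd hgE hg1 hfix

/-- `g` normalizes a line of `A` without fixed points in `M_σ`. -/
theorem exists_good_invariant :
    ∃ L : Subgroup G, L ≤ A ∧ Nat.card L = p ∧ g ∈ normalizer (L : Set G) ∧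
      Cfsg.sigmaCore M ⊓ centralizer (L : Set G) = ⊥ := by
  classical
  obtain ⟨-, hpσ, hr2, hr1⟩ := id hpτ
  have hAE : A ≤ E := hAT.trans hTE
  have hAM : A ≤ M := hAE.trans hE.1
  have hgM : g ∈ M := hE.1 hgE
  have hmax := (Cfsg.Agent.S1408.result hG M hM p hpσ hr2 hr1).2 A hAM hA hA2
  obtain ⟨⟨hEA, -⟩, -, -⟩ := Cfsg.Agent.S1418.result hG M hM E hE p hpτ A ⟨hAE, hA, hA2⟩
  have hgA := hEA hgE
  have hline : ∀ {a : G}, a ∈ A → a ≠ 1 → Nat.card (zpowers a) = p := fun ha ha1 => (Excep.line_of_mem hA ha ha1).2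
  have hscal : ∀ (w : G) (c : ℕ), eigenSpace hA w c = A → ∀ Y : Subgroup G, Y ≤ A → w ∈ normalizer (Y : Set G) :=
    fun w c he Y hY => Uniq.mem_normalizer_of_map_le (by
      rintro _ ⟨y, hy, rfl⟩
      show w * y * w⁻¹ ∈ Y
      rw [(he.ge (hY hy)).2]
      exact pow_mem hy c)
  have heig : ∀ (w : G) (X : Subgroup G), X ≤ A → Nat.card X = p → w ∈ normalizer (X : Set G) →
      ∃ c : ℕ, eigenSpace hA w c = X ∨ eigenSpace hA w c = A := by
    intro w X hXA hX hwX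
    obtain ⟨x, hx, hx1⟩ := (bot_or_exists_ne_one X).resolve_left fun e => hp.out.ne_one (by rw [← hX, e, card_bot])
    have hxX : zpowers x = X := eq_of_le_of_card_ge (zpowers_le.2 hx) (by rw [hline (hXA hx) hx1, hX])
    obtain ⟨c, hc⟩ := exists_nat_pow (hxX ▸ (mem_normalizer_iff.1 hwX x).1 hx : w * x * w⁻¹ ∈ zpowers x)
    refine ⟨c, ?_⟩
    have hle : X ≤ eigenSpace hA w c := by
      rw [← hxX, zpowers_le]
      exact ⟨hXA hx, hc⟩
    have hle' : eigenSpace hA w c ≤ A := fun a ha => ha.1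
    obtain ⟨k, hk2, hk⟩ := (Nat.dvd_prime_pow hp.out).1 (hA2 ▸ card_dvd_of_le hle')
    have h1 := card_le_of_le hle
    rw [hX, hk] at h1
    interval_cases k
    · rw [pow_zero] at h1; exact absurd h1 (not_le.2 hp.out.one_lt)
    · exact Or.inl (eq_of_le_of_card_ge hle (by rw [hk, hX, pow_one])).symm
    · exact Or.inr (eq_of_le_of_card_ge hle' (by rw [hk, hA2]))
  have hbot : Cfsg.sigmaCore M ⊓ centralizer (A : Set G) = ⊥ :=
    inf_centralizer_eq_bot hG hA hA2 hM hAM hpσ hmax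
  obtain ⟨X₁, -, hX₁A, hX₁, -, -, -, hX₁fix, -⟩ := exists_two_fpf hG hA hA2 hM hAM hpσ hmax
  have hgord : ¬ p ∣ orderOf g := fun h => (hg1 p hp.out h).2.2.2.2 |> hr1
  by_cases hab : ∀ S : Sylow p G, IsMulCommutative (S : Subgroup G)
  swap
  · -- the nonabelian case
    have hS : ∀ S : Sylow p G, ¬ IsMulCommutative (S : Subgroup G) := by
      intro S hc
      refine hab fun S' => ?_
      haveI := hc
      exact ⟨⟨fun x y => (S'.equiv S).injective (by rw [map_mul, map_mul]; exact mul_comm' _ _)⟩⟩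
    obtain ⟨B, hBA, hB, -, hMB, hrest⟩ := unique_good hA hA2 hG hM hAM hpσ hmax hr2 hS
    obtain ⟨b, hb, hbB⟩ := Excep.exists_not_mem hA2 hB
    have hsup := Excep.line_sup hA2 hBA hB hb hbB
    -- the eigenvalue on `A / B`
    obtain ⟨c, hc⟩ : ∃ c : ℕ, g * b * g⁻¹ * (b ^ c)⁻¹ ∈ B := by
      have h1 : g * b * g⁻¹ ∈ zpowers b ⊔ B := sup_comm B (zpowers b) ▸ hsup.ge ((mem_normalizer_iff.1 hgA b).1 hb)
      have hbn : zpowers b ≤ normalizer (B : Set G) := zpowers_le.2 (hMB (hAM hb))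
      obtain ⟨y, hy, z, hz, e⟩ := (CfsgLib.Solvable.mem_sup_of_le_normalizer hbn).1 h1
      obtain ⟨c, rfl⟩ := exists_nat_pow hy
      refine ⟨c, ?_⟩
      haveI := hA.1
      have hcm : Commute (b ^ c) z := congrArg Subtype.val (mul_comm' (⟨_, pow_mem hb c⟩ : A) ⟨z, hBA hz⟩)
      rw [← e, hcm.eq, mul_inv_cancel_right]
      exact hz
    have hc1 : c ^ orderOf g ≡ 1 [MOD p] := by
      have hmod : ∀ i : ℕ, g ^ i * b * (g ^ i)⁻¹ * (b ^ c ^ i)⁻¹ ∈ B := by
        intro i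
        induction i with
        | zero => simp
        | succ i ih =>
          set z := g * b * g⁻¹ * (b ^ c)⁻¹ with hz
          set z' := g ^ i * b * (g ^ i)⁻¹ * (b ^ c ^ i)⁻¹ with hz'
          have e : g ^ (i + 1) * b * (g ^ (i + 1))⁻¹ =
              (g ^ i * z * (g ^ i)⁻¹) * (z' * b ^ c ^ i) ^ c := by
            rw [hz', inv_mul_cancel_right,
              show (g ^ i * b * (g ^ i)⁻¹) ^ c = g ^ i * b ^ c * (g ^ i)⁻¹ from (map_pow (MulAut.conj (g ^ i)) b c).symm,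
              hz, pow_succ]
            group
          haveI := hA.1
          have hz'A : z' ∈ A := hBA ih
          have hcm : Commute z' (b ^ c ^ i) := congrArg Subtype.val (mul_comm' (⟨z', hz'A⟩ : A) ⟨_, pow_mem hb _⟩)
          rw [e, hcm.mul_pow, ← pow_mul, ← pow_succ,
            show ∀ a b c : G, a * (b * c) * c⁻¹ = a * b from fun a b c => by group]
          exact mul_mem ((mem_normalizer_iff.1 (hMB (pow_mem hgM i)) z).1 hc) (pow_mem ih c)
      have h := hmod (orderOf g)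
      rw [pow_orderOf_eq_one, one_mul, inv_one, mul_one] at h
      by_contra hne
      refine hbB ((zpowers_le.2 hb |> fun _ => ?_) : b ∈ B)
      obtain ⟨k, hk⟩ : ∃ k : ℤ, b * (b ^ c ^ orderOf g)⁻¹ = b ^ k := ⟨1 - (c ^ orderOf g : ℕ), by
        rw [zpow_sub, zpow_one, zpow_natCast]⟩
      have hbo : orderOf b = p := orderOf_eq_prime (hA.2 b hb) fun e => hbB (e ▸ one_mem B)
      have hy1 : b * (b ^ c ^ orderOf g)⁻¹ ≠ 1 := fun e => hne (by
        rw [mul_inv_eq_one] at e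
        have e' : b ^ 1 = b ^ c ^ orderOf g := by rwa [pow_one]
        rw [pow_eq_pow_iff_modEq, hbo] at e'
        exact e'.symm)
      have hmem : b * (b ^ c ^ orderOf g)⁻¹ ∈ zpowers b := hk ▸ zpow_mem (mem_zpowers b) k
      have e : zpowers b = B := by
        have h2 : zpowers (b * (b ^ c ^ orderOf g)⁻¹) = zpowers b := eq_of_le_of_card_ge (zpowers_le.2 hmem) (by
          rw [hline hb (fun e => hbB (e ▸ one_mem B)), hline (hBA h) hy1])
        rw [← h2]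
        exact eq_of_le_of_card_ge (zpowers_le.2 h) (by rw [hline (hBA h) hy1, hB])
      exact e ▸ mem_zpowers b
    obtain ⟨x', hx', he, hZ⟩ := exists_eigen hA.1 hgA hb (n := p) (fun t ht => hA.2 t ht)
      (d := orderOf g) (by rw [pow_orderOf_eq_one]; exact one_mem _) hc1
    have hmem := hZ B hBA (hMB hgM) hc
    have hnd : ¬ p ∣ orderOf g * c ^ (orderOf g - 1) := fun hd => by
      rcases hp.out.dvd_mul.1 hd with h' | h'
      · exact hgord h'
      · have h1 : p ∣ c ^ orderOf g := dvd_pow (hp.out.dvd_of_dvd_pow h') (orderOf_pos g).ne'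
        exact hp.out.one_lt.ne' (Nat.dvd_one.1 (((hc1.dvd_iff dvd_rfl).1 h1)))
    have hx'B : x' ∉ B := fun hxB => hbB (by
      have h1 := mul_mem (inv_mem hmem) hxB
      rw [mul_inv_rev, inv_inv, inv_mul_cancel_right] at h1
      obtain ⟨m, hm⟩ := exists_pow_eq_self_of_coprime (n := orderOf g * c ^ (orderOf g - 1)) (x := b)
        (Nat.Coprime.coprime_dvd_right (orderOf_dvd_of_pow_eq_one (hA.2 b hb)) (hp.out.coprime_iff_not_dvd.2 hnd).symm)
      exact hm ▸ pow_mem h1 m)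
    have hLne : zpowers x' ≠ B := fun e => hx'B (e ▸ mem_zpowers x')
    refine ⟨zpowers x', zpowers_le.2 hx', hline hx' (fun e => hx'B (e ▸ one_mem B)),
      Uniq.mem_normalizer_of_map_le ?_, (hrest _ (zpowers_le.2 hx') (hline hx' (fun e => hx'B (e ▸ one_mem B))) hLne).1⟩
    rw [MonoidHom.map_zpowers, zpowers_le]
    show g * x' * g⁻¹ ∈ zpowers x'
    rw [he]
    exact pow_mem (mem_zpowers x') c
  -- the abelian case
  have hder := (normalizer_derived hG hM hE hpτ hA hA2 hT hAT hTE hTd hab).1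
  have hnor : ∀ X : Subgroup G, X ≤ A → Nat.card X = p → g ∈ normalizer (X : Set G) →
      ∃ L : Subgroup G, L ≤ A ∧ Nat.card L = p ∧ g ∈ normalizer (L : Set G) ∧
        Cfsg.sigmaCore M ⊓ centralizer (L : Set G) = ⊥ := by
    intro X hXA hX hgX
    obtain ⟨c, hc⟩ := heig g X hXA hX hgX
    rcases hc with hc | hc
    swap
    · exact ⟨X₁, hX₁A, hX₁, hscal g c hc X₁ hX₁A, hX₁fix⟩
    refine ⟨X, hXA, hX, hgX, by_contra fun hne => ?_⟩
    have hNX := good_normalizer_le hG hA hA2 hM hAM hpσ hmax hXA hX hne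
    refine not_normalizer_le hG hA hA2 hM hAM hpσ hmax fun n hn => hNX (Uniq.mem_normalizer_of_map_le ?_)
    rintro _ ⟨x, hx, rfl⟩
    rw [← hc] at hx ⊢
    obtain ⟨hxA, hxe⟩ := hx
    have hxA' : n * x * n⁻¹ ∈ A := (mem_normalizer_iff.1 hn x).1 hxA
    refine ⟨hxA', ?_⟩
    show g * (n * x * n⁻¹) * g⁻¹ = (n * x * n⁻¹) ^ c
    set z := ⁅g, n⁆
    have hz : z ∈ centralizer (A : Set G) := hder (commutator_mem_commutator hgA hn)
    have hzc : z * (n * x ^ c * n⁻¹) = (n * x ^ c * n⁻¹) * z := by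
      refine (mem_centralizer_iff.1 hz _ ?_).symm
      exact (mem_normalizer_iff.1 hn _).1 (pow_mem hxA c)
    calc g * (n * x * n⁻¹) * g⁻¹ = z * (n * (g * x * g⁻¹) * n⁻¹) * z⁻¹ := by
          show _ = ⁅g, n⁆ * _ * (⁅g, n⁆)⁻¹
          rw [commutatorElement_def]; group
      _ = z * (n * x ^ c * n⁻¹) * z⁻¹ := by rw [hxe]
      _ = n * x ^ c * n⁻¹ := by rw [hzc, mul_inv_cancel_right]
      _ = (n * x * n⁻¹) ^ c := (map_pow (MulAut.conj n) x c)
  by_contra hfail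
  -- an element of prime power order moving some line
  set Sc := normalizer (A : Set G) ⊓ ⨅ (X : Subgroup G) (_ : X ≤ A) (_ : Nat.card X = p), normalizer (X : Set G)
    with hSc
  obtain ⟨l, hl, e, heg, ⟨j', hej⟩, heSc⟩ : ∃ l : ℕ, l.Prime ∧ ∃ e ∈ zpowers g, (∃ j, orderOf e = l ^ j) ∧ e ∉ Sc := by
    by_contra hall
    push Not at hall
    have h : g ∈ Sc := PrimeFit.le_of_prime_power (fun t ht b hb hbj => hall t ht b hb hbj)
      (mem_zpowers g)
    refine hfail (hnor X₁ hX₁A hX₁ ?_)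
    have h3 : Sc ≤ normalizer (X₁ : Set G) :=
      inf_le_right.trans ((iInf_le _ X₁).trans ((iInf_le _ hX₁A).trans (iInf_le _ hX₁)))
    exact h3 h
  haveI := Fact.mk hl
  have heE : e ∈ E := (zpowers_le.2 hgE) heg
  have hno : ∀ X : Subgroup G, X ≤ A → Nat.card X = p → e ∉ normalizer (X : Set G) := by
    intro X hXA hX heX
    obtain ⟨c, hc⟩ := heig e X hXA hX heX
    rcases hc with hc | hc
    swap
    · refine heSc ⟨hEA heE, ?_⟩
      exact (le_iInf fun Y => le_iInf fun hY => le_iInf fun _ => zpowers_le.2 (hscal e c hc Y hY)) (mem_zpowers e)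
    refine hfail (hnor X hXA hX (Uniq.mem_normalizer_of_map_le ?_))
    rintro _ ⟨x, hx, rfl⟩
    rw [← hc] at hx ⊢
    obtain ⟨i, hi⟩ := mem_zpowers_iff.1 heg
    have hge : Commute g e := hi ▸ ((Commute.refl g).zpow_right i)
    refine ⟨(mem_normalizer_iff.1 hgA x).1 hx.1, ?_⟩
    show e * (g * x * g⁻¹) * e⁻¹ = (g * x * g⁻¹) ^ c
    calc e * (g * x * g⁻¹) * e⁻¹ = (e * g) * x * (e * g)⁻¹ := by group
      _ = (g * e) * x * (g * e)⁻¹ := by rw [hge.eq]
      _ = g * (e * x * e⁻¹) * g⁻¹ := by group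
      _ = g * x ^ c * g⁻¹ := by rw [hx.2]
      _ = (g * x * g⁻¹) ^ c := map_pow (MulAut.conj g) x c
  have he1 : e ≠ 1 := fun e' => hno X₁ hX₁A hX₁ (e' ▸ one_mem _)
  obtain ⟨j, rfl⟩ : ∃ j, j' = j + 1 := ⟨j' - 1, (Nat.succ_pred_eq_of_ne_zero fun h0 =>
    he1 (orderOf_eq_one_iff.1 (by rw [h0, pow_zero] at hej; exact hej))).symm⟩
  have hlg : l ∣ orderOf g := (dvd_pow_self l (Nat.succ_ne_zero j)).trans (hej ▸ orderOf_dvd_of_mem_zpowers heg)
  have hlτ := hg1 l hl hlg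
  have hlp : l ≠ p := fun e' => hgord (e' ▸ hlg)
  by_cases hmove : e ^ l ^ j ∈ centralizer (A : Set G)
  · exact no_irreducible hG hM hE hA hA2 hAE hlp hpτ hab hlτ.2.2.2.2 heE hej hmove hno
  set e₁ := e ^ l ^ j with he₁
  have he₁o : orderOf e₁ = l := by
    rw [he₁, orderOf_pow' _ (pow_ne_zero _ hl.ne_zero), hej,
      Nat.gcd_eq_right (pow_dvd_pow l (Nat.le_succ j)), pow_succ, Nat.mul_div_cancel_left _ (pow_pos hl.pos _)]
  have hA0 := centralizing_of_moving hG hM hE hA hA2 hAE hlp (pow_mem heE _) (hEA (pow_mem heE _)) he₁o hmove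
    (hfix e₁ (pow_mem heE _) (fun e' => hl.ne_one (by rw [← he₁o, e', orderOf_one]))
      fun q hq hd => Or.inl (by rw [(Nat.prime_dvd_prime_iff_eq hq hl).1 (he₁o ▸ hd)]; exact hlτ))
  set A₀ := A ⊓ centralizer (Cfsg.sigmaCore M : Set G)
  obtain ⟨k, hk2, hk⟩ := (Nat.dvd_prime_pow hp.out).1 (hA2 ▸ card_dvd_of_le (inf_le_left : A₀ ≤ A))
  interval_cases k
  · exact hA0 (eq_bot_of_card_eq _ (by rw [hk, pow_zero]))
  · refine hno A₀ inf_le_left (by rw [hk, pow_one]) ?_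
    exact inf_normalizer_le_normalizer_inf ⟨hEA heE,
      TH.normalizer_le_normalizer_centralizer _ (TH.le_normalizer_core M (hE.1 heE))⟩
  · refine sigmaCore_ne_bot hG hM (one_lt_card hG hA2 hM hAM) (le_bot_iff.1 (hbot ▸ le_inf le_rfl ?_))
    exact le_centralizer_iff.1 ((eq_of_le_of_card_ge (inf_le_left : A₀ ≤ A) (by rw [hk, hA2])).ge.trans inf_le_right)

/-- A cyclic subgroup of largest order of `T` normalized by `g`, its element of order `p` fixed-point free. -/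
theorem exists_good_cyclic (hgT : g ∈ normalizer (T : Set G)) :
    ∃ (y : G) (a : ℕ), y ∈ T ∧ orderOf y = p ^ (a + 1) ∧ (∀ t ∈ T, t ^ p ^ (a + 1) = 1) ∧
      g ∈ normalizer (zpowers y : Set G) ∧
      Cfsg.sigmaCore M ⊓ centralizer ({y ^ p ^ a} : Set G) = ⊥ := by
  classical
  obtain ⟨hTc, hTA, hTMd⟩ := tau_two_sylow hG hM hE hpτ hA hA2 hT hAT hTE hTd
  obtain ⟨-, hpσ, hr2, hr1⟩ := id hpτ
  have hAE : A ≤ E := hAT.trans hTE
  have hAM : A ≤ M := hAE.trans hE.1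
  have hmax := (Cfsg.Agent.S1408.result hG M hM p hpσ hr2 hr1).2 A hAM hA hA2
  obtain ⟨a', ha'⟩ : ∃ a, Monoid.exponent T = p ^ a := by
    obtain ⟨k, hk⟩ := IsPGroup.iff_card.1 hT
    exact (Nat.dvd_prime_pow hp.out).1 (hk ▸ Group.exponent_dvd_nat_card) |>.imp fun a h => h.2
  obtain ⟨a, rfl⟩ : ∃ a, a' = a + 1 := by
    refine ⟨a' - 1, (Nat.succ_pred_eq_of_ne_zero fun h0 => ?_).symm⟩
    refine ne_bot hA hA2 (le_bot_iff.1 fun x hx => ?_)
    have := Monoid.pow_exponent_eq_one (⟨x, hAT hx⟩ : T)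
    rw [ha', h0, pow_zero, pow_one] at this
    exact mem_bot.2 (congrArg Subtype.val this)
  have hexp : ∀ t ∈ T, t ^ p ^ (a + 1) = 1 := fun t ht => by
    have := Monoid.pow_exponent_eq_one (⟨t, ht⟩ : T)
    rw [ha'] at this
    exact congrArg Subtype.val this
  letI : CommGroup T := { (inferInstance : Group T) with mul_comm := hTc.is_comm.comm }
  let φ : T →* T := powMonoidHom (p ^ a)
  set I := φ.range.map T.subtype with hI
  have hIT : I ≤ T := map_subtype_le _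
  have hIA : I ≤ A := by
    rintro _ ⟨_, ⟨t, rfl⟩, rfl⟩
    refine Excep.mem_of_commute hA hmax ?_ fun b hb => ?_
    · show ((t ^ p ^ a : T) : G) ^ p = 1
      rw [SubmonoidClass.coe_pow, ← pow_mul, ← pow_succ]
      exact hexp t t.2
    · exact mem_centralizer_iff.1 (hTA (t ^ p ^ a : T).2) b hb
  have hmemI : ∀ t ∈ T, t ^ p ^ a ∈ I := fun t ht =>
    ⟨φ ⟨t, ht⟩, ⟨⟨t, ht⟩, rfl⟩, by simp [φ]⟩
  have hI1 : I ≠ ⊥ := fun e => by
    have h : Monoid.exponent T ∣ p ^ a := Monoid.exponent_dvd_of_forall_pow_eq_one fun t =>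
      Subtype.ext (by
        have := hmemI t t.2
        rw [e, mem_bot] at this
        simpa using this)
    rw [ha'] at h
    exact absurd ((Nat.pow_dvd_pow_iff_le_right hp.out.one_lt).1 h) (by omega)
  have hIn : ∀ n ∈ normalizer (T : Set G), n ∈ normalizer (I : Set G) := fun n hn => by
    refine Uniq.mem_normalizer_of_map_le ?_
    rintro _ ⟨_, ⟨_, ⟨t, rfl⟩, rfl⟩, rfl⟩
    show n * ((t ^ p ^ a : T) : G) * n⁻¹ ∈ I
    rw [SubmonoidClass.coe_pow, show n * (t : G) ^ p ^ a * n⁻¹ = (n * t * n⁻¹) ^ p ^ a from map_pow (MulAut.conj n) _ _]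
    exact hmemI _ ((mem_normalizer_iff.1 hn _).1 t.2)
  obtain ⟨L, hLI, hL, hgL, hLfix⟩ : ∃ L : Subgroup G, L ≤ I ∧ Nat.card L = p ∧ g ∈ normalizer (L : Set G) ∧
      Cfsg.sigmaCore M ⊓ centralizer (L : Set G) = ⊥ := by
    by_cases hIeq : I = A
    · rw [hIeq]
      exact exists_good_invariant hG hM hE hpτ hA hA2 hT hAT hTE hTd hgE hg1 hfix
    obtain ⟨k, hk2, hk⟩ := (Nat.dvd_prime_pow hp.out).1 (hA2 ▸ card_dvd_of_le hIA)
    interval_cases k
    · exact absurd (eq_bot_of_card_eq _ (by rw [hk, pow_zero])) hI1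
    · refine ⟨I, le_rfl, by rw [hk, pow_one], hIn g hgT, by_contra fun hne => ?_⟩
      have hNI := good_normalizer_le hG hA hA2 hM hAM hpσ hmax hIA (by rw [hk, pow_one]) hne
      refine hpσ ⟨hp.out, (dvd_pow_self p two_ne_zero).trans (hA2 ▸ card_dvd_of_le hAM),
        (hT.comap_subtype (K := M)).toSylow hTMd, ?_⟩
      show normalizer (((T.subgroupOf M).map M.subtype : Subgroup G) : Set G) ≤ M
      rw [map_subgroupOf_eq_of_le (hTE.trans hE.1)]
      exact fun n hn => hNI (hIn n hn)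
    · exact absurd (eq_of_le_of_card_ge hIA (by rw [hk, hA2])) hIeq
  obtain ⟨ℓ, hℓ, hℓ1⟩ := (bot_or_exists_ne_one L).resolve_left fun e => hp.out.ne_one (by rw [← hL, e, card_bot])
  have hℓo : orderOf ℓ = p := orderOf_eq_prime (hA.2 ℓ (hIA (hLI hℓ))) hℓ1
  have hℓL : zpowers ℓ = L := eq_of_le_of_card_ge (zpowers_le.2 hℓ) (by rw [Nat.card_zpowers, hℓo, hL])
  obtain ⟨c, hc⟩ := exists_nat_pow (hℓL ▸ (mem_normalizer_iff.1 hgL ℓ).1 hℓ : g * ℓ * g⁻¹ ∈ zpowers ℓ)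
  set d := orderOf g
  have hdp : ¬ p ∣ d := fun h => hr1 (hg1 p hp.out h).2.2.2.2
  have hcd : c ^ d ≡ 1 [MOD p] := by
    have h := conj_pow_eq hc d
    rw [pow_orderOf_eq_one, one_mul, inv_one, mul_one] at h
    have h' : ℓ ^ 1 = ℓ ^ c ^ d := by rwa [pow_one]
    rw [pow_eq_pow_iff_modEq, hℓo] at h'
    exact h'.symm
  set c' := c ^ p ^ a with hc'
  have hc'p : c' ≡ c [MOD p] := by
    rw [← ZMod.natCast_eq_natCast_iff, hc', Nat.cast_pow]
    exact ZMod.pow_card_pow (c : ZMod p)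
  have hc'd : c' ^ d ≡ 1 [MOD p ^ (a + 1)] := by
    rw [hc', ← pow_mul, mul_comm, pow_mul]
    have h := dvd_sub_pow_of_dvd_sub (R := ℤ) (Nat.modEq_iff_dvd.1 hcd.symm) a
    rw [Nat.cast_one, one_pow] at h
    exact (Nat.modEq_iff_dvd.2 (by push_cast at h ⊢; exact h)).symm
  obtain ⟨_, ⟨x, rfl⟩, hxℓ⟩ := hLI hℓ
  have hxℓ' : (x : G) ^ p ^ a = ℓ := by rw [← hxℓ]; simp [φ]
  obtain ⟨y, hy, hgy, hZ⟩ := exists_eigen hTc hgT x.2 (n := p ^ (a + 1)) hexp (d := d)
    (by rw [pow_orderOf_eq_one]; exact one_mem _) hc'd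
  let Z : Subgroup G := φ.ker.map T.subtype
  have hZmem : ∀ t ∈ Z, t ^ p ^ a = 1 := by
    rintro _ ⟨t, ht, rfl⟩
    exact congrArg Subtype.val (MonoidHom.mem_ker.1 ht)
  have hmemZ : ∀ t ∈ T, t ^ p ^ a = 1 → t ∈ Z := fun t ht h1 =>
    ⟨⟨t, ht⟩, MonoidHom.mem_ker.2 (Subtype.ext h1), rfl⟩
  have hgZ : g ∈ normalizer (Z : Set G) := by
    refine Uniq.mem_normalizer_of_map_le ?_
    rintro _ ⟨t, ht, rfl⟩
    refine hmemZ _ ((mem_normalizer_iff.1 hgT _).1 (map_subtype_le _ ht)) ?_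
    rw [← map_pow, hZmem t ht, map_one]
  have hcomT : ∀ {s t : G}, s ∈ T → t ∈ T → Commute s t := fun hs ht =>
    congrArg Subtype.val (hTc.is_comm.comm ⟨_, hs⟩ ⟨_, ht⟩)
  have hgx : g * x * g⁻¹ ∈ T := (mem_normalizer_iff.1 hgT _).1 x.2
  have hxZ : g * x * g⁻¹ * ((x : G) ^ c')⁻¹ ∈ Z := by
    refine hmemZ _ (mul_mem hgx (inv_mem (pow_mem x.2 _))) ?_
    rw [(hcomT hgx (inv_mem (pow_mem x.2 _))).mul_pow, inv_pow, ← pow_mul, mul_comm c' (p ^ a), pow_mul, hxℓ',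
      show (g * (x : G) * g⁻¹) ^ p ^ a = g * (x : G) ^ p ^ a * g⁻¹ from (map_pow (MulAut.conj g) _ _).symm, hxℓ', hc,
      mul_inv_eq_one]
    exact pow_eq_pow_iff_modEq.2 (by rw [hℓo]; exact hc'p.symm)
  have hmem := hZ Z (map_subtype_le _) hgZ hxZ
  have hy' : y ^ p ^ a = ℓ ^ (d * c' ^ (d - 1)) := by
    have h1 := hZmem _ hmem
    rw [(hcomT hy (inv_mem (pow_mem x.2 _))).mul_pow, inv_pow, mul_inv_eq_one, ← pow_mul,
      mul_comm (d * c' ^ (d - 1)) (p ^ a), pow_mul, hxℓ'] at h1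
    exact h1
  have hnd : ¬ p ∣ d * c' ^ (d - 1) := fun hd => by
    rcases hp.out.dvd_mul.1 hd with h' | h'
    · exact hdp h'
    · have h1 : p ∣ c ^ d := dvd_pow ((hc'p.dvd_iff dvd_rfl).1 (hp.out.dvd_of_dvd_pow h')) (orderOf_pos g).ne'
      exact hp.out.one_lt.ne' (Nat.dvd_one.1 ((hcd.dvd_iff dvd_rfl).1 h1))
  have hy1 : y ^ p ^ a ≠ 1 := fun e => hnd (hℓo ▸ orderOf_dvd_of_pow_eq_one (hy' ▸ e))
  refine ⟨y, a, hy, orderOf_eq_prime_pow hy1 (hexp y hy), hexp, Uniq.mem_normalizer_of_map_le ?_, ?_⟩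
  · rw [MonoidHom.map_zpowers, zpowers_le]
    show g * y * g⁻¹ ∈ zpowers y
    rw [hgy]
    exact pow_mem (mem_zpowers y) c'
  · have e : zpowers (y ^ p ^ a) = L := by
      rw [← hℓL]
      refine eq_of_le_of_card_ge (zpowers_le.2 (hy' ▸ pow_mem (mem_zpowers ℓ) _)) ?_
      rw [Nat.card_zpowers, Nat.card_zpowers, hℓo, orderOf_eq_prime (p := p) (by
        rw [← pow_mul, ← pow_succ, hexp y hy]) hy1]
    refine le_bot_iff.1 (le_trans ?_ hLfix.le)
    rw [← e]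
    exact inf_le_inf_left _ (FixedLine.le_centralizer_zpowers le_rfl)

end CfsgLib.OddLocal.Tau
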