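import Cfsg.Agent.OddLocal.KappaDecomp
import Cfsg.Agent.OddLocal.TauTwoLines
import Cfsg.Agent.S1421

/-!
The stabilizers in `U` of points of `M_σ`.
-/

set_option autoImplicit false
set_option linter.style.haveILetI false
set_option linter.unusedSectionVars false

namespace CfsgLib.OddLocal.Kap

open Subgroup Cfsg CfsgLib.OddLocal
open scoped commutatorElement Pointwise

universe u

variable {G : Type u} [Group G] [Finite G]

variable (hG : Cfsg.IsMinSimpleOddOrder G)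
include hG

/-- An element of largest order of a full `p`-subgroup, `p ∈ τ₂(M)`, whose element of order `p` is fixed-point
free. -/
theorem exists_cyclic_fpf {M E T : Subgroup G} (hM : IsCoatom M) (hE : Cfsg.IsComplIn E (Cfsg.sigmaCore M) M)
    {p : ℕ} [hp : Fact p.Prime] (hpτ : p ∈ Cfsg.tau2 M) (hT : IsPGroup p T) (hTE : T ≤ E)
    (hTd : ¬ p ∣ T.relIndex E) :
    ∃ (y : G) (a : ℕ), y ∈ T ∧ orderOf y = p ^ (a + 1) ∧ (∀ t ∈ T, t ^ p ^ (a + 1) = 1) ∧
      Cfsg.sigmaCore M ⊓ centralizer ({y ^ p ^ a} : Set G) = ⊥ := by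
  classical
  obtain ⟨-, hpσ, hr2, hr1⟩ := id hpτ
  obtain ⟨A, T', hA, hA2, hT', hAT', hTT', hT'E, hT'd⟩ := Tau.exists_sylow_data hG hM hE hpτ hT hTE
  have hTeq : T = T' := eq_of_le_of_card_ge hTT' (Nat.le_of_dvd Nat.card_pos
    ((Nat.Coprime.dvd_mul_right (Excep.coprime_of_pgroup hT' hTd)).1 (by
      rw [CfsgLib.InvariantHall.relIndex_mul_card hTE]
      exact card_dvd_of_le hT'E)))
  subst hTeq
  obtain ⟨hTc, hTA, hTMd⟩ := Tau.tau_two_sylow hG hM hE hpτ hA hA2 hT hAT' hTE hTd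
  have hAM : A ≤ M := (hAT'.trans hTE).trans hE.1
  have hmax := (Cfsg.Agent.S1408.result hG M hM p hpσ hr2 hr1).2 A hAM hA hA2
  obtain ⟨a', ha'⟩ : ∃ a, Monoid.exponent T = p ^ a := by
    obtain ⟨k, hk⟩ := IsPGroup.iff_card.1 hT
    exact (Nat.dvd_prime_pow hp.out).1 (hk ▸ Group.exponent_dvd_nat_card) |>.imp fun a h => h.2
  obtain ⟨a, rfl⟩ : ∃ a, a' = a + 1 := by
    refine ⟨a' - 1, (Nat.succ_pred_eq_of_ne_zero fun h0 => ?_).symm⟩
    refine Tau.ne_bot hA hA2 (le_bot_iff.1 fun x hx => ?_)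
    have := Monoid.pow_exponent_eq_one (⟨x, hAT' hx⟩ : T)
    rw [ha', h0, pow_zero, pow_one] at this
    exact mem_bot.2 (congrArg Subtype.val this)
  have hexp : ∀ t ∈ T, t ^ p ^ (a + 1) = 1 := fun t ht => by
    have := Monoid.pow_exponent_eq_one (⟨t, ht⟩ : T)
    rw [ha'] at this
    exact congrArg Subtype.val this
  letI : CommGroup T := { (inferInstance : Group T) with mul_comm := hTc.is_comm.comm }
  let φ : T →* T := powMonoidHom (p ^ a)
  set I := φ.range.map T.subtype with hI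
  have hmemI : ∀ t ∈ T, t ^ p ^ a ∈ I := fun t ht => ⟨φ ⟨t, ht⟩, ⟨⟨t, ht⟩, rfl⟩, by simp [φ]⟩
  have hIA : I ≤ A := by
    rintro _ ⟨_, ⟨t, rfl⟩, rfl⟩
    refine Excep.mem_of_commute hA hmax ?_ fun b hb => ?_
    · show ((t ^ p ^ a : T) : G) ^ p = 1
      rw [SubmonoidClass.coe_pow, ← pow_mul, ← pow_succ]
      exact hexp t t.2
    · exact mem_centralizer_iff.1 (hTA (t ^ p ^ a : T).2) b hb
  have hI1 : I ≠ ⊥ := fun e => by
    have h : Monoid.exponent T ∣ p ^ a := Monoid.exponent_dvd_of_forall_pow_eq_one fun t =>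
      Subtype.ext (by
        have := hmemI t t.2
        rw [e, mem_bot] at this
        simpa using this)
    rw [ha'] at h
    exact absurd ((Nat.pow_dvd_pow_iff_le_right hp.out.one_lt).1 h) (by omega)
  obtain ⟨L, hLI, hL, hLfix⟩ : ∃ L : Subgroup G, L ≤ I ∧ Nat.card L = p ∧
      Cfsg.sigmaCore M ⊓ centralizer (L : Set G) = ⊥ := by
    by_cases hIeq : I = A
    · obtain ⟨X, -, hX, hXc, -, -, -, hXfix, -⟩ := Tau.exists_two_fpf hG hA hA2 hM hAM hpσ hmax
      exact ⟨X, hIeq ▸ hX, hXc, hXfix⟩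
    obtain ⟨k, hk2, hk⟩ := (Nat.dvd_prime_pow hp.out).1 (hA2 ▸ card_dvd_of_le hIA)
    interval_cases k
    · exact absurd (eq_bot_of_card_eq _ (by rw [hk, pow_zero])) hI1
    · refine ⟨I, le_rfl, by rw [hk, pow_one], by_contra fun hne => ?_⟩
      have hNI := Tau.good_normalizer_le hG hA hA2 hM hAM hpσ hmax hIA (by rw [hk, pow_one]) hne
      refine hpσ ⟨hp.out, (dvd_pow_self p two_ne_zero).trans (hA2 ▸ card_dvd_of_le hAM),
        (hT.comap_subtype (K := M)).toSylow hTMd, ?_⟩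
      show normalizer (((T.subgroupOf M).map M.subtype : Subgroup G) : Set G) ≤ M
      rw [map_subgroupOf_eq_of_le (hTE.trans hE.1)]
      refine fun n hn => hNI (Uniq.mem_normalizer_of_map_le ?_)
      rintro _ ⟨_, ⟨_, ⟨t, rfl⟩, rfl⟩, rfl⟩
      show n * ((t ^ p ^ a : T) : G) * n⁻¹ ∈ I
      rw [SubmonoidClass.coe_pow,
        show n * (t : G) ^ p ^ a * n⁻¹ = (n * t * n⁻¹) ^ p ^ a from map_pow (MulAut.conj n) _ _]
      exact hmemI _ ((mem_normalizer_iff.1 hn _).1 t.2)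
    · exact absurd (eq_of_le_of_card_ge hIA (by rw [hk, hA2])) hIeq
  obtain ⟨ℓ, hℓ, hℓ1⟩ := (bot_or_exists_ne_one L).resolve_left fun e => hp.out.ne_one (by rw [← hL, e, card_bot])
  have hℓo : orderOf ℓ = p := orderOf_eq_prime (hA.2 ℓ (hIA (hLI hℓ))) hℓ1
  have hℓL : zpowers ℓ = L := eq_of_le_of_card_ge (zpowers_le.2 hℓ) (by rw [Nat.card_zpowers, hℓo, hL])
  obtain ⟨_, ⟨x, rfl⟩, hxℓ⟩ := hLI hℓ
  have hxℓ' : (x : G) ^ p ^ a = ℓ := by rw [← hxℓ]; simp [φ]
  refine ⟨x, a, x.2, orderOf_eq_prime_pow ?_ (hexp x x.2), hexp, ?_⟩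
  · rw [hxℓ']
    exact hℓ1
  · rw [hxℓ']
    exact le_bot_iff.1 ((inf_le_inf_left _ (hℓL ▸ FixedLine.le_centralizer_zpowers le_rfl)).trans hLfix.le)

/-- The part `U` is abelian when `K ≠ 1`. -/
theorem decomp_commutative {M K U : Subgroup G} (hM : IsCoatom M) (hKU : Cfsg.IsSigmaDecomposition M K U)
    (hK1 : K ≠ ⊥) : IsMulCommutative U := by
  set S := Cfsg.sigmaCore M with hS
  obtain ⟨E, U₀, -, -, -, -, hU₀c, hU₀H, -, -, -, -, -⟩ := kappa_data hG hM hKU.hall hK1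
  have hUH := decomp_hall hG hM hKU
  have hU₀U : ∃ g : G, U.map (MulAut.conj g).toMonoidHom ≤ U₀ := by
    haveI := solvable_le hG hM (le_refl M)
    obtain ⟨X, hXc, hX⟩ := CfsgLib.Hall.hall (G := M) (a := Nat.card U₀) (b := U₀.relIndex M)
      (CfsgLib.InvariantHall.relIndex_mul_card hU₀H.1).symm (CfsgLib.InvariantHall.coprime_of_isPiHallOf hU₀H)
    obtain ⟨g₁, hg₁⟩ := hX (U.subgroupOf M) (by
      rw [Nat.card_congr (subgroupOfEquivOfLe hUH.1).toEquiv]
      exact Nat.coprime_of_dvd fun r hr h1 h2 => hU₀H.2.2 r hr (hUH.2.1 r hr h1) h2)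
    obtain ⟨g₂, hg₂⟩ := CfsgLib.Hall.hall_conj (G := M) (a := Nat.card U₀) (b := U₀.relIndex M)
      (CfsgLib.InvariantHall.relIndex_mul_card hU₀H.1).symm (CfsgLib.InvariantHall.coprime_of_isPiHallOf hU₀H)
      hXc (Nat.card_congr (subgroupOfEquivOfLe hU₀H.1).toEquiv)
    refine ⟨g₂ * g₁, ?_⟩
    rintro _ ⟨y, hy, rfl⟩
    have h2 : MulAut.conj (g₂ * g₁) • (⟨y, hUH.1 hy⟩ : M) ∈ U₀.subgroupOf M := by
      rw [map_mul, mul_smul, ← hg₂]
      exact smul_mem_pointwise_smul _ _ _ (hg₁ (smul_mem_pointwise_smul _ _ _ hy))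
    exact h2
  obtain ⟨g, hg⟩ := hU₀U
  haveI := hU₀c
  exact ⟨⟨fun a b => Subtype.ext ((MulAut.conj g).injective (by
    have h := congrArg Subtype.val (mul_comm' (⟨_, hg ⟨a, a.2, rfl⟩⟩ : U₀) ⟨_, hg ⟨b, b.2, rfl⟩⟩)
    rw [Subgroup.coe_mul, Subgroup.coe_mul, map_mul, map_mul]
    exact h))⟩⟩

/-- A subgroup of `U` of full exponent acting without fixed points, and the stabilizers of points commute. -/
theorem decomp_stabilizers {M K U : Subgroup G} (hM : IsCoatom M) (hKU : Cfsg.IsSigmaDecomposition M K U) :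
    IsMulCommutative (closure ((U : Set G) ∩ Cfsg.sigmaHat M)) ∧
      ∃ U₀ : Subgroup G, U₀ ≤ U ∧ Monoid.exponent U₀ = Monoid.exponent U ∧
        ∀ u ∈ U₀, u ∈ Cfsg.sigmaHat M → u = 1 := by
  classical
  have hUH := decomp_hall hG hM hKU
  have hhat : ∀ {u : G}, u ∈ Cfsg.sigmaHat M → Cfsg.sigmaCore M ⊓ centralizer ({u} : Set G) ≠ ⊥ := by
    rintro u ⟨-, y, hy, hy1, huy⟩ e
    exact hy1 (mem_bot.1 (e.le ⟨hy, mem_centralizer_singleton_iff.2 huy.symm⟩))
  by_cases hK1 : K = ⊥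
  · have hE : Cfsg.IsComplIn U (Cfsg.sigmaCore M) M := by
      have h := hKU.compl
      rwa [hK1, bot_sup_eq] at h
    have hfix : ∀ e ∈ U, e ≠ 1 → (∀ p : ℕ, p.Prime → p ∣ orderOf e → p ∈ Cfsg.tau1 M ∪ Cfsg.tau3 M) →
        Cfsg.sigmaCore M ⊓ centralizer ({e} : Set G) = ⊥ := by
      intro e he he1 hτ
      obtain ⟨q, hq, hqd⟩ := Nat.exists_prime_and_dvd (n := orderOf e) fun h => he1 (orderOf_eq_one_iff.1 h)
      haveI := Fact.mk hq
      set x := e ^ (orderOf e / q)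
      have hxo : orderOf x = q := orderOf_pow_orderOf_div (orderOf_pos e).ne' hqd
      refine le_bot_iff.1 (le_trans (inf_le_inf_left _ ?_) (le_of_eq (by_contra fun hne => ?_ :
        Cfsg.sigmaCore M ⊓ centralizer ({x} : Set G) = ⊥)))
      · exact fun c hc => mem_centralizer_singleton_iff.2
          ((show Commute c e from mem_centralizer_singleton_iff.1 hc).pow_right _).eq
      have hxU : x ∈ U := pow_mem he _
      refine (hUH.2.1 q hq (dvd_of_mem hxU hxo)).2.1 (mem_kappa hG hM (hUH.2.1 q hq (dvd_of_mem hxU hxo)).2.2 ?_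
        (hUH.1 hxU) hxo hne)
      rcases hτ q hq hqd with h | h
      · exact h.2.2.2.2
      · exact h.2.2.2
    obtain ⟨⟨A₀, hA₀U, -, hA₀c, hA₀⟩, E₀, hE₀U, hE₀e, hE₀⟩ := Cfsg.Agent.S1421.result hG M hM U hE hfix
    refine ⟨?_, E₀, hE₀U, hE₀e, fun u hu hhu => by_contra fun hu1 => hhat hhu (hE₀ u hu hu1)⟩
    have hle : closure ((U : Set G) ∩ Cfsg.sigmaHat M) ≤ A₀ := (closure_le _).2 fun u ⟨huU, hu'⟩ => by
      obtain ⟨-, y, hy, hy1, huy⟩ := hu'
      exact hA₀ y hy hy1 ⟨huU, mem_centralizer_singleton_iff.2 huy⟩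
    haveI := hA₀c
    exact ⟨⟨fun a b => Subtype.ext (show (a : G) * b = b * a from
      congrArg Subtype.val (mul_comm' (⟨_, hle a.2⟩ : A₀) ⟨_, hle b.2⟩))⟩⟩
  haveI hUc := decomp_commutative hG hM hKU hK1
  refine ⟨?_, ?_⟩
  · have hle : closure ((U : Set G) ∩ Cfsg.sigmaHat M) ≤ U := (closure_le _).2 Set.inter_subset_left
    exact ⟨⟨fun a b => Subtype.ext (show (a : G) * b = b * a from
      congrArg Subtype.val (mul_comm' (⟨_, hle a.2⟩ : U) ⟨_, hle b.2⟩))⟩⟩
  obtain ⟨E, hE, hUE⟩ := Tau.exists_complement_of hG hM hUH.1 fun q hq hd => (hUH.2.1 q hq hd).2.2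
  letI : CommGroup U := { (inferInstance : Group U) with mul_comm := hUc.is_comm.comm }
  set N := Monoid.exponent U with hN
  have hN0 : N ≠ 0 := Monoid.exponent_ne_zero_of_finite
  obtain ⟨w, hw⟩ := Monoid.exists_orderOf_eq_exponent (G := U) Monoid.ExponentExists.of_finite
  have hex : ∀ q : ℕ, ∃ y : U, q ∈ N.primeFactors → orderOf y = q ^ N.factorization q ∧
      Cfsg.sigmaCore M ⊓ centralizer ({((y : G) ^ q ^ (N.factorization q - 1))} : Set G) = ⊥ := by
    intro q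
    by_cases hqN : q ∈ N.primeFactors
    swap
    · exact ⟨1, fun h => absurd h hqN⟩
    have hq := Nat.prime_of_mem_primeFactors hqN
    haveI := Fact.mk hq
    have hk : N.factorization q ≠ 0 := Nat.pos_iff_ne_zero.1
      (hq.factorization_pos_of_dvd hN0 (Nat.dvd_of_mem_primeFactors hqN))
    obtain ⟨j, hj⟩ := Nat.exists_eq_succ_of_ne_zero hk
    have hdw : q ^ N.factorization q ∣ orderOf w := hw ▸ Nat.ordProj_dvd N q
    set y := w ^ (orderOf w / q ^ N.factorization q)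
    have hyo : orderOf y = q ^ N.factorization q := orderOf_pow_orderOf_div (orderOf_pos w).ne' hdw
    have hyo' : orderOf (y : G) = q ^ (j + 1) := by rw [orderOf_coe, hyo, hj]
    have hqπ := hUH.2.1 q hq ((dvd_pow_self q (Nat.succ_ne_zero j)).trans (dvd_of_mem y.2 hyo'))
    by_cases hr : Cfsg.PRankLE q 1 M
    · refine ⟨y, fun _ => ⟨hyo, by_contra fun hne => hqπ.2.1 ?_⟩⟩
      rw [show N.factorization q - 1 = j by omega] at hne
      exact mem_kappa hG hM hqπ.2.2 hr (pow_mem (hUH.1 y.2) _) (orderOf_pow_bottom hyo') hne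
    have hτ : q ∈ Cfsg.tau2 M :=
      ⟨hq, hqπ.2.2, by_contra fun h => hqπ.2.2 (Sig.alpha_subset_sigma hG hM ⟨hq, h⟩), hr⟩
    obtain ⟨P⟩ : Nonempty (Sylow q U) := inferInstance
    set T := (P : Subgroup U).map U.subtype
    have hTd : ¬ q ∣ T.relIndex E := by
      rw [← relIndex_mul_relIndex T U E (map_subtype_le _) hUE]
      intro hd
      rcases hq.dvd_mul.1 hd with h | h
      · rw [relIndex, ← comap_subtype, comap_map_eq_self_of_injective U.subtype_injective] at h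
        exact P.not_dvd_index h
      · exact hUH.2.2 q hq hqπ (h.trans (Dvd.intro _ (relIndex_mul_relIndex U E M hUE hE.1)))
    obtain ⟨z, a, hzT, hzo, hexp, hzfix⟩ :=
      exists_cyclic_fpf hG hM hE hτ (P.2.map _) ((map_subtype_le _).trans hUE) hTd
    have hzU : z ∈ U := map_subtype_le _ hzT
    have ha : a + 1 = N.factorization q := by
      refine le_antisymm ((hq.pow_dvd_iff_le_factorization hN0).1 ?_) ?_
      · rw [← hzo, ← orderOf_mk z hzU]
        exact Monoid.order_dvd_exponent _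
      · haveI : (P : Subgroup U).Normal := inferInstance
        have hyP : y ∈ (P : Subgroup U) := zpowers_le.1 (Beta.le_of_coprime_index (by
          rw [Nat.card_zpowers, hyo]
          exact (hq.coprime_iff_not_dvd.2 P.not_dvd_index).pow_left _))
        have h := orderOf_dvd_of_pow_eq_one (hexp (y : G) (mem_map_of_mem U.subtype hyP))
        rw [hyo'] at h
        have := (Nat.pow_dvd_pow_iff_le_right hq.one_lt).1 h
        omega
    refine ⟨⟨z, hzU⟩, fun _ => ⟨?_, ?_⟩⟩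
    · rw [orderOf_mk, hzo, ha]
    · rw [show N.factorization q - 1 = a by omega]
      exact hzfix
  choose y hy using hex
  set z : U := ∏ q ∈ N.primeFactors, y q with hz
  have hkill : ∀ q ∈ N.primeFactors, ∀ r ∈ N.primeFactors, r ≠ q → y r ^ (N / q) = 1 := by
    intro q hq r hr hrq
    refine orderOf_dvd_iff_pow_eq_one.1 ((hy r hr).1 ▸ ?_)
    refine Nat.Coprime.dvd_of_dvd_mul_left (Nat.Coprime.pow_left _ ((Nat.coprime_primes
      (Nat.prime_of_mem_primeFactors hr) (Nat.prime_of_mem_primeFactors hq)).2 hrq)) ?_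
    rw [Nat.mul_div_cancel' (Nat.dvd_of_mem_primeFactors hq)]
    exact Nat.ordProj_dvd N r
  have hzq : ∀ q ∈ N.primeFactors, z ^ (N / q) = y q ^ (N / q) := by
    intro q hq
    rw [hz, ← Finset.prod_pow]
    exact Finset.prod_eq_single_of_mem q hq fun r hr hrq => hkill q hq r hr hrq
  have hpart : ∀ q ∈ N.primeFactors, ∃ m : ℕ, ¬ q ∣ m ∧ N / q = q ^ (N.factorization q - 1) * m := by
    intro q hq
    have hqp := Nat.prime_of_mem_primeFactors hq
    refine ⟨N / q ^ N.factorization q, Nat.not_dvd_ordCompl hqp hN0, ?_⟩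
    have hk : N.factorization q - 1 + 1 = N.factorization q :=
      Nat.succ_pred_eq_of_ne_zero (Nat.pos_iff_ne_zero.1
        (hqp.factorization_pos_of_dvd hN0 (Nat.dvd_of_mem_primeFactors hq)))
    refine Nat.div_eq_of_eq_mul_right hqp.pos ?_
    rw [← mul_assoc, ← pow_succ', hk, Nat.ordProj_mul_ordCompl_eq_self]
  have hbot : ∀ q ∈ N.primeFactors, orderOf (y q ^ q ^ (N.factorization q - 1)) = q := by
    intro q hq
    have hqp := Nat.prime_of_mem_primeFactors hq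
    haveI := Fact.mk hqp
    refine orderOf_pow_bottom ?_
    have := hqp.factorization_pos_of_dvd hN0 (Nat.dvd_of_mem_primeFactors hq)
    rw [(hy q hq).1, show N.factorization q - 1 + 1 = N.factorization q by omega]
  have hzne : ∀ q ∈ N.primeFactors, z ^ (N / q) ≠ 1 := by
    intro q hq h1
    obtain ⟨m, hm, e⟩ := hpart q hq
    rw [hzq q hq, e, pow_mul] at h1
    exact hm (hbot q hq ▸ orderOf_dvd_of_pow_eq_one h1)
  have hzo : orderOf z = N := orderOf_eq_of_pow_and_pow_div_prime (Nat.pos_of_ne_zero hN0)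
    (Monoid.pow_exponent_eq_one z) fun q hq hqd =>
      hzne q (Nat.mem_primeFactors.2 ⟨hq, hqd, hN0⟩)
  refine ⟨zpowers (z : G), zpowers_le.2 z.2, ?_, fun u hu hhu => by_contra fun hu1 => hhat hhu ?_⟩
  · rw [IsCyclic.exponent_eq_card, Nat.card_zpowers, orderOf_coe, hzo]
  obtain ⟨q, hq, x, hx, hxo, hux⟩ := exists_prime_root hu hu1
  haveI := Fact.mk hq
  have hqN : q ∈ N.primeFactors := Nat.mem_primeFactors.2
    ⟨hq, by rw [← hzo, ← orderOf_coe, ← hxo]; exact orderOf_dvd_of_mem_zpowers hx, hN0⟩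
  obtain ⟨m, hm, e⟩ := hpart q hqN
  have hv : ((z : G)) ^ (N / q) = ((y q : G) ^ q ^ (N.factorization q - 1)) ^ m := by
    rw [← SubmonoidClass.coe_pow, hzq q hqN, e, pow_mul, SubmonoidClass.coe_pow, SubmonoidClass.coe_pow]
  have hvo : orderOf ((z : G) ^ (N / q)) = q := by
    rw [← orderOf_coe, ← SubmonoidClass.coe_pow] at *
    refine orderOf_eq_prime ?_ ?_
    · rw [SubmonoidClass.coe_pow, ← pow_mul, Nat.div_mul_cancel (Nat.dvd_of_mem_primeFactors hqN), ← hzo]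
      exact orderOf_dvd_iff_pow_eq_one.1 (by simp)
    · intro h1
      exact hzne q hqN (Subtype.ext (by simpa using h1))
  have hxe : zpowers x = zpowers ((z : G) ^ (N / q)) :=
    UTool.zpowers_eq_of_cyclic inferInstance hx (pow_mem (mem_zpowers _) _) hxo hvo
  refine le_bot_iff.1 (le_trans (inf_le_inf_left _ (hux.trans ?_)) (hy q hqN).2.le)
  have hyv : (y q : G) ^ q ^ (N.factorization q - 1) ∈ zpowers ((z : G) ^ (N / q)) := by
    have hle : zpowers ((z : G) ^ (N / q)) ≤ zpowers ((y q : G) ^ q ^ (N.factorization q - 1)) :=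
      zpowers_le.2 (hv ▸ pow_mem (mem_zpowers _) m)
    rw [eq_of_le_of_card_ge hle (by
      rw [Nat.card_zpowers, Nat.card_zpowers, hvo, ← SubmonoidClass.coe_pow, orderOf_coe, hbot q hqN])]
    exact mem_zpowers _
  obtain ⟨i, hi⟩ := mem_zpowers_iff.1 (hxe.ge hyv)
  exact fun c hc => mem_centralizer_singleton_iff.2
    (hi ▸ (show Commute c x from mem_centralizer_singleton_iff.1 hc).zpow_right i).eq

end CfsgLib.OddLocal.Kap
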