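import Cfsg.Agent.OddLocal.KappaNonNilpotent
import Cfsg.Agent.OddLocal.BetaCore
import Cfsg.Agent.Solvable.PGroupBasic

/-!
BG 15.2: the structure of `M` when `M_σ` is not nilpotent.
-/

set_option autoImplicit false
set_option linter.style.haveILetI false
set_option linter.unusedSectionVars false

namespace CfsgLib.OddLocal.Kap

open Subgroup Cfsg CfsgLib.OddLocal
open scoped commutatorElement Pointwise

universe u

variable {G : Type u} [Group G] [Finite G]
variable (hG : Cfsg.IsMinSimpleOddOrder G)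
include hG

section Main

variable {M H : Subgroup G} (hM : IsCoatom M) (hH : Cfsg.IsPiHallOf (Cfsg.kappa M) H M)
  (hnn : ¬ Group.IsNilpotent (Cfsg.sigmaCore M)) {q : ℕ} [hq : Fact q.Prime] (hqs : Nat.card ↥(star M H) = q)
include hM hH hnn hqs


theorem deficient_star_qc : star M H ≤ (Bender.qc q (Cfsg.sigmaCore M)) := by
  subst hqs
  exact deficient_star_le hG hM hH hnn

theorem deficient_mem_sigma : q ∈ Cfsg.sigma M :=
  (Sig.sigma_core hG hM).1.2.1 q hq.out (hqs ▸ card_dvd_of_le inf_le_left)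

theorem deficient_q_normal : M ≤ normalizer ((Bender.qc q (Cfsg.sigmaCore M)) : Set G) :=
  (TH.le_normalizer_core M).trans (UTool.normalizer_le_normalizer_map _ _ (PLenZ.characteristic_pCore q))

theorem deficient_q_sylow : ¬ q ∣ (Bender.qc q (Cfsg.sigmaCore M)).relIndex (Cfsg.sigmaCore M) := by
  subst hqs
  exact deficient_sylow hG hM hH hnn

theorem deficient_q_sylow_M : ¬ q ∣ (Bender.qc q (Cfsg.sigmaCore M)).relIndex M := by
  rw [← relIndex_mul_relIndex _ (Cfsg.sigmaCore M) M (Bender.qc_le q _) (map_subtype_le _)]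
  exact fun h => (hq.out.dvd_mul.1 h).elim (deficient_q_sylow hG hM hH hnn hqs)
    fun h => (Sig.sigma_core hG hM).1.2.2 q hq.out (deficient_mem_sigma hG hM hH hnn hqs) h

theorem deficient_q_le_fittingHall : (Bender.qc q (Cfsg.sigmaCore M)) ≤ Cfsg.fittingHallOf M :=
  FittingHall.le_of ((Bender.qc_le q _).trans (map_subtype_le _)) (deficient_q_normal hG hM hH hnn hqs)
    (Bender.isPGroup_qc _).isNilpotent
    (Excep.coprime_of_pgroup (Bender.isPGroup_qc _) (deficient_q_sylow_M hG hM hH hnn hqs))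

/-- A complement to `Q` in `M_σ` normalized by `K`, acted on without fixed points. -/
theorem deficient_complement : ∃ D : Subgroup G, Cfsg.IsComplIn (Bender.qc q (Cfsg.sigmaCore M)) D (Cfsg.sigmaCore M) ∧ H ≤ normalizer (D : Set G) ∧
    ¬ q ∣ Nat.card D ∧ (∀ k ∈ H, k ≠ 1 → D ⊓ centralizer ({k} : Set G) = ⊥) ∧ Group.IsNilpotent D := by
  have hH1 := deficient_kappa hG hM hH hnn
  set S := Cfsg.sigmaCore M with hS
  have hSM : S ≤ M := map_subtype_le _
  have hqσ := deficient_mem_sigma hG hM hH hnn hqs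
  obtain ⟨E, hE, hHE⟩ := exists_hall_over (π := {r | r ≠ q}) (solvable_le hG hM le_rfl) hH.1 fun r hr hd e =>
    (hH.2.1 r hr hd).2.2.1 (e ▸ hqσ)
  have hqE : ¬ q ∣ Nat.card E := fun h => hE.2.1 q hq.out h rfl
  have hqD : ¬ q ∣ Nat.card ↥(E ⊓ S) := fun h => hqE (h.trans (card_dvd_of_le inf_le_left))
  have hdis : (Bender.qc q (Cfsg.sigmaCore M)) ⊓ (E ⊓ S) = ⊥ :=
    inf_eq_bot_of_coprime (Excep.coprime_of_pgroup (Bender.isPGroup_qc _) hqD)
  have hn : E ⊓ S ≤ normalizer ((Bender.qc q (Cfsg.sigmaCore M)) : Set G) := inf_le_right.trans (Bender.le_normalizer_qc q S)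
  have hEM : M ≤ E ⊔ (Bender.qc q (Cfsg.sigmaCore M)) := by
    have h1 : (E ⊔ (Bender.qc q (Cfsg.sigmaCore M))).relIndex M = 1 := by
      by_contra h
      obtain ⟨r, hr, hd⟩ := Nat.exists_prime_and_dvd h
      by_cases hrq : r = q
      · exact deficient_q_sylow_M hG hM hH hnn hqs ((dvd_of_eq hrq.symm).trans (hd.trans (relIndex_dvd_of_le_left M le_sup_right)))
      · exact hE.2.2 r hr hrq (hd.trans (relIndex_dvd_of_le_left M le_sup_left))
    exact relIndex_eq_one.1 h1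
  have hprod : ∀ m ∈ S, ∃ a ∈ (Bender.qc q (Cfsg.sigmaCore M)), ∃ b ∈ E ⊓ S, m = a * b := fun m hm => by
    obtain ⟨b, hb, a, ha, hba⟩ := (CfsgLib.Solvable.mem_sup_of_le_normalizer
      (hE.1.trans (deficient_q_normal hG hM hH hnn hqs))).1 (hEM (hSM hm))
    have hbS : b ∈ S := by
      have e : b = m * a⁻¹ := by rw [← hba]; group
      rw [e]
      exact S.mul_mem hm (S.inv_mem (Bender.qc_le q S ha))
    exact ⟨b * a * b⁻¹, (mem_normalizer_iff.1 (deficient_q_normal hG hM hH hnn hqs (hE.1 hb)) a).1 ha,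
      b, ⟨hb, hbS⟩, by rw [← hba]; group⟩
  have hfix : ∀ k ∈ H, k ≠ 1 → E ⊓ S ⊓ centralizer ({k} : Set G) = ⊥ := fun k hk hk1 =>
    (eq_bot_iff_forall _).2 fun y hy => Subgroup.mem_bot.1 (hdis ▸
      ⟨deficient_star_qc hG hM hH hnn hqs ((star_fixed hG hM hH hH1 hk hk1).le ⟨hy.1.2, hy.2⟩), hy.1⟩)
  refine ⟨E ⊓ S, ⟨Bender.qc_le q S, inf_le_right, hdis, hprod⟩, ?_, hqD, hfix, ?_⟩
  · exact le_trans (le_inf (hHE.trans le_normalizer) (hH.1.trans (TH.le_normalizer_core M)))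
      inf_normalizer_le_normalizer_inf
  · obtain ⟨l, hl, k, hk, hko⟩ := exists_order_prime hH1
    haveI := Fact.mk hl
    have hk1 : k ≠ 1 := fun e => hl.ne_one (by rw [← hko, e, orderOf_one])
    set D := E ⊓ S
    have hkD : k ∈ normalizer (D : Set G) := inf_normalizer_le_normalizer_inf
      ⟨le_normalizer (hHE hk), hH.1.trans (TH.le_normalizer_core M) hk⟩
    refine CfsgLib.FPFPrime.isNilpotent (solvable_le hG hM (inf_le_right.trans hSM)) hl
      (D.normalizerMonoidHom ⟨k, hkD⟩) ?_ fun x hx => ?_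
    · rw [← map_pow, show (⟨k, hkD⟩ : normalizer (D : Set G)) ^ l = 1 from Subtype.ext (by
        rw [SubmonoidClass.coe_pow, ← hko, pow_orderOf_eq_one]; rfl), map_one]
    · have h1 : k * (x : G) * k⁻¹ = x := congrArg Subtype.val hx
      exact Subtype.ext (Subgroup.mem_bot.1 (hfix k hk hk1 ▸
        ⟨x.2, mem_centralizer_singleton_iff.2 (mul_inv_eq_iff_eq_mul.1 h1).symm⟩))

theorem deficient_d_le {D : Subgroup G} (hD : Cfsg.IsComplIn (Bender.qc q (Cfsg.sigmaCore M)) D (Cfsg.sigmaCore M)) : D ≤ M :=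
  hD.2.1.trans (map_subtype_le _)

theorem deficient_not_central {D : Subgroup G} (hD : Cfsg.IsComplIn (Bender.qc q (Cfsg.sigmaCore M)) D (Cfsg.sigmaCore M))
    (hn : Group.IsNilpotent D) : ¬ ((Bender.qc q (Cfsg.sigmaCore M)) ≤ centralizer (D : Set G)) := by
  intro h
  refine hnn ?_
  set S := Cfsg.sigmaCore M
  haveI := hn
  haveI := (Bender.isPGroup_qc (s := q) S).isNilpotent
  let f : (↥(Bender.qc q (Cfsg.sigmaCore M)) × ↥D) →* ↥S :=
    { toFun := fun x => ⟨(x.1 : G) * x.2, S.mul_mem (hD.1 x.1.2) (hD.2.1 x.2.2)⟩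
      map_one' := Subtype.ext (by simp)
      map_mul' := fun x y => Subtype.ext (by
        show (x.1 : G) * y.1 * (x.2 * y.2) = x.1 * x.2 * (y.1 * y.2)
        have hc : (x.2 : G) * y.1 = y.1 * x.2 := mem_centralizer_iff.1 (h y.1.2) _ x.2.2
        rw [mul_assoc, ← mul_assoc (y.1 : G), ← hc]; group) }
  refine Group.nilpotent_of_surjective f fun s => ?_
  obtain ⟨a, ha, b, hb, e⟩ := hD.2.2.2 s s.2
  exact ⟨⟨⟨a, ha⟩, ⟨b, hb⟩⟩, Subtype.ext e.symm⟩

section Formula

variable {D : Subgroup G} (hD : Cfsg.IsComplIn (Bender.qc q (Cfsg.sigmaCore M)) D (Cfsg.sigmaCore M)) (hHD : H ≤ normalizer (D : Set G))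
  (hqD : ¬ q ∣ Nat.card D) (hfpf : ∀ k ∈ H, k ≠ 1 → D ⊓ centralizer ({k} : Set G) = ⊥)
  (hDn : Group.IsNilpotent D)
include hD hHD hqD hfpf hDn

/-- The formula on an `M`-invariant subgroup of `Q`, for a subgroup of `K`. -/
theorem deficient_count {N : Subgroup G} (hNQ : N ≤ (Bender.qc q (Cfsg.sigmaCore M))) (hNM : M ≤ normalizer (N : Set G)) {L : Subgroup G}
    (hLH : L ≤ H) (hL1 : L ≠ ⊥) :
    Nat.card ↥(N ⊓ star M H ⊓ centralizer (D : Set G)) ^ Nat.card L * Nat.card N =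
      Nat.card ↥(N ⊓ star M H) ^ Nat.card L * Nat.card ↥(N ⊓ centralizer (D : Set G)) := by
  have hH1 := deficient_kappa hG hM hH hnn
  have hqσ := deficient_mem_sigma hG hM hH hnn hqs
  have hfixL : N ⊓ centralizer (L : Set G) = N ⊓ star M H := by
    refine le_antisymm (le_inf inf_le_left ?_) (inf_le_inf_left N (inf_le_right.trans (centralizer_le hLH)))
    obtain ⟨l, hl, hl1⟩ := (bot_or_exists_ne_one L).resolve_left hL1
    exact fun y hy => (star_fixed hG hM hH hH1 (hLH hl) hl1).le ⟨Bender.qc_le q _ (hNQ hy.1),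
      mem_centralizer_singleton_iff.2 (mem_centralizer_iff.1 hy.2 l hl).symm⟩
  have hfixUL : N ⊓ centralizer ((D ⊔ L : Subgroup G) : Set G) = N ⊓ star M H ⊓ centralizer (D : Set G) := by
    rw [← hfixL]
    refine le_antisymm (fun y hy => ⟨⟨hy.1, centralizer_le (le_sup_right : L ≤ D ⊔ L) hy.2⟩,
      centralizer_le (le_sup_left : D ≤ D ⊔ L) hy.2⟩) fun y hy => ⟨hy.1.1, ?_⟩
    exact le_centralizer_iff.1 (sup_le (le_centralizer_iff.1 (zpowers_le.2 hy.2))
      (le_centralizer_iff.1 (zpowers_le.2 hy.1.2))) (mem_zpowers y)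
  have hcop : (Nat.card D * Nat.card L).Coprime (Nat.card N) := by
    refine Nat.Coprime.coprime_dvd_right (card_dvd_of_le hNQ)
      (Nat.Coprime.coprime_dvd_left (mul_dvd_mul_left _ (card_dvd_of_le hLH)) ?_)
    exact (Excep.coprime_of_pgroup (Bender.isPGroup_qc _) fun h => (hq.out.dvd_mul.1 h).elim hqD
      fun h => (hH.2.1 q hq.out h).2.2.1 hqσ).symm
  have h := formula_sub (solvable_le hG hM (hNQ.trans ((Bender.qc_le q _).trans (map_subtype_le _))))
    ((deficient_d_le hG hM hH hnn hqs hD).trans hNM) ((hLH.trans hH.1).trans hNM) (hLH.trans hHD)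
    (le_bot_iff.1 fun y hy => ?_) (fun k hk => hfpf k (hLH hk)) hcop
  · rwa [hfixUL, hfixL] at h
  · have hc : (Nat.card ↥(Cfsg.sigmaCore M)).Coprime (Nat.card H) := Nat.coprime_of_dvd fun r hr h1 h2 =>
      (hH.2.1 r hr h2).2.2.1 ((Sig.sigma_core hG hM).1.2.1 r hr h1)
    exact (inf_eq_bot_of_coprime hc).le ⟨hD.2.1 hy.1, hLH hy.2⟩

theorem deficient_star_moved : star M H ⊓ centralizer (D : Set G) = ⊥ := by
  by_contra h
  refine deficient_not_central hG hM hH hnn hqs hD hDn ?_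
  have he : star M H ⊓ centralizer (D : Set G) = star M H := eq_of_le_of_card_ge inf_le_left (by
    rw [((Nat.dvd_prime hq.out).1 (hqs ▸ card_dvd_of_le inf_le_left)).resolve_left
      fun e => h (eq_bot_of_card_eq _ e), hqs])
  have hc := deficient_count hG hM hH hnn hqs hD hHD hqD hfpf hDn le_rfl (deficient_q_normal hG hM hH hnn hqs)
    le_rfl (deficient_kappa hG hM hH hnn)
  rw [inf_assoc, he] at hc
  have hcard := Nat.eq_of_mul_eq_mul_left (pow_pos Nat.card_pos _) hc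
  exact (eq_of_le_of_card_ge inf_le_left hcard.le).ge.trans inf_le_right

/-- An `M`-invariant subgroup of `Q` either centralizes `D` or covers `Q` modulo `C_Q(D)`. -/
theorem deficient_invariant {N : Subgroup G} (hNQ : N ≤ (Bender.qc q (Cfsg.sigmaCore M))) (hNM : M ≤ normalizer (N : Set G)) :
    (Nat.card N = Nat.card ↥(N ⊓ centralizer (D : Set G))) ∨
      (star M H ≤ N ∧ Nat.card N = Nat.card ↥(N ⊓ centralizer (D : Set G)) * q ^ Nat.card H) := by
  have hc := deficient_count hG hM hH hnn hqs hD hHD hqD hfpf hDn hNQ hNM le_rfl (deficient_kappa hG hM hH hnn)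
  rw [inf_assoc, deficient_star_moved hG hM hH hnn hqs hD hHD hqD hfpf hDn, inf_bot_eq, card_bot, one_pow,
    one_mul] at hc
  rcases (Nat.dvd_prime hq.out).1 (hqs ▸ card_dvd_of_le (inf_le_right : N ⊓ star M H ≤ star M H)) with h | h
  · left; rw [hc, h, one_pow, one_mul]
  · refine Or.inr ⟨(eq_of_le_of_card_ge inf_le_right (by rw [h, hqs])).ge.trans inf_le_left, ?_⟩
    rw [hc, h, mul_comm]

theorem deficient_kappa_prime : (Nat.card H).Prime := by
  have hH1 := deficient_kappa hG hM hH hnn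
  obtain ⟨l, hl, k, hk, hko⟩ := exists_order_prime hH1
  have hc := deficient_count hG hM hH hnn hqs hD hHD hqD hfpf hDn le_rfl (deficient_q_normal hG hM hH hnn hqs)
    (zpowers_le.2 hk) (fun e => hl.ne_one (by rw [← hko, zpowers_eq_bot.1 e, orderOf_one]))
  have hc' := deficient_count hG hM hH hnn hqs hD hHD hqD hfpf hDn le_rfl (deficient_q_normal hG hM hH hnn hqs)
    le_rfl hH1
  rw [inf_assoc, deficient_star_moved hG hM hH hnn hqs hD hHD hqD hfpf hDn, inf_bot_eq, card_bot, one_pow,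
    one_mul, inf_eq_right.2 (deficient_star_qc hG hM hH hnn hqs), hqs] at hc hc'
  rw [Nat.card_zpowers, hko, hc'] at hc
  rw [Nat.pow_right_injective hq.out.two_le (Nat.eq_of_mul_eq_mul_right Nat.card_pos hc)]
  exact hl

/-- `q ∈ β(M)`. -/
theorem deficient_beta : q ∈ Cfsg.beta M := by
  by_contra hβ
  have hqM : q ∣ Nat.card M :=
    (hqs ▸ card_dvd_of_le (inf_le_left : star M H ≤ Cfsg.sigmaCore M)).trans (card_dvd_of_le (map_subtype_le _))
  have hQM : (Bender.qc q (Cfsg.sigmaCore M)) ≤ M := (Bender.qc_le q _).trans (map_subtype_le _)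
  let P : Sylow q M := ((Bender.isPGroup_qc (s := q) (Cfsg.sigmaCore M)).comap_of_injective M.subtype
    M.subtype_injective : IsPGroup q ↥((Bender.qc q (Cfsg.sigmaCore M)).subgroupOf M)).toSylow (deficient_q_sylow_M hG hM hH hnn hqs)
  have hn : Cfsg.IsNarrow q ↥((Bender.qc q (Cfsg.sigmaCore M)).subgroupOf M) := Beta.narrow_of_not_beta hG hM hqM hβ P
  have hDM := deficient_d_le hG hM hH hnn hqs hD
  have hVM : D ⊔ H ≤ M := sup_le hDM hH.1
  have hVq : ¬ q ∣ Nat.card ↥((D ⊔ H).subgroupOf M) := fun h => by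
    rw [Nat.card_congr (subgroupOfEquivOfLe hVM).toEquiv, sup_comm] at h
    exact (hq.out.dvd_mul.1 (h.trans (CfsgLib.Solvable.card_sup_dvd hHD))).elim
      (fun h => (hH.2.1 q hq.out h).2.2.1 (deficient_mem_sigma hG hM hH hnn hqs)) hqD
  haveI : ((Bender.qc q (Cfsg.sigmaCore M)).subgroupOf M).Normal :=
    (normal_subgroupOf_iff_le_normalizer hQM).2 (deficient_q_normal hG hM hH hnn hqs)
  have hd := derived_centralizes (G := M)
    (CfsgLib.CN.MinSimple.p_ne_two hG (hqM.trans M.card_subgroup_dvd_card))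
    ((Bender.isPGroup_qc (s := q) (Cfsg.sigmaCore M)).comap_of_injective M.subtype M.subtype_injective) hn
    (V := (D ⊔ H).subgroupOf M) (le_top.trans (normalizer_eq_top_iff.2 ((normal_subgroupOf_iff_le_normalizer hQM).2
      (deficient_q_normal hG hM hH hnn hqs))).ge) (hG.1.of_dvd_nat (by
      rw [Nat.card_congr (subgroupOfEquivOfLe hVM).toEquiv]; exact card_subgroup_dvd_card _)) hVq
  obtain ⟨k, hk, hk1⟩ := (bot_or_exists_ne_one H).resolve_left (deficient_kappa hG hM hH hnn)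
  let f : D → D := fun u => ⟨(u : G) * k * (u : G)⁻¹ * k⁻¹, by
    rw [show (u : G) * k * (u : G)⁻¹ * k⁻¹ = (u : G) * (k * (u : G)⁻¹ * k⁻¹) by group]
    exact D.mul_mem u.2 ((mem_normalizer_iff.1 (hHD hk) _).1 (D.inv_mem u.2))⟩
  have hf : Function.Injective f := fun u v h => by
    have h' : (u : G) * k * (u : G)⁻¹ * k⁻¹ = (v : G) * k * (v : G)⁻¹ * k⁻¹ := congrArg Subtype.val h
    have h1 : (u : G) * k * (u : G)⁻¹ = (v : G) * k * (v : G)⁻¹ := mul_right_cancel h'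
    have h2 : (v : G)⁻¹ * u ∈ D ⊓ centralizer ({k} : Set G) :=
      ⟨D.mul_mem (D.inv_mem v.2) u.2, mem_centralizer_singleton_iff.2 (by
        calc (v : G)⁻¹ * u * k = (v : G)⁻¹ * ((u : G) * k * (u : G)⁻¹) * u := by group
          _ = k * ((v : G)⁻¹ * u) := by rw [h1]; group)⟩
    rw [hfpf k hk hk1, Subgroup.mem_bot] at h2
    exact Subtype.ext (inv_mul_eq_one.1 h2).symm
  refine deficient_not_central hG hM hH hnn hqs hD hDn fun a ha => mem_centralizer_iff.2 fun b hb => ?_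
  obtain ⟨u, hu⟩ := (Finite.injective_iff_surjective.1 hf) ⟨b, hb⟩
  have hb' : (⟨b, hDM hb⟩ : M) ∈ ⁅(D ⊔ H).subgroupOf M, (D ⊔ H).subgroupOf M⁆ := by
    have he : (⟨b, hDM hb⟩ : M) = ⁅(⟨u, hDM u.2⟩ : M), ⟨k, hH.1 hk⟩⁆ := Subtype.ext (congrArg Subtype.val hu).symm
    rw [he]
    exact commutator_mem_commutator (mem_sup_left u.2 : (u : G) ∈ D ⊔ H) (mem_sup_right hk : k ∈ D ⊔ H)
  exact congrArg Subtype.val (mem_centralizer_iff.1 (hd hb') ⟨a, hQM ha⟩ ha).symm

theorem deficient_index : Nat.card ↥(Bender.qc q (Cfsg.sigmaCore M)) =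
    Nat.card ↥((Bender.qc q (Cfsg.sigmaCore M)) ⊓ centralizer (D : Set G)) * q ^ Nat.card H := by
  refine ((deficient_invariant hG hM hH hnn hqs hD hHD hqD hfpf hDn le_rfl
    (deficient_q_normal hG hM hH hnn hqs)).resolve_left fun h => ?_).2
  exact deficient_not_central hG hM hH hnn hqs hD hDn ((eq_of_le_of_card_ge inf_le_left h.le).ge.trans inf_le_right)

/-- An `M`-invariant subgroup of `Q` lies in `C_Q(D)` or covers `Q` modulo it. -/
theorem deficient_cover {N : Subgroup G} (hNQ : N ≤ Bender.qc q (Cfsg.sigmaCore M))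
    (hNM : M ≤ normalizer (N : Set G)) :
    N ≤ centralizer (D : Set G) ∨
      Bender.qc q (Cfsg.sigmaCore M) ≤ N ⊔ (Bender.qc q (Cfsg.sigmaCore M) ⊓ centralizer (D : Set G)) := by
  set Q := Bender.qc q (Cfsg.sigmaCore M)
  set Q₀ := Q ⊓ centralizer (D : Set G) with hQ₀
  rcases deficient_invariant hG hM hH hnn hqs hD hHD hqD hfpf hDn hNQ hNM with h | ⟨-, h⟩
  · exact Or.inl ((eq_of_le_of_card_ge inf_le_left h.le).ge.trans inf_le_right)
  refine Or.inr fun y hy => ?_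
  have hQ := deficient_index hG hM hH hnn hqs hD hHD hqD hfpf hDn
  have h0 : 0 < q ^ Nat.card H := pow_pos hq.out.pos _
  have e1 : Q₀.relIndex Q = q ^ Nat.card H := Nat.eq_of_mul_eq_mul_left Nat.card_pos
    ((CfsgLib.InvariantHall.relIndex_mul_card (inf_le_left : Q₀ ≤ Q)).trans hQ)
  have e2 : Q₀.relIndex N = q ^ Nat.card H := by
    rw [← inf_relIndex_right, show Q₀ ⊓ N = N ⊓ centralizer (D : Set G) from
      le_antisymm (le_inf inf_le_right (inf_le_left.trans inf_le_right))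
        (le_inf (le_inf (inf_le_left.trans hNQ) inf_le_right) inf_le_left)]
    exact Nat.eq_of_mul_eq_mul_left Nat.card_pos ((CfsgLib.InvariantHall.relIndex_mul_card inf_le_left).trans h)
  let φ := Subgroup.quotientSubgroupOfEmbeddingOfLE Q₀ hNQ
  have hφ : Function.Surjective φ := by
    have hc : Nat.card (N ⧸ Q₀.subgroupOf N) = Nat.card (Q ⧸ Q₀.subgroupOf Q) := e2.trans e1.symm
    exact ((Nat.bijective_iff_injective_and_card φ).2 ⟨φ.injective, hc⟩).2
  obtain ⟨z, hz⟩ := hφ (QuotientGroup.mk ⟨y, hy⟩)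
  induction z using QuotientGroup.induction_on with | H n => ?_
  have h1 : (⟨(n : G), hNQ n.2⟩ : Q)⁻¹ * ⟨y, hy⟩ ∈ Q₀.subgroupOf Q := QuotientGroup.eq.1 hz
  rw [show y = (n : G) * ((n : G)⁻¹ * y) by group]
  exact mul_mem (mem_sup_left n.2) (mem_sup_right (h1 : (n : G)⁻¹ * y ∈ Q₀))

/-- `Q/C_Q(D)` is elementary abelian. -/
theorem deficient_frattini {a b : G} (ha : a ∈ Bender.qc q (Cfsg.sigmaCore M))
    (hb : b ∈ Bender.qc q (Cfsg.sigmaCore M)) :
    a ^ q ∈ Bender.qc q (Cfsg.sigmaCore M) ⊓ centralizer (D : Set G) ∧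
      a * b * a⁻¹ * b⁻¹ ∈ Bender.qc q (Cfsg.sigmaCore M) ⊓ centralizer (D : Set G) := by
  set Q := Bender.qc q (Cfsg.sigmaCore M) with hQdef
  set Φ := (frattini Q).map Q.subtype with hΦ
  have hΦQ : Φ ≤ Q := map_subtype_le _
  have hΦM : M ≤ normalizer (Φ : Set G) := (deficient_q_normal hG hM hH hnn hqs).trans
    (UTool.normalizer_le_normalizer_map Q _ inferInstance)
  have hΦC : Φ ≤ centralizer (D : Set G) := by
    refine (deficient_cover hG hM hH hnn hqs hD hHD hqD hfpf hDn hΦQ hΦM).resolve_right fun h => ?_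
    refine deficient_not_central hG hM hH hnn hqs hD hDn ?_
    have h1 : (Q ⊓ centralizer (D : Set G)).subgroupOf Q = ⊤ := frattini_nongenerating (by
      refine eq_top_iff.2 fun y _ => ?_
      have h2 := Subgroup.subgroupOf_sup hΦQ (inf_le_left : Q ⊓ centralizer (D : Set G) ≤ Q)
      have h3 : y ∈ Φ.subgroupOf Q ⊔ (Q ⊓ centralizer (D : Set G)).subgroupOf Q := by
        rw [← h2]; exact h y.2
      rw [sup_comm]
      rwa [hΦ, ← comap_subtype, comap_map_eq_self_of_injective Q.subtype_injective] at h3)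
    exact fun y hy => (h1.ge (mem_top (⟨y, hy⟩ : Q)) : y ∈ Q ⊓ centralizer (D : Set G)).2
  obtain ⟨hc, hp⟩ := CfsgLib.PGroupBasic.commutator_pow_le_frattini (G := Q) (Bender.isPGroup_qc _ : IsPGroup q Q)
  have hpm : a ^ q ∈ Φ := ⟨_, hp ⟨a, ha⟩, rfl⟩
  have hcm : a * b * a⁻¹ * b⁻¹ ∈ Φ :=
    ⟨_, hc (commutator_mem_commutator (mem_top (⟨a, ha⟩ : Q)) (mem_top (⟨b, hb⟩ : Q))), rfl⟩
  exact ⟨⟨hΦQ hpm, hΦC hpm⟩, ⟨hΦQ hcm, hΦC hcm⟩⟩

theorem deficient_fixed_normal :
    M ≤ normalizer ((Bender.qc q (Cfsg.sigmaCore M) ⊓ centralizer (D : Set G) : Subgroup G) : Set G) := by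
  set Q := Bender.qc q (Cfsg.sigmaCore M)
  set Q₀ := Q ⊓ centralizer (D : Set G)
  have hMQ := deficient_q_normal hG hM hH hnn hqs
  have hn : ∀ y : G, y ∈ M → y ∈ normalizer (D : Set G) → y ∈ normalizer (Q₀ : Set G) := fun y hy hy' =>
    inf_normalizer_le_normalizer_inf ⟨hMQ hy, TH.normalizer_le_normalizer_centralizer _ hy'⟩
  have hQ : Q ≤ normalizer (Q₀ : Set G) := fun a ha => Uniq.mem_normalizer_of_map_le (by
    rintro _ ⟨c, hc, rfl⟩
    show a * c * a⁻¹ ∈ Q₀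
    rw [show a * c * a⁻¹ = (a * c * a⁻¹ * c⁻¹) * c by group]
    exact Q₀.mul_mem (deficient_frattini hG hM hH hnn hqs hD hHD hqD hfpf hDn ha hc.1).2 hc)
  intro m hm
  obtain ⟨u, hu, v, hv, rfl⟩ := (deficient_decomp hG hM hH hnn).compl.2.2.2 m hm
  rw [Subgroup.mem_bot.1 hu, one_mul]
  obtain ⟨k, hk, w, hw, rfl⟩ := (CfsgLib.Solvable.mem_sup_of_le_normalizer
    (hH.1.trans (TH.le_normalizer_core M))).1 hv
  obtain ⟨a, ha, d, hd, rfl⟩ := hD.2.2.2 w hw
  exact (normalizer (Q₀ : Set G)).mul_mem (hn k (hH.1 hk) (hHD hk))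
    ((normalizer (Q₀ : Set G)).mul_mem (hQ ha) (hn d (deficient_d_le hG hM hH hnn hqs hD hd) (le_normalizer hd)))

end Formula

/-- BG 15.2, for every complement to `Q` in `M_σ`. -/
theorem deficient_structure : (Nat.card H).Prime ∧ q ∈ Cfsg.beta M ∧
    ∀ D : Subgroup G, Cfsg.IsComplIn (Bender.qc q (Cfsg.sigmaCore M)) D (Cfsg.sigmaCore M) →
      Group.IsNilpotent D ∧
      M ≤ normalizer ((Bender.qc q (Cfsg.sigmaCore M) ⊓ centralizer (D : Set G) : Subgroup G) : Set G) ∧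
      Bender.qc q (Cfsg.sigmaCore M) ⊓ centralizer (D : Set G) < Bender.qc q (Cfsg.sigmaCore M) ∧
      Nat.card ↥(Bender.qc q (Cfsg.sigmaCore M)) =
        Nat.card ↥(Bender.qc q (Cfsg.sigmaCore M) ⊓ centralizer (D : Set G)) * q ^ Nat.card H ∧
      (∀ a ∈ Bender.qc q (Cfsg.sigmaCore M), ∀ b ∈ Bender.qc q (Cfsg.sigmaCore M),
        a ^ q ∈ Bender.qc q (Cfsg.sigmaCore M) ⊓ centralizer (D : Set G) ∧
          a * b * a⁻¹ * b⁻¹ ∈ Bender.qc q (Cfsg.sigmaCore M) ⊓ centralizer (D : Set G)) ∧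
      ∀ N : Subgroup G, Bender.qc q (Cfsg.sigmaCore M) ⊓ centralizer (D : Set G) < N →
        N < Bender.qc q (Cfsg.sigmaCore M) → ¬ M ≤ normalizer (N : Set G) := by
  obtain ⟨D₀, hD₀, hHD, hqD, hfpf, hDn⟩ := deficient_complement hG hM hH hnn hqs
  refine ⟨deficient_kappa_prime hG hM hH hnn hqs hD₀ hHD hqD hfpf hDn,
    deficient_beta hG hM hH hnn hqs hD₀ hHD hqD hfpf hDn, fun D hD => ?_⟩
  set Q := Bender.qc q (Cfsg.sigmaCore M) with hQdef
  set S := Cfsg.sigmaCore M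
  have hqD' : ∀ r : ℕ, r.Prime → r ∣ Nat.card D → r ≠ q := fun r hr hd e => by
    subst e
    obtain ⟨d, hdo⟩ := exists_prime_orderOf_dvd_card' (G := D) r hd
    have hdo' : orderOf (d : G) = r := by rw [Subgroup.orderOf_coe, hdo]
    have hsup : zpowers (d : G) ≤ Q := Excep.le_of_hall hD.1 (Bender.le_normalizer_qc r S)
      (zpowers_le.2 (hD.2.1 d.2)) (by
        rw [Nat.card_zpowers, hdo']; exact hr.coprime_iff_not_dvd.2 (deficient_q_sylow hG hM hH hnn hqs))
    have h1 : (d : G) ∈ Q ⊓ D := ⟨hsup (mem_zpowers _), d.2⟩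
    rw [hD.2.2.1, Subgroup.mem_bot] at h1
    exact hr.ne_one (by rw [← hdo', h1, orderOf_one])
  obtain ⟨g, hg, hgD⟩ := Tau.conj_into_of_product (π := {r | r ≠ q})
    (solvable_le hG hM (map_subtype_le _)) hD₀.2.1 hD₀.1 (Bender.le_normalizer_qc q S)
    (fun s hs => by obtain ⟨a, ha, b, hb, rfl⟩ := hD₀.2.2.2 s hs; exact mul_mem (mem_sup_left ha) (mem_sup_right hb))
    (fun r hr hrq hd => hrq (by
      obtain ⟨j, hj⟩ := IsPGroup.iff_card.1 (Bender.isPGroup_qc (s := q) S)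
      rw [hj] at hd
      exact (Nat.prime_dvd_prime_iff_eq hr hq.out).1 (hr.dvd_of_dvd_pow hd))) hD.2.1 hqD'
  have hgM : g ∈ M := map_subtype_le _ hg
  have hgQ : g ∈ normalizer (Q : Set G) := Bender.le_normalizer_qc q S hg
  have heq : D.map (MulAut.conj g).toMonoidHom = D₀ := le_antisymm hgD fun d hd => by
    have hdS : g⁻¹ * d * g ∈ S := S.mul_mem (S.mul_mem (S.inv_mem hg) (hD₀.2.1 hd)) hg
    obtain ⟨a, ha, b, hb, e⟩ := hD.2.2.2 _ hdS
    have hb' : g * b * g⁻¹ ∈ D₀ := hgD ⟨b, hb, rfl⟩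
    have h1 : g * a * g⁻¹ ∈ Q ⊓ D₀ := ⟨(mem_normalizer_iff.1 hgQ a).1 ha, by
      rw [show g * a * g⁻¹ = d * (g * b * g⁻¹)⁻¹ by
        rw [show d = g * (g⁻¹ * d * g) * g⁻¹ by group, e]; group]
      exact D₀.mul_mem hd (D₀.inv_mem hb')⟩
    rw [hD₀.2.2.1, Subgroup.mem_bot, conj_eq_one_iff] at h1
    refine ⟨b, hb, ?_⟩
    show g * b * g⁻¹ = d
    rw [h1, one_mul] at e
    rw [← e]; group
  have hDn' : Group.IsNilpotent D := by
    rw [← Uniq.map_conj_inv D g, heq]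
    exact CfsgLib.CN.nilpotent_map hDn _
  have hfix : Q ⊓ centralizer (D : Set G) = Q ⊓ centralizer (D₀ : Set G) := by
    have hn0 : g ∈ normalizer ((Q ⊓ centralizer (D₀ : Set G) : Subgroup G) : Set G) :=
      deficient_fixed_normal hG hM hH hnn hqs hD₀ hHD hqD hfpf hDn hgM
    have key : ∀ y : G, y ∈ Q ⊓ centralizer (D : Set G) ↔ g * y * g⁻¹ ∈ Q ⊓ centralizer (D₀ : Set G) := by
      intro y
      refine and_congr (mem_normalizer_iff.1 hgQ y) ?_
      show y ∈ centralizer (D : Set G) ↔ g * y * g⁻¹ ∈ centralizer (D₀ : Set G)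
      rw [mem_centralizer_iff, mem_centralizer_iff, ← heq]
      constructor
      · rintro h _ ⟨d, hd, rfl⟩
        show g * d * g⁻¹ * (g * y * g⁻¹) = g * y * g⁻¹ * (g * d * g⁻¹)
        rw [show g * d * g⁻¹ * (g * y * g⁻¹) = g * (d * y) * g⁻¹ by group, h d hd]; group
      · intro h d hd
        have h' : g * d * g⁻¹ * (g * y * g⁻¹) = g * y * g⁻¹ * (g * d * g⁻¹) := h _ ⟨d, hd, rfl⟩
        exact mul_left_cancel (mul_right_cancel (show g * (d * y) * g⁻¹ = g * (y * d) * g⁻¹ by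
          calc g * (d * y) * g⁻¹ = g * d * g⁻¹ * (g * y * g⁻¹) := by group
            _ = g * (y * d) * g⁻¹ := by rw [h']; group))
    exact Subgroup.ext fun y => (key y).trans (mem_normalizer_iff.1 hn0 y).symm
  rw [hfix]
  have hidx := deficient_index hG hM hH hnn hqs hD₀ hHD hqD hfpf hDn
  refine ⟨hDn', deficient_fixed_normal hG hM hH hnn hqs hD₀ hHD hqD hfpf hDn,
    lt_of_le_of_ne inf_le_left fun e => ?_, hidx,
    fun a ha b hb => deficient_frattini hG hM hH hnn hqs hD₀ hHD hqD hfpf hDn ha hb, fun N h1 h2 hNM => ?_⟩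
  · exact deficient_not_central hG hM hH hnn hqs hD₀ hDn (e.ge.trans inf_le_right)
  · rcases deficient_cover hG hM hH hnn hqs hD₀ hHD hqD hfpf hDn h2.le hNM with h | h
    · exact h1.not_ge (le_inf h2.le h)
    · exact h2.not_ge (h.trans (sup_le le_rfl h1.le))

end Main

end CfsgLib.OddLocal.Kap
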