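import Cfsg.Agent.OddLocal.KappaPairApps
import Cfsg.Agent.S1426

/-!
The second derived subgroup (BG 14.7 / 15.1).
-/

set_option autoImplicit false
set_option linter.style.haveILetI false
set_option linter.unusedSectionVars false

namespace CfsgLib.OddLocal.Kap

open Subgroup Cfsg CfsgLib.OddLocal
open scoped commutatorElement Pointwise

universe u

variable {G : Type u} [Group G] [Finite G]
variable (hG : Cfsg.IsMinSimpleOddOrder G)
include hG

/-- `K* ≤ M''`. -/
theorem star_le_second_derived {M K U : Subgroup G} (hM : IsCoatom M) (hKU : Cfsg.IsSigmaDecomposition M K U)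
    (hK1 : K ≠ ⊥) : star M K ≤ ⁅⁅M, M⁆, ⁅M, M⁆⁆ := by
  set S := Cfsg.sigmaCore M
  have hUH := decomp_hall hG hM hKU
  have hSM' : S ≤ ⁅M, M⁆ := (Sig.sigma_core hG hM).2.2
  have hUM' : U ≤ ⁅M, M⁆ := decomp_le_derived hG hM hKU hK1
  have hUn : U ≤ normalizer (S : Set G) := hUH.1.trans (TH.le_normalizer_core M)
  have hKn : K ≤ normalizer (S : Set G) := hKU.hall.1.trans (TH.le_normalizer_core M)
  set E := U ⊔ K with hEdef
  have hdis : E ⊓ S = ⊥ := by
    refine disjoint_iff.1 (disjoint_of_coprime_natCard (Nat.coprime_of_dvd fun p hp h1 h2 => ?_))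
    have h : p ∣ Nat.card K * Nat.card U := by
      rw [hEdef, sup_comm] at h1
      exact h1.trans (CfsgLib.Solvable.card_sup_dvd hKU.normal)
    have hσ := (Sig.sigma_core hG hM).1.2.1 p hp h2
    exact (hp.dvd_mul.1 h).elim (fun h0 => (hKU.hall.2.1 p hp h0).2.2.1 hσ) fun h0 => (hUH.2.1 p hp h0).2.2 hσ
  have hE : Cfsg.IsComplIn E S M := by
    refine ⟨sup_le hUH.1 hKU.hall.1, map_subtype_le _, hdis, fun m hm => ?_⟩
    obtain ⟨a, ha, b, hb, rfl⟩ := hKU.compl.2.2.2 m hm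
    obtain ⟨k, hk, s, hs, rfl⟩ := (CfsgLib.Solvable.mem_sup_of_le_normalizer hKn).1 hb
    exact ⟨a * k, mul_mem (mem_sup_left ha) (mem_sup_right hk), s, hs, by group⟩
  have hX : ⁅S, U⁆ ≤ S := le_normalizer_iff_commutator_le_left.1 hUn
  have hXU : ⁅S, U⁆ ≤ ⁅⁅M, M⁆, ⁅M, M⁆⁆ := commutator_mono hSM' hUM'
  intro c hc
  have hK' : K ≤ normalizer ((⁅S, U⁆ : Subgroup G) : Set G) := fun k hk => Uniq.mem_normalizer_of_map_le (by
    rw [map_commutator]
    refine commutator_mono ?_ ?_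
    · rintro _ ⟨s, hs, rfl⟩; exact (mem_normalizer_iff.1 (hKn hk) s).1 hs
    · rintro _ ⟨u, hu, rfl⟩; exact (mem_normalizer_iff.1 (hKU.normal hk) u).1 hu)
  have hY' : K ≤ normalizer ((S ⊓ centralizer (U : Set G) : Subgroup G) : Set G) :=
    (le_inf hKn (hKU.normal.trans (TH.normalizer_le_normalizer_centralizer _))).trans inf_normalizer_le_normalizer_inf
  have hcop : (Nat.card K).Coprime (Nat.card S) := Nat.coprime_of_dvd fun p hp h1 h2 =>
    (hKU.hall.2.1 p hp h1).2.2.1 ((Sig.sigma_core hG hM).1.2.1 p hp h2)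
  have hcopU : (Nat.card U).Coprime (Nat.card S) := Nat.coprime_of_dvd fun p hp h1 h2 =>
    (hUH.2.1 p hp h1).2.2 ((Sig.sigma_core hG hM).1.2.1 p hp h2)
  have hsS : Group.IsSolvable S := solvable_le hG hM (map_subtype_le _)
  obtain ⟨x, hx, y, hy, rfl⟩ := CfsgLib.CoprimeAct.fixed_factor (A := K) (K := S) hKn hcop (Or.inr hsS)
    hX inf_le_left hK' hY' (fun s hs => by
      have h := (CfsgLib.CoprimeAct.commutator_sup_centralizer (A := U) (K := S) hUn hcopU (Or.inr hsS)).ge hs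
      rw [sup_comm] at h
      obtain ⟨b, hb, a, ha, e⟩ := (CfsgLib.Solvable.mem_sup_of_le_normalizer (K := ⁅S, U⁆)
        (inf_le_left.trans (normalizer_commutator_ge_left S U))).1 h
      exact ⟨b * a * b⁻¹, (mem_normalizer_iff.1 ((normalizer_commutator_ge_left S U) hb.1) a).1 ha, b, hb,
        by rw [← e]; group⟩) hc
  refine mul_mem (hXU hx.1) ?_
  have hyE : y ∈ S ⊓ centralizer (E : Set G) :=
    ⟨hy.1.1, le_centralizer_iff.1 (sup_le (le_centralizer_iff.1 (zpowers_le.2 hy.1.2))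
      (le_centralizer_iff.1 (zpowers_le.2 hy.2))) (mem_zpowers y)⟩
  exact commutator_mono hSM' hSM' ((Cfsg.Agent.S1426.result hG M hM E hE).1 hyE)

end CfsgLib.OddLocal.Kap
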