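import Cfsg.Agent.S1357
import Cfsg.Agent.S1359
import Cfsg.Agent.S1360
import Cfsg.Agent.S1364
import Cfsg.Agent.OddLocal.KappaFittingStructure

/-!
Subgroups of Frobenius type.
-/

set_option autoImplicit false
set_option linter.style.haveILetI false
set_option linter.unusedSectionVars false

namespace CfsgLib.OddLocal.Kap

open Subgroup Cfsg CfsgLib.OddLocal
open scoped commutatorElement Pointwise

universe u

variable {G : Type u} [Group G] [Finite G]

theorem fittingHall_characteristic (L : Type*) [Group L] [Finite L] : (Cfsg.fittingHall L).Characteristic := by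
  refine characteristic_iff_map_le.2 fun φ => ?_
  obtain ⟨hn, hc⟩ := FittingHall.spec L
  refine le_sSup ⟨Subgroup.Normal.map inferInstance _ φ.surjective, CfsgLib.CN.nilpotent_map hn _, ?_⟩
  rw [card_map_of_injective φ.injective]
  have he : ((Cfsg.fittingHall L).map φ.toMonoidHom).index = (Cfsg.fittingHall L).index :=
    Subgroup.index_map_equiv _ φ
  rw [he]
  exact hc

theorem normalizer_le_fittingHallOf (L : Subgroup G) :
    normalizer (L : Set G) ≤ normalizer (Cfsg.fittingHallOf L : Set G) :=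
  UTool.normalizer_le_normalizer_map L _ (fittingHall_characteristic L)

theorem closure_stable {U : Subgroup G} {M : Subgroup G} (hUM : U ≤ M) :
    U ≤ normalizer ((closure ((U : Set G) ∩ Cfsg.sigmaHat M) : Subgroup G) : Set G) := by
  intro u hu
  refine Uniq.mem_normalizer_of_map_le ?_
  rw [MonoidHom.map_closure]
  refine closure_mono ?_
  rintro _ ⟨a, ⟨haU, haM, y, hy, hy1, hay⟩, rfl⟩
  refine ⟨U.mul_mem (U.mul_mem hu haU) (U.inv_mem hu), M.mul_mem (M.mul_mem (hUM hu) haM) (M.inv_mem (hUM hu)),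
    MulAut.conj u y, (mem_normalizer_iff.1 (TH.le_normalizer_core M (hUM hu)) y).1 hy,
    fun h => hy1 ((MulEquiv.map_eq_one_iff (MulAut.conj u)).1 h), ?_⟩
  exact (map_mul (MulAut.conj u) a y).symm.trans ((congrArg (MulAut.conj u) hay).trans (map_mul (MulAut.conj u) y a))

/-- Building data of Frobenius type from subgroups of the ambient group. -/
theorem isOfTypeF_of {L U U₁ U₀ : Subgroup G} (hs : Group.IsSolvable L) (hodd : Odd (Nat.card L))
    (hH1 : Cfsg.fittingHallOf L ≠ ⊥) (hc : Cfsg.IsComplIn (Cfsg.fittingHallOf L) U L) (hU : U ≠ ⊥)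
    (h1 : U₁ ≤ U) (h1n : U ≤ normalizer (U₁ : Set G)) (h1c : IsMulCommutative U₁)
    (h1x : ∀ x ∈ Cfsg.fittingHallOf L, x ≠ 1 → U ⊓ centralizer ({x} : Set G) ≤ U₁)
    (h0 : U₀ ≤ U) (h0e : Monoid.exponent U₀ = Monoid.exponent U)
    (h0x : ∀ u ∈ U₀, u ≠ 1 → ∀ x ∈ Cfsg.fittingHallOf L, u * x = x * u → x = 1) : Cfsg.IsOfTypeF ↥L := by
  obtain ⟨hHL, hUL, hdis, hprod⟩ := hc
  have hmem : ∀ {x : L}, x ∈ Cfsg.fittingHall ↥L ↔ (x : G) ∈ Cfsg.fittingHallOf L := fun {x} =>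
    ⟨fun h => mem_map_of_mem _ h, fun ⟨y, hy, hyx⟩ => Subtype.ext hyx ▸ hy⟩
  refine ⟨hs, hodd, fun h => hH1 ?_, fun h => hU ?_, U.subgroupOf L, fun h => hU ?_, ?_, ?_, ?_⟩
  · rw [Cfsg.fittingHallOf, h, Subgroup.map_bot]
  · rw [← le_bot_iff, ← hdis]
    refine le_inf (fun u hu => (hmem (x := ⟨u, hUL hu⟩)).1 (h ▸ Subgroup.mem_top _)) le_rfl
  · rw [subgroupOf_eq_bot, disjoint_iff, inf_eq_left.2 hUL] at h
    exact h
  · refine isComplement'_of_disjoint_and_mul_eq_univ ?_ (Set.eq_univ_of_forall fun x => ?_)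
    · rw [disjoint_iff, eq_bot_iff]
      intro x hx
      exact mem_bot.2 (Subtype.ext (mem_bot.1 (hdis.le ⟨hmem.1 hx.1, hx.2⟩)))
    · obtain ⟨a, ha, b, hb, he⟩ := hprod x x.2
      exact ⟨⟨a, hHL ha⟩, hmem.2 ha, ⟨b, hUL hb⟩, hb, Subtype.ext he.symm⟩
  · refine ⟨U₁.subgroupOf L, fun x hx => h1 hx, fun x hx => ?_, ?_, fun x hx hx1 y hy => ?_⟩
    · exact Subgroup.mem_normalizer_iff.2 fun y => mem_normalizer_iff.1 (h1n hx) (y : G)
    · haveI := h1c
      exact ⟨⟨fun a b => Subtype.ext (Subtype.ext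
        (show ((a : L) : G) * (b : L) = (b : L) * (a : L) from
          congrArg (Subtype.val : U₁ → G) (h1c.is_comm.comm (⟨_, a.2⟩ : U₁) ⟨_, b.2⟩)))⟩⟩
    · exact h1x x (hmem.1 hx) (fun e => hx1 (Subtype.ext e))
        ⟨hy.1, mem_centralizer_singleton_iff.2 (congrArg Subtype.val (mem_centralizer_singleton_iff.1 hy.2))⟩
  · refine ⟨U₀.subgroupOf L, fun x hx => h0 hx, ?_, fun u hu hu1 x hx he => ?_⟩
    · rw [Monoid.exponent_eq_of_mulEquiv (subgroupOfEquivOfLe (h0.trans hUL)),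
        Monoid.exponent_eq_of_mulEquiv (subgroupOfEquivOfLe hUL), h0e]
    · exact Subtype.ext (h0x u hu (fun e => hu1 (Subtype.ext e)) x (hmem.1 hx) (congrArg Subtype.val he))

variable (hG : Cfsg.IsMinSimpleOddOrder G)
include hG

variable {M K U : Subgroup G} (hM : IsCoatom M) (hKU : Cfsg.IsSigmaDecomposition M K U)
include hM hKU

theorem kappa_nonempty_iff : (Cfsg.kappa M).Nonempty ↔ K ≠ ⊥ := by
  constructor
  · rintro ⟨p, hp⟩ hK
    refine hKU.hall.2.2 p hp.1 hp ?_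
    rw [hK, relIndex_bot_left]
    exact hp.2.1
  · intro hK
    obtain ⟨p, hp, hd⟩ := Nat.exists_prime_and_dvd (fun h => hK (eq_bot_of_card_eq K h))
    exact ⟨p, hKU.hall.2.1 p hp hd⟩

theorem fittingHallOf_eq_of_bot (hK : K = ⊥) : Cfsg.fittingHallOf M = Cfsg.sigmaCore M := by
  by_contra h
  have h3 := (Cfsg.Agent.S1357.result hG M hM K U hKU h).2.2
  rw [hK, card_bot] at h3
  exact Nat.not_prime_one h3

omit hKU in
theorem sigmaCore_ne_self : Cfsg.sigmaCore M ≠ M := fun h => by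
  haveI : Group.IsSolvable M := hG.2.2.2 M hM.1
  haveI : Nontrivial M := Finite.one_lt_card_iff_nontrivial.1 (one_lt_card_coatom hG hM)
  have hle : M ≤ ⁅M, M⁆ := h.ge.trans (Sig.sigma_core hG hM).2.2
  refine absurd ?_ (Group.IsSolvable.commutator_lt_top_of_nontrivial M).ne
  refine Subgroup.map_injective M.subtype_injective ?_
  rw [Subgroup.map_subtype_commutator, ← MonoidHom.range_eq_map, M.range_subtype]
  exact le_antisymm (commutator_le.2 fun a ha b hb =>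
    M.mul_mem (M.mul_mem (M.mul_mem ha hb) (M.inv_mem ha)) (M.inv_mem hb)) hle

theorem outer_ne_bot (hK : K = ⊥) : U ≠ ⊥ := fun hU => sigmaCore_ne_self hG hM (by
  refine le_antisymm (map_subtype_le _) fun m hm => ?_
  obtain ⟨a, ha, b, hb, rfl⟩ := hKU.compl.2.2.2 m hm
  rw [hK, bot_sup_eq] at hb
  rw [hU, mem_bot] at ha
  rwa [ha, one_mul])

theorem typeF_of_bot (hK : K = ⊥) : Cfsg.IsOfTypeF ↥M := by
  have hF := fittingHallOf_eq_of_bot hG hM hKU hK
  obtain ⟨U₀, h0, h0e, h0x⟩ := Cfsg.Agent.S1360.result hG M hM K U hKU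
  refine isOfTypeF_of (solvable_le hG hM le_rfl) (hG.1.of_dvd_nat M.card_subgroup_dvd_card) ?_ ?_
    (outer_ne_bot hG hM hKU hK) ((closure_le U).2 fun x hx => hx.1) (closure_stable hKU.compl.1)
    (Cfsg.Agent.S1359.result hG M hM K U hKU) (fun x hx hx1 a ha => subset_closure
      ⟨ha.1, hKU.compl.1 ha.1, x, hF ▸ hx, hx1, mem_centralizer_singleton_iff.1 ha.2⟩) h0 h0e
    (fun u hu hu1 x hx he => by_contra fun hx1 => hu1 (h0x u hu ⟨hKU.compl.1 (h0 hu), x, hF ▸ hx, hx1, he⟩))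
  · rw [hF]; exact Tau.sigmaCore_ne_bot hG hM (one_lt_card_coatom hG hM)
  · obtain ⟨hUM, hSM, hdis, hp⟩ := hKU.compl
    rw [hK, bot_sup_eq] at hSM hdis hp
    rw [hF]
    refine ⟨hSM, hUM, by rw [inf_comm]; exact hdis, fun m hm => ?_⟩
    obtain ⟨a, ha, b, hb, rfl⟩ := hp m hm
    exact ⟨a * b * a⁻¹, (mem_normalizer_iff.1 (TH.le_normalizer_core M (hUM ha)) b).1 hb, a, ha, by group⟩

/-- A maximal subgroup of Frobenius type has no `κ`-primes. -/
theorem bot_of_typeF (hF : Cfsg.IsOfTypeF ↥M) : K = ⊥ := by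
  by_contra hK
  obtain ⟨-, -, -, -, V, -, hV, -, V₀, hV₀V, hV₀e, hV₀x⟩ := hF
  obtain ⟨p, hp⟩ := (kappa_nonempty_iff hG hM hKU).2 hK
  haveI := Fact.mk hp.1
  have hnF : ¬ p ∣ Nat.card (Cfsg.fittingHall ↥M) := fun h => by
    rw [← card_map_of_injective (f := M.subtype) M.subtype_injective] at h
    exact hp.2.2.1 ((Sig.sigma_core hG hM).1.2.1 p hp.1
      (h.trans (card_dvd_of_le (fittingHallOf_le_sigmaCore hG hM))))
  have hpV : p ∣ Nat.card V := (hp.1.dvd_mul.1 (hV.card_mul_card.symm ▸ hp.2.1)).resolve_left hnF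
  obtain ⟨v, hv⟩ := exists_prime_orderOf_dvd_card' (G := V) p hpV
  have hpV₀ : p ∣ Nat.card V₀ := by
    refine (dvd_trans ?_ (dvd_of_eq hV₀e.symm)).trans Group.exponent_dvd_nat_card
    rw [← hv]
    exact Monoid.order_dvd_exponent v
  obtain ⟨u, hu⟩ := exists_prime_orderOf_dvd_card' (G := V₀) p hpV₀
  rw [← Subgroup.orderOf_coe, ← Subgroup.orderOf_coe] at hu
  have hu1 : ((u : M) : G) ≠ 1 := fun e => hp.1.ne_one (by rw [← hu, e, orderOf_one])
  obtain ⟨K', hK', huK, hK'1⟩ := exists_hall_kappa hG hM (u : M).2 hu hp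
  obtain ⟨U', hKU'⟩ := exists_decomp hG hM (kappa_cyclic hG hM hK') hK'
  obtain ⟨-, hne, hle, -⟩ := Cfsg.Agent.S1364.result hG M hM K' U' hKU' hK'1
  obtain ⟨y, hy, hy1⟩ := (bot_or_exists_ne_one _).resolve_left hne
  obtain ⟨y₀, hy₀, hye⟩ := hle hy
  refine hy1 ?_
  rw [← hye, hV₀x u u.2 (fun e => hu1 (by rw [e]; rfl)) y₀ hy₀ (Subtype.ext ?_), map_one]
  show ((u : M) : G) * (y₀ : G) = (y₀ : G) * ((u : M) : G)
  rw [show (y₀ : G) = y from hye]
  exact mem_centralizer_iff.1 hy.2 _ huK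

end CfsgLib.OddLocal.Kap
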