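import Cfsg.Agent.OddLocal.KappaTypeTwoPartner

/-!
The normalizer of a Sylow subgroup of `U` (BG 14.12, 15.x).
-/

set_option autoImplicit false
set_option linter.style.haveILetI false
set_option linter.unusedSectionVars false

namespace CfsgLib.OddLocal.Kap

open Subgroup Cfsg CfsgLib.OddLocal
open scoped commutatorElement Pointwise

universe u

variable {G : Type u} [Group G] [Finite G]
variable (hG : Cfsg.IsMinSimpleOddOrder G)
include hG

/-- A maximal subgroup over the normalizer of a Sylow subgroup of `U`. -/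
theorem over_sylow {M K U : Subgroup G} (hM : IsCoatom M) (hKU : Cfsg.IsSigmaDecomposition M K U)
    (hK1 : K ≠ ⊥) (hU1 : U ≠ ⊥) {r : ℕ} [hr : Fact r.Prime] (hrU : r ∣ Nat.card U) (R : Sylow r U)
    {H : Subgroup G} (hH : IsCoatom H)
    (hNR : normalizer (((R : Subgroup U).map U.subtype : Subgroup G) : Set G) ≤ H) :
    U ≤ H ∧ K ≤ H ∧ ∀ g : G, H ≠ M.map (MulAut.conj g).toMonoidHom := by
  set S := (R : Subgroup U).map U.subtype with hS
  have hUH := decomp_hall hG hM hKU
  have hab := decomp_commutative hG hM hKU hK1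
  haveI := hab
  have hUS : U ≤ normalizer (S : Set G) := fun u hu =>
    centralizer_le_normalizer _ (mem_centralizer_iff.2 fun y hy => congrArg Subtype.val
      (hab.is_comm.comm ⟨y, map_subtype_le _ hy⟩ ⟨u, hu⟩))
  have hKS : K ≤ normalizer (S : Set G) := fun c hc => by
    refine Uniq.mem_normalizer_of_map_le ?_
    refine Excep.le_of_hall (map_subtype_le _) hUS ((map_mono (map_subtype_le _)).trans
      (le_of_eq (mem_normalizer_iff_map_conj_eq.1 (hKU.normal hc)))) ?_
    refine Excep.coprime_of_pgroup ((R.2.map U.subtype).map _) ?_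
    rw [hS, relIndex, ← comap_subtype, comap_map_eq_self_of_injective U.subtype_injective]
    exact R.not_dvd_index
  refine ⟨hUS.trans hNR, hKS.trans hNR, fun g e => ?_⟩
  obtain ⟨-, -, hrσ⟩ := hUH.2.1 r hr.out hrU
  have hSd : ¬ r ∣ S.relIndex M := by
    rw [← relIndex_mul_relIndex S U M (map_subtype_le _) hUH.1]
    intro h
    rcases hr.out.dvd_mul.1 h with h | h
    · rw [hS, relIndex, ← comap_subtype, comap_map_eq_self_of_injective U.subtype_injective] at h
      exact R.not_dvd_index h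
    · exact hUH.2.2 r hr.out (hUH.2.1 r hr.out hrU) h
  have hSH : S ≤ H := le_normalizer.trans hNR
  have hSdH : ¬ r ∣ (S.subgroupOf H).index := by
    show ¬ r ∣ S.relIndex H
    have h1 := CfsgLib.InvariantHall.relIndex_mul_card hSH
    have h2 := CfsgLib.InvariantHall.relIndex_mul_card ((map_subtype_le _).trans hUH.1 : S ≤ M)
    have hcM : Nat.card M = Nat.card H := by rw [e, card_map_of_injective (MulAut.conj g).injective]
    rw [hcM, ← h1] at h2
    rwa [← Nat.eq_of_mul_eq_mul_left Nat.card_pos h2]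
  refine hrσ ((sigma_map_iff g).1 (e ▸ (?_ : r ∈ Cfsg.sigma H)))
  refine ⟨hr.out, ?_, ((R.2.map U.subtype).comap_subtype (K := H)).toSylow hSdH, ?_⟩
  · exact (hrU.trans (card_dvd_of_le (hUS.trans hNR)))
  · show normalizer (((S.subgroupOf H).map H.subtype : Subgroup G) : Set G) ≤ H
    rwa [map_subgroupOf_eq_of_le hSH]

/-- `K` is generated by an element of prime order when `U ≠ 1`. -/
theorem decomp_generator {M K U : Subgroup G} (hM : IsCoatom M) (hKU : Cfsg.IsSigmaDecomposition M K U)
    (hK1 : K ≠ ⊥) (hU1 : U ≠ ⊥) :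
    ∃ q : ℕ, q.Prime ∧ ∃ k ∈ K, orderOf k = q ∧ K = zpowers k := by
  have hp := decomp_prime hG hM hKU hK1 hU1
  obtain ⟨k, hk⟩ := exists_prime_orderOf_dvd_card' (G := K) (hp := ⟨hp⟩) (Nat.card K) dvd_rfl
  refine ⟨_, hp, (k : G), k.2, by rw [orderOf_coe, hk], (eq_of_le_of_card_ge (zpowers_le.2 k.2) ?_).symm⟩
  rw [Nat.card_zpowers, orderOf_coe, hk]

end CfsgLib.OddLocal.Kap
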