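import Cfsg.Agent.OddLocal.KappaTypeF
import Cfsg.Agent.S1365
import Cfsg.Agent.S1370
import Cfsg.Agent.S1372
import Cfsg.Agent.S1363
import Cfsg.Agent.OddLocal.KappaNilpotentHall

/-!
Subgroups of type P.
-/

set_option autoImplicit false
set_option linter.style.haveILetI false
set_option linter.unusedSectionVars false

namespace CfsgLib.OddLocal.Kap

open Subgroup Cfsg CfsgLib.OddLocal
open scoped commutatorElement Pointwise

universe u

variable {G : Type u} [Group G] [Finite G]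

variable (hG : Cfsg.IsMinSimpleOddOrder G)
include hG

/-- A maximal subgroup with type P data has a `κ`-prime. -/
theorem kappa_of_typeP {M W₁ U W₂ : Subgroup G} (hM : IsCoatom M) (hP : Cfsg.IsTypePWith M W₁ U W₂) :
    (Cfsg.kappa M).Nonempty := by
  obtain ⟨p, hp, hd⟩ := Nat.exists_prime_and_dvd (fun h => hP.W₁_ne (eq_bot_of_card_eq W₁ h))
  haveI := Fact.mk hp
  obtain ⟨hDM, hWM, hdis, hprod⟩ := hP.W₁_compl
  have hcard := FittingHall.card_complIn hP.W₁_compl
  have hidx : W₁.relIndex M = Nat.card ↥⁅M, M⁆ := Nat.eq_of_mul_eq_mul_left (Nat.card_pos (α := W₁))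
    (by rw [CfsgLib.InvariantHall.relIndex_mul_card hWM, hcard, mul_comm])
  have hpD : ¬ p ∣ Nat.card ↥⁅M, M⁆ := fun h => hp.not_dvd_one (hP.W₁_hall ▸ Nat.dvd_gcd hd (hidx.symm ▸ h))
  have hpσ : p ∉ Cfsg.sigma M := fun h => hpD (by
    refine dvd_trans ?_ (card_dvd_of_le (Sig.sigma_core hG hM).2.2)
    have h2 := CfsgLib.InvariantHall.relIndex_mul_card (show Cfsg.sigmaCore M ≤ M from map_subtype_le _)
    exact (hp.dvd_mul.1 (h2.symm ▸ hd.trans (card_dvd_of_le hWM))).resolve_right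
      ((Sig.sigma_core hG hM).1.2.2 p hp h))
  have hW₂ : W₂ ≠ ⊥ := hP.selfNormalizing.2.1
  obtain ⟨x, hx⟩ := exists_prime_orderOf_dvd_card' (G := W₁) p hd
  have hxo : orderOf (x : G) = p := by rw [Subgroup.orderOf_coe, hx]
  obtain ⟨y, hy, hy1⟩ := (bot_or_exists_ne_one _).resolve_left hW₂
  refine ⟨p, mem_kappa hG hM hpσ ?_ (hWM x.2) hxo ?_⟩
  · intro A hA hAe
    haveI := hA
    have hnd : ¬ p ∣ W₁.relIndex M := hidx.symm ▸ hpD
    obtain ⟨Q⟩ : Nonempty (Sylow p W₁) := inferInstance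
    have hsyl : ¬ p ∣ (((Q : Subgroup W₁).map W₁.subtype).subgroupOf M).index := by
      rw [← relIndex, ← relIndex_mul_relIndex _ W₁ M (map_subtype_le _) hWM]
      refine fun h => (hp.dvd_mul.1 h).elim (fun h => ?_) hnd
      rw [relIndex, ← comap_subtype, comap_map_eq_self_of_injective W₁.subtype_injective] at h
      exact Q.not_dvd_index h
    set T := ((Q.2.map W₁.subtype).comap_subtype (K := M)).toSylow hsyl with hT
    obtain ⟨S, hS⟩ := (CfsgLib.Signalizer.isPGroup (⟨hA, hAe⟩ : Cfsg.IsElementaryAbelian p A)).exists_le_sylow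
    obtain ⟨g, hg⟩ := MulAction.exists_smul_eq M T S
    haveI := hP.W₁_cyclic
    haveI : IsCyclic (T : Subgroup M) := by
      refine isCyclic_of_injective
        ((M.subtype.comp (T : Subgroup M).subtype).codRestrict W₁ fun z => map_subtype_le _ z.2) ?_
      exact fun a b h => Subtype.ext (M.subtype_injective (congrArg (Subtype.val : W₁ → G) h))
    haveI : IsCyclic (S : Subgroup M) := by
      rw [← hg, Sylow.coe_subgroup_smul]
      exact isCyclic_of_surjective (equivSMul (MulAut.conj g) _).toMonoidHom (MulEquiv.surjective _)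
    haveI : IsCyclic A := isCyclic_of_injective (inclusion hS) (inclusion_injective _)
    rw [pow_one, ← IsCyclic.exponent_eq_card]
    exact Nat.le_of_dvd hp.pos (Monoid.exponent_dvd_of_forall_pow_eq_one fun a => Subtype.ext (hAe a a.2))
  · refine fun h => hy1 (mem_bot.1 (h ▸ ⟨fittingHallOf_le_sigmaCore hG hM (hP.W₂_le hy).1, ?_⟩))
    have hcomm := hP.selfNormalizing.2.2.2.1 x x.2 y hy
    exact mem_centralizer_singleton_iff.2 hcomm.symm

variable {M K U : Subgroup G} (hM : IsCoatom M) (hKU : Cfsg.IsSigmaDecomposition M K U) (hK1 : K ≠ ⊥)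
include hM hKU hK1

theorem kappa_coprime_derived : (Nat.card K).Coprime (Nat.card ↥⁅M, M⁆) := by
  rw [Cfsg.Agent.S1365.result hG M hM K U hKU hK1 |>.1]
  refine Nat.coprime_of_dvd fun q hq h1 h2 => ?_
  have hκ := hKU.hall.2.1 q hq h1
  rcases hq.dvd_mul.1 (h2.trans (CfsgLib.Solvable.card_sup_dvd (hKU.compl.1.trans (TH.le_normalizer_core M)))) with h | h
  · exact ((decomp_hall hG hM hKU).2.1 q hq h).2.1 hκ
  · exact hκ.2.2.1 ((Sig.sigma_core hG hM).1.2.1 q hq h)

theorem derived_compl : Cfsg.IsComplIn ⁅M, M⁆ K M := by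
  refine ⟨commutator_le.2 fun a ha b hb => M.mul_mem (M.mul_mem (M.mul_mem ha hb) (M.inv_mem ha)) (M.inv_mem hb),
    hKU.hall.1, disjoint_iff.1 (disjoint_of_coprime_natCard (kappa_coprime_derived hG hM hKU hK1).symm),
    fun m hm => ?_⟩
  rw [(Cfsg.Agent.S1365.result hG M hM K U hKU hK1).1]
  obtain ⟨u, hu, b, hb, rfl⟩ := hKU.compl.2.2.2 m hm
  rw [← SetLike.mem_coe, coe_mul_of_left_le_normalizer_right K (Cfsg.sigmaCore M)
    (hKU.hall.1.trans (TH.le_normalizer_core M))] at hb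
  obtain ⟨k, hk, s, hs, rfl⟩ := hb
  exact ⟨u * (k * s * k⁻¹), mul_mem (mem_sup_left hu)
    (mem_sup_right ((mem_normalizer_iff.1 (TH.le_normalizer_core M (hKU.hall.1 hk)) s).1 hs)), k, hk, by group⟩

theorem selfNormalizing_pair :
    Cfsg.IsSelfNormalizingCyclic K (Cfsg.sigmaCore M ⊓ centralizer (K : Set G)) := by
  have hdis : K ⊓ (Cfsg.sigmaCore M ⊓ centralizer (K : Set G)) = ⊥ :=
    disjoint_iff.1 (disjoint_of_coprime_natCard (Nat.coprime_of_dvd fun p hp h1 h2 =>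
      (hKU.hall.2.1 p hp h1).2.2.1 (primes_star hG hM p hp h2)))
  haveI hcyc : IsCyclic ↥(K ⊔ (Cfsg.sigmaCore M ⊓ centralizer (K : Set G))) := sup_cyclic hG hM hKU.hall hK1
  obtain ⟨hti, hnorm⟩ := Cfsg.Agent.S1370.result hG M hM K U hKU hK1
  refine ⟨hK1, fixed_ne_bot hG hM hKU.hall hK1, hdis, fun a ha b hb => mem_centralizer_iff.1 hb.2 a ha, hcyc,
    fun X hX ⟨x, hx⟩ => le_antisymm (fun g hg => ?_) fun g hg => ?_⟩
  · rw [← hnorm]
    by_contra hgn
    refine (hX hx).2 (Or.inl ?_)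
    rw [hti g hgn x (hX hx) (hX ((mem_set_normalizer_iff.1 hg x).1 hx))]
    exact K.one_mem
  · refine mem_set_normalizer_iff.2 fun w => ?_
    letI := IsCyclic.commGroup (α := ↥(K ⊔ (Cfsg.sigmaCore M ⊓ centralizer (K : Set G))))
    have hfix : ∀ v ∈ X, g * v * g⁻¹ = v := fun v hv => by
      rw [show g * v = v * g from congrArg (Subtype.val (p := (· ∈ K ⊔ (Cfsg.sigmaCore M ⊓ centralizer (K : Set G)))))
        (mul_comm (⟨g, hg⟩ : ↥(K ⊔ (Cfsg.sigmaCore M ⊓ centralizer (K : Set G)))) ⟨v, (hX hv).1⟩), mul_inv_cancel_right]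
    refine ⟨fun hw => (hfix w hw).symm ▸ hw, fun hw => ?_⟩
    have h := hfix _ hw
    have h2 : g * w * g⁻¹ = w := by
      have h3 : g * (g * w * g⁻¹) * g⁻¹ = g * w * g⁻¹ := h
      exact mul_left_cancel (mul_right_cancel h3)
    rwa [h2] at hw

theorem typeP_data {V : Subgroup G} (hVn : Group.IsNilpotent V) (hKV : K ≤ normalizer (V : Set G))
    (hV : Cfsg.IsComplIn (Cfsg.fittingHallOf M) V ⁅M, M⁆) :
    Cfsg.IsTypePWith M K V (Cfsg.sigmaCore M ⊓ centralizer (K : Set G)) := by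
  obtain ⟨hcyc, hne, hle, hnc⟩ := Cfsg.Agent.S1364.result hG M hM K U hKU hK1
  obtain ⟨hder, hle2⟩ := Cfsg.Agent.S1365.result hG M hM K U hKU hK1
  have hF := (fitting_eq_centralizer hG hM).trans (sup_comm _ _)
  refine ⟨hK1, hKU.cyclic, CfsgLib.InvariantHall.coprime_of_isPiHallOf hKU.hall, derived_compl hG hM hKU hK1,
    hVn, hKV, hV, hnc, hF ▸ derived_two_le hG hM, hF.symm,
    fitting_le_derived hG hM ((kappa_nonempty_iff hG hM hKU).2 hK1), le_inf hle hle2, fun k hk hk1 => ?_,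
    selfNormalizing_pair hG hM hKU hK1⟩
  have hc := (decomp_centralizers hG hM hKU.cyclic hKU.hall).2 hK1 k hk hk1
  obtain ⟨hDM, -, hdis, -⟩ := derived_compl hG hM hKU hK1
  refine le_antisymm ?_ (le_inf (hder.symm ▸ (inf_le_left.trans le_sup_right)) ?_)
  · rintro x ⟨hxD, hxc⟩
    have hx : x ∈ K ⊔ (Cfsg.sigmaCore M ⊓ centralizer (K : Set G)) := hc ▸ ⟨hDM hxD, hxc⟩
    rw [← SetLike.mem_coe, coe_mul_of_left_le_normalizer_right K (Cfsg.sigmaCore M ⊓ centralizer (K : Set G)) (le_inf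
      (hKU.hall.1.trans (TH.le_normalizer_core M)) (le_normalizer.trans
        (TH.normalizer_le_normalizer_centralizer K)) |>.trans inf_normalizer_le_normalizer_inf)] at hx
    obtain ⟨a, ha, b, hb, rfl⟩ := hx
    have hbD : b ∈ ⁅M, M⁆ := hder.symm ▸ mem_sup_right hb.1
    have ha1 : a ∈ ⁅M, M⁆ ⊓ K := ⟨by simpa using Subgroup.mul_mem _ hxD (Subgroup.inv_mem _ hbD), ha⟩
    rw [hdis, mem_bot] at ha1
    show a * b ∈ _
    rw [ha1, one_mul]
    exact hb
  · exact inf_le_right.trans (centralizer_le (Set.singleton_subset_iff.2 hk))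

omit hKU hK1 in
/-- Nontrivial complements of `M_F` in `M_σ` have their normalizers in `M`. -/
theorem complement_normalizer_le {V : Subgroup G} (hV1 : V ≠ ⊥) (hVn : Group.IsNilpotent V)
    (hV : Cfsg.IsComplIn (Cfsg.fittingHallOf M) V (Cfsg.sigmaCore M)) : normalizer (V : Set G) ≤ M := by
  obtain ⟨r, hr, hrd⟩ := Nat.exists_prime_and_dvd (fun h => hV1 (eq_bot_of_card_eq V h))
  haveI := Fact.mk hr
  set R := Bender.qc r V
  have hVS := hV.2.1
  have hRS : R ≤ Cfsg.sigmaCore M := (Bender.qc_le r V).trans hVS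
  have hrσ : r ∈ Cfsg.sigma M := (Sig.sigma_core hG hM).1.2.1 r hr (hrd.trans (card_dvd_of_le hVS))
  have hRd : ¬ r ∣ R.index := fun h => by
    rw [← relIndex_mul_index hRS, ← relIndex_mul_relIndex R V _ (Bender.qc_le r V) hVS] at h
    rcases hr.dvd_mul.1 h with h | h
    · rcases hr.dvd_mul.1 h with h | h
      · exact qc_not_dvd_relIndex hVn h
      · have hc := FittingHall.card_complIn hV
        rw [← CfsgLib.InvariantHall.relIndex_mul_card hVS, mul_comm (Nat.card ↥(Cfsg.fittingHallOf M))] at hc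
        have he : V.relIndex (Cfsg.sigmaCore M) = Nat.card ↥(Cfsg.fittingHallOf M) :=
          Nat.eq_of_mul_eq_mul_left Nat.card_pos hc
        have hco := FittingHall.coprime_complIn (map_subtype_le _) hV
        exact hr.not_dvd_one ((hco : Nat.gcd _ _ = 1) ▸ Nat.dvd_gcd (he ▸ h) hrd)
    · exact (Sig.sigma_core hG hM).2.1.2 r hr hrσ h
  haveI : (Cfsg.pCore r V).Characteristic := characteristic_iff_map_le.2 fun φ =>
    CfsgLib.Solvable.le_pCore r ((CfsgLib.Solvable.pCore_normal r).map _ φ.surjective)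
      ((CfsgLib.Solvable.isPGroup_pCore r).map _)
  refine (UTool.normalizer_le_normalizer_map V (Cfsg.pCore r V) inferInstance).trans ?_
  exact Sig.normalizer_sylow_le hrσ ((Bender.isPGroup_qc (s := r) V).toSylow hRd) (hRS.trans (map_subtype_le _))

omit hKU hK1 in
/-- Complements of the normal Hall subgroup `M_σ` in `M'` are conjugate. -/
theorem complements_conj {V W : Subgroup G} (hV : Cfsg.IsComplIn (Cfsg.sigmaCore M) V ⁅M, M⁆)
    (hW : Cfsg.IsComplIn (Cfsg.sigmaCore M) W ⁅M, M⁆) : ∃ g ∈ M, MulAut.conj g • V = W := by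
  have hDM : ⁅M, M⁆ ≤ M :=
    commutator_le.2 fun a ha b hb => M.mul_mem (M.mul_mem (M.mul_mem ha hb) (M.inv_mem ha)) (M.inv_mem hb)
  have hall : ∀ {V : Subgroup G}, Cfsg.IsComplIn (Cfsg.sigmaCore M) V ⁅M, M⁆ →
      Cfsg.IsPiHallOf {q | q ∉ Cfsg.sigma M} V ⁅M, M⁆ := by
    intro V hV
    have hcard := FittingHall.card_complIn hV
    have h2 := CfsgLib.InvariantHall.relIndex_mul_card hV.2.1
    have hrel : (Cfsg.sigmaCore M).relIndex ⁅M, M⁆ = Nat.card V :=
      Nat.eq_of_mul_eq_mul_left (Nat.card_pos (α := Cfsg.sigmaCore M))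
        (by rw [CfsgLib.InvariantHall.relIndex_mul_card hV.1, hcard])
    refine ⟨hV.2.1, fun q hq hd hqσ => (Sig.sigma_core hG hM).1.2.2 q hq hqσ ?_, fun q hq hqσ hd => hqσ ?_⟩
    · rw [← relIndex_mul_relIndex _ _ M hV.1 hDM, hrel]; exact dvd_mul_of_dvd_left hd _
    · refine (Sig.sigma_core hG hM).1.2.1 q hq ?_
      rw [hcard, mul_comm (Nat.card ↥(Cfsg.sigmaCore M))] at h2
      exact Nat.eq_of_mul_eq_mul_left Nat.card_pos h2 ▸ hd
  obtain ⟨g, hg, he⟩ := CfsgLib.InvariantHall.conj_of_isPiHallOf (solvable_le hG hM hDM) (hall hV) (hall hW)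
  exact ⟨g, hDM hg, he⟩

end CfsgLib.OddLocal.Kap
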