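import Cfsg.Agent.OddLocal.KappaTypeCore
import Cfsg.Agent.OddLocal.KappaBeta
import Cfsg.Agent.OddLocal.KappaTypeP
import Cfsg.Agent.OddLocal.KappaTypeF
import Cfsg.Agent.S1355

/-!
Invariance and set normalizers of the supports `A₁(M) ⊆ A(M) ⊆ A₀(M)`.
-/

set_option autoImplicit false
set_option linter.style.haveILetI false
set_option linter.unusedSectionVars false

namespace CfsgLib.OddLocal.Kap

open Subgroup Cfsg CfsgLib.OddLocal
open scoped commutatorElement Pointwise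

universe u

variable {G : Type u} [Group G] [Finite G]

theorem commutator_le_self' (M : Subgroup G) : ⁅M, M⁆ ≤ M :=
  commutator_le.2 fun a ha b hb => M.mul_mem (M.mul_mem (M.mul_mem ha hb) (M.inv_mem ha)) (M.inv_mem hb)

theorem typeCore_le (M : Subgroup G) : Cfsg.typeCore M ≤ M := by
  unfold Cfsg.typeCore
  split_ifs
  · exact commutator_le_self' M
  · exact FittingHall.of_le M

theorem le_normalizer_typeCore (M : Subgroup G) : M ≤ normalizer (Cfsg.typeCore M : Set G) := by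
  unfold Cfsg.typeCore
  split_ifs
  · exact le_normalizer_derived M
  · exact le_normalizer.trans (normalizer_le_fittingHallOf M)

theorem conj_mem_of_le_normalizer {M N : Subgroup G} (h : M ≤ normalizer (N : Set G)) {m x : G} (hm : m ∈ M)
    (hx : x ∈ N) : m * x * m⁻¹ ∈ N :=
  (mem_normalizer_iff.1 (h hm) x).1 hx

theorem typeA1_conj {M : Subgroup G} {m x : G} (hm : m ∈ M) (hx : x ∈ Cfsg.typeA1 M) :
    m * x * m⁻¹ ∈ Cfsg.typeA1 M :=
  ⟨conj_mem_of_le_normalizer (le_normalizer_typeCore M) hm hx.1, fun h => hx.2 (conj_eq_one_iff.1 h)⟩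

theorem typeA_conj {M : Subgroup G} {m x : G} (hm : m ∈ M) (hx : x ∈ Cfsg.typeA M) :
    m * x * m⁻¹ ∈ Cfsg.typeA M := by
  by_cases hI : Cfsg.IsOfTypeI M
  · simp only [Cfsg.typeA, if_pos hI, Set.mem_ofPred_eq] at hx ⊢
    obtain ⟨hxM, hx1, y, hy, hy1, he⟩ := hx
    exact ⟨M.mul_mem (M.mul_mem hm hxM) (M.inv_mem hm), fun h => hx1 (conj_eq_one_iff.1 h), m * y * m⁻¹,
      conj_mem_of_le_normalizer (le_normalizer.trans (normalizer_le_fittingHallOf M)) hm hy,
      fun h => hy1 (conj_eq_one_iff.1 h), ((show Commute x y from he).map (MulAut.conj m).toMonoidHom).eq⟩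
  · simp only [Cfsg.typeA, if_neg hI, Set.mem_ofPred_eq] at hx ⊢
    obtain ⟨hxM, hx1, y, hy, hy1, he⟩ := hx
    exact ⟨conj_mem_of_le_normalizer (le_normalizer_derived M) hm hxM, fun h => hx1 (conj_eq_one_iff.1 h),
      m * y * m⁻¹, conj_mem_of_le_normalizer (le_normalizer_typeCore M) hm hy,
      fun h => hy1 (conj_eq_one_iff.1 h), ((show Commute x y from he).map (MulAut.conj m).toMonoidHom).eq⟩

theorem typeA0_conj {M : Subgroup G} {m x : G} (hm : m ∈ M) (hx : x ∈ Cfsg.typeA0 M) :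
    m * x * m⁻¹ ∈ Cfsg.typeA0 M := by
  rcases hx with hx | ⟨hI, W₁, V, W₂, hP, c, hc, w, hw, h1, h2, rfl⟩
  · exact Or.inl (typeA_conj hm hx)
  · exact Or.inr ⟨hI, W₁, V, W₂, hP, m * c, M.mul_mem hm hc, w, hw, h1, h2, by group⟩

theorem typeA_subset (M : Subgroup G) : Cfsg.typeA M ⊆ (M : Set G) \ {1} := by
  intro x hx
  by_cases hI : Cfsg.IsOfTypeI M
  · simp only [Cfsg.typeA, if_pos hI, Set.mem_ofPred_eq] at hx
    exact ⟨hx.1, hx.2.1⟩
  · simp only [Cfsg.typeA, if_neg hI, Set.mem_ofPred_eq] at hx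
    exact ⟨commutator_le_self' M hx.1, hx.2.1⟩

/-- An element of `W₁W₂` outside `W₁` has a non-trivial power in `W₂`. -/
theorem power_in_W2 {M W₁ V W₂ : Subgroup G} (hP : Cfsg.IsTypePWith M W₁ V W₂) {w : G} (hw : w ∈ W₁ ⊔ W₂)
    (h1 : w ∉ W₁) : w ^ Nat.card W₁ ∈ W₂ ∧ w ^ Nat.card W₁ ≠ 1 := by
  obtain ⟨-, -, -, hcomm, -, -⟩ := hP.selfNormalizing
  have hn : W₁ ≤ normalizer (W₂ : Set G) := le_trans
    (fun a ha => mem_centralizer_iff.2 fun b hb => (hcomm a ha b hb).symm) (centralizer_le_normalizer _)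
  obtain ⟨a, ha, b, hb, rfl⟩ : ∃ a ∈ W₁, ∃ b ∈ W₂, a * b = w := by
    rw [← SetLike.mem_coe, coe_mul_of_left_le_normalizer_right W₁ W₂ hn] at hw
    exact hw
  have hc : Commute a b := hcomm a ha b hb
  have he : (a * b) ^ Nat.card W₁ = b ^ Nat.card W₁ := by
    rw [hc.mul_pow, show a ^ Nat.card W₁ = 1 from orderOf_dvd_iff_pow_eq_one.1 (W₁.orderOf_dvd_natCard ha),
      one_mul]
  refine ⟨he ▸ pow_mem hb _, fun h => h1 ?_⟩
  have hW2D : W₂ ≤ ⁅M, M⁆ := hP.W₂_le.trans (inf_le_left.trans hP.U_compl.1)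
  have hco : (Nat.card W₁).Coprime (Nat.card ↥⁅M, M⁆) := by
    refine hP.W₁_hall.of_dvd_right ?_
    obtain ⟨hDM, hWM, hdis, hprod⟩ := hP.W₁_compl
    have hcard := FittingHall.card_complIn hP.W₁_compl
    have h : Nat.card W₁ * W₁.relIndex M = Nat.card M := by
      rw [← relIndex_bot_left, ← relIndex_bot_left, relIndex_mul_relIndex _ _ M bot_le hWM]
    have hpos : 0 < Nat.card W₁ := Nat.card_pos
    exact dvd_of_eq (Nat.eq_of_mul_eq_mul_left hpos (by rw [h, hcard, mul_comm]))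
  have hb1 : b = 1 := by
    have d1 : orderOf b ∣ Nat.card W₁ := orderOf_dvd_iff_pow_eq_one.2 (he ▸ h)
    exact orderOf_eq_one_iff.1 (Nat.eq_one_of_dvd_coprimes hco d1 ((⁅M, M⁆ : Subgroup G).orderOf_dvd_natCard (hW2D hb)))
  rw [hb1, mul_one]; exact ha

theorem typeA0_subset (M : Subgroup G) : Cfsg.typeA0 M ⊆ (M : Set G) \ {1} := by
  rintro x (hx | ⟨-, W₁, V, W₂, hP, m, hm, w, hw, h1, -, rfl⟩)
  · exact typeA_subset M hx
  · refine ⟨M.mul_mem (M.mul_mem hm (sup_le hP.W₁_compl.2.1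
      (hP.W₂_le.trans (inf_le_left.trans (hP.U_compl.1.trans (commutator_le_self' M)))) hw)) (M.inv_mem hm),
      fun h => h1 ?_⟩
    rw [show w = 1 from conj_eq_one_iff.1 h]
    exact one_mem _

variable (hG : Cfsg.IsMinSimpleOddOrder G)
include hG

/-- A nonempty `M`-invariant subset of `M \ {1}` has set normalizer `M`. -/
theorem set_normalizer_eq {M : Subgroup G} (hM : IsCoatom M) {A : Set G} (hA : A ⊆ (M : Set G) \ {1})
    (hne : A.Nonempty) (hinv : ∀ m ∈ M, ∀ x ∈ A, m * x * m⁻¹ ∈ A) : normalizer A = M := by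
  have hle : M ≤ normalizer A := fun m hm => mem_set_normalizer_iff.2 fun x => ⟨hinv m hm x, fun h => by
    have := hinv m⁻¹ (M.inv_mem hm) _ h
    rwa [show m⁻¹ * (m * x * m⁻¹) * m⁻¹⁻¹ = x by group] at this⟩
  rcases eq_or_lt_of_le hle with h | h
  · exact h.symm
  exfalso
  have htop : normalizer A = ⊤ := hM.2 _ h
  obtain ⟨x, hx⟩ := hne
  haveI := hG.2.1
  have hN : normalClosure ({x} : Set G) ≤ M := (closure_le M).2 fun y hy => by
    obtain ⟨z, hz, hzy⟩ := Group.mem_conjugatesOfSet_iff.1 hy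
    obtain rfl : z = x := hz
    obtain ⟨c, rfl⟩ := isConj_iff.1 hzy
    exact (hA ((mem_set_normalizer_iff.1 (htop ▸ mem_top c) z).1 hx)).1
  rcases (normalClosure_normal : (normalClosure ({x} : Set G)).Normal).eq_bot_or_eq_top with e | e
  · exact (hA hx).2 (mem_bot.1 (e.le (subset_normalClosure rfl)))
  · exact hM.1 (top_le_iff.1 (e.symm.le.trans hN))

theorem typeCore_ne_bot {M : Subgroup G} (hM : IsCoatom M) : Cfsg.typeCore M ≠ ⊥ := by
  obtain ⟨hF1, hFS, hSD, -, -⟩ := Cfsg.Agent.S1355.result hG M hM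
  unfold Cfsg.typeCore
  split_ifs
  · exact ne_bot_of_le_ne_bot hF1 (hFS.trans hSD)
  · exact hF1

/-- For a subgroup of type I the core is `M_F`. -/
theorem typeCore_of_typeI {M : Subgroup G} (hM : IsCoatom M) (hI : Cfsg.IsOfTypeI M) :
    Cfsg.typeCore M = Cfsg.fittingHallOf M := by
  obtain ⟨K, U, hKU⟩ := exists_decomp_any hG hM
  exact if_neg fun h => ((Cfsg.Agent.S1382.result hG M hM K U hKU).1 h).1 (bot_of_typeF hG hM hKU hI.1)

theorem typeA1_subset_typeA {M : Subgroup G} (hM : IsCoatom M) : Cfsg.typeA1 M ⊆ Cfsg.typeA M := by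
  intro x hx
  by_cases hI : Cfsg.IsOfTypeI M
  · simp only [Cfsg.typeA, if_pos hI, Set.mem_ofPred_eq]
    exact ⟨typeCore_le M hx.1, hx.2, x, (typeCore_of_typeI hG hM hI) ▸ hx.1, hx.2, rfl⟩
  · simp only [Cfsg.typeA, if_neg hI, Set.mem_ofPred_eq]
    refine ⟨?_, hx.2, x, hx.1, hx.2, rfl⟩
    obtain ⟨-, hFS, hSD, -, -⟩ := Cfsg.Agent.S1355.result hG M hM
    have : Cfsg.typeCore M ≤ ⁅M, M⁆ := by
      unfold Cfsg.typeCore
      split_ifs
      · exact le_rfl
      · exact hFS.trans hSD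
    exact this hx.1

/-- The set normalizer of each of the three supports is `M`. -/
theorem support_normalizer {M : Subgroup G} (hM : IsCoatom M) :
    normalizer (Cfsg.typeA1 M) = M ∧ normalizer (Cfsg.typeA M) = M ∧ normalizer (Cfsg.typeA0 M) = M := by
  obtain ⟨x, hx, hx1⟩ := (bot_or_exists_ne_one (Cfsg.typeCore M)).resolve_left (typeCore_ne_bot hG hM)
  have h : x ∈ Cfsg.typeA1 M := ⟨hx, hx1⟩
  exact ⟨set_normalizer_eq hG hM (fun y hy => ⟨typeCore_le M hy.1, hy.2⟩) ⟨x, h⟩ fun m hm y => typeA1_conj hm,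
    set_normalizer_eq hG hM (typeA_subset M) ⟨x, typeA1_subset_typeA hG hM h⟩ fun m hm y => typeA_conj hm,
    set_normalizer_eq hG hM (typeA0_subset M) ⟨x, Or.inl (typeA1_subset_typeA hG hM h)⟩
      fun m hm y => typeA0_conj hm⟩

end CfsgLib.OddLocal.Kap
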