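import Cfsg.Agent.OddLocal.KappaTypeTwoSylow
import Cfsg.Agent.OddLocal.KappaSupport
import Cfsg.Agent.S1419
import Cfsg.Agent.S1426
import Mathlib.GroupTheory.SpecificGroups.ZGroup

/-!
A maximal subgroup supported by one with nonempty `κ` is a Frobenius group with cyclic complement (BG 15.9).
-/

set_option autoImplicit false
set_option linter.style.haveILetI false
set_option linter.unusedSectionVars false

namespace CfsgLib.OddLocal.Kap

open Subgroup Cfsg CfsgLib.OddLocal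
open scoped commutatorElement Pointwise

universe u

variable {G : Type u} [Group G] [Finite G]
variable (hG : Cfsg.IsMinSimpleOddOrder G)
include hG

/-- A decomposition of `N` inside a given complement. -/
theorem exists_decomp_in {N F : Subgroup G} (hN : IsCoatom N) (hF : Cfsg.IsComplIn F (Cfsg.sigmaCore N) N) :
    ∃ K U : Subgroup G, Cfsg.IsSigmaDecomposition N K U ∧ K ≤ F ∧ U ≤ F := by
  obtain ⟨K, hK, -⟩ := exists_hall_over (π := Cfsg.kappa N) (solvable_le hG hN hF.1)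
    (bot_le : (⊥ : Subgroup G) ≤ F) fun r hr hd => by rw [card_bot, Nat.dvd_one] at hd; exact absurd hd hr.ne_one
  have hKN : Cfsg.IsPiHallOf (Cfsg.kappa N) K N := by
    refine ⟨hK.1.trans hF.1, hK.2.1, fun r hr hrκ hd => ?_⟩
    rw [← relIndex_mul_relIndex K F N hK.1 hF.1] at hd
    rcases hr.dvd_mul.1 hd with h | h
    · exact hK.2.2 r hr hrκ h
    · rw [relIndex_complement hG hN hF] at h
      exact hrκ.2.2.1 ((Sig.sigma_core hG hN).1.2.1 r hr h)
  obtain ⟨U₀, hKU₀⟩ := exists_decomp hG hN (kappa_cyclic hG hN hKN) hKN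
  set V := U₀ ⊔ Cfsg.sigmaCore N with hV
  have hVN : V ≤ N := sup_le hKU₀.compl.1 (map_subtype_le _)
  have hVn := decomp_normal hG hN hKU₀
  have hVK : V ⊓ (K ⊔ Cfsg.sigmaCore N) = Cfsg.sigmaCore N := by
    refine le_antisymm (fun v hv => ?_) (le_inf le_sup_right le_sup_right)
    obtain ⟨c, hc, w, hw, rfl⟩ := (CfsgLib.Solvable.mem_sup_of_le_normalizer
      (hKN.1.trans (TH.le_normalizer_core N))).1 hv.2
    have hcV : c ∈ V := by
      rw [show c = c * w * w⁻¹ by group]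
      exact V.mul_mem hv.1 (V.inv_mem (mem_sup_right hw))
    obtain ⟨a, ha, w', hw', e⟩ := (CfsgLib.Solvable.mem_sup_of_le_normalizer
      (hKU₀.compl.1.trans (TH.le_normalizer_core N))).1 hcV
    have ha1 : a ∈ U₀ ⊓ (K ⊔ Cfsg.sigmaCore N) := ⟨ha, by
      rw [show a = a * w' * w'⁻¹ by group, e]
      exact (K ⊔ Cfsg.sigmaCore N).mul_mem (mem_sup_left hc) ((K ⊔ Cfsg.sigmaCore N).inv_mem (mem_sup_right hw'))⟩
    rw [hKU₀.compl.2.2.1, Subgroup.mem_bot] at ha1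
    rw [ha1, one_mul] at e
    exact mul_mem (e ▸ hw') hw
  refine ⟨K, F ⊓ V, ⟨hKU₀.cyclic, hKN, ⟨inf_le_left.trans hF.1, hKU₀.compl.2.1, ?_, fun m hm => ?_⟩, ?_⟩,
    hK.1, inf_le_left⟩
  · rw [inf_assoc, hVK]
    exact hF.2.2.1
  · obtain ⟨f, hf, w, hw, rfl⟩ := hF.2.2.2 m hm
    have hN' : N ≤ V ⊔ K := fun n hn => by
      obtain ⟨a, ha, b, hb, rfl⟩ := hKU₀.compl.2.2.2 n hn
      exact mul_mem (mem_sup_left (mem_sup_left ha))
        ((sup_le le_sup_right (le_sup_right.trans le_sup_left) : K ⊔ Cfsg.sigmaCore N ≤ V ⊔ K) hb)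
    have hfV : f ∈ K ⊔ V := by rw [sup_comm]; exact hN' (hF.1 hf)
    obtain ⟨c, hc, v, hv, rfl⟩ := (CfsgLib.Solvable.mem_sup_of_le_normalizer (hKN.1.trans hVn)).1 hfV
    refine ⟨c * v * c⁻¹, ⟨F.mul_mem hf (F.inv_mem (hK.1 hc)), (mem_normalizer_iff.1 (hVn (hKN.1 hc)) v).1 hv⟩,
      c * w, mul_mem (mem_sup_left hc) (mem_sup_right hw), by group⟩
  · exact le_trans (le_inf (hK.1.trans le_normalizer) (hKN.1.trans hVn)) inf_normalizer_le_normalizer_inf

section Supported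

variable {M N K U P : Subgroup G} (hM : IsCoatom M) (hN : IsCoatom N)
  (hKU : Cfsg.IsSigmaDecomposition N K U) (hK1 : K ≠ ⊥) (hP : IsCoatom P)
  (hPK : Cfsg.IsPiHallOf (Cfsg.kappa P) (star N K) P) (hKe : K = star P (star N K))
variable {q : ℕ} [hq : Fact q.Prime] {k : G} (hk : k ∈ K) (hko : orderOf k = q) (hKq : K = zpowers k)
  (hUM : U ≤ M) (hkM : k ∈ M) (hnc : ∀ g : G, M ≠ N.map (MulAut.conj g).toMonoidHom)
variable {x : G} {p : ℕ} [hp : Fact p.Prime] (hxU : x ∈ U) (hx : x ∈ Cfsg.sigmaCore M) (hxo : orderOf x = p)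
  (hxM : ¬ centralizer ({x} : Set G) ≤ M) (hxN : centralizer ({x} : Set G) ≤ N) (hpτ : p ∈ Cfsg.tau2 N)
include hM hN hKU hK1 hP hPK hKe hk hko hKq hUM hkM hnc hxU hx hxo hxM hxN hpτ

theorem supported_U_ne : U ≠ ⊥ := fun e => hp.out.ne_one (by
  rw [← hxo, orderOf_eq_one_iff]; exact Subgroup.mem_bot.1 (e ▸ hxU))

theorem supported_kappa : Cfsg.kappa M = ∅ := by
  have hU1 := supported_U_ne hG hM hN hKU hK1 hP hPK hKe hk hko hKq hUM hkM hnc hxU hx hxo hxM hxN hpτ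
  exact over_kappa hG hN hKU hK1 hP hPK hKe hk hko hU1 hM hnc
    (over_ne hG hN hKU hK1 hP hPK hKe hk hko hU1 hM hnc hUM hkM) hkM

theorem supported_nilpotent : Group.IsNilpotent (Cfsg.sigmaCore M) := by
  have hU1 := supported_U_ne hG hM hN hKU hK1 hP hPK hKe hk hko hKq hUM hkM hnc hxU hx hxo hxM hxN hpτ
  refine nilpotent_of_outer hG hM ⟨q, hq.out, dvd_of_mem hkM hko,
    over_not_sigma hG hN hKU hK1 hP hPK hKe hk hko hM
      (over_ne hG hN hKU hK1 hP hPK hKe hk hko hU1 hM hnc hUM hkM) hkM, ?_⟩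
  rw [supported_kappa hG hM hN hKU hK1 hP hPK hKe hk hko hKq hUM hkM hnc hxU hx hxo hxM hxN hpτ]
  exact id

/-- Only the identity of `M ⊓ P` fixes `x`. -/
theorem supported_fpf_point {e : G} (he : e ∈ M ⊓ P) (hex : Commute e x) : e = 1 := by
  have hU1 := supported_U_ne hG hM hN hKU hK1 hP hPK hKe hk hko hKq hUM hkM hnc hxU hx hxo hxM hxN hpτ
  have hne := over_ne hG hN hKU hK1 hP hPK hKe hk hko hU1 hM hnc hUM hkM
  have hUσ := over_complement_le hG hN hKU hK1 hP hPK hKe hk hko hU1 hM hnc hUM hkM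
  obtain ⟨-, hcompl⟩ := over_partner hG hN hKU hK1 hP hPK hKe hk hko hU1 hM hnc hUM hkM
  have heN : e ∈ N ⊓ M := ⟨hxN (mem_centralizer_singleton_iff.2 hex.eq), he.1⟩
  rw [over_meet hG hN hKU hK1 hP hPK hKe hk hko hU1 hM hnc hUM hkM hKq, sup_comm] at heN
  obtain ⟨c, hc, a, ha, rfl⟩ := (CfsgLib.Solvable.mem_sup_of_le_normalizer hKU.normal).1 heN
  have hcP : c ∈ M ⊓ P := by
    refine ⟨(hKq ▸ zpowers_le.2 hkM : K ≤ M) hc, ?_⟩
    rw [hKe] at hc
    exact map_subtype_le _ hc.1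
  have ha1 : a ∈ (M ⊓ P) ⊓ Cfsg.sigmaCore M := ⟨by
    rw [show a = c⁻¹ * (c * a) by group]
    exact (M ⊓ P).mul_mem ((M ⊓ P).inv_mem hcP) he, hUσ ha⟩
  rw [hcompl.2.2.1, Subgroup.mem_bot] at ha1
  subst ha1
  rw [mul_one] at hex ⊢
  by_contra hc1
  have hcz : zpowers c = K := eq_of_le_of_card_ge (zpowers_le.2 hc) (by
    rw [hKq, Nat.card_zpowers, Nat.card_zpowers, hko]
    have hd : orderOf c ∣ q := (K.orderOf_dvd_natCard hc).trans (dvd_of_eq (by rw [hKq, Nat.card_zpowers, hko]))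
    exact le_of_eq (((Nat.dvd_prime hq.out).1 hd).resolve_left fun h => hc1 (orderOf_eq_one_iff.1 h)).symm)
  obtain ⟨i, hi⟩ := mem_zpowers_iff.1 (hcz.ge hk)
  have hkx : Commute k x := hi ▸ hex.zpow_left i
  have h := (over_fpf hG hN hKU hK1 hP hPK hKe hk hko hU1 hM hnc hne hkM).le
    ⟨hx, mem_centralizer_singleton_iff.2 hkx.symm.eq⟩
  exact hp.out.ne_one (by rw [← hxo, orderOf_eq_one_iff]; exact Subgroup.mem_bot.1 h)

/-- `M ⊓ P` is abelian. -/
theorem supported_commutative : IsMulCommutative ↥(M ⊓ P) := by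
  have hU1 := supported_U_ne hG hM hN hKU hK1 hP hPK hKe hk hko hKq hUM hkM hnc hxU hx hxo hxM hxN hpτ
  obtain ⟨-, hcompl⟩ := over_partner hG hN hKU hK1 hP hPK hKe hk hko hU1 hM hnc hUM hkM
  have hnil := supported_nilpotent hG hM hN hKU hK1 hP hPK hKe hk hko hKq hUM hkM hnc hxU hx hxo hxM hxN hpτ
  have hpM : p ∈ Cfsg.sigma M := mem_sigma_of_mem_core hG hM hp.out hx hxo
  have hideal := (Cfsg.Agent.S1408.result hG N hN p hpτ.2.1 hpτ.2.2.1 hpτ.2.2.2).1
  have hp2 : p ≠ 2 := CfsgLib.CN.MinSimple.p_ne_two hG (hxo ▸ orderOf_dvd_natCard x)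
  haveI := hnil
  set S₀ := Bender.qc p (Cfsg.sigmaCore M) with hS₀
  have hSn : M ⊓ P ≤ normalizer (S₀ : Set G) := inf_le_left.trans ((TH.le_normalizer_core M).trans
    (UTool.normalizer_le_normalizer_map _ _ (PLenZ.characteristic_pCore p)))
  have hFσ : Cfsg.fittingOf (Cfsg.sigmaCore M) = Cfsg.sigmaCore M :=
    le_antisymm (Bender.fitting_le _) (Bender.le_fitting le_rfl le_normalizer hnil)
  have hxS : x ∈ S₀ := Bender.mem_qc (hFσ.ge hx) (j := 1) (by rw [hxo, pow_one])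
  have hSd : ¬ p ∣ S₀.relIndex M := by
    intro h
    obtain ⟨Q⟩ : Nonempty (Sylow p ↥(Cfsg.sigmaCore M)) := inferInstance
    have hQ : (Q : Subgroup ↥(Cfsg.sigmaCore M)).map (Cfsg.sigmaCore M).subtype ≤ S₀ := by
      rintro _ ⟨y, hy, rfl⟩
      obtain ⟨j, hj⟩ := IsPGroup.iff_orderOf.1 Q.2 ⟨y, hy⟩
      exact Bender.mem_qc (hFσ.ge y.2) (j := j) (by
        rw [Subgroup.coe_subtype, orderOf_coe]; rw [← orderOf_coe] at hj; exact hj)
    have h' := h.trans (relIndex_dvd_of_le_left M hQ)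
    rw [← relIndex_mul_relIndex _ (Cfsg.sigmaCore M) M (map_subtype_le _) (map_subtype_le _)] at h'
    rcases hp.out.dvd_mul.1 h' with h1 | h1
    · rw [relIndex, ← comap_subtype, comap_map_eq_self_of_injective (Cfsg.sigmaCore M).subtype_injective] at h1
      exact Q.not_dvd_index h1
    · exact (Sig.sigma_core hG hM).1.2.2 p hp.out hpM h1
  have hSM : S₀ ≤ M := (Bender.qc_le p _).trans (map_subtype_le _)
  let Q : Sylow p M := ((Bender.isPGroup_qc (s := p) (Cfsg.sigmaCore M)).comap_subtype (K := M)).toSylow hSd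
  have hnar : Cfsg.IsNarrow p S₀ := narrow_congr (subgroupOfEquivOfLe hSM)
    (Beta.narrow_of_not_beta hG hM hpM.2.1 (fun h => hideal h.2) Q)
  have hpE : ¬ p ∣ Nat.card ↥(M ⊓ P) := fun h => (Compl.card_eq hG hM hcompl).2.2 p hp.out h hpM
  have hd := derived_centralizes hp2 (Bender.isPGroup_qc _) hnar hSn
    (hG.1.of_dvd_nat (card_subgroup_dvd_card _)) hpE
  refine le_centralizer_iff_isMulCommutative.1 (commutator_eq_bot_iff_le_centralizer.1 ?_)
  refine le_bot_iff.1 fun e he => Subgroup.mem_bot.2 ?_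
  exact supported_fpf_point hG hM hN hKU hK1 hP hPK hKe hk hko hKq hUM hkM hnc hxU hx hxo hxM hxN hpτ
    (commutator_le_self _ he) (show Commute e x from (mem_centralizer_iff.1 (hd he) x hxS).symm)

/-- `M` has no prime in `τ₂`. -/
theorem supported_tau_two : Cfsg.tau2 M = ∅ := by
  by_contra hne
  obtain ⟨t, ht⟩ := Set.nonempty_iff_ne_empty.2 hne
  haveI := Fact.mk ht.1
  obtain ⟨-, htσ, hr2, hr1⟩ := id ht
  have hU1 := supported_U_ne hG hM hN hKU hK1 hP hPK hKe hk hko hKq hUM hkM hnc hxU hx hxo hxM hxN hpτ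
  have hne' := over_ne hG hN hKU hK1 hP hPK hKe hk hko hU1 hM hnc hUM hkM
  obtain ⟨-, hcompl⟩ := over_partner hG hN hKU hK1 hP hPK hKe hk hko hU1 hM hnc hUM hkM
  haveI hEc := supported_commutative hG hM hN hKU hK1 hP hPK hKe hk hko hKq hUM hkM hnc hxU hx hxo hxM hxN hpτ
  set E := M ⊓ P with hE
  obtain ⟨hkP, -, -, -⟩ := partner_sigma hG hN hKU hK1 hP hPK hKe hk hko
  have hkE : k ∈ E := ⟨hkM, map_subtype_le _ hkP⟩
  have hk1 : k ≠ 1 := fun e => hq.out.ne_one (by rw [← hko, e, orderOf_one])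
  obtain ⟨hideal, hmaxA⟩ := Cfsg.Agent.S1408.result hG M hM t htσ hr2 hr1
  obtain ⟨B, hBM, hB, hB2⟩ := Uniq.exists_elementary hr1
  obtain ⟨g, hg, hgB⟩ := Tau.conj_into_of_product (π := {t}) (solvable_le hG hM le_rfl) hcompl.1
    (map_subtype_le _ : Cfsg.sigmaCore M ≤ M) (TH.le_normalizer_core M)
    (by rw [sup_comm]; exact (Compl.card_eq hG hM hcompl).2.1.ge)
    (fun r hr hrt => hrt.symm ▸ not_dvd_core hG hM ht.1 htσ) hBM fun r hr hd => by
      rw [hB2] at hd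
      exact (Nat.prime_dvd_prime_iff_eq hr ht.1).1 (hr.dvd_of_dvd_pow hd)
  set A := B.map (MulAut.conj g).toMonoidHom
  have hA2 : Nat.card A = t ^ 2 := by rw [card_map_of_injective (MulAut.conj g).injective, hB2]
  have hA : Cfsg.IsElementaryAbelian t A := Tau.elementary_map hB _
  obtain ⟨hAk, -⟩ := over_plane hG hN hKU hK1 hP hPK hKe hk hko hU1 hM hnc hne' hkM hcompl hkE ht hgB hA hA2
  obtain ⟨-, ⟨hCA, hME, -⟩, -⟩ := Cfsg.Agent.S1418.result hG M hM E hcompl t ht A ⟨hgB, hA, hA2⟩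
  have hCE : centralizer (A : Set G) ≤ E := hCA.trans hME.le
  have hAP : A ≤ P := hgB.trans inf_le_right
  -- `t ∈ σ(P)`
  have htP : t ∈ Cfsg.sigma P := by
    obtain ⟨a, ha, ha1⟩ := (bot_or_exists_ne_one A).resolve_left fun e => by
      rw [e, card_bot] at hA2; exact (Nat.one_lt_pow two_ne_zero ht.1.one_lt).ne hA2
    by_contra htP
    have hao : orderOf a = t := orderOf_eq_prime (hA.2 a ha) ha1
    rcases mem_kappa_or_tau_two hG hP (hAP ha) hao htP hkP hk1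
      (show Commute a k from mem_centralizer_singleton_iff.1 (hAk ha)) with h | h
    · exact plane_absurd (kappa_rank h) hA hA2 hAP
    · exact hk1 (Subgroup.mem_bot.1 ((Cfsg.Agent.S1417.result hG P hP t h A ⟨hAP, hA, hA2⟩).2.2.2.1.le
        ⟨hkP, mem_centralizer_iff.2 fun b hb => mem_centralizer_singleton_iff.1 (hAk hb)⟩))
  -- `P = P_σ K'`
  set K' := star N K with hK'
  have hK'1 : K' ≠ ⊥ := fixed_ne_bot hG hN hKU.hall hK1
  obtain ⟨U', hKU'⟩ := exists_decomp hG hP (kappa_cyclic hG hP hPK) hPK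
  have hU' : U' = ⊥ := by_contra fun h => hideal (sigma_subset_beta hG hP hKU' hK'1 h htP).2
  subst hU'
  have hEP : Cfsg.IsComplIn K' (Cfsg.sigmaCore P) P := by
    refine ⟨hPK.1, map_subtype_le _, le_bot_iff.1 ?_, fun m hm => ?_⟩
    · exact le_of_eq (disjoint_iff.1 (disjoint_of_coprime_natCard (Nat.coprime_of_dvd fun r hr h1 h2 =>
        (hPK.2.1 r hr h1).2.2.1 ((Sig.sigma_core hG hP).1.2.1 r hr h2))))
    · obtain ⟨a, ha, b, hb, rfl⟩ := hKU'.compl.2.2.2 m hm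
      rw [Subgroup.mem_bot] at ha
      obtain ⟨c, hc, w, hw, rfl⟩ := (CfsgLib.Solvable.mem_sup_of_le_normalizer
        (hPK.1.trans (TH.le_normalizer_core P))).1 hb
      exact ⟨c, hc, w, hw, by rw [ha, one_mul]⟩
  have hkD : k ∈ ⁅Cfsg.sigmaCore P, Cfsg.sigmaCore P⁆ :=
    (Cfsg.Agent.S1426.result hG P hP K' hEP).1 (by rw [hKe] at hk; exact hk)
  -- a Sylow `t`-subgroup of `G` in `E`
  obtain ⟨T₀, hT₀⟩ := ((IsPGroup.of_card hA2 : IsPGroup t A).comap_subtype (K := E)).exists_le_sylow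
  set T := (T₀ : Subgroup E).map E.subtype with hT
  have hTE : T ≤ E := map_subtype_le _
  have hTp : IsPGroup t T := T₀.2.map _
  have hAT : A ≤ T := by rw [← map_subgroupOf_eq_of_le hgB]; exact map_mono hT₀
  have hTd : ¬ t ∣ T.relIndex E := by
    rw [hT, relIndex, ← comap_subtype, comap_map_eq_self_of_injective E.subtype_injective]
    exact T₀.not_dvd_index
  have hab : ∀ S : Sylow t G, IsMulCommutative (S : Subgroup G) := by
    by_contra h
    push Not at h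
    obtain ⟨S₀, hS₀⟩ := h
    have hS : ∀ S : Sylow t G, ¬ IsMulCommutative (S : Subgroup G) := fun S hc => hS₀ (by
      haveI := hc
      exact ⟨⟨fun x y => (S₀.equiv S).injective (by rw [map_mul, map_mul]; exact mul_comm' _ _)⟩⟩)
    obtain ⟨-, ⟨hc, -⟩, -⟩ := Cfsg.Agent.S1419.result hG M hM E hcompl t ht hS A ⟨hgB, hA, hA2⟩
    obtain ⟨a, ha, ha1⟩ := (bot_or_exists_ne_one (A ⊓ centralizer (Cfsg.sigmaCore M : Set G))).resolve_left
      fun e => by rw [e, card_bot] at hc; exact ht.1.one_lt.ne hc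
    exact ha1 (supported_fpf_point hG hM hN hKU hK1 hP hPK hKe hk hko hKq hUM hkM hnc hxU hx hxo hxM hxN hpτ
      (hgB ha.1) (show Commute a x from (mem_centralizer_iff.1 ha.2 x hx).symm))
  obtain ⟨hTG, -⟩ := Tau.tau_two_full hG hM hcompl ht hA hA2 hTp hAT hTE hTd hab
  have hTS : T ≤ Cfsg.sigmaCore P := Excep.le_sigmaCore hG hP (hTE.trans inf_le_right) fun r hr hd => by
    obtain ⟨j, hj⟩ := IsPGroup.iff_card.1 hTp
    exact (Nat.prime_dvd_prime_iff_eq hr ht.1).1 (hr.dvd_of_dvd_pow (hj ▸ hd)) ▸ htP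
  have hkC : E ≤ centralizer ({k} : Set G) := fun e he =>
    mem_centralizer_singleton_iff.2 (congrArg Subtype.val (hEc.is_comm.comm ⟨e, he⟩ ⟨k, hkE⟩))
  obtain ⟨y, hy, hy1⟩ := (bot_or_exists_ne_one K').resolve_left hK'1
  obtain ⟨l, hl, y', hy', hy'o, -⟩ := exists_prime_root hy hy1
  haveI := Fact.mk hl
  have hy'1 : y' ≠ 1 := fun e => hl.ne_one (by rw [← hy'o, e, orderOf_one])
  have hlP : l ∉ Cfsg.sigma P := (hPK.2.1 l hl (dvd_of_mem hy' hy'o)).2.2.1
  have hyk : Commute y' k := (mem_centralizer_iff.1 hy'.2 k hk).symm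
  have hy'P : y' ∈ P := hPK.1 hy'
  set C := Cfsg.sigmaCore P ⊓ centralizer ({k} : Set G) with hC
  have hyC : zpowers y' ≤ normalizer (C : Set G) := zpowers_le.2 (inf_normalizer_le_normalizer_inf
    ⟨TH.le_normalizer_core P hy'P, le_normalizer (mem_centralizer_singleton_iff.2 hyk.eq)⟩)
  obtain ⟨T₁, -, hT₁C, hT₁p, hyT₁, hT₁d⟩ := Excep.exists_inv_sylow (t := t) hyC (by
    rw [Nat.card_zpowers, hy'o]
    exact hl.coprime_iff_not_dvd.2 fun h => not_dvd_core hG hP hl hlP (h.trans (card_dvd_of_le inf_le_left)))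
    (Or.inr (solvable_le hG hP (inf_le_left.trans (map_subtype_le _)))) (bot_le : (⊥ : Subgroup G) ≤ _)
    IsPGroup.of_bot (Excep.le_normalizer_bot _)
  have hTC : T ≤ C := le_inf hTS (hTE.trans hkC)
  have hT₁G : ¬ t ∣ T₁.index := Excep.index_not_dvd hT₁C hT₁d fun h => hTG (h.trans (index_dvd_of_le hTC))
  obtain ⟨c, hc⟩ : ∃ c : G, T₁.map (MulAut.conj c).toMonoidHom = T := by
    obtain ⟨c, hc⟩ := MulAction.exists_smul_eq G (hT₁p.toSylow hT₁G) (hTp.toSylow hTG)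
    exact ⟨c, congrArg (fun R : Sylow t G => (R : Subgroup G)) hc⟩
  -- the normal `t`-complement centralizes `T₁`
  set S := Cfsg.sigmaCore P with hS
  set O := Excep.opc t S with hO
  have hOS : O ≤ S := Excep.opc_le t S
  obtain ⟨j, hj⟩ := Beta.npc_index (Beta.npc_sigma hG hP ht.1 htP.2.1 fun h => hideal h.2)
  have hOidx : O.relIndex S = t ^ j := by rw [relIndex, hO, Excep.opc_subgroupOf, hj]
  have hkO : k ∈ O := Excep.le_of_hall hOS (Excep.le_normalizer_opc t S) (zpowers_le.2 hkP : zpowers k ≤ S) (by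
    rw [hOidx, Nat.card_zpowers]
    refine Nat.Coprime.pow_right _ ((Nat.coprime_comm).1 (ht.1.coprime_iff_not_dvd.2 fun h => ?_))
    rw [hko] at h
    obtain rfl : t = q := (Nat.prime_dvd_prime_iff_eq ht.1 hq.out).1 h
    -- `k` would be in the commutative quotient
    have hle : ⁅S, S⁆ ≤ O := by
      have hS' : S ≤ T₁ ⊔ O := relIndex_eq_one.1 (Nat.eq_one_iff_not_exists_prime_dvd.2 fun r hr hd => by
        by_cases hrt : r = t
        · subst hrt
          exact hT₁G ((hd.trans (relIndex_dvd_of_le_left S le_sup_left)).trans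
            (Dvd.intro _ (relIndex_mul_index (hT₁C.trans inf_le_left))))
        · exact hrt ((Nat.prime_dvd_prime_iff_eq hr ht.1).1
            (hr.dvd_of_dvd_pow ((hd.trans (relIndex_dvd_of_le_left S le_sup_right)).trans (dvd_of_eq hOidx)))))
      refine (commutator_mono hS' hS').trans ?_
      rw [sup_comm]
      refine (Tau.derived_le_sup le_sup_left le_sup_right (sup_le le_normalizer
        ((hT₁C.trans inf_le_left).trans (Excep.le_normalizer_opc t S))) le_rfl).trans (sup_le le_rfl ?_)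
      haveI := hab (hT₁p.toSylow hT₁G)
      rw [commutator_eq_bot_iff_le_centralizer.2 (le_centralizer_iff_isMulCommutative.2
        (show IsMulCommutative T₁ from this))]
      exact bot_le
    exact ht.1.coprime_iff_not_dvd.1 (Excep.opc_coprime t S).symm ((dvd_of_eq hko.symm).trans (O.orderOf_dvd_natCard (hle hkD))))
    (mem_zpowers k)
  have htq : t ≠ q := fun e => ht.1.coprime_iff_not_dvd.1 (Excep.opc_coprime t S).symm
    ((dvd_of_eq (e.trans hko.symm)).trans (O.orderOf_dvd_natCard hkO))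
  have hfix : S ⊓ centralizer ({y'} : Set G) = K := by
    rw [hKe]; exact star_fixed hG hP hPK hK'1 hy' hy'1
  have hOT : O ≤ centralizer (T₁ : Set G) := by
    refine frobenius_kills (solvable_le hG hP (hOS.trans (map_subtype_le _)))
      (solvable_le hG hP (sup_le ((hT₁C.trans inf_le_left).trans (map_subtype_le _)) (zpowers_le.2 hy'P))) hy'o
      (fun h => not_dvd_core hG hP hl hlP (h.trans (card_dvd_of_le hOS)))
      (Excep.coprime_of_pgroup hT₁p (ht.1.coprime_iff_not_dvd.1 (Excep.opc_coprime t S).symm))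
      ((hT₁C.trans inf_le_left).trans (Excep.le_normalizer_opc t S))
      (Excep.normalizer_le_normalizer_opc t S (TH.le_normalizer_core P hy'P)) (zpowers_le.1 hyT₁) ?_ ?_
    · refine le_bot_iff.1 fun z hz => Subgroup.mem_bot.2 ?_
      have hzK : z ∈ K := hfix.le ⟨hT₁C.trans inf_le_left hz.1, hz.2⟩
      obtain ⟨i, hi⟩ := IsPGroup.iff_orderOf.1 hT₁p ⟨z, hz.1⟩
      rw [← orderOf_coe] at hi
      rw [← orderOf_eq_one_iff]
      refine Nat.eq_one_of_dvd_coprimes (((Nat.coprime_primes ht.1 hq.out).2 htq).pow_left i) (dvd_of_eq hi) ?_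
      exact (K.orderOf_dvd_natCard hzK).trans (dvd_of_eq (by rw [hKq, Nat.card_zpowers, hko]))
    · intro z hz
      have hzK : z ∈ K := hfix.le ⟨hOS hz.1, hz.2⟩
      rw [hKq] at hzK
      refine mem_centralizer_iff.2 fun w hw => ?_
      obtain ⟨i, rfl⟩ := mem_zpowers_iff.1 hzK
      exact ((show Commute w k from mem_centralizer_singleton_iff.1 (hT₁C hw).2).zpow_right i).eq
  haveI hT₁c : IsMulCommutative T₁ := hab (hT₁p.toSylow hT₁G)
  have hSle : S ≤ centralizer (T₁ : Set G) := by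
    have hS' : S ≤ T₁ ⊔ O := relIndex_eq_one.1 (Nat.eq_one_iff_not_exists_prime_dvd.2 fun r hr hd => by
      by_cases hrt : r = t
      · subst hrt
        exact hT₁G ((hd.trans (relIndex_dvd_of_le_left S le_sup_left)).trans
          (Dvd.intro _ (relIndex_mul_index (hT₁C.trans inf_le_left))))
      · exact hrt ((Nat.prime_dvd_prime_iff_eq hr ht.1).1
          (hr.dvd_of_dvd_pow ((hd.trans (relIndex_dvd_of_le_left S le_sup_right)).trans (dvd_of_eq hOidx)))))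
    exact hS'.trans (sup_le (le_centralizer_iff_isMulCommutative.2 hT₁c) hOT)
  have hSE : S.map (MulAut.conj c).toMonoidHom ≤ E := by
    refine le_trans ?_ hCE
    rintro _ ⟨s, hs, rfl⟩
    refine mem_centralizer_iff.2 fun a ha => ?_
    obtain ⟨a', ha', rfl⟩ := hc.ge (hAT ha)
    exact (((show Commute a' s from mem_centralizer_iff.1 (hSle hs) a' ha')).map
      (MulAut.conj c).toMonoidHom).eq
  have hScomm : ⁅S, S⁆ = ⊥ := by
    apply map_injective (f := (MulAut.conj c).toMonoidHom) (MulAut.conj c).injective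
    rw [map_commutator, Subgroup.map_bot]
    refine le_bot_iff.1 ((commutator_mono hSE hSE).trans (le_of_eq ?_))
    exact commutator_eq_bot_iff_le_centralizer.2 (le_centralizer_iff_isMulCommutative.2 hEc)
  exact hk1 (Subgroup.mem_bot.1 (hScomm.le hkD))

/-- `M ⊓ P` is a cyclic Frobenius complement. -/
theorem supported_frobenius :
    Cfsg.IsFrobeniusComplement ((M ⊓ P).subgroupOf M) ∧ IsCyclic ((M ⊓ P).subgroupOf M) := by
  have hU1 := supported_U_ne hG hM hN hKU hK1 hP hPK hKe hk hko hKq hUM hkM hnc hxU hx hxo hxM hxN hpτ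
  have hne' := over_ne hG hN hKU hK1 hP hPK hKe hk hko hU1 hM hnc hUM hkM
  obtain ⟨-, hcompl⟩ := over_partner hG hN hKU hK1 hP hPK hKe hk hko hU1 hM hnc hUM hkM
  haveI hEc := supported_commutative hG hM hN hKU hK1 hP hPK hKe hk hko hKq hUM hkM hnc hxU hx hxo hxM hxN hpτ
  have hτ := supported_tau_two hG hM hN hKU hK1 hP hPK hKe hk hko hKq hUM hkM hnc hxU hx hxo hxM hxN hpτ
  set E := M ⊓ P with hE
  have hEσ : ∀ r : ℕ, r.Prime → r ∣ Nat.card E → r ∉ Cfsg.sigma M := (Compl.card_eq hG hM hcompl).2.2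
  have hfpf : ∀ e ∈ E, e ≠ 1 → ∀ w ∈ Cfsg.sigmaCore M, Commute e w → w = 1 := by
    intro e he he1 w hw hew
    by_contra hw1
    obtain ⟨r, hr, z, hz, hzo, -⟩ := exists_prime_root (mem_zpowers e) he1
    haveI := Fact.mk hr
    obtain ⟨i, hi⟩ := mem_zpowers_iff.1 hz
    have hzE : z ∈ E := zpowers_le.2 he hz
    have h := over_tau_two hG hN hKU hK1 hP hPK hKe hk hko hU1 hM hnc hne' hkM hzE.1 hzo
      (hEσ r hr (dvd_of_mem hzE hzo)) hw hw1 (hi ▸ hew.zpow_left i)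
    rw [hτ] at h
    exact h
  obtain ⟨hkP, -, -, -⟩ := partner_sigma hG hN hKU hK1 hP hPK hKe hk hko
  have hk1 : k ≠ 1 := fun e => hq.out.ne_one (by rw [← hko, e, orderOf_one])
  have hσ1 := Tau.sigmaCore_ne_bot hG hM (one_lt_card_coatom hG hM)
  refine ⟨⟨fun h => hk1 ?_, fun h => hσ1 ?_, fun g hg => le_bot_iff.1 ?_⟩, ?_⟩
  · have h1 : (⟨k, hkM⟩ : M) ∈ E.subgroupOf M := mem_subgroupOf.2 ⟨hkM, map_subtype_le _ hkP⟩
    rw [h, Subgroup.mem_bot] at h1
    exact congrArg Subtype.val h1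
  · refine le_bot_iff.1 fun w hw => ?_
    rw [← hcompl.2.2.1]
    exact ⟨subgroupOf_eq_top.1 h (map_subtype_le _ hw), hw⟩
  · rintro z ⟨hz, a, ha, e⟩
    obtain ⟨f, hf, w, hw, hg'⟩ := hcompl.2.2.2 (g : G) g.2
    have hw1 : w ≠ 1 := fun e1 => hg (mem_subgroupOf.2 (by rw [hg', e1, mul_one]; exact hf))
    have ea : (g : G) * a * (g : G)⁻¹ = z := congrArg Subtype.val e
    have hz' : (z : G) ∈ E := hz
    have haE : (a : G) ∈ E := ha
    have hmid : w * a * w⁻¹ ∈ E := by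
      rw [show w * (a : G) * w⁻¹ = f⁻¹ * ((g : G) * a * (g : G)⁻¹) * f by rw [hg']; group, ea]
      exact E.mul_mem (E.mul_mem (E.inv_mem hf) hz') hf
    have hc : w * a * w⁻¹ * (a : G)⁻¹ ∈ E ⊓ Cfsg.sigmaCore M := ⟨E.mul_mem hmid (E.inv_mem haE), by
      rw [show w * (a : G) * w⁻¹ * (a : G)⁻¹ = w * ((a : G) * w⁻¹ * (a : G)⁻¹) by group]
      exact (Cfsg.sigmaCore M).mul_mem hw ((mem_normalizer_iff.1 (TH.le_normalizer_core M haE.1) _).1
        ((Cfsg.sigmaCore M).inv_mem hw))⟩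
    rw [hcompl.2.2.1, Subgroup.mem_bot] at hc
    have hcw : Commute (a : G) w := (commutatorElement_eq_one_iff_mul_comm.1 hc).symm
    have ha1 : (a : G) = 1 := by_contra fun h => hw1 (hfpf _ haE h w hw hcw)
    refine Subgroup.mem_bot.2 (Subtype.ext ?_)
    rw [← ea, ha1, mul_one, mul_inv_cancel]
    rfl
  · haveI : IsZGroup E := ⟨fun r hr R => by
      haveI := Fact.mk hr
      by_cases hrd : r ∣ Nat.card E
      · have hr1 : Cfsg.PRankLE r 1 M := by
          by_contra h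
          have h2 : r ∈ Cfsg.tau2 M := ⟨hr, hEσ r hr hrd, by_contra fun h' => hEσ r hr hrd
            (Sig.alpha_subset_sigma hG hM ⟨hr, h'⟩), h⟩
          rw [hτ] at h2
          exact h2
        exact Compl.cyclic_sylow hG hcompl hrd hr1 R.2
      · have hR : (R : Subgroup E) = ⊥ := eq_bot_of_card_eq _ (by
          obtain ⟨j, hj⟩ := IsPGroup.iff_card.1 R.2
          rw [hj]
          cases j with
          | zero => rfl
          | succ j => exact absurd ((dvd_pow_self r (Nat.succ_ne_zero j)).trans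
              (hj ▸ card_subgroup_dvd_card _)) hrd)
        rw [hR]
        infer_instance⟩
    letI : CommGroup E := { (inferInstance : Group E) with mul_comm := hEc.is_comm.comm }
    haveI : IsCyclic E := inferInstance
    exact isCyclic_of_surjective _ (subgroupOfEquivOfLe (inf_le_left : E ≤ M)).symm.surjective

end Supported

end CfsgLib.OddLocal.Kap

namespace CfsgLib.OddLocal.Kap

open Subgroup Cfsg CfsgLib.OddLocal

variable {G : Type*} [Group G] [Finite G]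

/-- BG 15.9: the structure of `M` supported by `N` with nonempty `κ(N)`. -/
theorem supported_structure (hG : Cfsg.IsMinSimpleOddOrder G) {M : Subgroup G} (hM : IsCoatom M) {x : G}
    (hx : x ∈ Cfsg.sigmaCore M) (hx1 : x ≠ 1) (hxM : ¬ centralizer ({x} : Set G) ≤ M)
    {N : Subgroup G} (hN : IsCoatom N) (hxN : centralizer ({x} : Set G) ≤ N) (hkN : (Cfsg.kappa N).Nonempty) :
    Cfsg.kappa M = ∅ ∧ Cfsg.tau2 M = ∅ ∧
      (∃ E : Subgroup ↥M, Cfsg.IsFrobeniusComplement E ∧ IsCyclic E) ∧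
      Group.IsNilpotent (Cfsg.sigmaCore M) := by
  obtain ⟨p, hp, x₁, hx₁, hx₁o, hle⟩ := exists_prime_root (mem_zpowers x) hx1
  haveI := Fact.mk hp
  have hx₁σ : x₁ ∈ Cfsg.sigmaCore M := zpowers_le.2 hx hx₁
  have hx₁1 : x₁ ≠ 1 := fun e => hp.ne_one (by rw [← hx₁o, e, orderOf_one])
  have hx₁M : ¬ centralizer ({x₁} : Set G) ≤ M := fun h => hxM (hle.trans h)
  obtain ⟨N₁, hN₁, hCN₁, -, hnc, hcompl, -, hτ, -⟩ := exists_over hG hM hx₁σ hx₁1 hx₁M
  obtain ⟨N₀, hN₀, -, hu, -⟩ := exists_over hG hM hx hx1 hxM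
  obtain rfl : N₁ = N := by rw [hu N₁ hN₁ (hle.trans hCN₁), hu N hN hxN]
  have hpτ : p ∈ Cfsg.tau2 N₁ := hτ p hp (dvd_of_eq hx₁o.symm)
  obtain ⟨K, U, hKU, hKF, hUF⟩ := exists_decomp_in hG hN₁ hcompl
  obtain ⟨t, ht⟩ := hkN
  haveI := Fact.mk ht.1
  have hK1 : K ≠ ⊥ := fun e => hKU.hall.2.2 t ht.1 ht (by rw [e, relIndex_bot_left]; exact ht.2.1)
  have hxN' : x₁ ∈ N₁ := hCN₁ (mem_centralizer_singleton_iff.2 rfl)
  have hxU : x₁ ∈ U := by
    have hUH := decomp_hall hG hN₁ hKU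
    have hxF : x₁ ∈ M ⊓ N₁ := ⟨map_subtype_le _ hx₁σ, hxN'⟩
    have hn : M ⊓ N₁ ≤ U ⊔ K := fun f hf => by
      obtain ⟨a, ha, b, hb, rfl⟩ := hKU.compl.2.2.2 f hf.2
      obtain ⟨c, hc, w, hw, rfl⟩ := (CfsgLib.Solvable.mem_sup_of_le_normalizer
        (hKU.hall.1.trans (TH.le_normalizer_core N₁))).1 hb
      have hw' : w ∈ (M ⊓ N₁) ⊓ Cfsg.sigmaCore N₁ := ⟨by
        rw [show w = c⁻¹ * (a⁻¹ * (a * (c * w))) by group]
        exact (M ⊓ N₁).mul_mem ((M ⊓ N₁).inv_mem (hKF hc)) ((M ⊓ N₁).mul_mem ((M ⊓ N₁).inv_mem (hUF ha)) hf), hw⟩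
      rw [hcompl.2.2.1, Subgroup.mem_bot] at hw'
      rw [hw', mul_one]
      exact mul_mem (mem_sup_left ha) (mem_sup_right hc)
    refine Excep.le_of_hall le_sup_left (sup_le le_normalizer hKU.normal)
      (zpowers_le.2 (hn hxF) : zpowers x₁ ≤ U ⊔ K) ?_ (mem_zpowers x₁)
    rw [Nat.card_zpowers, hx₁o]
    refine hp.coprime_iff_not_dvd.2 fun h => hUH.2.2 p hp
      ⟨hp, fun hκ => hpτ.2.2.2 (kappa_rank hκ), hpτ.2.1⟩
      (h.trans (Dvd.intro _ (relIndex_mul_relIndex U (U ⊔ K) N₁ le_sup_left (sup_le hUH.1 hKU.hall.1))))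
  have hU1 : U ≠ ⊥ := fun e => hx₁1 (Subgroup.mem_bot.1 (e ▸ hxU))
  obtain ⟨q, hq, k, hk, hko, hKq⟩ := decomp_generator hG hN₁ hKU hK1 hU1
  haveI := Fact.mk hq
  obtain ⟨P, hP, hPK, hKe, -, -⟩ := exists_partner hG hN₁ hKU.hall hK1
  have hnc' : ∀ g : G, M ≠ N₁.map (MulAut.conj g).toMonoidHom := fun g e => hnc g⁻¹ (by
    rw [e]
    ext z
    simp [mem_map_conj_iff, mul_assoc])
  have hkM : k ∈ M := (hKF hk).1
  have hUM : U ≤ M := hUF.trans inf_le_left
  refine ⟨supported_kappa hG hM hN₁ hKU hK1 hP hPK hKe hk hko hKq hUM hkM hnc' hxU hx₁σ hx₁o hx₁M hCN₁ hpτ,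
    supported_tau_two hG hM hN₁ hKU hK1 hP hPK hKe hk hko hKq hUM hkM hnc' hxU hx₁σ hx₁o hx₁M hCN₁ hpτ,
    ⟨_, supported_frobenius hG hM hN₁ hKU hK1 hP hPK hKe hk hko hKq hUM hkM hnc' hxU hx₁σ hx₁o hx₁M hCN₁ hpτ⟩,
    supported_nilpotent hG hM hN₁ hKU hK1 hP hPK hKe hk hko hKq hUM hkM hnc' hxU hx₁σ hx₁o hx₁M hCN₁ hpτ⟩

end CfsgLib.OddLocal.Kap
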