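import Cfsg.Agent.OddLocal.KappaTheorem

/-!
The standard factorisation `M = K U M_σ`.
-/

set_option autoImplicit false
set_option linter.style.haveILetI false
set_option linter.unusedSectionVars false

namespace CfsgLib.OddLocal.Kap

open Subgroup Cfsg CfsgLib.OddLocal
open scoped commutatorElement Pointwise

universe u

variable {G : Type u} [Group G] [Finite G]
variable (hG : Cfsg.IsMinSimpleOddOrder G)
include hG

/-- The set of primes of the part `U`. -/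
theorem decomp_hall {M K U : Subgroup G} (hM : IsCoatom M) (hKU : Cfsg.IsSigmaDecomposition M K U) :
    Cfsg.IsPiHallOf {q | q.Prime ∧ q ∉ Cfsg.kappa M ∧ q ∉ Cfsg.sigma M} U M := by
  obtain ⟨hσh, -, -⟩ := Sig.sigma_core hG hM
  set S := Cfsg.sigmaCore M with hS
  have hKn : K ≤ normalizer (S : Set G) := hKU.hall.1.trans (TH.le_normalizer_core M)
  have hKS : K ⊓ S = ⊥ := disjoint_iff.1 (disjoint_of_coprime_natCard (Nat.coprime_of_dvd fun q hq h1 h2 =>
    (hKU.hall.2.1 q hq h1).2.2.1 (hσh.2.1 q hq h2)))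
  have hc : Nat.card ↥(K ⊔ S) = Nat.card K * Nat.card S := CfsgLib.Solvable.card_sup_of_disjoint hKn hKS
  have hUM : U ≤ M := hKU.compl.1
  have hinj : Nat.card U = (K ⊔ S).relIndex M := by
    have h := CfsgLib.InvariantHall.relIndex_mul_card hKU.compl.2.1
    refine Nat.eq_of_mul_eq_mul_left (Nat.card_pos (α := ↥(K ⊔ S))) ?_
    rw [h, ← Nat.card_prod]
    symm
    refine Nat.card_congr ((Equiv.ofBijective
      (fun x : ↥(K ⊔ S) × U => (⟨(x.2 : G) * x.1, mul_mem (hUM x.2.2) (hKU.compl.2.1 x.1.2)⟩ : M)) ⟨?_, ?_⟩).symm)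
    · rintro ⟨s₁, u₁⟩ ⟨s₂, u₂⟩ h'
      have h'' : (u₁ : G) * s₁ = u₂ * s₂ := congrArg Subtype.val h'
      have h1 : (u₂ : G)⁻¹ * u₁ ∈ U ⊓ (K ⊔ S) := ⟨U.mul_mem (U.inv_mem u₂.2) u₁.2, by
        rw [show (u₂ : G)⁻¹ * u₁ = s₂ * (s₁ : G)⁻¹ by
          rw [eq_mul_inv_iff_mul_eq, mul_assoc, h'', inv_mul_cancel_left]]
        exact (K ⊔ S).mul_mem s₂.2 ((K ⊔ S).inv_mem s₁.2)⟩
      rw [hKU.compl.2.2.1, mem_bot, inv_mul_eq_one] at h1
      have h2 : (s₁ : G) = s₂ := by rw [← h1] at h''; exact mul_left_cancel h''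
      exact Prod.ext (Subtype.ext h2) (Subtype.ext h1.symm)
    · rintro ⟨m, hm⟩
      obtain ⟨u, hu, s, hs, rfl⟩ := hKU.compl.2.2.2 m hm
      exact ⟨(⟨s, hs⟩, ⟨u, hu⟩), rfl⟩
  have hUd : ∀ q : ℕ, q.Prime → q ∣ Nat.card U → q ∉ Cfsg.kappa M ∧ q ∉ Cfsg.sigma M := by
    intro q hq hd
    rw [hinj] at hd
    refine ⟨fun h => hKU.hall.2.2 q hq h (hd.trans ?_), fun h => hσh.2.2 q hq h (hd.trans ?_)⟩
    · exact relIndex_dvd_of_le_left M le_sup_left
    · exact relIndex_dvd_of_le_left M le_sup_right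
  refine ⟨hUM, fun q hq hd => ⟨hq, hUd q hq hd⟩, fun q hq hqπ hd => ?_⟩
  have h := CfsgLib.InvariantHall.relIndex_mul_card hUM
  rw [← CfsgLib.InvariantHall.relIndex_mul_card hKU.compl.2.1, ← hinj, mul_comm (Nat.card ↥(K ⊔ S))] at h
  rw [Nat.eq_of_mul_eq_mul_left Nat.card_pos h, hc] at hd
  rcases hq.dvd_mul.1 hd with h' | h'
  · exact hqπ.2.1 (hKU.hall.2.1 q hq h')
  · exact hqπ.2.2 (hσh.2.1 q hq h')

/-- Existence of the factorisation. -/
theorem exists_decomp {M K : Subgroup G} (hM : IsCoatom M) (hKc : IsCyclic K)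
    (hK : Cfsg.IsPiHallOf (Cfsg.kappa M) K M) : ∃ U : Subgroup G, Cfsg.IsSigmaDecomposition M K U := by
  set S := Cfsg.sigmaCore M with hS
  have hSM : S ≤ M := map_subtype_le _
  by_cases hK1 : K = ⊥
  · obtain ⟨E, hE, -⟩ := Tau.exists_complement_of hG hM (bot_le : (⊥ : Subgroup G) ≤ M) fun q hq hd => by
      rw [card_bot, Nat.dvd_one] at hd
      exact absurd hd hq.ne_one
    subst hK1
    exact ⟨E, hKc, hK, ⟨hE.1, sup_le hK.1 hSM, by rw [bot_sup_eq]; exact hE.2.2.1, fun m hm => by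
      rw [bot_sup_eq]; exact hE.2.2.2 m hm⟩, bot_le⟩
  obtain ⟨E, U, hE, hKE, hUE, hEU, -, hUH, hUK, -, -, -, -⟩ := kappa_data hG hM hK hK1
  refine ⟨U, hKc, hK, ⟨hUE.trans hE.1, sup_le hK.1 hSM, ?_, fun m hm => ?_⟩, hKE.trans hEU⟩
  · refine disjoint_iff.1 (disjoint_of_coprime_natCard (Nat.coprime_of_dvd fun q hq h1 h2 => ?_))
    rcases hq.dvd_mul.1 (h2.trans (CfsgLib.Solvable.card_sup_dvd (hK.1.trans (TH.le_normalizer_core M)))) with h | h
    · exact (hUH.2.1 q hq h1).2.1 (hK.2.1 q hq h)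
    · exact (hUH.2.1 q hq h1).2.2 ((Sig.sigma_core hG hM).1.2.1 q hq h)
  · obtain ⟨e, he, c, hc, rfl⟩ := hE.2.2.2 m hm
    obtain ⟨v, hv, k, hk, rfl⟩ := hUK.2.2.2 e he
    exact ⟨v, hv, k * c, mul_mem (mem_sup_left hk) (mem_sup_right hc), by rw [mul_assoc]⟩

/-- `U M_σ` is normal in `M`. -/
theorem decomp_normal {M K U : Subgroup G} (hM : IsCoatom M) (hKU : Cfsg.IsSigmaDecomposition M K U) :
    M ≤ normalizer ((U ⊔ Cfsg.sigmaCore M : Subgroup G) : Set G) := by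
  set S := Cfsg.sigmaCore M with hS
  have hSM : S ≤ M := map_subtype_le _
  have hUH := decomp_hall hG hM hKU
  by_cases hK1 : K = ⊥
  · have hle : M ≤ U ⊔ S := fun m hm => by
      obtain ⟨u, hu, s, hs, rfl⟩ := hKU.compl.2.2.2 m hm
      rw [hK1, bot_sup_eq] at hs
      exact mul_mem (mem_sup_left hu) (mem_sup_right hs)
    exact hle.trans le_normalizer
  obtain ⟨E, U₀, hE, hKE, hU₀E, hEU₀, -, hU₀H, hUK, -, -, -, -⟩ := kappa_data hG hM hKU.hall hK1
  have hn₀ : M ≤ normalizer ((U₀ ⊔ S : Subgroup G) : Set G) := by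
    refine (Compl.card_eq hG hM hE).2.1.ge.trans (sup_le ?_ (le_sup_right.trans le_normalizer))
    intro e he
    refine Uniq.mem_normalizer_of_map_le ?_
    rw [Subgroup.map_sup]
    exact sup_le ((le_of_eq (mem_normalizer_iff_map_conj_eq.1 (hEU₀ he))).trans le_sup_left)
      ((le_of_eq (mem_normalizer_iff_map_conj_eq.1 (TH.le_normalizer_core M (hE.1 he)))).trans le_sup_right)
  have hle₀ : U₀ ⊔ S ≤ M := sup_le hU₀H.1 hSM
  have hUle : U ≤ U₀ ⊔ S := Excep.le_of_hall hle₀ hn₀ hUH.1 (Nat.coprime_of_dvd fun q hq h1 h2 =>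
    hU₀H.2.2 q hq (hUH.2.1 q hq h1) (h2.trans (relIndex_dvd_of_le_left M le_sup_left)))
  have hcard : ∀ {W : Subgroup G}, Cfsg.IsPiHallOf {q | q.Prime ∧ q ∉ Cfsg.kappa M ∧ q ∉ Cfsg.sigma M} W M →
      Nat.card ↥(W ⊔ S) = Nat.card W * Nat.card S := fun hW =>
    CfsgLib.Solvable.card_sup_of_disjoint (hW.1.trans (TH.le_normalizer_core M)) (disjoint_iff.1
      (disjoint_of_coprime_natCard (Nat.coprime_of_dvd fun q hq h1 h2 =>
        (hW.2.1 q hq h1).2.2 ((Sig.sigma_core hG hM).1.2.1 q hq h2))))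
  have hUU₀ : Nat.card U₀ ∣ Nat.card U := by
    have h := (card_dvd_of_le hU₀H.1).trans (CfsgLib.InvariantHall.relIndex_mul_card hUH.1).symm.dvd
    refine (Nat.Coprime.dvd_mul_right (Nat.coprime_of_dvd fun q hq h1 h2 => ?_)).1 h
    exact hUH.2.2 q hq (hU₀H.2.1 q hq h1) h2
  have e : U ⊔ S = U₀ ⊔ S := eq_of_le_of_card_ge (sup_le hUle le_sup_right) (by
    rw [hcard hUH, hcard hU₀H]
    exact Nat.mul_le_mul_right _ (Nat.le_of_dvd Nat.card_pos hUU₀))
  rw [e]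
  exact hn₀

/-- `K` acts without fixed points on `U`. -/
theorem decomp_fpf {M K U : Subgroup G} (hM : IsCoatom M) (hKU : Cfsg.IsSigmaDecomposition M K U) {k : G}
    (hk : k ∈ K) (hk1 : k ≠ 1) : U ⊓ centralizer ({k} : Set G) = ⊥ := by
  have hUH := decomp_hall hG hM hKU
  obtain ⟨q, hq, x, hx, hxo, hkx⟩ := exists_prime_root hk hk1
  have hK1 : K ≠ ⊥ := fun e => hk1 (mem_bot.1 (e ▸ hk))
  obtain ⟨h1, -, -⟩ := line_normalizers hG hM hKU.hall hK1 (X := zpowers x) (zpowers_le.2 hx)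
    (by rw [Nat.card_zpowers, hxo]; exact hq)
  have hle : U ⊓ centralizer ({k} : Set G) ≤ K ⊔ (Cfsg.sigmaCore M ⊓ centralizer (K : Set G)) := h1 ▸
    le_inf (inf_le_left.trans hUH.1) ((inf_le_right.trans (hkx.trans (FixedLine.le_centralizer_zpowers le_rfl))).trans
      (centralizer_le_normalizer _))
  refine eq_bot_of_card_eq _ (Nat.eq_one_iff_not_exists_prime_dvd.2 fun p hp hd => ?_)
  have hpU := hUH.2.1 p hp (hd.trans (card_dvd_of_le inf_le_left))
  have hn : K ≤ normalizer ((Cfsg.sigmaCore M ⊓ centralizer (K : Set G) : Subgroup G) : Set G) :=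
    le_trans (le_inf (hKU.hall.1.trans (TH.le_normalizer_core M))
      ((le_normalizer : K ≤ normalizer (K : Set G)).trans (fun g hg => Uniq.mem_normalizer_of_map_le (by
        rintro _ ⟨c, hc, rfl⟩
        refine mem_centralizer_iff.2 fun z hz => ?_
        have h := mem_centralizer_iff.1 hc (g⁻¹ * z * g) ((mem_normalizer_iff''.1 hg z).1 hz)
        show z * (g * c * g⁻¹) = g * c * g⁻¹ * z
        calc z * (g * c * g⁻¹) = g * ((g⁻¹ * z * g) * c) * g⁻¹ := by group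
          _ = g * (c * (g⁻¹ * z * g)) * g⁻¹ := by rw [h]
          _ = g * c * g⁻¹ * z := by group)))) inf_normalizer_le_normalizer_inf
  rcases hp.dvd_mul.1 ((hd.trans (card_dvd_of_le hle)).trans (CfsgLib.Solvable.card_sup_dvd hn)) with h | h
  · exact hpU.2.1 (hKU.hall.2.1 p hp h)
  · exact hpU.2.2 ((Sig.sigma_core hG hM).1.2.1 p hp (h.trans (card_dvd_of_le inf_le_left)))

theorem one_lt_card_coatom {M : Subgroup G} (hM : IsCoatom M) : 1 < Nat.card M := by
  rcases Nat.lt_or_ge 1 (Nat.card M) with h | h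
  · exact h
  exfalso
  have hM1 : M = ⊥ := Subgroup.eq_bot_of_card_le _ h
  haveI := hG.2.1
  have hne : Nat.card G ≠ 1 := fun e => by
    have := (Nat.card_eq_one_iff_unique.1 e).1
    exact not_subsingleton G this
  obtain ⟨p, hp, hpd⟩ := Nat.exists_prime_and_dvd hne
  haveI := Fact.mk hp
  obtain ⟨x, hx⟩ := exists_prime_orderOf_dvd_card' (G := G) p hpd
  have hX : Nat.card (zpowers x) = p := by rw [Nat.card_zpowers, hx]
  have hlt : M < zpowers x := hM1 ▸ bot_lt_iff_ne_bot.2 fun e => hp.ne_one (by rw [← hX, e, card_bot])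
  exact Excep.normalizer_line_ne_top hG hX (top_le_iff.1 ((hM.2 _ hlt).ge.trans le_normalizer))

/-- The centralizers of the elements of `K`, for `K` cyclic. -/
theorem decomp_centralizers {M K : Subgroup G} (hM : IsCoatom M) (hKc : IsCyclic K)
    (hK : Cfsg.IsPiHallOf (Cfsg.kappa M) K M) :
    Cfsg.sigmaCore M ⊓ centralizer (K : Set G) ≠ ⊥ ∧
      (K ≠ ⊥ → ∀ k ∈ K, k ≠ 1 →
        M ⊓ centralizer ({k} : Set G) = K ⊔ (Cfsg.sigmaCore M ⊓ centralizer (K : Set G))) := by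
  refine ⟨?_, fun hK1 k hk hk1 => ?_⟩
  · by_cases hK1 : K = ⊥
    · rw [hK1, inf_eq_left.2 fun x _ => mem_centralizer_iff.2 fun z hz => by
        rw [mem_bot.1 hz, one_mul, mul_one]]
      exact Tau.sigmaCore_ne_bot hG hM (one_lt_card_coatom hG hM)
    · exact fixed_ne_bot hG hM hK hK1
  obtain ⟨q, hq, x, hx, hxo, hkx⟩ := exists_prime_root hk hk1
  obtain ⟨h1, -, -⟩ := line_normalizers hG hM hK hK1 (X := zpowers x) (zpowers_le.2 hx)
    (by rw [Nat.card_zpowers, hxo]; exact hq)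
  haveI := hKc
  letI := IsCyclic.commGroup (α := K)
  refine le_antisymm ((inf_le_inf_left M ((hkx.trans (FixedLine.le_centralizer_zpowers le_rfl)).trans
    (centralizer_le_normalizer _))).trans h1.le) (sup_le (le_inf hK.1 fun z hz =>
      mem_centralizer_singleton_iff.2 (congrArg Subtype.val (mul_comm (⟨z, hz⟩ : K) ⟨k, hk⟩))) ?_)
  exact le_inf (inf_le_left.trans (map_subtype_le _))
    (inf_le_right.trans (centralizer_le (Set.singleton_subset_iff.2 hk)))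

end CfsgLib.OddLocal.Kap
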