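import Cfsg.Agent.OddLocal.KappaPairMain
import Cfsg.Agent.OddLocal.KappaDecomp

/-!
Facts about the pair `M`, `M*` (BG 14.7).
-/

set_option autoImplicit false
set_option linter.style.haveILetI false
set_option linter.unusedSectionVars false

namespace CfsgLib.OddLocal.Kap

open Subgroup Cfsg CfsgLib.OddLocal
open scoped commutatorElement Pointwise

universe u

variable {G : Type u} [Group G] [Finite G]

theorem mem_map_conj_iff {M : Subgroup G} {g w : G} :
    w ∈ M.map (MulAut.conj g).toMonoidHom ↔ g⁻¹ * w * g ∈ M := by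
  constructor
  · rintro ⟨m, hm, rfl⟩
    show g⁻¹ * (g * m * g⁻¹) * g ∈ M
    rwa [show g⁻¹ * (g * m * g⁻¹) * g = m by group]
  · intro h
    exact ⟨_, h, by show g * (g⁻¹ * w * g) * g⁻¹ = w; group⟩

variable (hG : Cfsg.IsMinSimpleOddOrder G)
include hG

theorem not_hasOuter_of_decomp_bot {M K : Subgroup G} (hM : IsCoatom M)
    (hKU : Cfsg.IsSigmaDecomposition M K ⊥) : ¬ HasOuter M := by
  rintro ⟨t, ht, htd, htσ, htκ⟩
  exact (decomp_hall hG hM hKU).2.2 t ht ⟨ht, htκ, htσ⟩ (by rw [relIndex_bot_left]; exact htd)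

theorem hasOuter_of_decomp {M K U : Subgroup G} (hM : IsCoatom M)
    (hKU : Cfsg.IsSigmaDecomposition M K U) (hU : U ≠ ⊥) : HasOuter M := by
  obtain ⟨r, hr, u, hu, huo⟩ := exists_order_prime hU
  have hUH := decomp_hall hG hM hKU
  have h := hUH.2.1 r hr (dvd_of_mem hu huo)
  exact ⟨r, hr, dvd_of_mem (hUH.1 hu) huo, h.2.2, h.2.1⟩

variable {M H : Subgroup G} (hM : IsCoatom M) (hH : Cfsg.IsPiHallOf (Cfsg.kappa M) H M) (hH1 : H ≠ ⊥)
include hM hH hH1

theorem commute_sup {a b : G} (ha : a ∈ H ⊔ star M H) (hb : b ∈ H ⊔ star M H) : Commute a b := by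
  haveI := sup_cyclic hG hM hH hH1
  letI := IsCyclic.commGroup (α := ↥(H ⊔ star M H))
  exact congrArg Subtype.val (mul_comm (⟨a, ha⟩ : ↥(H ⊔ star M H)) ⟨b, hb⟩)

theorem meet_centralizer {x : G} (hx : x ∈ H) (hx1 : x ≠ 1) :
    M ⊓ centralizer ({x} : Set G) = H ⊔ star M H := by
  obtain ⟨r, hr, x₁, hx₁, hx₁o, hle⟩ := exists_prime_root hx hx1
  haveI := Fact.mk hr
  refine le_antisymm ?_ (le_inf (sup_le hH.1 (inf_le_left.trans (map_subtype_le _))) fun c hc =>
    mem_centralizer_singleton_iff.2 (commute_sup hG hM hH hH1 hc (mem_sup_left hx)).eq)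
  rw [← line_eq hG hM hH hH1 hx₁ hx₁o]
  exact inf_le_inf_left M ((hle.trans (FixedLine.le_centralizer_zpowers le_rfl)).trans (centralizer_le_normalizer _))

theorem centralizer_mul {x y : G} (hx : x ∈ H) (hx1 : x ≠ 1) (hy : y ∈ star M H) (hy1 : y ≠ 1) :
    centralizer ({x * y} : Set G) = H ⊔ star M H := by
  have hxy : Commute x y := mem_centralizer_iff.1 hy.2 x hx
  refine le_antisymm (fun c hc => ?_) fun c hc => mem_centralizer_singleton_iff.2
    (commute_sup hG hM hH hH1 hc (mul_mem (mem_sup_left hx) (mem_sup_right hy))).eq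
  have hc' : Commute c (x * y) := mem_centralizer_singleton_iff.1 hc
  have hσy : ∀ p : ℕ, p.Prime → p ∣ orderOf y → p ∈ Cfsg.sigma M := sigma_of_order hG hM hy.1
  have hσx : ∀ p : ℕ, p.Prime → p ∣ orderOf x → p ∉ Cfsg.sigma M := fun p hp hd =>
    (hH.2.1 p hp (hd.trans (H.orderOf_dvd_natCard hx))).2.2.1
  have e : c * y * c⁻¹ * (c * x * c⁻¹) = y * x := by
    calc c * y * c⁻¹ * (c * x * c⁻¹) = c * (x * y) * c⁻¹ := by rw [hxy.eq]; group
      _ = x * y := by rw [hc'.eq]; group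
      _ = y * x := hxy.eq
  have h1 : c * y * c⁻¹ = y := part_unique (π := Cfsg.sigma M) (hxy.symm.map (MulAut.conj c).toMonoidHom) hxy.symm
    (fun p hp hd => hσy p hp (hd.trans (dvd_of_eq (conj_orderOf c y)))) hσy
    (fun p hp hd => hσx p hp (hd.trans (dvd_of_eq (conj_orderOf c x)))) hσx e
  have h2 : c * x * c⁻¹ = x := mul_left_cancel (a := y) (by rw [← e, h1])
  rw [← meet_centralizer hG hM hH hH1 hx hx1]
  exact ⟨(isNode_self hG hM hH hH1).centralizer_le hG hy hy1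
      (mem_centralizer_singleton_iff.2 (mul_inv_eq_iff_eq_mul.1 h1)),
    mem_centralizer_singleton_iff.2 (mul_inv_eq_iff_eq_mul.1 h2)⟩

variable {N : Subgroup G} (hN : IsCoatom N) (hNH : Cfsg.IsPiHallOf (Cfsg.kappa N) (star M H) N)
  (hHe : H = star N (star M H))
include hN hNH hHe

theorem node_cases {A B : Subgroup G} (h : IsNode (H ⊔ star M H) A B) :
    (A = M ∧ B = H) ∨ (A = N ∧ B = star M H) := by
  obtain ⟨h₁, hne⟩ := partner_node hG hM hH hH1 hN hNH hHe
  have h₀ := isNode_self hG hM hH hH1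
  obtain ⟨P, LP, -, -, -, -, hall, -⟩ := h₀.pair hG
  rcases hall A B h with rfl | e
  · exact Or.inl ⟨rfl, h.unique hG h₀⟩
  rcases hall N _ h₁ with e' | e'
  · exact absurd e' hne
  obtain rfl : A = N := e.trans e'.symm
  exact Or.inr ⟨rfl, h.unique hG h₁⟩

theorem mixed_eq :
    mixed (H ⊔ star M H) = ((H ⊔ star M H : Subgroup G) : Set G) \ ((H : Set G) ∪ (star M H : Set G)) := by
  obtain ⟨h₁, -⟩ := partner_node hG hM hH hH1 hN hNH hHe
  refine Set.ext fun w => ⟨fun hw => ⟨hw.1, ?_⟩, fun hw => ⟨hw.1, fun A B hA hm => ?_⟩⟩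
  · rintro (h | h)
    · exact hw.2 N _ h₁ (by rw [← hHe]; exact h)
    · exact hw.2 M H (isNode_self hG hM hH hH1) h
  · rcases node_cases hG hM hH hH1 hN hNH hHe hA with ⟨rfl, rfl⟩ | ⟨rfl, rfl⟩
    · exact hw.2 (Or.inr hm)
    · exact hw.2 (Or.inl (by rw [← hHe] at hm; exact hm))

/-- A prime of `σ(M)` dividing `|M*|` lies in `κ(M*)`. -/
theorem sigma_mem_kappa_partner {p : ℕ} (hpM : p ∈ Cfsg.sigma M) (hd : p ∣ Nat.card N) : p ∈ Cfsg.kappa N := by
  haveI := Fact.mk hpM.1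
  have h₀ := isNode_self hG hM hH hH1
  obtain ⟨h₁, hne⟩ := partner_node hG hM hH hH1 hN hNH hHe
  have hpN : p ∉ Cfsg.sigma N := h₀.sigma_ne hG h₁ hne.symm hpM
  by_contra hpκ
  obtain ⟨E, U, -, hSE, -, hEU, hUc, hUH, -, -, -, -, -⟩ := kappa_data hG hN hNH (h₁.ne_bot)
  obtain ⟨R₀⟩ : Nonempty (Sylow p U) := inferInstance
  set R := (R₀ : Subgroup U).map U.subtype
  have hRU : R ≤ U := map_subtype_le _
  have hRp : IsPGroup p R := R₀.2.map _
  have hpU : p ∣ Nat.card U := by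
    rw [← CfsgLib.InvariantHall.relIndex_mul_card hUH.1] at hd
    exact (hpM.1.dvd_mul.1 hd).resolve_right (hUH.2.2 p hpM.1 ⟨hpM.1, hpκ, hpN⟩)
  have hR1 : R ≠ ⊥ := fun e => R₀.ne_bot_of_dvd_card hpU
    (map_injective U.subtype_injective (by rw [Subgroup.map_bot]; exact e))
  have hER : ∀ e ∈ E, e ∈ normalizer (R : Set G) := by
    intro e he
    refine Uniq.mem_normalizer_of_map_le ?_
    set R' := R.map (MulAut.conj e).toMonoidHom
    have hR'U : R' ≤ U := by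
      rintro _ ⟨u, hu, rfl⟩
      exact (mem_normalizer_iff.1 (hEU he) u).1 (hRU hu)
    have hcomm : R' ≤ normalizer (R : Set G) := fun a ha => centralizer_le_normalizer _
      (mem_centralizer_iff.2 fun b hb => congrArg Subtype.val
        (mul_comm' (⟨b, hRU hb⟩ : U) ⟨a, hR'U ha⟩))
    have hp' : IsPGroup p ↥(R ⊔ R') := IsPGroup.to_sup_of_normal_left' hRp (hRp.map _) hcomm
    have h := R₀.is_maximal' (hp'.comap_subtype (K := U)) fun u hu => mem_sup_left (mem_map_of_mem _ hu)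
    have h' := congrArg (Subgroup.map U.subtype) h
    rw [← Subgroup.subgroupOf, map_subgroupOf_eq_of_le (sup_le hRU hR'U)] at h'
    exact le_sup_right.trans h'.le
  obtain ⟨s, hs, y, hy, hyo⟩ := exists_order_prime (fixed_ne_bot hG hM hH hH1)
  haveI := Fact.mk hs
  have hyR : y ∈ normalizer (R : Set G) := hER y (hSE hy)
  obtain ⟨g₀, hg₀⟩ := Tau.conj_into_sigmaCore hG hM hR1 (Excep.primes_of_pgroup hRp hpM)
  set M' := M.map (MulAut.conj g₀⁻¹).toMonoidHom with hM'def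
  have hM' : IsCoatom M' := Uniq.coatom_conj hM _
  have hpM' : p ∈ Cfsg.sigma M' := sigma_map _ hpM
  have hRM' : R ≤ M' := fun a ha => mem_map_conj_iff.2 (map_subtype_le _ (hg₀ ⟨a, ha, by
    show g₀ * a * g₀⁻¹ = g₀⁻¹⁻¹ * a * g₀⁻¹; group⟩))
  have key : ∃ g, R ⊔ zpowers y ≤ M.map (MulAut.conj g).toMonoidHom := by
    by_cases hc : IsCyclic R
    swap
    · exact ⟨g₀⁻¹, sup_le hRM' (zpowers_le.2 (Tau.normalizer_le_of_noncyclic hG hM' hpM' hRp hRM' hc hyR))⟩
    obtain ⟨r₀, hr₀⟩ := exists_prime_orderOf_dvd_card' (G := R) p (Excep.isPGroup_ne_bot_dvd hRp hR1)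
    obtain ⟨r, hr, hro⟩ : ∃ r ∈ R, orderOf r = p := ⟨r₀, r₀.2, by rw [orderOf_coe, hr₀]⟩
    have hr1 : r ≠ 1 := fun e => hpM.1.ne_one (by rw [← hro, e, orderOf_one])
    have hrK : r ∈ Cfsg.sigmaCore M' := mem_core_of_order hG hM' (j := 1) (hRM' hr) (by rw [hro, pow_one]) hpM'
    have hyr : y ∈ normalizer (zpowers r : Set G) := UTool.normalizer_le_normalizer_zpowers hc hr hyR
    have hrr : y⁻¹ * r * y ∈ zpowers r := (mem_normalizer_iff''.1 hyr r).1 (mem_zpowers r)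
    by_cases hC : centralizer ({r} : Set G) ≤ M'
    · rcases conjugate_over hG hM' hrK hr1 (g := y) (mem_map_conj_iff.2 ((zpowers_le.2 (hRM' hr)) hrr)) with
        e | ⟨-, -, -, h, -⟩
      · exact ⟨g₀⁻¹, sup_le hRM' (zpowers_le.2 (eq_of_conj_eq hG hM' e))⟩
      · exact absurd hC h
    obtain ⟨D, hD, hCD, hu, hnc, hcompl, -, -, -⟩ := exists_over hG hM' hrK hr1 hC
    have hyD : y ∈ D := eq_of_conj_eq hG hD (hu _ (Uniq.coatom_conj hD y) fun c hc' => mem_map_conj_iff.2 (hCD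
      (FixedLine.centralizer_zpowers_le r ((mem_normalizer_iff''.1
        (TH.normalizer_le_normalizer_centralizer _ hyr) c).1 (FixedLine.le_centralizer_zpowers le_rfl hc')))))
    have hRD : R ≤ D := fun a ha => hCD (by
      letI := hc.commGroup
      exact mem_centralizer_singleton_iff.2 (congrArg Subtype.val (mul_comm (⟨a, ha⟩ : R) ⟨r, hr⟩)))
    have hYp : ∀ q : ℕ, q.Prime → q ∣ Nat.card ↥(R ⊔ zpowers y) → q ∈ Cfsg.sigma M' := by
      intro q hq hqd
      rw [sup_comm] at hqd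
      rcases hq.dvd_mul.1 (hqd.trans (CfsgLib.Solvable.card_sup_dvd (zpowers_le.2 hyR))) with h | h
      · rw [Nat.card_zpowers, hyo] at h
        exact (Nat.prime_dvd_prime_iff_eq hq hs).1 h ▸ sigma_map _ (mem_sigma_of_mem_core hG hM hs hy.1 hyo)
      · exact Excep.primes_of_pgroup hRp hpM' q hq h
    obtain ⟨n, hn, hle⟩ := Tau.conj_into_of_product (π := Cfsg.sigma M') (solvable_le hG hD le_rfl)
      (inf_le_right : M' ⊓ D ≤ D) (map_subtype_le _ : Cfsg.sigmaCore D ≤ D) (TH.le_normalizer_core D)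
      (fun d hd => by
        obtain ⟨a, ha, b, hb, rfl⟩ := hcompl.2.2.2 d hd
        exact mul_mem (mem_sup_right ha) (mem_sup_left hb))
      (fun q hq hqσ hqd => by
        haveI := Fact.mk hq
        obtain ⟨c, hc'⟩ := conj_of_common hG hM' hD hqσ ((Sig.sigma_core hG hD).1.2.1 q hq hqd)
        exact hnc c hc')
      (sup_le hRD (zpowers_le.2 hyD)) hYp
    refine ⟨n⁻¹ * g₀⁻¹, fun a ha => ?_⟩
    have h := (hle ⟨a, ha, rfl⟩).1
    rw [← Tau.map_conj_comp, ← hM'def]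
    exact mem_map_conj_iff.2 (by
      rw [inv_inv]
      exact h)
  obtain ⟨g, hg⟩ := key
  have hgM : g ∈ M := by
    by_contra hgM
    have := (fixed_meet_conj hG hM hH hH1 hgM).le ⟨hy, hg (mem_sup_right (mem_zpowers y))⟩
    exact hs.ne_one (by rw [← hyo, orderOf_eq_one_iff]; exact Subgroup.mem_bot.1 this)
  have hgeq : M.map (MulAut.conj g).toMonoidHom = M := mem_normalizer_iff_map_conj_eq.1 (le_normalizer hgM)
  rw [hgeq] at hg
  have hRM : R ≤ M := le_sup_left.trans hg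
  obtain ⟨q, hq, x, hx, hxo⟩ := exists_order_prime hH1
  haveI := Fact.mk hq
  have hxN : x ∈ Cfsg.sigmaCore N := (hHe.le hx).1
  have hRC : R ≤ M ⊓ centralizer ({x} : Set G) := fun a ha => by
    refine ⟨hRM ha, mem_centralizer_singleton_iff.2 ?_⟩
    have haK : a ∈ Cfsg.sigmaCore M := Excep.le_sigmaCore hG hM hRM (Excep.primes_of_pgroup hRp hpM) ha
    have haN : a ∈ N := hUH.1 (hRU ha)
    have h1 : a * x * a⁻¹ * x⁻¹ ∈ Cfsg.sigmaCore M ⊓ Cfsg.sigmaCore N := by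
      refine ⟨?_, (Cfsg.sigmaCore N).mul_mem ((mem_normalizer_iff.1 (TH.le_normalizer_core N haN) x).1 hxN)
        ((Cfsg.sigmaCore N).inv_mem hxN)⟩
      rw [show a * x * a⁻¹ * x⁻¹ = a * (x * a⁻¹ * x⁻¹) by group]
      exact (Cfsg.sigmaCore M).mul_mem haK ((mem_normalizer_iff.1 (TH.le_normalizer_core M (hH.1 hx)) _).1
        ((Cfsg.sigmaCore M).inv_mem haK))
    rw [disjoint_iff.1 (disjoint_of_coprime_natCard (H := Cfsg.sigmaCore M) (K := Cfsg.sigmaCore N)
      (Nat.coprime_of_dvd fun q hq h1 h2 => h₀.sigma_ne hG h₁ hne.symm ((Sig.sigma_core hG hM).1.2.1 q hq h1)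
        ((Sig.sigma_core hG hN).1.2.1 q hq h2))), Subgroup.mem_bot, mul_inv_eq_one, mul_inv_eq_iff_eq_mul] at h1
    exact h1
  rw [meet_centralizer hG hM hH hH1 hx (fun e => hq.ne_one (by rw [← hxo, e, orderOf_one]))] at hRC
  have hdR := (Excep.isPGroup_ne_bot_dvd hRp hR1).trans (card_dvd_of_le hRC)
  rw [card_star_sup hG hM hH] at hdR
  rcases hpM.1.dvd_mul.1 hdR with h | h
  · exact (hH.2.1 p hpM.1 h).2.2.1 hpM
  · exact hpκ (hNH.2.1 p hpM.1 h)

/-- The number of conjugates of the mixed elements. -/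
theorem card_conj_mixed :
    Nat.card H * Nat.card ↥(star M H) *
        Set.ncard {a : G | ∃ g : G, ∃ w ∈ mixed (H ⊔ star M H), a = g * w * g⁻¹} =
      (Nat.card H * Nat.card ↥(star M H) - Nat.card H - Nat.card ↥(star M H) + 1) * Nat.card G := by
  classical
  haveI := Fintype.ofFinite G
  have h₀ := isNode_self hG hM hH hH1
  have hc := ti_count (H ⊔ star M H) (mixed (H ⊔ star M H)) (fun w hw g hg => h₀.mixed_ti hG hw hg)
    (fun c hc w hw => mixed_invariant hc hw)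
  rw [card_star_sup hG hM hH] at hc
  rw [hc]
  suffices hm : Set.ncard (mixed (H ⊔ star M H)) + Nat.card H + Nat.card ↥(star M H) =
      Nat.card H * Nat.card ↥(star M H) + 1 by
    have h5 : 2 ≤ Nat.card H := by
      have := Nat.card_pos (α := H)
      have : Nat.card H ≠ 1 := fun e => hH1 (eq_bot_of_card_eq _ e)
      omega
    have h6 : 2 ≤ Nat.card ↥(star M H) := by
      have := Nat.card_pos (α := ↥(star M H))
      have : Nat.card ↥(star M H) ≠ 1 := fun e => fixed_ne_bot hG hM hH hH1 (eq_bot_of_card_eq _ e)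
      omega
    have h7 := Nat.add_le_mul h5 h6
    congr 1
    omega
  have hsub : ((H : Set G) ∪ (star M H : Set G)) ⊆ ((H ⊔ star M H : Subgroup G) : Set G) :=
    Set.union_subset (SetLike.coe_subset_coe.2 le_sup_left) (SetLike.coe_subset_coe.2 le_sup_right)
  have h1 := Set.ncard_sdiff_add_ncard_of_subset hsub
  rw [← mixed_eq hG hM hH hH1 hN hNH hHe, ← Nat.card_coe_set_eq ((H ⊔ star M H : Subgroup G) : Set G)] at h1
  have h2 := Set.ncard_union_add_ncard_inter (H : Set G) (star M H : Set G)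
  have h3 : (H : Set G) ∩ (star M H : Set G) = {1} := by
    rw [← Subgroup.coe_inf, disjoint_iff.1 (disjoint_of_coprime_natCard (Nat.coprime_of_dvd fun p hp h1 h2 =>
      (hH.2.1 p hp h1).2.2.1 (primes_star hG hM p hp h2))), Subgroup.coe_bot]
  rw [h3, Set.ncard_singleton, ← Nat.card_coe_set_eq (H : Set G),
    ← Nat.card_coe_set_eq (star M H : Set G)] at h2
  have h4 : Nat.card ↥(H ⊔ star M H) = Nat.card H * Nat.card ↥(star M H) := card_star_sup hG hM hH
  change _ + _ = Nat.card ↥(H ⊔ star M H) at h1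
  change _ + _ = Nat.card H + Nat.card ↥(star M H) at h2
  omega

/-- More than half of the group is conjugate to a mixed element. -/
theorem half_conj_mixed :
    Nat.card G < 2 * Set.ncard {a : G | ∃ g : G, ∃ w ∈ mixed (H ⊔ star M H), a = g * w * g⁻¹} := by
  have hc := card_conj_mixed hG hM hH hH1 hN hNH hHe
  set n := Set.ncard {a : G | ∃ g : G, ∃ w ∈ mixed (H ⊔ star M H), a = g * w * g⁻¹}
  set h := Nat.card H with hh
  set k := Nat.card ↥(star M H) with hk
  have hodd : ∀ D : Subgroup G, D ≠ ⊥ → ∃ j, Nat.card D = 2 * j + 3 := fun D hD => by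
    have h1 : Nat.card D ≠ 1 := fun e => hD (eq_bot_of_card_eq _ e)
    obtain ⟨j, hj⟩ := hG.1.of_dvd_nat (card_subgroup_dvd_card D)
    exact ⟨j - 1, by omega⟩
  have hne : h ≠ k := fun e => by
    obtain ⟨p, hp, hd⟩ := Nat.exists_prime_and_dvd (fun e1 : h = 1 => hH1 (eq_bot_of_card_eq _ e1))
    exact (hH.2.1 p hp hd).2.2.1 (primes_star hG hM p hp (e ▸ hd : p ∣ k))
  have hGp : 0 < Nat.card G := Nat.card_pos
  obtain ⟨a', ha'⟩ := hodd H hH1
  obtain ⟨b', hb'⟩ := hodd (star M H) (fixed_ne_bot hG hM hH hH1)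
  rw [← hh] at ha'
  rw [← hk] at hb'
  rw [ha', hb'] at hc hne
  obtain ⟨a, hadef⟩ : ∃ a, a = 2 * a' := ⟨_, rfl⟩
  obtain ⟨b, hbdef⟩ : ∃ b, b = 2 * b' := ⟨_, rfl⟩
  rw [← hadef, ← hbdef] at hc hne
  have e1 : (a + 3) * (b + 3) - (a + 3) - (b + 3) + 1 = (a + 2) * (b + 2) := by
    rw [show (a + 3) * (b + 3) = (a + 2) * (b + 2) + (a + 2) + (b + 2) + 1 by ring]
    generalize hP : (a + 2) * (b + 2) = P
    have : 4 ≤ P := by rw [← hP]; nlinarith
    omega
  rw [e1] at hc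
  have e2 : (a + 3) * (b + 3) < 2 * ((a + 2) * (b + 2)) := by
    have h2 : 2 ≤ a + b := by
      have : a' ≠ b' := fun e => hne (by omega)
      omega
    nlinarith
  by_contra hlt
  push Not at hlt
  have hh' : (a + 3) * (b + 3) * (2 * n) ≤ (a + 3) * (b + 3) * Nat.card G := Nat.mul_le_mul_left _ hlt
  nlinarith

/-- BG 14.7: every maximal subgroup with nonempty `κ` is conjugate to `M` or `M*`. -/
theorem kappa_class {A : Subgroup G} (hA : IsCoatom A) (hκ : (Cfsg.kappa A).Nonempty) :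
    ∃ g : G, A = M.map (MulAut.conj g).toMonoidHom ∨ A = N.map (MulAut.conj g).toMonoidHom := by
  classical
  obtain ⟨t, ht⟩ := hκ
  haveI := Fact.mk ht.1
  obtain ⟨u₀, hu₀⟩ := exists_prime_orderOf_dvd_card' (G := A) t ht.2.1
  obtain ⟨B, hB, -, hB1⟩ := exists_hall_kappa hG hA (y := (u₀ : G)) u₀.2 (by rw [orderOf_coe, hu₀]) ht
  obtain ⟨N', hN', hN'H, hBe, -, -⟩ := exists_partner hG hA hB hB1
  have h1 := half_conj_mixed hG hM hH hH1 hN hNH hHe
  have h2 := half_conj_mixed hG hA hB hB1 hN' hN'H hBe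
  set S₁ := {a : G | ∃ g : G, ∃ w ∈ mixed (H ⊔ star M H), a = g * w * g⁻¹}
  set S₂ := {a : G | ∃ g : G, ∃ w ∈ mixed (B ⊔ star A B), a = g * w * g⁻¹}
  have h3 : (S₁ ∩ S₂).Nonempty := by
    by_contra h
    rw [Set.not_nonempty_iff_eq_empty] at h
    have h4 := Set.ncard_union_add_ncard_inter S₁ S₂
    rw [h, Set.ncard_empty, add_zero] at h4
    have h5 : (S₁ ∪ S₂).ncard ≤ Nat.card G := Set.ncard_le_card _
    omega
  obtain ⟨_, ⟨g, w, hw, rfl⟩, g', v, hv, e⟩ := h3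
  obtain ⟨b, hb, a, ha, hcm, ev⟩ := (isNode_self hG hA hB hB1).split hv.1
  have ha1 : a ≠ 1 := fun e1 => by
    rw [mixed_eq hG hA hB hB1 hN' hN'H hBe] at hv
    exact hv.2 (Or.inl (by rw [ev, e1, one_mul]; exact hb))
  obtain ⟨p, hp, hpa⟩ := Nat.exists_prime_and_dvd (fun e1 => ha1 (orderOf_eq_one_iff.1 e1))
  haveI := Fact.mk hp
  have hpA : p ∈ Cfsg.sigma A := primes_star hG hA p hp (hpa.trans ((star A B).orderOf_dvd_natCard ha))
  have hco : (orderOf a).Coprime (orderOf b) := Nat.coprime_of_dvd fun q hq h1 h2 =>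
    (hB.2.1 q hq (h2.trans (B.orderOf_dvd_natCard hb))).2.2.1
      (primes_star hG hA q hq (h1.trans ((star A B).orderOf_dvd_natCard ha)))
  have hpw : p ∣ Nat.card ↥(H ⊔ star M H) := by
    refine Dvd.dvd.trans ?_ ((H ⊔ star M H).orderOf_dvd_natCard hw.1)
    rw [← conj_orderOf g w, e, conj_orderOf, ev, hcm.orderOf_mul_eq_mul_orderOf_of_coprime hco]
    exact hpa.trans (dvd_mul_right _ _)
  obtain ⟨C, D, hCD, hpC⟩ := (isNode_self hG hM hH hH1).exists_sigma hG hp hpw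
  obtain ⟨c, hc⟩ := conj_of_common hG hCD.coatom hA hpC hpA
  rcases node_cases hG hM hH hH1 hN hNH hHe hCD with ⟨rfl, -⟩ | ⟨rfl, -⟩
  exacts [⟨c, Or.inl hc⟩, ⟨c, Or.inr hc⟩]

end CfsgLib.OddLocal.Kap
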