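import Cfsg.Agent.OddLocal.UniquenessTools
import Cfsg.Agent.OddLocal.CNMinimal
import Cfsg.Agent.PLocal.OddPGroup
import Cfsg.Agent.Solvable.PGroupRank
import Cfsg.Agent.S1451
import Cfsg.Agent.S1452
import Cfsg.Agent.S1453

/-!
The uniqueness theorem: in a minimal simple group of odd order a self-centralizing normal subgroup
of rank at least three of a Sylow subgroup lies in only one maximal subgroup.
-/

set_option autoImplicit false
set_option linter.style.haveILetI false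
set_option linter.unusedSectionVars false

namespace CfsgLib.OddLocal.UThm

open Subgroup Cfsg CfsgLib.OddLocal

universe u

variable {G : Type u} [Group G] [Finite G] {p : ℕ} [Fact p.Prime]

/-- The configuration to be refuted. -/
structure Setup (P : Sylow p G) (A E : Subgroup G) : Prop where
  hG : Cfsg.IsMinSimpleOddOrder G
  hA : Cfsg.IsSCN (P : Subgroup G) A
  hA3 : ¬ Cfsg.PRankLE p 2 A
  hnU : ¬ Cfsg.InUniqueMaximal A
  hEA : E ≤ A
  hE : Cfsg.IsElementaryAbelian p E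
  hE3 : Nat.card E = p ^ 3

/-- A maximal subgroup containing `P` in its derived subgroup. -/
structure Ctx (P : Sylow p G) (M : Subgroup G) : Prop where
  hM : IsCoatom M
  hPM : (P : Subgroup G) ≤ M
  hP' : (P : Subgroup G) ≤ ⁅M, M⁆

/-- A nontrivial element of `E` with centralizer inside `M`. -/
def Good (E M : Subgroup G) (h : G) : Prop := h ∈ E ∧ h ≠ 1 ∧ centralizer ({h} : Set G) ≤ M

/-- A connected normal subgroup of a Sylow subgroup of `F(M)` of rank at least three. -/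
structure Conn (p : ℕ) (M : Subgroup G) (t : ℕ) (T : Subgroup G) : Prop where
  ht : t.Prime
  htp : t ≠ p
  ht2 : t ≠ 2
  hr : ¬ Cfsg.PRankLE t 2 ↥(Bender.qc t M)
  hle : T ≤ Bender.qc t M
  hn : normalizer (Bender.qc t M : Set G) ≤ normalizer (T : Set G)
  hnc : ¬ IsCyclic T
  hself : Bender.qc t M ⊓ centralizer (T : Set G) ≤ T
  hX : ∀ X : Subgroup G, X ≤ T → Cfsg.IsElementaryAbelian t X → Nat.card X = t ^ 2 → Cfsg.InUniqueMaximal X

/-- A subgroup of order `p²` of `E` with an element of order `t` of `T` centralizing it. -/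
structure Line (p : ℕ) (E T : Subgroup G) (t : ℕ) (K : Subgroup G) (u : G) : Prop where
  hKE : K ≤ E
  hK2 : Nat.card K = p ^ 2
  huT : u ∈ T
  hu : orderOf u = t
  huK : u ∈ centralizer (K : Set G)

variable {P : Sylow p G} {A E : Subgroup G}

theorem card_hyperplane (hE3 : Nat.card E = p ^ 3) {B : Subgroup G} (hB : B ≤ E) (hi : B.relIndex E ≤ p) :
    B = E ∨ Nat.card B = p ^ 2 := by
  have hp : p.Prime := Fact.out
  obtain ⟨k, hk3, hk⟩ := (Nat.dvd_prime_pow hp).1 (hE3 ▸ card_dvd_of_le hB)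
  rcases eq_or_ne k 3 with rfl | h3
  · exact Or.inl (eq_of_le_of_card_ge hB (by rw [hk, hE3]))
  refine Or.inr ?_
  have hm : B.relIndex E * Nat.card B = p ^ 3 := by
    rw [← hE3, ← relIndex_bot_left, ← relIndex_bot_left, mul_comm]
    exact relIndex_mul_relIndex _ _ _ bot_le hB
  have h1 : p ^ 3 ≤ p ^ (k + 1) := by
    rw [← hm, pow_succ', hk]
    exact Nat.mul_le_mul hi le_rfl
  have h2 := (Nat.pow_le_pow_iff_right hp.one_lt).1 h1
  rw [hk, show k = 2 by omega]

theorem Line.elem {E T K : Subgroup G} {t : ℕ} {u : G} (hl : Line p E T t K u) : ∀ e ∈ K, e * u = u * e :=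
  fun e he => mem_centralizer_iff.1 hl.huK e he

section Basic

variable (S : Setup P A E)
include S

theorem Setup.hp2 : p ≠ 2 := by
  refine CfsgLib.CN.MinSimple.p_ne_two S.hG ?_
  refine dvd_trans ?_ E.card_subgroup_dvd_card
  rw [S.hE3]
  exact dvd_pow_self p (by norm_num)

theorem Setup.hAp : IsPGroup p A := P.2.to_le S.hA.1

theorem Setup.comm {a b : G} (ha : a ∈ A) (hb : b ∈ A) : a * b = b * a :=
  mem_centralizer_iff.1 (S.hA.2.2.ge hb).2 a ha

theorem Setup.hAc : IsMulCommutative A := ⟨⟨fun a b => Subtype.ext (S.comm a.2 b.2)⟩⟩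

theorem Setup.hEP : E ≤ (P : Subgroup G) := S.hEA.trans S.hA.1

theorem Setup.le_centralizer {e : G} (he : e ∈ E) : A ≤ centralizer ({e} : Set G) :=
  fun _ ha => mem_centralizer_singleton_iff.2 (S.comm ha (S.hEA he))

theorem Setup.hA1 : ¬ Cfsg.PRankLE p 1 A := fun h => S.hA3 fun B h1 h2 =>
  (h B h1 h2).trans (Nat.pow_le_pow_right (Fact.out : p.Prime).pos (by norm_num))

theorem Setup.dvd_iff {r : ℕ} (hr : r.Prime) : r ∣ Nat.card A ↔ r = p := by
  obtain ⟨k, hk⟩ := IsPGroup.iff_card.1 S.hAp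
  refine ⟨fun h => (Nat.prime_dvd_prime_iff_eq hr Fact.out).1 (hr.dvd_of_dvd_pow (hk ▸ h)), ?_⟩
  rintro rfl
  refine dvd_trans ?_ (card_dvd_of_le S.hEA)
  rw [S.hE3]
  exact dvd_pow_self r (by norm_num)

theorem Setup.hTH : Cfsg.TransitivityHypothesis A :=
  Cfsg.Agent.S1396.result S.hG p (((S.dvd_iff (Fact.out : p.Prime)).2 rfl).trans A.card_subgroup_dvd_card)
    A S.hAp S.hAc (Or.inr ⟨P, S.hA, S.hA1⟩)

theorem Setup.transitive {s : ℕ} [Fact s.Prime] (hsp : s ≠ p) :
    ∀ Q₁ ∈ Cfsg.maxInvSubgroups ⊤ A {s}, ∀ Q₂ ∈ Cfsg.maxInvSubgroups ⊤ A {s}, TH.Rel A Q₁ Q₂ := by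
  intro Q₁ h₁ Q₂ h₂
  refine TH.rel_of_rankThree S.hG S.hTH (fun h => hsp ((S.dvd_iff Fact.out).1 h)) (fun h => S.hA3 ?_) h₁ h₂
  haveI := S.hAc
  have hAeq : A ⊓ centralizer (A : Set G) = A :=
    inf_eq_left.2 (le_centralizer_iff_isMulCommutative.2 S.hAc)
  rw [hAeq] at h
  exact h p Fact.out

theorem Setup.rank {M : Subgroup G} (hM : IsCoatom M) : Cfsg.PRankLE p 2 ↥(fittingOf M) :=
  by_contra fun hr => S.hnU (UniqFirst.unique_of_rank S.hG hM hr S.hAp S.hAc S.hA3)

theorem Setup.no_centralize {K L : Subgroup G} (hKE : K ≤ E) (hK2 : Nat.card K = p ^ 2)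
    (hL : Cfsg.InUniqueMaximal L) : ¬ K ≤ centralizer (L : Set G) := fun h => S.hnU
  (Uniq.mono (Uniq.of_centralize S.hG hL h (CfsgLib.Signalizer.of_le S.hE hKE) hK2.ge) (hKE.trans S.hEA)
    (CfsgLib.CN.MinSimple.ne_top S.hG S.hAp.isNilpotent))

theorem Setup.plane_ne_bot {K : Subgroup G} (hK2 : Nat.card K = p ^ 2) : K ≠ ⊥ := fun h => by
  rw [h, card_bot] at hK2
  exact (Nat.one_lt_pow (by norm_num) (Fact.out : p.Prime).one_lt).ne hK2

theorem Setup.escape {K M : Subgroup G} (hKE : K ≤ E) (hK2 : Nat.card K = p ^ 2) (hM : IsCoatom M) :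
    ∃ b ∈ K, b ≠ 1 ∧ ¬ centralizer ({b} : Set G) ≤ M := by
  by_contra h
  push Not at h
  have hKe := CfsgLib.Signalizer.of_le S.hE hKE
  obtain ⟨b, hb, hb1⟩ := (bot_or_exists_ne_one K).resolve_left (S.plane_ne_bot hK2)
  have hKM : K ≤ M := (CfsgLib.Signalizer.le_centralizer_singleton hKe hb).trans (h b hb hb1)
  refine S.hnU (Uniq.mono (Uniq.unique_of_invariant S.hG hM hKM hKe (S.plane_ne_bot hK2) fun Y hY hYc => ?_)
    (hKE.trans S.hEA) (CfsgLib.CN.MinSimple.ne_top S.hG S.hAp.isNilpotent))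
  exact CfsgLib.Signalizer.le_of_forall_centralizer S.hE hKE hK2.ge hY
    ((Fact.out : p.Prime).coprime_iff_not_dvd.1 hYc.symm) fun e he he1 => inf_le_right.trans (h e he he1)

theorem Setup.inf_plane {K₁ K₂ : Subgroup G} (h₁ : K₁ ≤ E) (c₁ : Nat.card K₁ = p ^ 2) (h₂ : K₂ ≤ E)
    (c₂ : Nat.card K₂ = p ^ 2) (hne : K₁ ≠ K₂) : ∃ g ∈ K₁ ⊓ K₂, g ≠ 1 ∧ K₁ ⊓ K₂ ≤ zpowers g := by
  have hp : p.Prime := Fact.out
  obtain ⟨k, hk2, hk⟩ := (Nat.dvd_prime_pow hp).1 (c₁ ▸ card_dvd_of_le (inf_le_left : K₁ ⊓ K₂ ≤ K₁))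
  have hn : K₁ ≤ normalizer (K₂ : Set G) :=
    (h₁.trans (CfsgLib.Signalizer.le_centralizer_of_le S.hE h₂)).trans (centralizer_le_normalizer _)
  have hm := CfsgLib.Solvable.card_sup_mul_card_inf hn
  rw [c₁, c₂, hk] at hm
  have hk1 : k = 1 := by
    rcases eq_or_ne k 2 with rfl | h2
    · exact absurd ((eq_of_le_of_card_ge inf_le_left (by rw [hk, c₁])).symm.trans
        (eq_of_le_of_card_ge inf_le_right (by rw [hk, c₂]))) hne
    rcases eq_or_ne k 0 with rfl | h0
    · have h3 : Nat.card ↥(K₁ ⊔ K₂) ≤ p ^ 3 := S.hE3 ▸ card_le_of_le (sup_le h₁ h₂)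
      have h5 : p ^ 3 < p ^ 2 * p ^ 2 := by
        rw [← pow_add]; exact Nat.pow_lt_pow_right hp.one_lt (by norm_num)
      rw [pow_zero, mul_one] at hm
      omega
    omega
  subst hk1
  rw [pow_one] at hk
  obtain ⟨g, hg, hg1⟩ := (bot_or_exists_ne_one (K₁ ⊓ K₂)).resolve_left fun h => by
    rw [h, card_bot] at hk; exact hp.one_lt.ne hk
  refine ⟨g, hg, hg1, (eq_of_le_of_card_ge (zpowers_le.2 hg) ?_).ge⟩
  rw [CfsgLib.Signalizer.card_zpowers_eq S.hE (h₁ hg.1) hg1, hk]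

theorem Setup.big {M : Subgroup G} (C : Ctx P M) :
    ∃ t : ℕ, t.Prime ∧ t ≠ p ∧ ¬ Cfsg.PRankLE t 2 ↥(Bender.qc t M) := by
  by_contra hcon
  push Not at hcon
  haveI : Group.IsSolvable M := S.hG.2.2.2 M C.hM.1
  have hrk : Cfsg.RankLE 2 (Cfsg.fittingSubgroup M) := by
    intro r hr B hB hBe
    haveI := Fact.mk hr
    haveI := hB
    set B' := (B.map (Cfsg.fittingSubgroup M).subtype).map M.subtype
    have hB'e : Cfsg.IsElementaryAbelian r B' := by
      haveI : IsMulCommutative (B.map (Cfsg.fittingSubgroup M).subtype) := Subgroup.map_isMulCommutative B _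
      refine ⟨Subgroup.map_isMulCommutative _ _, ?_⟩
      rintro _ ⟨_, ⟨b, hb, rfl⟩, rfl⟩
      rw [← map_pow, ← map_pow, hBe b hb, map_one, map_one]
    have hB'F : B' ≤ fittingOf M := map_mono (map_subtype_le B)
    have hB'q : B' ≤ Bender.qc r M := fun b hb => by
      obtain ⟨j, -, hj⟩ := (Nat.dvd_prime_pow hr).1
        (show orderOf b ∣ r ^ 1 by rw [pow_one]; exact orderOf_dvd_of_pow_eq_one (hB'e.2 b hb))
      exact Bender.mem_qc (hB'F hb) hj
    have hcard : Nat.card B' = Nat.card B := by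
      rw [card_map_of_injective M.subtype_injective, card_map_of_injective (Subgroup.subtype_injective _)]
    rw [← hcard]
    rcases eq_or_ne r p with rfl | hne
    · exact Uniq.rankLE_elementary (S.rank C.hM) hB'F hB'e
    · exact Uniq.rankLE_elementary (hcon r hr hne) hB'q hB'e
  have h := (Cfsg.Agent.S1451.result (S.hG.1.of_dvd_nat (card_subgroup_dvd_card M)) (Or.inr hrk)).1
  have hM' : (commutator M).map M.subtype = ⁅M, M⁆ := by
    rw [_root_.commutator_def, map_commutator, ← MonoidHom.range_eq_map, range_subtype]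
  have hle : ⁅M, M⁆ ≤ fittingOf M := by
    rw [← hM']
    exact map_mono (CfsgLib.Solvable.le_fittingSubgroup inferInstance h)
  exact S.hA3 (Uniq.rankLE_mono ((S.hA.1.trans C.hP').trans hle) (S.rank C.hM))

end Basic

/-- A Sylow subgroup of rank three of `F(M)` lies only in `M`. -/
theorem unique_qc {t : ℕ} [Fact t.Prime] (hG : Cfsg.IsMinSimpleOddOrder G) {M : Subgroup G} (hM : IsCoatom M)
    (hr : ¬ Cfsg.PRankLE t 2 ↥(Bender.qc t M)) : Cfsg.InUniqueMaximal (Bender.qc t M) := by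
  obtain ⟨B, hB, hBe, hBc⟩ := Uniq.exists_elementary hr
  have hlt : ¬ t ^ 3 ≤ t ^ 2 := not_le.2 (Nat.pow_lt_pow_right (Fact.out : t.Prime).one_lt (by norm_num))
  exact Uniq.mono (UniqFirst.unique_of_rank hG hM (fun h => hr (Uniq.rankLE_mono (Bender.qc_le_fitting M) h))
    (CfsgLib.Signalizer.isPGroup hBe) hBe.1
    fun h => hlt (hBc ▸ Uniq.rankLE_elementary h le_rfl hBe)) hB
    (CfsgLib.CN.MinSimple.ne_top hG (Bender.isPGroup_qc M).isNilpotent)

theorem qc_ne_bot_of_rank {t : ℕ} [Fact t.Prime] {M : Subgroup G} (hr : ¬ Cfsg.PRankLE t 2 ↥(Bender.qc t M)) :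
    Bender.qc t M ≠ ⊥ := fun h => hr fun B _ _ => by
  refine (card_le_card_group B).trans ?_
  rw [h, card_bot]
  exact Nat.one_le_pow _ _ (Fact.out : t.Prime).pos

section Connected

variable (S : Setup P A E) {M : Subgroup G} {t : ℕ}
include S

theorem Setup.exists_conn (hM : IsCoatom M) [Fact t.Prime] (htp : t ≠ p)
    (hr : ¬ Cfsg.PRankLE t 2 ↥(Bender.qc t M)) : ∃ T : Subgroup G, Conn p M t T := by
  classical
  set T₀ := Bender.qc t M with hT₀
  have ht : t.Prime := Fact.out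
  obtain ⟨B, hB, hBe, hBc⟩ := Uniq.exists_elementary hr
  have hlt : ¬ t ^ 3 ≤ t ^ 2 := not_le.2 (Nat.pow_lt_pow_right ht.one_lt (by norm_num))
  have htG : t ∣ Nat.card G := by
    refine dvd_trans ?_ B.card_subgroup_dvd_card
    rw [hBc]
    exact dvd_pow_self t (by norm_num)
  have ht2 : t ≠ 2 := CfsgLib.CN.MinSimple.p_ne_two S.hG htG
  have hT₀p : IsPGroup t T₀ := Bender.isPGroup_qc M
  have hB3 : ¬ Cfsg.PRankLE t 2 B := fun h => hlt (hBc ▸ Uniq.rankLE_elementary h le_rfl hBe)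
  have hBU := UniqFirst.unique_of_rank S.hG hM (fun h => hr (Uniq.rankLE_mono (Bender.qc_le_fitting M) h))
    (CfsgLib.Signalizer.isPGroup hBe) hBe.1 hB3
  have hconn : ∀ X : Subgroup G, Cfsg.IsElementaryAbelian t X → Nat.card X = t ^ 2 →
      ¬ Cfsg.PRankLE t 2 ↥(centralizer (X : Set G)) → Cfsg.InUniqueMaximal X := fun X hXe hXc hX3 =>
    Uniq.connect S.hG (CfsgLib.Signalizer.isPGroup hBe) hB3 hBU hBe.1 (CfsgLib.Signalizer.isPGroup hXe)
      (CfsgLib.Signalizer.not_isCyclic hXe hXc.ge) hX3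
  by_cases hall : ∀ X : Subgroup G, X ≤ T₀ → Cfsg.IsElementaryAbelian t X → Nat.card X = t ^ 2 →
      ¬ Cfsg.PRankLE t 2 ↥(centralizer (X : Set G))
  · refine ⟨T₀, ht, htp, ht2, hr, le_rfl, le_rfl, fun hc => ?_, inf_le_left,
      fun X h1 h2 h3 => hconn X h2 h3 (hall X h1 h2 h3)⟩
    haveI := hc
    exact CfsgLib.Signalizer.not_isCyclic hBe (hBc ▸ Nat.pow_le_pow_right ht.pos (by norm_num))
      (isCyclic_of_injective (inclusion hB) (inclusion_injective hB))
  push Not at hall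
  obtain ⟨X₀, hX₀, hX₀e, hX₀c, hX₀r⟩ := hall
  have hel : ∀ Y : Subgroup G, Cfsg.IsElementaryAbelian t Y → Y ≤ T₀ →
      Cfsg.IsElementaryAbelian t (Y.subgroupOf T₀) := fun Y hY hYT => by
    haveI := hY.1
    exact ⟨⟨⟨fun a b => Subtype.ext (Subtype.ext
      (setLike_mul_comm (mem_subgroupOf.1 a.2) (mem_subgroupOf.1 b.2)))⟩⟩,
      fun a ha => Subtype.ext (by simpa using hY.2 _ (mem_subgroupOf.1 ha))⟩
  have hel' : ∀ Y : Subgroup T₀, Cfsg.IsElementaryAbelian t Y → Cfsg.IsElementaryAbelian t (Y.map T₀.subtype) := by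
    intro Y hY
    haveI := hY.1
    refine ⟨Subgroup.map_isMulCommutative Y _, ?_⟩
    rintro _ ⟨a, ha, rfl⟩
    rw [← map_pow, hY.2 a ha, map_one]
  have hmax : ∀ Y : Subgroup T₀, Cfsg.IsElementaryAbelian t Y → X₀.subgroupOf T₀ ≤ Y → Y = X₀.subgroupOf T₀ := by
    intro Y hY hle
    have hX₀Y : X₀ ≤ Y.map T₀.subtype := (map_subgroupOf_eq_of_le hX₀).ge.trans (map_mono hle)
    have hYC : Y.map T₀.subtype ≤ centralizer (X₀ : Set G) := fun y hy => mem_centralizer_iff.2 fun x hx =>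
      CfsgLib.Signalizer.commute (hel' Y hY) (hX₀Y hx) hy
    have hc := Uniq.rankLE_elementary hX₀r hYC (hel' Y hY)
    rw [card_map_of_injective T₀.subtype_injective] at hc
    exact (eq_of_le_of_card_ge hle (by
      rw [Nat.card_congr (subgroupOfEquivOfLe hX₀).toEquiv, hX₀c]; exact hc)).symm
  have hrT : ¬ Cfsg.PRankLE t 2 T₀ := hr
  obtain ⟨-, -, ⟨hWe, hWc⟩, hchar, -⟩ := Cfsg.Agent.S1453.result t ht2 hT₀p hrT (X₀.subgroupOf T₀)
    (hel X₀ hX₀e hX₀) (by rw [Nat.card_congr (subgroupOfEquivOfLe hX₀).toEquiv, hX₀c]) hmax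
  set W := Subgroup.closure {x : T₀ | x ∈ Subgroup.upperCentralSeries T₀ 2 ∧ x ^ t = 1} with hW
  haveI hWn : W.Normal := by
    refine ⟨fun w hw g => ?_⟩
    have hle : W ≤ W.comap (MulAut.conj g).toMonoidHom := by
      rw [hW, closure_le]
      rintro x ⟨hx, hxt⟩
      refine subset_closure ⟨Normal.conj_mem inferInstance x hx g, ?_⟩
      show (g * x * g⁻¹) ^ t = 1
      rw [conj_pow, hxt, mul_one, mul_inv_cancel]
    exact hle hw
  set C := Subgroup.centralizer (W : Set T₀)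
  have hWC : W ≤ C := le_centralizer_iff_isMulCommutative.2 hWe.1
  refine ⟨C.map T₀.subtype, ht, htp, ht2, hr, map_subtype_le C,
    UTool.normalizer_le_normalizer_map T₀ C hchar, fun hc => ?_, ?_, fun X h1 h2 h3 => hconn X h2 h3 ?_⟩
  · haveI := hc
    exact CfsgLib.Signalizer.not_isCyclic (hel' W hWe) (by rw [card_map_of_injective T₀.subtype_injective, hWc])
      (isCyclic_of_injective (inclusion (map_mono (f := T₀.subtype) hWC)) (inclusion_injective _))
  · rintro x ⟨hx, hxc⟩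
    refine ⟨⟨x, hx⟩, mem_centralizer_iff.2 fun w hw => Subtype.ext ?_, rfl⟩
    exact mem_centralizer_iff.1 hxc w (mem_map_of_mem T₀.subtype (hWC hw))
  · have hXW : X ≤ centralizer (W.map T₀.subtype : Set G) := by
      intro x hx
      obtain ⟨c, hc, rfl⟩ := h1 hx
      refine mem_centralizer_iff.2 ?_
      rintro _ ⟨w, hw, rfl⟩
      exact congrArg Subtype.val (mem_centralizer_iff.1 hc w hw)
    intro h
    by_cases hXeq : X = W.map T₀.subtype
    · obtain ⟨A₁, hWA, -, hA₁, hA₁3⟩ := Cfsg.Agent.S1452.result t ht2 hT₀p hrT W hWe hWc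
      refine hA₁3 fun D hD hDe => ?_
      haveI := hD
      have hDe' : Cfsg.IsElementaryAbelian t (D.map A₁.subtype) :=
        ⟨Subgroup.map_isMulCommutative D _, by
          rintro _ ⟨a, ha, rfl⟩
          rw [← map_pow, hDe a ha, map_one]⟩
      rw [← card_map_of_injective A₁.subtype_injective, ← card_map_of_injective T₀.subtype_injective]
      refine Uniq.rankLE_elementary h ?_ (hel' _ hDe')
      rw [hXeq]
      rintro _ ⟨d, hd, rfl⟩
      refine mem_centralizer_iff.2 ?_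
      rintro _ ⟨w, hw, rfl⟩
      exact congrArg Subtype.val (mem_centralizer_iff.1 (hA₁.ge (map_subtype_le D hd)) w (hWA hw))
    · have hsup : Cfsg.IsElementaryAbelian t (X ⊔ W.map T₀.subtype : Subgroup G) :=
        CfsgLib.Thompson.elab_sup h2 (hel' W hWe) hXW
      have hle : X ⊔ W.map T₀.subtype ≤ centralizer (X : Set G) := fun y hy =>
        mem_centralizer_iff.2 fun x hx => CfsgLib.Signalizer.commute hsup (mem_sup_left hx) hy
      have hc := Uniq.rankLE_elementary h hle hsup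
      have hWX : W.map T₀.subtype ≤ X :=
        le_sup_right.trans (eq_of_le_of_card_ge le_sup_left (h3 ▸ hc)).ge
      exact hXeq (eq_of_le_of_card_ge hWX (by rw [h3, card_map_of_injective T₀.subtype_injective, hWc])).symm

variable {T : Subgroup G} (C : Ctx P M) (N : Conn p M t T)
include C N

theorem Setup.conn_le : T ≤ M := N.hle.trans (Bender.qc_le t M)

theorem Setup.normalizes : M ≤ normalizer (T : Set G) := (Bender.le_normalizer_qc t M).trans N.hn

theorem Setup.isPGroup_conn [Fact t.Prime] : IsPGroup t T := (Bender.isPGroup_qc M).to_le N.hle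

theorem Setup.not_dvd_conn [Fact t.Prime] : ¬ p ∣ Nat.card T := fun h => by
  obtain ⟨k, hk⟩ := IsPGroup.iff_card.1 (S.isPGroup_conn C N)
  exact N.htp ((Nat.prime_dvd_prime_iff_eq Fact.out Fact.out).1
    ((Fact.out : p.Prime).dvd_of_dvd_pow (hk ▸ h))).symm

theorem Setup.exists_member [Fact t.Prime] : ∃ X : Subgroup G, X ≤ T ∧ Cfsg.InUniqueMaximal X := by
  obtain ⟨X, hX, hXe, hXc⟩ := Uniq.exists_sq N.ht2 (S.isPGroup_conn C N) N.hnc
  exact ⟨X, hX, N.hX X hX hXe hXc⟩

theorem Setup.plane_cyclic [Fact t.Prime] {K : Subgroup G} (hKE : K ≤ E) (hK2 : Nat.card K = p ^ 2) :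
    IsCyclic ↥(T ⊓ centralizer (K : Set G)) := by
  by_contra hnc
  obtain ⟨X, hX, hXe, hXc⟩ := Uniq.exists_sq N.ht2 ((S.isPGroup_conn C N).to_le inf_le_left) hnc
  exact S.no_centralize hKE hK2 (N.hX X (hX.trans inf_le_left) hXe hXc)
    (le_centralizer_iff.1 (hX.trans inf_le_right))

theorem Setup.line_normalizer [Fact t.Prime] {K : Subgroup G} {u : G} (hl : Line p E T t K u) :
    normalizer (T : Set G) ⊓ normalizer (K : Set G) ≤ normalizer (zpowers u : Set G) :=
  ((inf_le_inf le_rfl (TH.normalizer_le_normalizer_centralizer K)).trans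
    inf_normalizer_le_normalizer_inf).trans
    (UTool.normalizer_le_normalizer_zpowers (S.plane_cyclic C N hl.hKE hl.hK2) (mem_inf.2 ⟨hl.huT, hl.huK⟩))

theorem Setup.line_normalized [Fact t.Prime] {K : Subgroup G} {u : G} (hl : Line p E T t K u) :
    A ≤ normalizer (zpowers u : Set G) :=
  le_trans (le_inf ((S.hA.1.trans C.hPM).trans (S.normalizes C N)) fun a ha =>
    centralizer_le_normalizer _ (mem_centralizer_iff.2 fun e he => S.comm (S.hEA (hl.hKE he)) ha))
    (S.line_normalizer C N hl)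

theorem Setup.line_inf [Fact t.Prime] {K : Subgroup G} {u : G} (hl : Line p E T t K u) :
    E ⊓ centralizer ({u} : Set G) = K := by
  have hp : p.Prime := Fact.out
  have hKle : K ≤ E ⊓ centralizer ({u} : Set G) :=
    le_inf hl.hKE fun e he => mem_centralizer_singleton_iff.2 (hl.elem e he)
  obtain ⟨k, hk3, hk⟩ := (Nat.dvd_prime_pow hp).1
    (S.hE3 ▸ card_dvd_of_le (inf_le_left : E ⊓ centralizer ({u} : Set G) ≤ E))
  rcases eq_or_ne k 3 with rfl | h3
  swap
  · refine (eq_of_le_of_card_ge hKle ?_).symm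
    rw [hk, hl.hK2]
    exact Nat.pow_le_pow_right hp.pos (by omega)
  exfalso
  have hEu : E ≤ centralizer ({u} : Set G) := inf_eq_left.1 (eq_of_le_of_card_ge inf_le_left (by rw [hk, S.hE3]))
  have hEN : E ≤ normalizer (T : Set G) := (S.hEP.trans C.hPM).trans (S.normalizes C N)
  have hTE : T ≤ centralizer (E : Set G) := by
    refine CfsgLib.Signalizer.le_of_forall_hyperplane S.hE hEN (S.not_dvd_conn C N) fun B hB hi => ?_
    rcases card_hyperplane S.hE3 hB hi with rfl | hB2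
    · exact inf_le_right
    have hcyc := S.plane_cyclic C N hB hB2
    set D := T ⊓ centralizer (B : Set G) with hD
    have huD : u ∈ D := mem_inf.2 ⟨hl.huT, mem_centralizer_iff.2 fun e he =>
      mem_centralizer_singleton_iff.1 (hEu (hB he))⟩
    intro d hd
    refine mem_centralizer_iff.2 fun e he => ?_
    have heD : e ∈ normalizer (D : Set G) := (CfsgLib.Signalizer.le_normalizer_inf_centralizer S.hE hEN hB) he
    haveI := hcyc
    haveI : (D.subgroupOf (normalizer (D : Set G))).Normal := normal_in_normalizer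
    haveI : IsCyclic (D.subgroupOf (normalizer (D : Set G))) :=
      (subgroupOfEquivOfLe le_normalizer).isCyclic.2 hcyc
    have hcard : Nat.card (D.subgroupOf (normalizer (D : Set G))) = Nat.card D :=
      Nat.card_congr (subgroupOfEquivOfLe le_normalizer).toEquiv
    refine congrArg Subtype.val (CfsgLib.FpfComplement.centralizes_of_prime
      (A := D.subgroupOf (normalizer (D : Set G))) (x := ⟨e, heD⟩) ?_ (fun y hy hyp => Subtype.ext ?_)
      (a := ⟨d, le_normalizer hd⟩) hd)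
    · rw [orderOf_mk, hcard]
      obtain ⟨j, hj⟩ := IsPGroup.iff_card.1 ((S.isPGroup_conn C N).to_le (inf_le_left : D ≤ T))
      rw [hj]
      exact (((Nat.coprime_primes hp N.ht).2 N.htp.symm).coprime_dvd_left
        (orderOf_dvd_of_pow_eq_one (S.hE.2 e he))).pow_right j
    · have hyt : orderOf (y : G) = t := by
        obtain ⟨j, hj⟩ := IsPGroup.iff_card.1 ((S.isPGroup_conn C N).to_le (inf_le_left : D ≤ T))
        have h1 : orderOf (y : G) ∣ t ^ j := hj ▸ D.orderOf_dvd_natCard hy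
        rw [orderOf_coe] at h1 ⊢
        exact (Nat.prime_dvd_prime_iff_eq hyp N.ht).1 (hyp.dvd_of_dvd_pow h1)
      obtain ⟨i, hi⟩ := mem_zpowers_iff.1
        ((UTool.zpowers_eq_of_cyclic hcyc hy huD hyt hl.hu).le (mem_zpowers (y : G)))
      show e * (y : G) = (y : G) * e
      rw [← hi]
      exact ((show Commute e u from mem_centralizer_singleton_iff.1 (hEu he)).zpow_right i).eq
  obtain ⟨X, hXT, hXU⟩ := S.exists_member C N
  exact S.no_centralize hl.hKE hl.hK2 hXU
    (hl.hKE.trans (le_centralizer_iff.1 (hXT.trans hTE)))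

theorem Setup.line_centralizer_le [Fact t.Prime] {K : Subgroup G} {u : G} (hl : Line p E T t K u) :
    centralizer ({u} : Set G) ≤ M := by
  have hTp := S.isPGroup_conn C N
  have hu1 : u ≠ 1 := fun h => N.ht.ne_one (by rw [← hl.hu, h, orderOf_one])
  by_cases hnc : IsCyclic ↥(T ⊓ centralizer ({u} : Set G))
  · exfalso
    haveI := hTp.isNilpotent
    haveI : Nontrivial T :=
      (nontrivial_iff_ne_bot T).2 fun h => hu1 (mem_bot.1 (h ▸ hl.huT))
    haveI : Nontrivial (center T) := hTp.center_nontrivial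
    obtain ⟨z, hz⟩ := exists_prime_orderOf_dvd_card' (G := center T) t
      (((hTp.to_subgroup (center T)).card_eq_or_dvd).resolve_left Finite.one_lt_card.ne')
    have hzT : ∀ x ∈ T, x * ((z : T) : G) = ((z : T) : G) * x := fun x hx =>
      congrArg Subtype.val (mem_center_iff.1 z.2 ⟨x, hx⟩)
    have hzo : orderOf ((z : T) : G) = t := by rw [orderOf_coe, orderOf_coe, hz]
    obtain ⟨i, hi⟩ := mem_zpowers_iff.1 ((UTool.zpowers_eq_of_cyclic hnc
      (mem_inf.2 ⟨(z : T).2, mem_centralizer_singleton_iff.2 (hzT u hl.huT).symm⟩)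
      (mem_inf.2 ⟨hl.huT, mem_centralizer_singleton_iff.2 rfl⟩) hzo hl.hu).ge (mem_zpowers u))
    refine N.hnc (?_ : IsCyclic T)
    have he : T ⊓ centralizer ({u} : Set G) = T := inf_eq_left.2 fun x hx =>
      mem_centralizer_singleton_iff.2 (by
        rw [← hi]; exact ((show Commute x ((z : T) : G) from hzT x hx).zpow_right i).eq)
    rwa [he] at hnc
  obtain ⟨X, hX, hXe, hXc⟩ := Uniq.exists_sq N.ht2 (hTp.to_le inf_le_left) hnc
  exact Uniq.le_of_uniq (N.hX X (hX.trans inf_le_left) hXe hXc) C.hM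
    ((hX.trans inf_le_left).trans (S.conn_le C N)) (Uniq.centralizer_singleton_ne_top S.hG hu1)
    (hX.trans inf_le_right)

theorem Setup.exists_line [Fact t.Prime] {K : Subgroup G} (hKE : K ≤ E) (hK2 : Nat.card K = p ^ 2)
    (h : T ⊓ centralizer (K : Set G) ≠ ⊥) : ∃ u : G, Line p E T t K u := by
  have hp := (S.isPGroup_conn C N).to_le (inf_le_left : T ⊓ centralizer (K : Set G) ≤ T)
  obtain ⟨u, hu⟩ := exists_prime_orderOf_dvd_card' (G := ↥(T ⊓ centralizer (K : Set G))) t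
    (hp.card_eq_or_dvd.resolve_left fun e => h (eq_bot_of_card_eq _ e))
  exact ⟨u, hKE, hK2, (mem_inf.1 u.2).1, by rw [orderOf_coe, hu], (mem_inf.1 u.2).2⟩

theorem Setup.exists_lines [Fact t.Prime] :
    ∃ K₁ u₁ K₂ u₂, Line p E T t K₁ u₁ ∧ Line p E T t K₂ u₂ ∧ K₁ ≠ K₂ := by
  have hp : p.Prime := Fact.out
  by_contra hcon
  push Not at hcon
  obtain ⟨K₀, hK₀E, hK₀c, hK₀⟩ : ∃ K₀ : Subgroup G, K₀ ≤ E ∧ Nat.card K₀ = p ^ 2 ∧
      ∀ K u, Line p E T t K u → K = K₀ := by
    by_cases h : ∃ K u, Line p E T t K u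
    · obtain ⟨K₀, u₀, h₀⟩ := h
      exact ⟨K₀, h₀.hKE, h₀.hK2, fun K u hl => hcon K u K₀ u₀ hl h₀⟩
    · obtain ⟨K₀, hK₀⟩ := Sylow.exists_subgroup_card_pow_prime (G := E) p (n := 2)
        (S.hE3 ▸ pow_dvd_pow p (by norm_num))
      exact ⟨K₀.map E.subtype, map_subtype_le K₀, by rw [card_map_of_injective E.subtype_injective, hK₀],
        fun K u hl => absurd ⟨K, u, hl⟩ h⟩
  have hEN : E ≤ normalizer (T : Set G) := (S.hEP.trans C.hPM).trans (S.normalizes C N)
  obtain ⟨X, hXT, hXU⟩ := S.exists_member C N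
  refine S.no_centralize hK₀E hK₀c hXU (le_centralizer_iff.1 (hXT.trans ?_))
  refine CfsgLib.Signalizer.le_of_forall_hyperplane S.hE hEN (S.not_dvd_conn C N) fun B hB hi => ?_
  rcases card_hyperplane S.hE3 hB hi with rfl | hB2
  · exact inf_le_right.trans (centralizer_le (SetLike.coe_subset_coe.2 hK₀E))
  rcases eq_or_ne (T ⊓ centralizer (B : Set G)) ⊥ with h | h
  · rw [h]; exact bot_le
  obtain ⟨u, hl⟩ := S.exists_line C N hB hB2 h
  rw [hK₀ B u hl]
  exact inf_le_right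

theorem Setup.good_of_lines [Fact t.Prime] {K₁ K₂ : Subgroup G} {u₁ u₂ : G} (h₁ : Line p E T t K₁ u₁)
    (h₂ : Line p E T t K₂ u₂) (hne : K₁ ≠ K₂) {g : G} (hg₁ : g ∈ K₁) (hg₂ : g ∈ K₂) (hg1 : g ≠ 1) :
    Good E M g := by
  refine ⟨h₁.hKE hg₁, hg1, ?_⟩
  have hnc : ¬ IsCyclic ↥(T ⊓ centralizer ({g} : Set G)) := fun hc => hne (by
    have hz := UTool.zpowers_eq_of_cyclic hc
      (mem_inf.2 ⟨h₁.huT, mem_centralizer_singleton_iff.2 (h₁.elem g hg₁).symm⟩)
      (mem_inf.2 ⟨h₂.huT, mem_centralizer_singleton_iff.2 (h₂.elem g hg₂).symm⟩) h₁.hu h₂.hu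
    have hcen : centralizer ({u₁} : Set G) = centralizer ({u₂} : Set G) := by
      rw [← centralizer_closure {u₁}, ← centralizer_closure {u₂}, ← zpowers_eq_closure, ← zpowers_eq_closure, hz]
    rw [← S.line_inf C N h₁, ← S.line_inf C N h₂, hcen])
  obtain ⟨X, hX, hXe, hXc⟩ := Uniq.exists_sq N.ht2 ((S.isPGroup_conn C N).to_le inf_le_left) hnc
  exact Uniq.le_of_uniq (N.hX X (hX.trans inf_le_left) hXe hXc) C.hM
    ((hX.trans inf_le_left).trans (S.conn_le C N)) (Uniq.centralizer_singleton_ne_top S.hG hg1)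
    (hX.trans inf_le_right)

end Connected

section Over

variable (S : Setup P A E)
include S

theorem Setup.exists_over {M : Subgroup G} (C : Ctx P M) {b : G} (hb : b ∈ E) (hb1 : b ≠ 1)
    (hbM : ¬ centralizer ({b} : Set G) ≤ M) :
    ∃ H : Subgroup G, Ctx P H ∧ H ≠ M ∧ centralizer ({b} : Set G) ≤ H ∧
      (P : Subgroup G) ≤ ⁅M ⊓ H, M ⊓ H⁆ := by
  have hAb := S.le_centralizer hb
  obtain ⟨H₀, hH₀, hbH₀⟩ :=
    (eq_top_or_exists_le_coatom (centralizer ({b} : Set G))).resolve_left (Uniq.centralizer_singleton_ne_top S.hG hb1)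
  have hAH₀ : A ≤ H₀ := hAb.trans hbH₀
  haveI hH₀s : Group.IsSolvable H₀ := S.hG.2.2.2 H₀ hH₀.1
  obtain ⟨s, hs, hsp, Q', hQ', hQ'N⟩ : ∃ s : ℕ, s.Prime ∧ s ≠ p ∧ ∃ Q' ∈ Cfsg.maxInvSubgroups ⊤ A {s},
      normalizer (Q' : Set G) ≤ H₀ := by
    by_cases hbig : ∃ r : ℕ, r.Prime ∧ r ≠ p ∧ ¬ Cfsg.PRankLE r 2 ↥(Bender.qc r H₀)
    · obtain ⟨r, hr, hrp, hrk⟩ := hbig
      haveI := Fact.mk hr
      obtain ⟨Q', hle, hQ'⟩ := TH.exists_max_ge (X := A) (Bender.isPGroup_qc H₀)
        (hAH₀.trans (Bender.le_normalizer_qc r H₀))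
      refine ⟨r, hr, hrp, Q', hQ', Uniq.le_of_uniq (unique_qc S.hG hH₀ hrk) hH₀ (Bender.qc_le r H₀) ?_
        (hle.trans le_normalizer)⟩
      exact CfsgLib.CN.MinSimple.normalizer_ne_top S.hG (TH.isPGroup_of_mem hQ'.1).isNilpotent
        (ne_bot_of_le_ne_bot (qc_ne_bot_of_rank hrk) hle)
    · push Not at hbig
      have hrk : Cfsg.RankLE 2 (Cfsg.fittingSubgroup H₀) := by
        intro r hr B hB hBe
        haveI := Fact.mk hr
        haveI := hB
        set B' := (B.map (Cfsg.fittingSubgroup H₀).subtype).map H₀.subtype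
        have hB'e : Cfsg.IsElementaryAbelian r B' := by
          haveI : IsMulCommutative (B.map (Cfsg.fittingSubgroup H₀).subtype) := Subgroup.map_isMulCommutative B _
          refine ⟨Subgroup.map_isMulCommutative _ _, ?_⟩
          rintro _ ⟨_, ⟨c, hc, rfl⟩, rfl⟩
          rw [← map_pow, ← map_pow, hBe c hc, map_one, map_one]
        have hB'F : B' ≤ fittingOf H₀ := map_mono (map_subtype_le B)
        have hB'q : B' ≤ Bender.qc r H₀ := fun c hc => by
          obtain ⟨j, -, hj⟩ := (Nat.dvd_prime_pow hr).1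
            (show orderOf c ∣ r ^ 1 by rw [pow_one]; exact orderOf_dvd_of_pow_eq_one (hB'e.2 c hc))
          exact Bender.mem_qc (hB'F hc) hj
        have hcard : Nat.card B' = Nat.card B := by
          rw [card_map_of_injective H₀.subtype_injective, card_map_of_injective (Subgroup.subtype_injective _)]
        rw [← hcard]
        rcases eq_or_ne r p with rfl | hne
        · exact Uniq.rankLE_elementary (S.rank hH₀) hB'F hB'e
        · exact Uniq.rankLE_elementary (hbig r hr hne) hB'q hB'e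
      have hne : (Nat.card H₀).primeFactors.Nonempty := by
        refine ⟨p, Nat.mem_primeFactors.2 ⟨Fact.out, ?_, Nat.card_pos.ne'⟩⟩
        exact ((S.dvd_iff (Fact.out : p.Prime)).2 rfl).trans (card_dvd_of_le hAH₀)
      set s := (Nat.card H₀).primeFactors.max' hne
      have hsmem := Finset.max'_mem _ hne
      have hs : s.Prime := (Nat.mem_primeFactors.1 hsmem).1
      haveI := Fact.mk hs
      obtain ⟨Nh, hNc, hN1, hN2⟩ := (Cfsg.Agent.S1451.result
        (S.hG.1.of_dvd_nat (card_subgroup_dvd_card H₀)) (Or.inr hrk)).2.2 (s - 1)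
      haveI := hNc
      have honly : ∀ r : ℕ, r.Prime → r ∣ Nat.card Nh → r = s := by
        intro r hr hd
        have h1 := (hN1 r hr hd).2
        have h2 := Finset.le_max' _ r (Nat.mem_primeFactors.2
          ⟨hr, hd.trans Nh.card_subgroup_dvd_card, Nat.card_pos.ne'⟩)
        change r ≤ s at h2
        omega
      have hNp : IsPGroup s Nh := IsPGroup.of_card (Nat.eq_prime_pow_of_unique_prime_dvd Nat.card_pos.ne' fun {d} hd hdd => honly d hd hdd)
      have hidx : ¬ s ∣ Nh.index := hN2 s hs ⟨hs, Nat.sub_lt hs.pos one_pos⟩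
      set SN := hNp.toSylow hidx
      set Q := Nh.map H₀.subtype with hQ
      have hQp : IsPGroup s Q := hNp.map _
      have hQn : H₀ ≤ normalizer (Q : Set G) := fun x hx =>
        (le_normalizer_map H₀.subtype) (mem_map_of_mem H₀.subtype (le_normalizer_of_normal (H := Nh) (mem_top (⟨x, hx⟩ : H₀))))
      have hQ1 : Q ≠ ⊥ := fun h => by
        have h1 : Nh = ⊥ := (map_eq_bot_iff_of_injective _ H₀.subtype_injective).1 h
        rw [h1, index_bot] at hidx
        exact hidx (Nat.mem_primeFactors.1 hsmem).2.1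
      have hNQ := Uniq.coatom_normalizer_eq S.hG hH₀ (map_subtype_le Nh) hQn hQ1
      have hsp : s ≠ p := by
        intro hsp
        refine S.hA3 (Uniq.rankLE_mono ?_ (S.rank hH₀))
        refine le_trans ?_ (Bender.le_fitting (map_subtype_le Nh) hQn hQp.isNilpotent)
        have hAp' : IsPGroup s A := by rw [hsp]; exact S.hAp
        obtain ⟨Ps, hPs⟩ := (hAp'.comap_subtype (K := H₀)).exists_le_sylow
        obtain ⟨g, hg⟩ := MulAction.exists_smul_eq H₀ SN Ps
        have hPN : (Ps : Subgroup H₀) ≤ Nh := by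
          rw [← hg, Sylow.coe_subgroup_smul]
          intro x hx
          obtain ⟨y, hy, rfl⟩ := hx
          exact Normal.conj_mem (inferInstance : Nh.Normal) y hy g
        exact (map_subgroupOf_eq_of_le hAH₀).ge.trans (map_mono (hPs.trans hPN))
      refine ⟨s, hs, hsp, Q, ?_, hNQ.le⟩
      obtain ⟨R, hQR, hR⟩ := TH.exists_max_ge (X := A) hQp (hAH₀.trans hQn)
      have hRp := TH.isPGroup_of_mem hR.1
      suffices hRQ : R = Q by rw [← hRQ]; exact hR
      by_contra hne'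
      have hlt := CfsgLib.Fusion.lt_inf_normalizer hRp (lt_of_le_of_ne hQR (Ne.symm hne'))
      rw [hNQ] at hlt
      refine hlt.ne ?_
      have h3 := SN.is_maximal' ((hRp.to_le (inf_le_left : R ⊓ H₀ ≤ R)).comap_subtype (K := H₀))
        (show Nh ≤ _ from fun x hx => hlt.le (mem_map_of_mem H₀.subtype hx))
      rw [← map_subgroupOf_eq_of_le (inf_le_right : R ⊓ H₀ ≤ H₀), hQ]
      exact congrArg (Subgroup.map H₀.subtype) h3.symm
  haveI := Fact.mk hs
  have hPtop : (P : Subgroup G) ≠ ⊤ := CfsgLib.CN.MinSimple.ne_top S.hG P.2.isNilpotent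
  have hPπ : ∀ r : ℕ, r.Prime → r ∣ Nat.card (P : Subgroup G) → r ∣ Nat.card A := fun r hr hd => by
    obtain ⟨k, hk⟩ := IsPGroup.iff_card.1 P.2
    exact (S.dvd_iff hr).2 ((Nat.prime_dvd_prime_iff_eq hr Fact.out).1 (hr.dvd_of_dvd_pow (hk ▸ hd)))
  have hsA : ¬ s ∣ Nat.card A := fun h => hsp ((S.dvd_iff hs).1 h)
  have hnP : (A.subgroupOf (P : Subgroup G)).IsSubnormal := by
    have hn : (A.subgroupOf (P : Subgroup G)).Normal := (normal_subgroupOf_iff_le_normalizer S.hA.1).2 S.hA.2.1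
    exact hn.isSubnormal
  have hP := Cfsg.Agent.S1395.result S.hG A S.hTH s hs hsA (P : Subgroup G) hPtop hPπ S.hA.1 hnP
    (S.transitive hsp)
  obtain ⟨Q₀, -, hQ₀⟩ := TH.exists_max_ge (X := (P : Subgroup G)) (IsPGroup.of_bot (p := s) (G := G))
    (le_of_le_of_eq le_top (normalizer_eq_top (H := (⊥ : Subgroup G))).symm)
  obtain ⟨k, hk, hQk⟩ := S.transitive hsp Q' hQ' Q₀ (hP.2.2.1 hQ₀)
  have hKA : TH.K A ≤ centralizer (A : Set G) := TH.core_le _
  have hkb : k ∈ centralizer ({b} : Set G) :=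
    mem_centralizer_singleton_iff.2 (mem_centralizer_iff.1 (hKA hk) b (S.hEA hb)).symm
  set H := H₀.map (MulAut.conj k).toMonoidHom
  have hbH : centralizer ({b} : Set G) ≤ H := fun x hx =>
    ⟨k⁻¹ * x * k, hbH₀ (mul_mem (mul_mem (inv_mem hkb) hx) hkb), by simp [mul_assoc]⟩
  have hNQ₀ : normalizer (Q₀ : Set G) ≤ H := by
    intro x hx
    refine ⟨k⁻¹ * x * k, hQ'N ?_, by simp [mul_assoc]⟩
    refine mem_normalizer_iff_map_conj_eq.2 ?_
    have hx' : Q₀.map (MulAut.conj x).toMonoidHom = Q₀ := mem_normalizer_iff_map_conj_eq.1 hx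
    show Q'.map (MulAut.conj (k⁻¹ * x * k)).toMonoidHom = Q'
    rw [← TH.map_conj_map_conj, ← hQk, ← TH.map_conj_map_conj, hx', hQk, Uniq.map_conj_inv]
  have hHM : H ≠ M := fun e => hbM (e ▸ hbH)
  have hHco : IsCoatom H := Uniq.coatom_conj hH₀ k
  have hPH : (P : Subgroup G) ≤ H := hQ₀.1.2.2.trans hNQ₀
  obtain ⟨R, hAR, hRP, hMR⟩ := UTool.exists_frattini S.hG C.hM.1 P C.hPM S.hA
  have hRπ : ∀ r : ℕ, r.Prime → r ∣ Nat.card R → r ∣ Nat.card A := fun r hr hd =>
    hPπ r hr (hd.trans (card_dvd_of_le hRP))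
  have hnR : (A.subgroupOf R).IsSubnormal := by
    have hn : (A.subgroupOf R).Normal := (normal_subgroupOf_iff_le_normalizer hAR).2 (hRP.trans S.hA.2.1)
    exact hn.isSubnormal
  have hR := Cfsg.Agent.S1395.result S.hG A S.hTH s hs hsA R
    (ne_top_of_le_ne_top hPtop hRP) hRπ hAR hnR (S.transitive hsp)
  have hQ₀R : Q₀ ∈ Cfsg.maxInvSubgroups ⊤ R {s} :=
    TH.mem_max_of_le hAR (hP.2.2.1 hQ₀) (hRP.trans hQ₀.1.2.2)
  have hNR : normalizer (R : Set G) ≤ H := by
    rw [(hR.2.2.2 Q₀ hQ₀R).2]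
    refine sup_le ?_ (inf_le_right.trans hNQ₀)
    refine (TH.core_le _).trans (le_trans ?_ hbH)
    intro x hx
    exact mem_centralizer_singleton_iff.2 (mem_centralizer_iff.1 hx b (hAR (S.hEA hb))).symm
  have hD : (P : Subgroup G) ≤ ⁅M ⊓ H, M ⊓ H⁆ :=
    UTool.le_commutator_of_sup (Uniq.le_normalizer_coreOf M) (Uniq.coprime_coreOf (p := p) M)
      (Uniq.coreOf_le M) inf_le_left (hMR.trans (sup_le_sup le_rfl (inf_le_inf le_rfl hNR))) P.2
      (le_inf C.hPM hPH) C.hP'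
  exact ⟨H, ⟨hHco, hPH, hD.trans (commutator_mono inf_le_right inf_le_right)⟩, hHM, hbH, hD⟩

theorem Setup.plane_maker {M T : Subgroup G} {t : ℕ} [Fact t.Prime] (C : Ctx P M) (N : Conn p M t T)
    {K : Subgroup G} {u h : G} (hl : Line p E T t K u) (hh : Good E M h) : h ∈ K := by
  by_contra hhK
  obtain ⟨b, hbK, hb1, hbM⟩ := S.escape hl.hKE hl.hK2 C.hM
  obtain ⟨H, CH, hHM, hbH, -⟩ := S.exists_over C (hl.hKE hbK) hb1 hbM
  obtain ⟨s, hs, hsp, hsr⟩ := S.big CH
  haveI := Fact.mk hs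
  have huH : u ∈ H := hbH (mem_centralizer_singleton_iff.2 (hl.elem b hbK).symm)
  have hTU := unique_qc S.hG C.hM N.hr
  have hSU := unique_qc S.hG CH.hM hsr
  have hAM : A ≤ M := S.hA.1.trans C.hPM
  have hAH : A ≤ H := S.hA.1.trans CH.hPM
  rcases eq_or_ne s t with rfl | hst
  · obtain ⟨Q₁, hle₁, hQ₁⟩ := TH.exists_max_ge (X := A) (Bender.isPGroup_qc (s := s) M)
      (hAM.trans (Bender.le_normalizer_qc s M))
    obtain ⟨Q₂, hle₂, hQ₂⟩ := TH.exists_max_ge (X := A) (Bender.isPGroup_qc (s := s) H)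
      (hAH.trans (Bender.le_normalizer_qc s H))
    obtain ⟨k, hk, hQk⟩ := S.transitive hsp Q₂ hQ₂ Q₁ hQ₁
    have hKA : TH.K A ≤ centralizer (A : Set G) := TH.core_le _
    have hkH : k ∈ H :=
      hbH (mem_centralizer_singleton_iff.2 (mem_centralizer_iff.1 (hKA hk) b (S.hEA (hl.hKE hbK))).symm)
    have hQ₂H : Q₂ ≤ H := Uniq.le_of_uniq hSU CH.hM (Bender.qc_le s H)
      (CfsgLib.CN.MinSimple.ne_top S.hG (TH.isPGroup_of_mem hQ₂.1).isNilpotent) hle₂
    refine hHM (Uniq.eq_of hTU CH.hM (hle₁.trans ?_) C.hM (Bender.qc_le s M))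
    rw [hQk]
    rintro _ ⟨x, hx, rfl⟩
    exact mul_mem (mul_mem hkH (hQ₂H hx)) (inv_mem hkH)
  · have hnu : ¬ Commute h u := fun hc => hhK (by
      rw [← S.line_inf C N hl]
      exact mem_inf.2 ⟨hh.1, mem_centralizer_singleton_iff.2 hc.eq⟩)
    have hle : Bender.qc s H ≤ M := by
      refine UTool.le_of_frobenius (t := s) (q := t) (l := p) (Ne.symm hst) (Ne.symm hsp) (Bender.isPGroup_qc H)
        hl.hu (orderOf_eq_prime (S.hE.2 h hh.1) hh.2.1) ((S.line_normalized C N hl) (S.hEA hh.1)) hnu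
        (Bender.le_normalizer_qc s H huH) (Bender.le_normalizer_qc s H (hAH (S.hEA hh.1)))
        (inf_le_right.trans (S.line_centralizer_le C N hl)) fun v hv => ?_
      have hvM : v ∈ M := (zpowers_le.2 ((S.conn_le C N) hl.huT)) hv
      refine inf_le_right.trans fun x hx => ?_
      have h1 : v⁻¹ * x * v ∈ centralizer ({h} : Set G) := by
        rw [mem_centralizer_singleton_iff] at hx ⊢
        have := congrArg (fun z => v⁻¹ * z * v) hx
        simpa [mul_assoc] using this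
      simpa [mul_assoc] using mul_mem (mul_mem hvM (hh.2.2 h1)) (inv_mem hvM)
    exact hHM (Uniq.eq_of hSU C.hM hle CH.hM (Bender.qc_le s H)).symm

/-- One element of `E` is common to all the lines, and centralizes the Sylow subgroup. -/
theorem Setup.exists_fixer {M T : Subgroup G} {t : ℕ} [Fact t.Prime] (C : Ctx P M) (N : Conn p M t T) :
    ∃ g : G, Good E M g ∧ Bender.qc t M ≤ centralizer ({g} : Set G) ∧
      ∀ h, Good E M h → h ∈ zpowers g := by
  obtain ⟨K₁, u₁, K₂, u₂, h₁, h₂, hne⟩ := S.exists_lines C N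
  obtain ⟨g, hg, hg1, hgen⟩ := S.inf_plane h₁.hKE h₁.hK2 h₂.hKE h₂.hK2 hne
  have hgood := S.good_of_lines C N h₁ h₂ hne hg.1 hg.2 hg1
  refine ⟨g, hgood, ?_, fun h hh => hgen ⟨S.plane_maker C N h₁ hh, S.plane_maker C N h₂ hh⟩⟩
  have hgE : g ∈ E := hgood.1
  have hEN : E ≤ normalizer (T : Set G) := (S.hEP.trans C.hPM).trans (S.normalizes C N)
  have hgT : T ≤ centralizer ({g} : Set G) := by
    refine CfsgLib.Signalizer.le_of_forall_hyperplane S.hE hEN (S.not_dvd_conn C N) fun B hB hi => ?_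
    rcases card_hyperplane S.hE3 hB hi with rfl | hB2
    · exact inf_le_right.trans (centralizer_le (Set.singleton_subset_iff.2 hgE))
    rcases eq_or_ne (T ⊓ centralizer (B : Set G)) ⊥ with h | h
    · rw [h]; exact bot_le
    obtain ⟨u, hl⟩ := S.exists_line C N hB hB2 h
    exact inf_le_right.trans (centralizer_le (Set.singleton_subset_iff.2 (S.plane_maker C N hl hgood)))
  have hgc : g ∈ centralizer (Bender.qc t M : Set G) := by
    obtain ⟨j, hj⟩ := IsPGroup.iff_card.1 (Bender.isPGroup_qc (s := t) M)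
    refine Uniq.centralizes_nilpotent (Bender.isPGroup_qc M).isNilpotent N.hle N.hself
      (mem_centralizer_iff.2 fun x hx => mem_centralizer_singleton_iff.1 (hgT hx))
      (Bender.le_normalizer_qc t M (C.hPM (S.hEP hgE))) ?_
    rw [hj]
    exact (((Nat.coprime_primes Fact.out N.ht).2 N.htp.symm).coprime_dvd_left
      (orderOf_dvd_of_pow_eq_one (S.hE.2 g hgE))).pow_right j
  exact fun x hx => mem_centralizer_singleton_iff.2 (mem_centralizer_iff.1 hgc x hx)

/-- The element centralizing `F(M)`. -/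
theorem Setup.exists_pair {M : Subgroup G} (C : Ctx P M) :
    ∃ g : G, Good E M g ∧ fittingOf M ≤ centralizer ({g} : Set G) ∧ g ∈ Bender.qc p M ∧
      M ≤ normalizer (zpowers g : Set G) := by
  have hp : p.Prime := Fact.out
  obtain ⟨t, ht, htp, htr⟩ := S.big C
  haveI := Fact.mk ht
  obtain ⟨T, N⟩ := S.exists_conn C.hM htp htr
  obtain ⟨g, hgood, hgT, huniq⟩ := S.exists_fixer C N
  have hgE : g ∈ E := hgood.1
  haveI hMs : Group.IsSolvable M := S.hG.2.2.2 M C.hM.1
  -- any good element centralizing a subgroup makes `g` centralize it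
  have hmove : ∀ {F : Subgroup G} {h : G}, Good E M h → F ≤ centralizer ({h} : Set G) →
      F ≤ centralizer ({g} : Set G) := by
    intro F h hh hF
    have heq : zpowers h = zpowers g := eq_of_le_of_card_ge (zpowers_le.2 (huniq h hh))
      (by rw [CfsgLib.Signalizer.card_zpowers_eq S.hE hgE hgood.2.1,
        CfsgLib.Signalizer.card_zpowers_eq S.hE hh.1 hh.2.1])
    rw [← centralizer_closure {g}, ← zpowers_eq_closure, ← heq, zpowers_eq_closure, centralizer_closure]
    exact hF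
  have hcyc : ∀ (r : ℕ), IsCyclic (Bender.qc r M) → Bender.qc r M ≤ centralizer ({g} : Set G) := by
    intro r hc x hx
    exact mem_centralizer_singleton_iff.2 (mem_centralizer_iff.1
      ((UTool.commutator_le_centralizer_cyclic (Bender.le_normalizer_qc r M) hc) (C.hP' (S.hEP hgE))) x hx)
  have hqt : ∀ {r : ℕ} [Fact r.Prime], r ≠ t → ∀ x ∈ Bender.qc r M, ∀ y ∈ Bender.qc t M, x * y = y * x := by
    intro r _ hrt x hx y hy
    have h1 : x * y * x⁻¹ * y⁻¹ ∈ Bender.qc r M := by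
      have h2 := (mem_normalizer_iff.1 (Bender.le_normalizer_qc r M (Bender.qc_le t M hy)) _).1 (inv_mem hx)
      have h3 := mul_mem hx h2
      simpa [mul_assoc] using h3
    have h4 : x * y * x⁻¹ * y⁻¹ ∈ Bender.qc t M :=
      mul_mem ((mem_normalizer_iff.1 (Bender.le_normalizer_qc t M (Bender.qc_le r M hx)) _).1 hy) (inv_mem hy)
    exact mul_inv_eq_iff_eq_mul.1 (mul_inv_eq_one.1
      (Bender.eq_one_of_pgroups hrt (Bender.isPGroup_qc M) (Bender.isPGroup_qc M) h1 h4))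
  have hpcyc : IsCyclic (Bender.qc p M) := by
    by_contra hnc
    set Fp := Bender.qc p M
    have hFP : Fp ≤ (P : Subgroup G) := by
      refine (map_mono (CfsgLib.Fitting.pCore_le_sylow (P.subtype C.hPM))).trans ?_
      exact (map_subgroupOf_eq_of_le C.hPM).le
    haveI : (Fp.subgroupOf (P : Subgroup G)).Normal :=
      (normal_subgroupOf_iff_le_normalizer hFP).2 (C.hPM.trans (Bender.le_normalizer_qc p M))
    obtain ⟨N₂, hN₂F, hN₂n, ⟨hN₂c, hN₂e⟩, hN₂⟩ := CfsgLib.OddPGroup.exists_normal_elementary S.hp2 P.2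
      (Fp.subgroupOf (P : Subgroup G)) inferInstance (fun h => hnc ((subgroupOfEquivOfLe hFP).isCyclic.1 h))
    haveI := hN₂n
    haveI := hN₂c
    set N₂' := N₂.map (P : Subgroup G).subtype
    have hN₂'F : N₂' ≤ Fp := (map_mono hN₂F).trans (map_subgroupOf_eq_of_le hFP).le
    have hN₂'e : Cfsg.IsElementaryAbelian p N₂' := ⟨Subgroup.map_isMulCommutative N₂ _, by
      rintro _ ⟨a, ha, rfl⟩
      rw [← map_pow, hN₂e a ha, map_one]⟩
    have hN₂U : Cfsg.InUniqueMaximal N₂' := by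
      refine Uniq.of_centralize S.hG (unique_qc S.hG C.hM htr) (fun x hx => mem_centralizer_iff.2 fun y hy => ?_)
        hN₂'e (by rw [card_map_of_injective (Subgroup.subtype_injective _), hN₂])
      exact (hqt (Ne.symm htp) x (hN₂'F hx) y hy).symm
    have hidx := CfsgLib.PGroupRank.index_centralizer_le P.2 N₂ hN₂
    set CN := centralizer (N₂ : Set (P : Subgroup G))
    set E' := E.subgroupOf (P : Subgroup G)
    have hE'c : Nat.card E' = p ^ 3 := by
      rw [Nat.card_congr (subgroupOfEquivOfLe S.hEP).toEquiv, S.hE3]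
    have hrel : (E' ⊓ CN).relIndex E' ≤ p := by
      rw [inf_relIndex_left]
      refine le_trans ?_ (hidx.trans (by norm_num))
      exact (relIndex_le_of_le_right le_top (by rw [relIndex_top_right]; exact index_ne_zero_of_finite)).trans
        (by rw [relIndex_top_right])
    have hcard : p ^ 2 ≤ Nat.card ↥(E' ⊓ CN) := by
      have hm : (E' ⊓ CN).relIndex E' * Nat.card ↥(E' ⊓ CN) = p ^ 3 := by
        rw [← hE'c, ← relIndex_bot_left, ← relIndex_bot_left, mul_comm]
        exact relIndex_mul_relIndex _ _ _ bot_le inf_le_left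
      refine Nat.le_of_mul_le_mul_left ?_ hp.pos
      rw [← pow_succ', ← hm]
      exact Nat.mul_le_mul hrel le_rfl
    obtain ⟨d, hd⟩ := IsPGroup.iff_card.1 (P.2.to_subgroup (E' ⊓ CN))
    obtain ⟨K', hK'⟩ := Sylow.exists_subgroup_card_pow_prime (G := ↥(E' ⊓ CN)) p (n := 2)
      (hd ▸ pow_dvd_pow p ((Nat.pow_le_pow_iff_right hp.one_lt).1 (hd ▸ hcard)))
    set K := (K'.map (E' ⊓ CN).subtype).map (P : Subgroup G).subtype
    refine S.no_centralize (K := K) ((map_mono ((map_subtype_le K').trans inf_le_left)).trans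
      (map_subgroupOf_eq_of_le S.hEP).le) (by
      rw [card_map_of_injective (Subgroup.subtype_injective _), card_map_of_injective (Subgroup.subtype_injective _),
        hK']) hN₂U ?_
    rintro _ ⟨x, hx, rfl⟩
    refine mem_centralizer_iff.2 ?_
    rintro _ ⟨y, hy, rfl⟩
    exact congrArg Subtype.val (mem_centralizer_iff.1 (mem_inf.1 (map_subtype_le K' hx)).2 y hy)
  have hF : fittingOf M ≤ centralizer ({g} : Set G) := by
    refine Bender.fitting_le_of_qc fun r hr => ?_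
    rcases eq_or_ne r p with rfl | hrp
    · exact hcyc r hpcyc
    by_cases hc : IsCyclic (Bender.qc r M)
    · exact hcyc r hc
    by_cases hrk : Cfsg.PRankLE r 2 ↥(Bender.qc r M)
    · have hrt : r ≠ t := fun h => htr (h ▸ hrk)
      have hr1 : Bender.qc r M ≠ ⊥ := fun h => hc (by rw [h]; exact isCyclic_of_subsingleton)
      have hr2 : r ≠ 2 := by
        refine CfsgLib.CN.MinSimple.p_ne_two S.hG ?_
        exact ((Bender.isPGroup_qc (s := r) M).card_eq_or_dvd.resolve_left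
          fun e => hr1 (eq_bot_of_card_eq _ e)).trans (Bender.qc r M).card_subgroup_dvd_card
      obtain ⟨e, he, he1, hecen⟩ := UTool.exists_kernel_rank_two hr2 hrp S.hE S.hE3
        ((S.hEP.trans C.hPM).trans (Bender.le_normalizer_qc r M)) (Bender.isPGroup_qc M) hrk
      obtain ⟨X, hX, hXe, hXc⟩ := Uniq.exists_sq hr2 (Bender.isPGroup_qc M) hc
      have hXU : Cfsg.InUniqueMaximal X := Uniq.of_centralize S.hG (unique_qc S.hG C.hM htr)
        (fun x hx => mem_centralizer_iff.2 fun y hy => (hqt hrt x (hX hx) y hy).symm) hXe hXc.ge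
      exact hmove ⟨he, he1, Uniq.le_of_uniq hXU C.hM (hX.trans (Bender.qc_le r M))
        (Uniq.centralizer_singleton_ne_top S.hG he1) (hX.trans hecen)⟩ hecen
    · obtain ⟨T', N'⟩ := S.exists_conn C.hM hrp hrk
      obtain ⟨g', hg', hg'T, -⟩ := S.exists_fixer C N'
      exact hmove hg' hg'T
  have hgF : g ∈ fittingOf M := Bender.centralizer_fitting_le hMs (mem_inf.2 ⟨C.hPM (S.hEP hgE),
    mem_centralizer_iff.2 fun x hx => mem_centralizer_singleton_iff.1 (hF hx)⟩)
  have hgp : g ∈ Bender.qc p M :=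
    Bender.mem_qc hgF (j := 1) (by rw [pow_one]; exact orderOf_eq_prime (S.hE.2 g hgE) hgood.2.1)
  exact ⟨g, hgood, hF, hgp,
    (Bender.le_normalizer_qc p M).trans (UTool.normalizer_le_normalizer_zpowers hpcyc hgp)⟩

/-- The configuration does not exist. -/
theorem Setup.false {M : Subgroup G} (C : Ctx P M) : False := by
  have hp : p.Prime := Fact.out
  obtain ⟨t, ht, htp, htr⟩ := S.big C
  haveI := Fact.mk ht
  obtain ⟨T, N⟩ := S.exists_conn C.hM htp htr
  obtain ⟨g, hg, -, -, hgn⟩ := S.exists_pair C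
  obtain ⟨K, u, -, -, hl, -, -⟩ := S.exists_lines C N
  obtain ⟨b, hbK, hb1, hbM⟩ := S.escape hl.hKE hl.hK2 C.hM
  obtain ⟨H, CH, hHM, hbH, hPD⟩ := S.exists_over C (hl.hKE hbK) hb1 hbM
  obtain ⟨g', hg', hg'F, hg'p, hg'n⟩ := S.exists_pair CH
  have hne : g' ∉ zpowers g := fun hmem => by
    obtain ⟨s, hs, hsp, hsr⟩ := S.big CH
    haveI := Fact.mk hs
    have heq : zpowers g' = zpowers g := eq_of_le_of_card_ge (zpowers_le.2 hmem)
      (by rw [CfsgLib.Signalizer.card_zpowers_eq S.hE hg.1 hg.2.1,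
        CfsgLib.Signalizer.card_zpowers_eq S.hE hg'.1 hg'.2.1])
    have hle : fittingOf H ≤ M := by
      refine hg'F.trans ?_
      rw [← centralizer_closure {g'}, ← zpowers_eq_closure, heq, zpowers_eq_closure, centralizer_closure]
      exact hg.2.2
    exact hHM (Uniq.eq_of (unique_qc S.hG CH.hM hsr) C.hM ((Bender.qc_le_fitting H).trans hle)
      CH.hM (Bender.qc_le s H)).symm
  have huH : u ∈ H := hbH (mem_centralizer_singleton_iff.2 (hl.elem b hbK).symm)
  have hucop : (Nat.card (zpowers u)).Coprime p := by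
    rw [Nat.card_zpowers, hl.hu]
    exact (Nat.coprime_primes ht hp).2 htp
  have hcore : zpowers u ≤ Uniq.coreOf p H := THCases.le_pPrimeCore_of_scn S.hG S.hp2 P S.hA S.hA1 H CH.hM.1
    (S.hA.1.trans CH.hPM) (zpowers_le.2 huH) (S.line_normalized C N hl) hucop
  have hgu : g' * u = u * g' := by
    have h1 : g' * u * g'⁻¹ * u⁻¹ ∈ Uniq.coreOf p H := mul_mem
      ((mem_normalizer_iff.1 (Uniq.le_normalizer_coreOf H (Bender.qc_le p H hg'p)) _).1 (hcore (mem_zpowers u)))
      (inv_mem (hcore (mem_zpowers u)))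
    have h2 : g' * u * g'⁻¹ * u⁻¹ ∈ Bender.qc p H := by
      have := mul_mem hg'p ((mem_normalizer_iff.1 (Bender.le_normalizer_qc p H huH) _).1 (inv_mem hg'p))
      simpa [mul_assoc] using this
    exact mul_inv_eq_iff_eq_mul.1 (mul_inv_eq_one.1 (CfsgLib.CharP.eq_one_of_mem_pgroup (Bender.isPGroup_qc H) h2
      ((Uniq.coprime_coreOf (p := p) H).coprime_dvd_left ((Uniq.coreOf p H).orderOf_dvd_natCard h1))))
  have hg'K : g' ∈ K := by
    rw [← S.line_inf C N hl]
    exact mem_inf.2 ⟨hg'.1, mem_centralizer_singleton_iff.2 hgu⟩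
  have hgK : g ∈ K := S.plane_maker C N hl hg
  have hKeq : zpowers g' ⊔ zpowers g = K := by
    refine eq_of_le_of_card_ge (sup_le (zpowers_le.2 hg'K) (zpowers_le.2 hgK)) ?_
    rw [CfsgLib.Signalizer.card_sup_zpowers S.hE (zpowers_le.2 hg.1) hg'.1 hne,
      CfsgLib.Signalizer.card_zpowers_eq S.hE hg.1 hg.2.1, hl.hK2, sq]
  set D := M ⊓ H
  have hDK : D ≤ normalizer (K : Set G) := by
    intro x hx
    refine Uniq.mem_normalizer_of_map_le ?_
    rw [← hKeq, Subgroup.map_sup]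
    exact sup_le_sup (Uniq.conj_map_eq_of_mem (hg'n hx.2)).le (Uniq.conj_map_eq_of_mem (hgn hx.1)).le
  have hDu : D ≤ normalizer (zpowers u : Set G) :=
    (le_inf (inf_le_left.trans (S.normalizes C N)) hDK).trans (S.line_normalizer C N hl)
  have hcent := UTool.commutator_le_centralizer_cyclic hDu inferInstance
  have hEK : E ≤ K := by
    rw [← S.line_inf C N hl]
    refine le_inf le_rfl fun e he => mem_centralizer_singleton_iff.2 ?_
    exact (mem_centralizer_iff.1 (hcent (hPD (S.hEP he))) u (mem_zpowers u)).symm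
  have h := card_le_of_le hEK
  rw [S.hE3, hl.hK2] at h
  exact absurd h (not_le.2 (Nat.pow_lt_pow_right hp.one_lt (by norm_num)))

/-- A maximal subgroup with `P` in its derived subgroup. -/
theorem Setup.exists_ctx : ∃ M : Subgroup G, Ctx P M := by
  haveI := CfsgLib.CN.MinSimple.nontrivial S.hG
  have hp : p.Prime := Fact.out
  set Z := Cfsg.centerThompsonOf p (P : Subgroup G) with hZdef
  have K := CfsgLib.ZJ.zkind_centerThompsonOf (p := p) S.hp2
  have hP1 : (P : Subgroup G) ≠ ⊥ := fun h => by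
    have h1 : E = ⊥ := le_bot_iff.1 (S.hEP.trans h.le)
    have h2 : Nat.card E = 1 := by rw [h1, card_bot]
    rw [S.hE3] at h2
    exact (Nat.one_lt_pow (by norm_num) hp.one_lt).ne' h2
  have hZP : Z ≤ (P : Subgroup G) := K.le G _
  have hZ1 : Z ≠ ⊥ := K.ne_bot G _ P.2 hP1
  have hPN : (P : Subgroup G) ≤ normalizer (Z : Set G) :=
    le_normalizer.trans (CfsgLib.ZJ.normalizer_le_centerThompsonOf _)
  obtain ⟨M, hM, hNM⟩ := (eq_top_or_exists_le_coatom (normalizer (Z : Set G))).resolve_left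
    (CfsgLib.CN.MinSimple.normalizer_ne_top S.hG (P.2.to_le hZP).isNilpotent hZ1)
  have hPM : (P : Subgroup G) ≤ M := hPN.trans hNM
  refine ⟨M, hM, hPM, ?_⟩
  have hctrl : ∀ (B : Set G), B ⊆ (P : Subgroup G) → ∀ g : G, (fun a => g * a * g⁻¹) '' B ⊆ (P : Subgroup G) →
      ∃ x ∈ M, ∀ a ∈ B, g * a * g⁻¹ = x * a * x⁻¹ := by
    intro B hB g hg
    obtain ⟨x, hx, hxe⟩ := (CfsgLib.ZJ.controlsStrongFusionOf_of_fused (S := (P : Subgroup G))
      (fun B x hB hx => CfsgLib.ZJ.control_of_free S.hp2 K G (CfsgLib.CN.MinSimple.not_involves_qd S.hG S.hp2) P _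
        (CfsgLib.ZJ.stronglyClosed_self P) B x hB hx) B hB).2 g hg
    exact ⟨x, hNM hx, hxe⟩
  let PM : Sylow p M := P.subtype hPM
  have hfus : ∀ g ∈ M, (∃ i : ℕ, orderOf g = p ^ i) → ∀ a : G, a * g * a⁻¹ ∈ M →
      ∃ h ∈ M, h * g * h⁻¹ = a * g * a⁻¹ := by
    have conj_into : ∀ g ∈ M, (∃ i : ℕ, orderOf g = p ^ i) → ∃ m ∈ M, m * g * m⁻¹ ∈ (P : Subgroup G) := by
      rintro g hg ⟨i, hi⟩
      have hgp : IsPGroup p (zpowers (⟨g, hg⟩ : M)) :=
        IsPGroup.of_card (n := i) (by rw [Nat.card_zpowers, orderOf_mk, hi])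
      obtain ⟨T, hT⟩ := hgp.exists_le_sylow
      obtain ⟨m, hm⟩ := MulAction.exists_smul_eq M T PM
      refine ⟨m, m.2, ?_⟩
      have : MulAut.conj m ⟨g, hg⟩ ∈ (PM : Subgroup M) := by
        rw [← hm, Sylow.coe_subgroup_smul]
        exact Subgroup.smul_mem_pointwise_smul _ _ _ (hT (mem_zpowers _))
      exact this
    intro g hg hgp a ha
    obtain ⟨m₁, hm₁, h₁⟩ := conj_into g hg hgp
    obtain ⟨m₂, hm₂, h₂⟩ := conj_into _ ha
      (hgp.imp fun i hi => by rw [← hi]; exact (MulAut.conj a).orderOf_eq g)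
    obtain ⟨x, hx, hxe⟩ := hctrl {m₁ * g * m₁⁻¹} (Set.singleton_subset_iff.2 h₁) (m₂ * a * m₁⁻¹) (by
      rintro _ ⟨y, rfl, rfl⟩
      have e : m₂ * a * m₁⁻¹ * (m₁ * g * m₁⁻¹) * (m₂ * a * m₁⁻¹)⁻¹ = m₂ * (a * g * a⁻¹) * m₂⁻¹ := by group
      show m₂ * a * m₁⁻¹ * (m₁ * g * m₁⁻¹) * (m₂ * a * m₁⁻¹)⁻¹ ∈ (P : Subgroup G)
      rw [e]
      exact h₂)
    have he := hxe _ rfl
    refine ⟨m₂⁻¹ * x * m₁, mul_mem (mul_mem (inv_mem hm₂) hx) hm₁, ?_⟩
    calc m₂⁻¹ * x * m₁ * g * (m₂⁻¹ * x * m₁)⁻¹ = m₂⁻¹ * (x * (m₁ * g * m₁⁻¹) * x⁻¹) * m₂ := by group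
      _ = m₂⁻¹ * (m₂ * a * m₁⁻¹ * (m₁ * g * m₁⁻¹) * (m₂ * a * m₁⁻¹)⁻¹) * m₂ := by rw [he]
      _ = a * g * a⁻¹ := by group
  have hidx : p.Coprime M.index :=
    hp.coprime_iff_not_dvd.2 fun h => P.not_dvd_index (h.trans (index_dvd_of_le hPM))
  haveI : Group.IsSolvable M := S.hG.2.2.2 M hM.1
  intro x hx
  let f : M →* M ⧸ commutator M := QuotientGroup.mk' _
  have hq : IsMulCommutative (M ⧸ commutator M) :=
    Normal.quotient_commutative_iff_commutator_le.2 le_rfl
  obtain ⟨L, hLc, hLi⟩ : ∃ L : Subgroup (M ⧸ commutator M), ¬ p ∣ Nat.card L ∧ ∃ n, L.index = p ^ n := by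
    haveI := hq
    letI : CommGroup (M ⧸ commutator M) := { (inferInstance : Group (M ⧸ commutator M)) with
      mul_comm := hq.is_comm.comm }
    obtain ⟨S₀⟩ : Nonempty (Sylow p (M ⧸ commutator M)) := inferInstance
    haveI : (S₀ : Subgroup (M ⧸ commutator M)).Normal := inferInstance
    obtain ⟨L, hL⟩ := exists_right_complement'_of_coprime S₀.card_coprime_index
    refine ⟨L, ?_, ?_⟩
    · rw [← hL.symm.index_eq_card]
      exact S₀.not_dvd_index
    · obtain ⟨n, hn⟩ := IsPGroup.iff_card.1 S₀.2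
      exact ⟨n, by rw [hL.index_eq_card, hn]⟩
  obtain ⟨n, hn⟩ := hLi
  haveI : (L.comap f).Normal := by
    haveI : L.Normal := ⟨fun l hl g => by rw [hq.is_comm.comm g, mul_assoc, mul_inv_cancel, mul_one]; exact hl⟩
    infer_instance
  have htop := CfsgLib.CN.eq_top_of_index_pow (CfsgLib.CN.MinSimple.perfect S.hG) hidx hfus
    (K := L.comap f) (n := n) (by rw [index_comap_of_surjective _ (QuotientGroup.mk'_surjective _), hn])
  have hxM : f ⟨x, hPM hx⟩ ∈ L := by
    have : (⟨x, hPM hx⟩ : M) ∈ L.comap f := htop ▸ mem_top _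
    exact this
  have hone : f ⟨x, hPM hx⟩ = 1 := by
    obtain ⟨k, hk⟩ := IsPGroup.iff_card.1 P.2
    refine orderOf_eq_one_iff.1 (Nat.eq_one_of_dvd_coprimes ((hp.coprime_iff_not_dvd.2 hLc).pow_left k) ?_
      (L.orderOf_dvd_natCard hxM))
    refine (orderOf_map_dvd f _).trans ?_
    rw [orderOf_mk, ← hk]
    exact (P : Subgroup G).orderOf_dvd_natCard hx
  have hm : x ∈ (commutator M).map M.subtype := ⟨_, (QuotientGroup.eq_one_iff _).1 hone, rfl⟩
  rwa [_root_.commutator_def, map_commutator, ← MonoidHom.range_eq_map, range_subtype] at hm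

end Over

/-- The theorem on self-centralizing normal subgroups of rank three. -/
theorem scn_three_unique (hG : Cfsg.IsMinSimpleOddOrder G) (P : Sylow p G) (A : Subgroup G)
    (hA : Cfsg.IsSCN (P : Subgroup G) A) (hA3 : ¬ Cfsg.PRankLE p 2 A) : Cfsg.InUniqueMaximal A := by
  by_contra hnU
  obtain ⟨E, hEA, hE, hE3⟩ := Uniq.exists_elementary hA3
  have S : Setup P A E := ⟨hG, hA, hA3, hnU, hEA, hE, hE3⟩
  obtain ⟨M, C⟩ := S.exists_ctx
  exact S.false C

end CfsgLib.OddLocal.UThm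

namespace CfsgLib.OddLocal.UThm

open Subgroup Cfsg CfsgLib.OddLocal

universe u

variable {G : Type u} [Group G] [Finite G] {p : ℕ} [Fact p.Prime]

/-- Every abelian `p`-subgroup of rank at least three lies in only one maximal subgroup. -/
theorem rank_three_unique (hG : Cfsg.IsMinSimpleOddOrder G) {B : Subgroup G} (hBp : IsPGroup p B)
    (hB3 : ¬ Cfsg.PRankLE p 2 B) : Cfsg.InUniqueMaximal B := by
  obtain ⟨E, hEB, hEe, hEc⟩ := Uniq.exists_elementary hB3
  have hp2 : p ≠ 2 := CfsgLib.CN.MinSimple.p_ne_two hG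
    (dvd_trans (hEc ▸ dvd_pow_self p (by norm_num)) E.card_subgroup_dvd_card)
  obtain ⟨P, hP⟩ := hBp.exists_le_sylow
  obtain ⟨A, hA, hA3, hAc⟩ := Uniq.exists_scn_three hG hp2 P (fun h => hB3 (Uniq.rankLE_mono hP h))
  have hEC : E ≤ centralizer (E : Set G) := le_centralizer_iff_isMulCommutative.2 hEe.1
  refine Uniq.mono (Uniq.connect hG (P.2.to_le hA.1) hA3 (scn_three_unique hG P A hA hA3) hAc
    (CfsgLib.Signalizer.isPGroup hEe)
    (CfsgLib.Signalizer.not_isCyclic hEe (hEc ▸ Nat.pow_le_pow_right (Fact.out : p.Prime).pos (by norm_num)))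
    fun h => ?_) hEB (CfsgLib.CN.MinSimple.ne_top hG hBp.isNilpotent)
  have h1 := Uniq.rankLE_elementary h hEC hEe
  rw [hEc] at h1
  exact absurd h1 (not_le.2 (Nat.pow_lt_pow_right (Fact.out : p.Prime).one_lt (by norm_num)))

omit [Fact p.Prime] in
/-- The uniqueness theorem. -/
theorem uniqueness (hG : Cfsg.IsMinSimpleOddOrder G) (K : Subgroup G) (hK : K ≠ ⊤) (hK2 : ¬ Cfsg.RankLE 1 K)
    (hK3 : ¬ Cfsg.RankLE 2 K ∨ ¬ Cfsg.RankLE 2 (Subgroup.centralizer (K : Set G))) :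
    Cfsg.InUniqueMaximal K := by
  have aux : ∀ L : Subgroup G, ¬ Cfsg.RankLE 2 L → ∃ E : Subgroup G, E ≤ L ∧ Cfsg.InUniqueMaximal E := by
    intro L hL
    unfold Cfsg.RankLE at hL
    push Not at hL
    obtain ⟨q, hq, hqL⟩ := hL
    haveI := Fact.mk hq
    obtain ⟨E, hEL, hEe, hEc⟩ := Uniq.exists_elementary hqL
    refine ⟨E, hEL, rank_three_unique hG (CfsgLib.Signalizer.isPGroup hEe) fun h => ?_⟩
    have h1 := Uniq.rankLE_elementary h le_rfl hEe
    rw [hEc] at h1
    exact absurd h1 (not_le.2 (Nat.pow_lt_pow_right hq.one_lt (by norm_num)))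
  rcases hK3 with h | h
  · obtain ⟨E, hEK, hEU⟩ := aux K h
    exact Uniq.mono hEU hEK hK
  · obtain ⟨E, hEK, hEU⟩ := aux _ h
    exact Cfsg.Agent.S1399.result hG E K hEU (le_centralizer_iff.1 hEK) hK2

end CfsgLib.OddLocal.UThm
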