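import Cfsg.Agent.OddLocal.KappaNonNilpotentMain
import Cfsg.Agent.OddLocal.KappaPairFacts
import Cfsg.Agent.S1403

/-!
`F(M)` is a TI-subset when `M_σ` is not nilpotent.
-/

set_option autoImplicit false
set_option linter.style.haveILetI false
set_option linter.unusedSectionVars false

namespace CfsgLib.OddLocal.Kap

open Subgroup Cfsg CfsgLib.OddLocal
open scoped commutatorElement Pointwise

universe u

variable {G : Type u} [Group G] [Finite G]

/-- Two commuting lines span an elementary abelian group of order `q²`. -/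
theorem elementary_span {q : ℕ} [hq : Fact q.Prime] {w z : G} (hwo : orderOf w = q) (hzo : orderOf z = q)
    (hwz : Commute w z) (hzw : z ∉ zpowers w) :
    Cfsg.IsElementaryAbelian q (zpowers w ⊔ zpowers z) ∧ Nat.card ↥(zpowers w ⊔ zpowers z) = q ^ 2 := by
  have hn : zpowers w ≤ normalizer (zpowers z : Set G) :=
    (le_centralizer_iff.1 (zpowers_le.2 (mem_centralizer_iff.2 fun y hy => by
      obtain ⟨i, rfl⟩ := mem_zpowers_iff.1 hy
      exact (hwz.zpow_left i).eq))).trans (centralizer_le_normalizer _)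
  have key : ∀ a ∈ zpowers w ⊔ zpowers z, ∃ i j : ℤ, w ^ i * z ^ j = a := fun a ha => by
    obtain ⟨b, hb, c, hc, rfl⟩ := (CfsgLib.Solvable.mem_sup_of_le_normalizer hn).1 ha
    obtain ⟨i, rfl⟩ := mem_zpowers_iff.1 hb
    obtain ⟨j, rfl⟩ := mem_zpowers_iff.1 hc
    exact ⟨i, j, rfl⟩
  refine ⟨⟨⟨⟨fun a b => Subtype.ext ?_⟩⟩, fun a ha => ?_⟩, ?_⟩
  · obtain ⟨i, j, ha⟩ := key a a.2
    obtain ⟨k, l, hb⟩ := key b b.2
    show (a : G) * b = b * a
    rw [← ha, ← hb]
    exact ((((Commute.refl w).zpow_zpow i k).mul_right (hwz.zpow_zpow i l)).mul_left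
      ((hwz.symm.zpow_zpow j k).mul_right ((Commute.refl z).zpow_zpow j l))).eq
  · obtain ⟨i, j, rfl⟩ := key a ha
    rw [(hwz.zpow_zpow i j).mul_pow, ← zpow_natCast, ← zpow_natCast, ← zpow_mul, ← zpow_mul, mul_comm i,
      mul_comm j, zpow_mul, zpow_mul, zpow_natCast, zpow_natCast,
      show w ^ q = 1 from hwo ▸ pow_orderOf_eq_one w, show z ^ q = 1 from hzo ▸ pow_orderOf_eq_one z,
      one_zpow, one_zpow, one_mul]
  · have hle := CfsgLib.Solvable.card_sup_dvd hn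
    rw [Nat.card_zpowers, Nat.card_zpowers, hwo, hzo] at hle
    obtain ⟨j, hj, hjc⟩ := (Nat.dvd_prime_pow hq.out).1 (show Nat.card ↥(zpowers w ⊔ zpowers z) ∣ q ^ 2 by
      rwa [sq])
    have hlt := CfsgLib.Solvable.card_lt_of_lt (lt_of_le_of_ne (le_sup_left : zpowers w ≤ zpowers w ⊔ zpowers z)
      fun e => hzw (e.ge (mem_sup_right (mem_zpowers z))))
    rw [Nat.card_zpowers, hwo, hjc] at hlt
    interval_cases j
    · simp at hlt; exact absurd hlt (by have := hq.out.one_lt; omega)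
    · simp at hlt
    · exact hjc

variable (hG : Cfsg.IsMinSimpleOddOrder G)
include hG

section TI

variable {M H : Subgroup G} (hM : IsCoatom M) (hH : Cfsg.IsPiHallOf (Cfsg.kappa M) H M)
  (hnn : ¬ Group.IsNilpotent (Cfsg.sigmaCore M)) {q : ℕ} [hq : Fact q.Prime] (hqs : Nat.card ↥(star M H) = q)
include hM hH hnn hqs

theorem deficient_rank_three : ∃ B : Subgroup G, B ≤ Bender.qc q (Cfsg.sigmaCore M) ∧
    Cfsg.IsElementaryAbelian q B ∧ q ^ 3 ≤ Nat.card B := by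
  obtain ⟨D₀, hD₀, hHD, hqD, hfpf, hDn⟩ := deficient_complement hG hM hH hnn hqs
  have hβ := deficient_beta hG hM hH hnn hqs hD₀ hHD hqD hfpf hDn
  obtain ⟨B, hBM, hB, hB3⟩ := Uniq.exists_elementary hβ.1.2
  refine ⟨B, Excep.le_of_hall ((Bender.qc_le q _).trans (map_subtype_le _))
    (deficient_q_normal hG hM hH hnn hqs) hBM ?_, hB, le_of_eq hB3.symm⟩
  rw [hB3]
  exact (hq.out.coprime_iff_not_dvd.2 (deficient_q_sylow_M hG hM hH hnn hqs)).pow_left _

/-- Every element of order `q` of `Q` centralizes a subgroup of `Q` of rank three. -/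
theorem deficient_large_centralizer {z : G} (hz : z ∈ Bender.qc q (Cfsg.sigmaCore M)) (hzo : orderOf z = q) :
    ∃ B : Subgroup G, B ≤ Bender.qc q (Cfsg.sigmaCore M) ∧ Cfsg.IsElementaryAbelian q B ∧ q ^ 3 ≤ Nat.card B ∧
      B ≤ centralizer ({z} : Set G) := by
  set Q := Bender.qc q (Cfsg.sigmaCore M) with hQ
  obtain ⟨B₀, hB₀Q, hB₀, hB₀3⟩ := deficient_rank_three hG hM hH hnn hqs
  obtain ⟨w₀, hw₀, hw₀1, hw₀c⟩ := CfsgLib.CN.exists_central (Bender.isPGroup_qc (s := q) (Cfsg.sigmaCore M)).isNilpotent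
    (show Q ≠ ⊥ from fun e => hq.out.ne_one (by rw [← hzo, orderOf_eq_one_iff]; exact Subgroup.mem_bot.1 (e ▸ hz)))
  obtain ⟨r, hr, w, hw, hwo, -⟩ := exists_prime_root (mem_zpowers w₀) hw₀1
  have hwQ : w ∈ Q := zpowers_le.2 hw₀ hw
  obtain rfl : r = q := by
    obtain ⟨j, hj⟩ := IsPGroup.iff_card.1 (Bender.isPGroup_qc (s := q) (Cfsg.sigmaCore M))
    have hd := dvd_of_mem hwQ hwo
    rw [hj] at hd
    exact (Nat.prime_dvd_prime_iff_eq hr hq.out).1 (hr.dvd_of_dvd_pow hd)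
  have hwc : ∀ y ∈ Q, Commute w y := fun y hy => by
    obtain ⟨i, rfl⟩ := mem_zpowers_iff.1 hw
    exact (show Commute w₀ y by
      first
        | exact hw₀c y hy
        | exact (hw₀c y hy).symm
        | exact (mem_centralizer_iff.1 hw₀c y hy).symm).zpow_left i
  by_cases hzw : z ∈ zpowers w
  · refine ⟨B₀, hB₀Q, hB₀, hB₀3, fun b hb => mem_centralizer_singleton_iff.2 ?_⟩
    obtain ⟨i, rfl⟩ := mem_zpowers_iff.1 hzw
    exact (((hwc b (hB₀Q hb)).zpow_left i).symm).eq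
  obtain ⟨hA, hA2⟩ := elementary_span hwo hzo (hwc z hz) hzw
  set A := zpowers w ⊔ zpowers z
  have hβ : r ∈ Cfsg.beta M := by
    obtain ⟨D₀, hD₀, hHD, hqD, hfpf, hDn⟩ := deficient_complement hG hM hH hnn hqs
    exact deficient_beta hG hM hH hnn hqs hD₀ hHD hqD hfpf hDn
  have hσ := deficient_mem_sigma hG hM hH hnn hqs
  let P : Sylow r G := (Bender.isPGroup_qc (s := r) (Cfsg.sigmaCore M)).toSylow
    (Excep.index_not_dvd (Bender.qc_le r _) (deficient_q_sylow hG hM hH hnn hqs)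
      ((Sig.sigma_core hG hM).2.1.2 r hr hσ))
  obtain ⟨B, hBP, hB, hAB⟩ := hβ.2.2.2 P A (sup_le (zpowers_le.2 hwQ) (zpowers_le.2 hz)) hA hA2
  obtain ⟨j, hj⟩ := IsPGroup.iff_card.1 ((Bender.isPGroup_qc (s := r) (Cfsg.sigmaCore M)).to_le hBP)
  refine ⟨B, hBP, hB, ?_, fun b hb => mem_centralizer_singleton_iff.2
    (congrArg Subtype.val (hB.1.is_comm.comm (⟨b, hb⟩ : B) ⟨z, hAB.le (mem_sup_right (mem_zpowers z))⟩))⟩
  have hlt := CfsgLib.Solvable.card_lt_of_lt hAB
  rw [hA2, hj] at hlt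
  rw [hj]
  exact Nat.pow_le_pow_right hr.pos ((Nat.pow_lt_pow_iff_right hr.one_lt).1 hlt)

/-- BG 15.2: `F(M)` is a TI-subset. -/
theorem deficient_ti : Cfsg.IsTISubset (Cfsg.fittingOf M : Set G) := by
  have hH1 := deficient_kappa hG hM hH hnn
  set Q := Bender.qc q (Cfsg.sigmaCore M) with hQ
  have hQM : Q ≤ M := (Bender.qc_le q _).trans (map_subtype_le _)
  have hQn := deficient_q_normal hG hM hH hnn hqs
  have hQF : Q ≤ Cfsg.fittingOf M := Bender.le_fitting hQM hQn (Bender.isPGroup_qc _).isNilpotent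
  intro g hg x hx hgx
  by_contra hx1
  have hgM : g ∉ M := fun h => hg (Bender.le_normalizer_fitting M h)
  obtain ⟨t, ht, z, hzx, hzo, -⟩ := exists_prime_root (mem_zpowers x) hx1
  haveI := Fact.mk ht
  have hz1 : z ≠ 1 := fun e => ht.ne_one (by rw [← hzo, e, orderOf_one])
  have hzF : z ∈ Cfsg.fittingOf M := zpowers_le.2 hx hzx
  have hzF' : g * z * g⁻¹ ∈ Cfsg.fittingOf M := by
    obtain ⟨i, rfl⟩ := mem_zpowers_iff.1 hzx
    rw [← conj_zpow]
    exact (Cfsg.fittingOf M).zpow_mem hgx i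
  have key : ∀ v : G, v ∈ Cfsg.fittingOf M → orderOf v = t →
      ∃ B : Subgroup G, B ≤ M ∧ Cfsg.IsElementaryAbelian q B ∧ q ^ 3 ≤ Nat.card B ∧
        B ≤ centralizer ({v} : Set G) := by
    intro v hv hvo
    have hvM : v ∈ M := Bender.fitting_le M hv
    by_cases htq : t = q
    · subst htq
      obtain ⟨B, hBQ, hB, hB3, hBc⟩ := deficient_large_centralizer hG hM hH hnn hqs
        (Excep.le_of_hall hQM hQn (zpowers_le.2 hvM) (by
          rw [Nat.card_zpowers, hvo]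
          exact hq.out.coprime_iff_not_dvd.2 (deficient_q_sylow_M hG hM hH hnn hqs)) (mem_zpowers v)) hvo
      exact ⟨B, hBQ.trans hQM, hB, hB3, hBc⟩
    · obtain ⟨B, hBQ, hB, hB3⟩ := deficient_rank_three hG hM hH hnn hqs
      have hvq : v ∈ Bender.qc t M := Bender.mem_qc (j := 1) hv (by rw [pow_one, hvo])
      have hc : Q ≤ centralizer (Bender.qc t M : Set G) := centralizes_of_disjoint
        ((Bender.qc_le t M).trans hQn) (hQM.trans (Bender.le_normalizer_qc t M))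
        (IsPGroup.coprime_card_of_ne q t (Ne.symm htq) Q (Bender.qc t M) (Bender.isPGroup_qc _)
          (Bender.isPGroup_qc _))
      exact ⟨B, hBQ.trans hQM, hB, hB3, fun b hb =>
        mem_centralizer_singleton_iff.2 (mem_centralizer_iff.1 (hc (hBQ hb)) v hvq).symm⟩
  have huniq : ∀ B : Subgroup G, B ≤ M → Cfsg.IsElementaryAbelian q B → q ^ 3 ≤ Nat.card B →
      Cfsg.InUniqueMaximal B := fun B hBM hB hB3 => by
    have h3 : ¬ Cfsg.RankLE 2 B := fun h => by
      have h' := Uniq.rankLE_elementary (h q hq.out) (le_refl B) hB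
      exact absurd (hB3.trans h') (not_le.2 (Nat.pow_lt_pow_right hq.out.one_lt (by norm_num)))
    exact Cfsg.Agent.S1403.result hG B (fun e => hM.1 (top_le_iff.1 (e ▸ hBM)))
      (fun h => h3 fun p hp A h1 h2 => (h p hp A h1 h2).trans (Nat.pow_le_pow_right hp.pos (by norm_num)))
      (Or.inl h3)
  obtain ⟨B, hBM, hB, hB3, hBc⟩ := key z hzF hzo
  obtain ⟨B', hB'M, hB', hB'3, hB'c⟩ := key (g * z * g⁻¹) hzF' (by rw [conj_orderOf, hzo])
  obtain ⟨C, hC, hCle⟩ := (eq_top_or_exists_le_coatom (centralizer ({g * z * g⁻¹} : Set G))).resolve_left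
    (Uniq.centralizer_singleton_ne_top hG (fun e => hz1 (conj_eq_one_iff.1 e)))
  have hCM : C = M := (huniq B' hB'M hB' hB'3).unique ⟨hC, hB'c.trans hCle⟩ ⟨hM, hB'M⟩
  have hgB : B.map (MulAut.conj g).toMonoidHom ≤ centralizer ({g * z * g⁻¹} : Set G) := by
    rintro _ ⟨b, hb, rfl⟩
    exact mem_centralizer_singleton_iff.2
      ((show Commute b z from mem_centralizer_singleton_iff.1 (hBc hb)).map (MulAut.conj g).toMonoidHom).eq
  have hback : B ≤ C.map (MulAut.conj g⁻¹).toMonoidHom := fun b hb =>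
    ⟨g * b * g⁻¹, hCle (hgB ⟨b, hb, rfl⟩), by show g⁻¹ * (g * b * g⁻¹) * g⁻¹⁻¹ = b; group⟩
  have h := (huniq B hBM hB hB3).unique ⟨Uniq.coatom_conj hC g⁻¹, hback⟩ ⟨hM, hBM⟩
  rw [hCM] at h
  exact hgM (inv_mem_iff.1 (eq_of_conj_eq hG hM h))

end TI

end CfsgLib.OddLocal.Kap
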