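import Cfsg.Agent.OddLocal.KappaBasic
import Cfsg.Agent.FGSA.NarrowSolvable

/-!
A complement in the normalizer of a narrow Sylow subgroup, and elements without fixed points over the
normalizer of a line of a prime in `τ₂`.
-/

set_option autoImplicit false
set_option linter.style.haveILetI false
set_option linter.unusedSectionVars false

namespace CfsgLib.OddLocal.Kap

open Subgroup Cfsg CfsgLib.OddLocal
open scoped commutatorElement Pointwise

universe u

variable {G : Type u} [Group G] [Finite G]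

/-- Hall subgroups above a given subgroup. -/
theorem exists_hall_over {π : Set ℕ} {E X : Subgroup G} (hs : Group.IsSolvable E) (hXE : X ≤ E)
    (hX : ∀ q : ℕ, q.Prime → q ∣ Nat.card X → q ∈ π) :
    ∃ H : Subgroup G, Cfsg.IsPiHallOf π H E ∧ X ≤ H := by
  haveI := hs
  obtain ⟨W, hW⟩ := CfsgLib.InvariantHall.exists_isPiHallOf (π := π) hs
  obtain ⟨H₀, hc, hXH⟩ := CfsgLib.Hall.hall_dominance (G := E) (a := Nat.card W) (b := W.relIndex E)
    (CfsgLib.InvariantHall.relIndex_mul_card hW.1).symm (CfsgLib.InvariantHall.coprime_of_isPiHallOf hW)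
    (K := X.subgroupOf E) (by
      rw [Nat.card_congr (subgroupOfEquivOfLe hXE).toEquiv]
      exact Nat.coprime_of_dvd fun r hr h1 h2 => hW.2.2 r hr (hX r hr h1) h2)
  set H := H₀.map E.subtype
  have hHc : Nat.card H = Nat.card W := by rw [card_map_of_injective E.subtype_injective, hc]
  refine ⟨H, ⟨map_subtype_le _, fun q hq hd => hW.2.1 q hq (hHc ▸ hd), fun q hq hqπ hd => hW.2.2 q hq hqπ ?_⟩, by
    rw [← map_subgroupOf_eq_of_le hXE]; exact map_mono hXH⟩
  have h1 := CfsgLib.InvariantHall.relIndex_mul_card (map_subtype_le H₀ : H ≤ E)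
  rw [hHc, ← CfsgLib.InvariantHall.relIndex_mul_card hW.1] at h1
  rwa [Nat.eq_of_mul_eq_mul_left Nat.card_pos h1] at hd

/-- Coprime groups of odd order on a narrow `p`-group act through an abelian group. -/
theorem derived_centralizes {p : ℕ} [Fact p.Prime] (hp2 : p ≠ 2) {S V : Subgroup G} (hS : IsPGroup p S)
    (hn : Cfsg.IsNarrow p S) (hVS : V ≤ normalizer (S : Set G)) (hodd : Odd (Nat.card V))
    (hpV : ¬ p ∣ Nat.card V) : ⁅V, V⁆ ≤ centralizer (S : Set G) := by
  set φ := CfsgLib.FGSA.MetacyclicAct.act hVS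
  have hd := CfsgLib.FGSA.NarrowSolvable.derived_isPGroup hp2 hS hn (hodd.of_dvd_nat (card_range_dvd φ))
    φ.range.subtype φ.range.subtype_injective
  have h1 : commutator φ.range = ⊥ := by
    obtain ⟨k, hk⟩ := IsPGroup.iff_card.1 hd
    refine eq_bot_of_card_eq _ ?_
    rw [hk]
    cases k with
    | zero => rfl
    | succ k =>
      exact absurd (((dvd_pow_self p (Nat.succ_ne_zero k)).trans (hk ▸ card_subgroup_dvd_card _)).trans
        (card_range_dvd φ)) hpV
  rw [commutator_le]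
  intro v hv w hw
  have h2 : φ.rangeRestrict ⁅(⟨v, hv⟩ : V), ⟨w, hw⟩⁆ = 1 := by
    rw [map_commutatorElement, ← mem_bot, ← h1]
    exact commutator_mem_commutator (mem_top _) (mem_top _)
  have h3 : φ ⁅(⟨v, hv⟩ : V), ⟨w, hw⟩⁆ = 1 := congrArg Subtype.val h2
  have h4 : (⟨⁅v, w⁆, hVS (⁅(⟨v, hv⟩ : V), ⟨w, hw⟩⁆ : V).2⟩ : normalizer (S : Set G)) ∈
      (normalizerMonoidHom S).ker := h3
  rw [normalizerMonoidHom_ker, mem_subgroupOf] at h4
  exact h4

variable (hG : Cfsg.IsMinSimpleOddOrder G)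
include hG

/-- The complement in the normalizer of a Sylow subgroup can be taken over a given subgroup, and its fixed
points lie in the derived subgroup. -/
theorem exists_normalizer_complement {p : ℕ} [hp : Fact p.Prime] (R : Sylow p G) (hR1 : (R : Subgroup G) ≠ ⊥)
    {X : Subgroup G} (hXR : X ≤ normalizer ((R : Subgroup G) : Set G)) (hpX : ¬ p ∣ Nat.card X) :
    ∃ V : Subgroup G, V ≤ normalizer ((R : Subgroup G) : Set G) ∧ X ≤ V ∧ ¬ p ∣ Nat.card V ∧
      normalizer ((R : Subgroup G) : Set G) ≤ (R : Subgroup G) ⊔ V ∧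
      (R : Subgroup G) ⊓ centralizer (V : Set G) ≤ ⁅(R : Subgroup G), (R : Subgroup G)⁆ := by
  set N := normalizer ((R : Subgroup G) : Set G) with hN
  have hNs : Group.IsSolvable N := hG.2.2.2 N (CfsgLib.CN.MinSimple.normalizer_ne_top hG R.2.isNilpotent hR1)
  haveI := hNs
  obtain ⟨V, hV, hXV⟩ := exists_hall_over (π := {q | q ≠ p}) hNs hXR fun q _ hd => fun e => hpX (e ▸ hd)
  have hRN : (R : Subgroup G) ≤ N := le_normalizer
  have hpV : ¬ p ∣ Nat.card V := fun h => hV.2.1 p hp.out h rfl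
  set R₀ := (R : Subgroup G).subgroupOf N
  set V₀ := V.subgroupOf N
  haveI : R₀.Normal := (normal_subgroupOf_iff_le_normalizer hRN).2 le_rfl
  have hcop : (Nat.card (R : Subgroup G)).Coprime (Nat.card V) := Excep.coprime_of_pgroup R.2 hpV
  have hcard : Nat.card R₀ * Nat.card V₀ = Nat.card N := by
    rw [Nat.card_congr (subgroupOfEquivOfLe hRN).toEquiv, Nat.card_congr (subgroupOfEquivOfLe hV.1).toEquiv]
    refine Nat.dvd_antisymm (hcop.mul_dvd_of_dvd_of_dvd (card_dvd_of_le hRN) (card_dvd_of_le hV.1)) ?_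
    have hR' : ¬ p ∣ (R : Subgroup G).relIndex N := fun h =>
      R.not_dvd_index (h.trans (Dvd.intro _ (relIndex_mul_index hRN)))
    rw [← CfsgLib.InvariantHall.relIndex_mul_card hRN]
    refine mul_dvd_mul_left _ ((Nat.Coprime.dvd_mul_right ?_).1 ((dvd_mul_left ((R : Subgroup G).relIndex N)
      (Nat.card (R : Subgroup G))).trans (dvd_of_eq
      (by rw [CfsgLib.InvariantHall.relIndex_mul_card hRN, ← CfsgLib.InvariantHall.relIndex_mul_card hV.1]))))
    refine Nat.coprime_of_dvd fun q hq h1 h2 => hV.2.2 q hq (fun e => hR' (e ▸ h1)) h2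
  have hc : Subgroup.IsComplement' R₀ V₀ := Subgroup.isComplement'_of_coprime hcard (by
    rw [Nat.card_congr (subgroupOfEquivOfLe hRN).toEquiv, Nat.card_congr (subgroupOfEquivOfLe hV.1).toEquiv]
    exact hcop)
  have hle : N ≤ (R : Subgroup G) ⊔ V := by
    have h := congrArg (Subgroup.map N.subtype) hc.sup_eq_top
    rw [Subgroup.map_sup, map_subgroupOf_eq_of_le hRN, map_subgroupOf_eq_of_le hV.1,
      ← MonoidHom.range_eq_map, range_subtype] at h
    exact h.ge
  refine ⟨V, hV.1, hXV, hpV, hle, fun x hx => ?_⟩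
  have hcompl : Cfsg.IsComplIn (R : Subgroup G) V N := by
    refine ⟨hRN, hV.1, disjoint_iff.1 (disjoint_of_coprime_natCard hcop), fun m hm => ?_⟩
    have hm' := hle hm
    rw [sup_comm] at hm'
    obtain ⟨v, hv, r, hr, rfl⟩ := (CfsgLib.Solvable.mem_sup_of_le_normalizer hV.1).1 hm'
    exact ⟨v * r * v⁻¹, (mem_normalizer_iff.1 (hV.1 hv) r).1 hr, v, hv, by group⟩
  have hder : R₀ ≤ commutator N := by
    intro r hr
    have h := (PLenOne.sylow_commutator hG R hcompl).2 hr
    rw [← map_subtype_commutator] at h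
    obtain ⟨y, hy, e⟩ := h
    exact (N.subtype_injective e) ▸ hy
  have hcop' : (Nat.card R₀).Coprime R₀.index := by
    rw [hc.symm.index_eq_card, Nat.card_congr (subgroupOfEquivOfLe hRN).toEquiv,
      Nat.card_congr (subgroupOfEquivOfLe hV.1).toEquiv]
    exact hcop
  have h := ((Cfsg.Agent.S1459.result (G := N)).1 R₀ V₀ inferInstance hcop' hc hder).2
    (show (⟨x, hRN hx.1⟩ : N) ∈ R₀ ⊓ centralizer (V₀ : Set N) from ⟨hx.1, mem_centralizer_iff.2 fun v hv =>
      Subtype.ext (mem_centralizer_iff.1 hx.2 v hv)⟩)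
  have h' := mem_map_of_mem N.subtype h
  rwa [map_commutator, map_subgroupOf_eq_of_le hRN] at h'

/-- Over the normalizer of a line of a prime in `τ₂(L)` an element without fixed points in `L_σ` fixing the
line centralizes the rank-two subgroup. -/
theorem fpf_centralizes_plane {L F A : Subgroup G} {p t : ℕ} [hp : Fact p.Prime] [ht : Fact t.Prime]
    (hL : IsCoatom L) (hF : Cfsg.IsComplIn F (Cfsg.sigmaCore L) L) (hpτ : p ∈ Cfsg.tau2 L)
    (hA : Cfsg.IsElementaryAbelian p A) (hA2 : Nat.card A = p ^ 2) (hAF : A ≤ F) {u y : G} (hu : u ∈ A)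
    (huo : orderOf u = p) (hNu : normalizer (zpowers u : Set G) ≤ L) (hy : y ∈ F) (hyo : orderOf y = t)
    (htp : t ≠ p) (huy : Commute u y) (hfix : Cfsg.sigmaCore L ⊓ centralizer ({y} : Set G) = ⊥) :
    y ∈ centralizer (A : Set G) := by
  classical
  by_contra hne
  obtain ⟨-, hpσ, hr2, hr1⟩ := id hpτ
  have hAL : A ≤ L := hAF.trans hF.1
  have hmax := (Cfsg.Agent.S1408.result hG L hL p hpσ hr2 hr1).2 A hAL hA hA2
  obtain ⟨⟨hFA, -⟩, -, -⟩ := Cfsg.Agent.S1418.result hG L hL F hF p hpτ A ⟨hAF, hA, hA2⟩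
  haveI := hA.1
  set K := Cfsg.sigmaCore L with hK
  have hYA : zpowers y ≤ normalizer (A : Set G) := zpowers_le.2 (hFA hy)
  have hcopA : (Nat.card (zpowers y)).Coprime (Nat.card A) := by
    rw [Nat.card_zpowers, hyo, hA2]
    exact ((Nat.coprime_primes ht.out hp.out).2 htp).pow_right 2
  set W := ⁅A, zpowers y⁆ with hW
  have hWA : W ≤ A := le_normalizer_iff_commutator_le_left.1 hYA
  have hWy : W ⊓ centralizer ({y} : Set G) = ⊥ := by
    refine le_bot_iff.1 (le_trans ?_ (CfsgLib.CoprimeAct.fixed_inf_commutator_abelian hYA hcopA).le)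
    exact le_inf (le_inf (inf_le_left.trans hWA) (inf_le_right.trans (FixedLine.le_centralizer_zpowers le_rfl)))
      inf_le_left
  have hW1 : W ≠ ⊥ := fun e => hne ((le_centralizer_iff.1 (commutator_eq_bot_iff_le_centralizer.1 e))
    (mem_zpowers y))
  have hKs : Group.IsSolvable K := solvable_le hG hL (map_subtype_le _)
  have hFσ := (Compl.card_eq hG hL hF).2.2
  have htσ : t ∉ Cfsg.sigma L := hFσ t ht.out
    (hyo ▸ (by rw [← Nat.card_zpowers]; exact card_dvd_of_le (zpowers_le.2 hy)))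
  have hWC : W ≤ centralizer (K : Set G) := by
    refine le_centralizer_iff.1 (frobenius_kills hKs (solvable_le hG hL (sup_le (hWA.trans hAL)
      (zpowers_le.2 (hF.1 hy)))) hyo (not_dvd_core hG hL ht.out htσ)
      (Excep.coprime_of_pgroup ((IsPGroup.of_card hA2 : IsPGroup p A).to_le hWA) (not_dvd_core hG hL hp.out hpσ))
      ((hWA.trans hAL).trans (TH.le_normalizer_core L)) (TH.le_normalizer_core L (hF.1 hy))
      (normalizer_commutator_ge_right A (zpowers y) (mem_zpowers y)) hWy (hfix.le.trans bot_le))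
  obtain ⟨w, hw, hw1⟩ := (bot_or_exists_ne_one W).resolve_left hW1
  have hwu : w ∉ zpowers u := fun h => hw1 (mem_bot.1 (hWy.le ⟨hw, by
    obtain ⟨i, rfl⟩ := mem_zpowers_iff.1 h
    exact mem_centralizer_singleton_iff.2 (huy.zpow_left i).eq⟩))
  have hCA : A ⊓ centralizer ({y} : Set G) = zpowers u := by
    refine (eq_of_le_of_card_ge (le_inf (zpowers_le.2 hu)
      (zpowers_le.2 (mem_centralizer_singleton_iff.2 huy.eq))) ?_).symm
    obtain ⟨k, hk2, hk⟩ := (Nat.dvd_prime_pow hp.out).1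
      (hA2 ▸ card_dvd_of_le (inf_le_left : A ⊓ centralizer ({y} : Set G) ≤ A))
    rw [hk, Nat.card_zpowers, huo]
    have hk' : k ≠ 2 := fun e => by
      have h := eq_of_le_of_card_ge (inf_le_left : A ⊓ centralizer ({y} : Set G) ≤ A) (by rw [hk, hA2, e])
      exact hne (mem_centralizer_iff.2 fun a ha => mem_centralizer_singleton_iff.1 (h.ge ha).2)
    calc p ^ k ≤ p ^ 1 := Nat.pow_le_pow_right hp.out.pos (by omega)
      _ = p := pow_one p
  have hu1 : Nat.card (zpowers u) = p := by rw [Nat.card_zpowers, huo]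
  by_cases hab : ∀ S : Sylow p G, IsMulCommutative (S : Subgroup G)
  · obtain ⟨A', T, hA', hA'2, hT, -, hAT, hTE, hTd⟩ :=
      Tau.exists_sylow_data hG hL hF hpτ (IsPGroup.of_card hA2) hAF
    have hder := (Tau.normalizer_derived hG hL hF hpτ hA hA2 hT hAT hTE hTd hab).1
    refine Tau.not_normalizer_le hG hA hA2 hL hAL hpσ hmax fun n hn => hNu (Uniq.mem_normalizer_of_map_le ?_)
    rw [MonoidHom.map_zpowers, zpowers_le, ← hCA]
    have hnu : n * u * n⁻¹ ∈ A := (mem_normalizer_iff.1 hn u).1 hu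
    refine ⟨hnu, mem_centralizer_singleton_iff.2 ?_⟩
    have hz : n⁻¹ * y * n * y⁻¹ ∈ centralizer (A : Set G) := by
      have h := hder (commutator_mem_commutator (inv_mem hn) (hFA hy))
      rwa [commutatorElement_def, inv_inv] at h
    have h1 : Commute (n⁻¹ * y * n * y⁻¹) u := (mem_centralizer_iff.1 hz u hu).symm
    have h2 : Commute (n⁻¹ * y * n) u := by
      have := h1.mul_left huy.symm
      rwa [inv_mul_cancel_right] at this
    calc n * u * n⁻¹ * y = n * (u * (n⁻¹ * y * n)) * n⁻¹ := by group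
      _ = n * ((n⁻¹ * y * n) * u) * n⁻¹ := by rw [h2.eq]
      _ = y * (n * u * n⁻¹) := by group
  · push Not at hab
    obtain ⟨S₀, hS₀⟩ := hab
    obtain ⟨B, hBA, hB, hBeq, -, hrest⟩ := Tau.unique_good hA hA2 hG hL hAL hpσ hmax hr2 fun S hc => hS₀ (by
      haveI := hc
      exact ⟨⟨fun a b => (S₀.equiv S).injective (by rw [map_mul, map_mul]; exact mul_comm' _ _)⟩⟩)
    have hwB : w ∈ B := hBeq ▸ ⟨hWA hw, hWC hw⟩
    refine (hrest _ (zpowers_le.2 hu) hu1 fun e => hwu (e ▸ hwB)).2 ?_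
    exact (centralizer_le_normalizer _).trans hNu

end CfsgLib.OddLocal.Kap
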