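import Cfsg.Agent.OddLocal.UniquenessFirst
import Cfsg.Agent.FGSA.RankTwoAut
import Cfsg.Agent.Solvable.FpfComplement

/-!
Auxiliary facts for the uniqueness theorem: cyclic subgroups, Frattini arguments and the action
of a Frobenius group on a group of coprime order.
-/

set_option autoImplicit false
set_option linter.style.haveILetI false
set_option linter.unusedSectionVars false

namespace CfsgLib.OddLocal.UTool

open Subgroup Cfsg CfsgLib.OddLocal
open scoped commutatorElement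

universe u

variable {G : Type u} [Group G] [Finite G]

theorem normalizer_le_normalizer_map (P : Subgroup G) (H : Subgroup P) (hH : H.Characteristic) :
    normalizer (P : Set G) ≤ normalizer (H.map P.subtype : Set G) := by
  intro g hg
  refine Uniq.mem_normalizer_of_map_le ?_
  rintro _ ⟨_, ⟨z, hz, rfl⟩, rfl⟩
  exact ⟨P.normalizerMonoidHom ⟨g, hg⟩ z, characteristic_iff_le_comap.1 hH _ hz, rfl⟩

/-- The derived subgroup centralizes every normal cyclic subgroup. -/
theorem commutator_le_centralizer_cyclic {N M : Subgroup G} (hM : M ≤ normalizer (N : Set G)) (hN : IsCyclic N) :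
    ⁅M, M⁆ ≤ centralizer (N : Set G) := by
  rw [commutator_le]
  intro a ha b hb
  haveI := hN
  have h : normalizerMonoidHom N ⁅(⟨a, hM ha⟩ : normalizer (N : Set G)), ⟨b, hM hb⟩⁆ = 1 := by
    rw [map_commutatorElement, commutatorElement_eq_one_iff_mul_comm]
    exact (IsCyclic.mulAutMulEquiv N).injective (by rw [map_mul, map_mul]; exact mul_comm _ _)
  have h' : ⁅(⟨a, hM ha⟩ : normalizer (N : Set G)), ⟨b, hM hb⟩⁆ ∈ (normalizerMonoidHom N).ker := h
  rw [normalizerMonoidHom_ker, mem_subgroupOf] at h'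
  exact h'

/-- A cyclic group has one subgroup of each prime order. -/
theorem zpowers_eq_of_cyclic {C : Subgroup G} (hC : IsCyclic C) {t : ℕ} {u v : G} (hu : u ∈ C) (hv : v ∈ C)
    (hut : orderOf u = t) (hvt : orderOf v = t) : zpowers u = zpowers v := by
  haveI := hC
  have key : ∀ {x y : G} (hx : x ∈ C) (hy : y ∈ C), orderOf x = t → orderOf y = t → y ∈ zpowers x := by
    intro x y hx hy hxt hyt
    have h := CfsgLib.FpfComplement.mem_zpowers_of_cyclic (u := (⟨y, hy⟩ : C)) (v := ⟨x, hx⟩)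
      (by rw [orderOf_mk, orderOf_mk, hxt, hyt])
    obtain ⟨i, hi⟩ := mem_zpowers_iff.1 h
    exact mem_zpowers_iff.2 ⟨i, congrArg Subtype.val hi⟩
  exact le_antisymm (zpowers_le.2 (key hv hu hvt hut)) (zpowers_le.2 (key hu hv hut hvt))

theorem normalizer_le_normalizer_zpowers {C : Subgroup G} (hC : IsCyclic C) {u : G} (hu : u ∈ C) :
    normalizer (C : Set G) ≤ normalizer (zpowers u : Set G) := by
  intro g hg
  refine Uniq.mem_normalizer_of_map_le ?_
  rw [MonoidHom.map_zpowers]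
  refine (zpowers_eq_of_cyclic hC ((mem_normalizer_iff.1 hg u).1 hu) hu
    (by simpa using (MulAut.conj g).orderOf_eq u) rfl).le

/-- A subgroup of the derived subgroup of `M` lies in that of `D`, if `M` is `D` times a normal
subgroup of coprime order. -/
theorem le_commutator_of_sup {p : ℕ} [Fact p.Prime] {M O D P : Subgroup G} (hO : M ≤ normalizer (O : Set G))
    (hOc : (Nat.card O).Coprime p) (hOM : O ≤ M) (hDM : D ≤ M) (hMD : M ≤ O ⊔ D) (hP : IsPGroup p P)
    (hPD : P ≤ D) (hPM : P ≤ ⁅M, M⁆) : P ≤ ⁅D, D⁆ := by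
  intro x hx
  haveI : (O.subgroupOf M).Normal := (normal_subgroupOf_iff_le_normalizer hOM).2 hO
  let f : M →* M ⧸ O.subgroupOf M := QuotientGroup.mk' _
  have hDtop : (D.subgroupOf M).map f = (⊤ : Subgroup M).map f := by
    refine le_antisymm (map_mono le_top) (map_le_map_iff.2 ?_)
    rw [QuotientGroup.ker_mk', sup_comm, ← subgroupOf_sup hOM hDM, subgroupOf_eq_top.2 hMD]
  have hDM' : (D.subgroupOf M).map M.subtype = D := map_subgroupOf_eq_of_le hDM
  have hMM : (⊤ : Subgroup M).map M.subtype = M := by rw [← MonoidHom.range_eq_map, range_subtype]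
  have hxM := hPM hx
  rw [← hMM, ← map_commutator] at hxM
  obtain ⟨y, hy, rfl⟩ := hxM
  have hy' : f y ∈ (⁅D.subgroupOf M, D.subgroupOf M⁆).map f := by
    rw [map_commutator, hDtop, ← map_commutator]
    exact ⟨y, hy, rfl⟩
  obtain ⟨l, hl, hly⟩ := hy'
  have hlD : (l : G) ∈ ⁅D, D⁆ := by
    have h := mem_map_of_mem M.subtype hl
    rwa [map_commutator, hDM'] at h
  have hlD' : (l : G) ∈ D := commutator_le_self _ hlD
  have hk : (l : G)⁻¹ * (y : G) ∈ O := by
    have h0 : l⁻¹ * y ∈ f.ker := by rw [MonoidHom.mem_ker, map_mul, map_inv, hly, inv_mul_cancel]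
    rw [QuotientGroup.ker_mk'] at h0
    exact h0
  let g : D →* D ⧸ commutator D := QuotientGroup.mk' _
  have hgl : g ⟨l, hlD'⟩ = 1 := by
    refine (QuotientGroup.eq_one_iff _).2 ?_
    have h := hlD
    have hDD : (⊤ : Subgroup D).map D.subtype = D := by rw [← MonoidHom.range_eq_map, range_subtype]
    rw [← hDD, ← map_commutator] at h
    obtain ⟨w, hw, hwl⟩ := h
    rw [_root_.commutator_def]
    have e : (⟨l, hlD'⟩ : D) = w := Subtype.ext hwl.symm
    rw [e]
    exact hw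
  have hone : g ⟨y, hPD hx⟩ = 1 := by
    obtain ⟨k, hk'⟩ := IsPGroup.iff_card.1 hP
    refine orderOf_eq_one_iff.1 (Nat.eq_one_of_dvd_coprimes (hOc.pow_right k).symm ?_ ?_)
    · refine (orderOf_map_dvd g _).trans ?_
      rw [orderOf_mk, ← hk']
      exact P.orderOf_dvd_natCard hx
    · have e : (⟨y, hPD hx⟩ : D) = ⟨l, hlD'⟩ * ⟨(l : G)⁻¹ * y, mul_mem (inv_mem hlD') (hPD hx)⟩ :=
        Subtype.ext (by simp)
      rw [e, map_mul, hgl, one_mul]
      refine (orderOf_map_dvd g _).trans ?_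
      rw [orderOf_mk]
      exact O.orderOf_dvd_natCard hk
  have hm : (y : G) ∈ (commutator D).map D.subtype := ⟨_, (QuotientGroup.eq_one_iff _).1 hone, rfl⟩
  rwa [_root_.commutator_def, map_commutator, ← MonoidHom.range_eq_map, range_subtype] at hm

/-- The Frattini argument with a Sylow subgroup of `O_{p',p}`. -/
theorem exists_frattini {p : ℕ} [Fact p.Prime] (hG : Cfsg.IsMinSimpleOddOrder G) {L : Subgroup G} (hL : L ≠ ⊤)
    (P : Sylow p G) (hPL : (P : Subgroup G) ≤ L) {A : Subgroup G} (hA : Cfsg.IsSCN (P : Subgroup G) A) :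
    ∃ R : Subgroup G, A ≤ R ∧ R ≤ P ∧ L ≤ Uniq.coreOf p L ⊔ (L ⊓ normalizer (R : Set G)) := by
  haveI : Group.IsSolvable L := hG.2.2.2 L hL
  have hLodd : Odd (Nat.card L) := hG.1.of_dvd_nat (card_subgroup_dvd_card L)
  set PL : Sylow p L := P.subtype hPL
  have hPLmap : (PL : Subgroup L).map L.subtype = (P : Subgroup G) := map_subgroupOf_eq_of_le hPL
  set O := Cfsg.pPrimePCore p L with hO
  set N := Cfsg.pPrimeCore p L with hN
  haveI hNn : N.Normal := CfsgLib.Solvable.pPrimeCore_normal p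
  haveI hOn : O.Normal := (CfsgLib.Solvable.pCore_normal p).comap _
  set R' := (PL : Subgroup L) ⊓ O with hR'
  have hNO : N ≤ O := fun x hx => by
    show QuotientGroup.mk' N x ∈ Cfsg.pCore p (L ⧸ N)
    rw [show QuotientGroup.mk' N x = 1 from (QuotientGroup.eq_one_iff x).2 hx]
    exact one_mem _
  have hidx : ¬ p ∣ (R'.subgroupOf O).index := by
    intro h
    refine PL.not_dvd_index (h.trans ?_)
    have h1 := CfsgLib.Solvable.card_sup_mul_card_inf (A := (PL : Subgroup L)) (K := O) le_normalizer_of_normal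
    have h2 : Nat.card R' * (R'.subgroupOf O).index = Nat.card O := by
      rw [← relIndex, ← relIndex_bot_left, ← relIndex_bot_left, relIndex_mul_relIndex _ _ _ bot_le inf_le_right]
    have h3 : Nat.card ↥((PL : Subgroup L) ⊔ O) = Nat.card (PL : Subgroup L) * (R'.subgroupOf O).index := by
      refine Nat.eq_of_mul_eq_mul_right (Nat.card_pos (α := R')) ?_
      rw [hR', h1, ← hR', ← h2]; ring
    refine Nat.dvd_of_mul_dvd_mul_left (Nat.card_pos (α := (PL : Subgroup L))) ?_
    rw [← h3, card_mul_index]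
    exact card_subgroup_dvd_card _
  have hOeq : O ≤ N ⊔ R' := by
    set D := N ⊔ R'
    have hci : N.relIndex O ∣ Nat.card (Cfsg.pCore p (L ⧸ N)) := by
      have h1 := relIndex_ker (f := QuotientGroup.mk' N) O
      rw [QuotientGroup.ker_mk'] at h1
      rw [h1]
      exact card_dvd_of_le (map_comap_le _ _)
    obtain ⟨i, hi⟩ := IsPGroup.iff_card.1 (CfsgLib.Solvable.isPGroup_pCore (G := L ⧸ N) p)
    rw [hi] at hci
    refine relIndex_eq_one.1 (Nat.eq_one_of_dvd_coprimes (?_ : (p ^ i).Coprime (R'.relIndex O)) ?_ ?_)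
    · exact ((Fact.out : p.Prime).coprime_iff_not_dvd.2 hidx).pow_left i
    · refine dvd_trans ?_ hci
      rw [← relIndex_mul_relIndex N D O le_sup_left (sup_le hNO inf_le_right)]
      exact dvd_mul_left _ _
    · rw [← relIndex_mul_relIndex R' D O le_sup_right (sup_le hNO inf_le_right)]
      exact dvd_mul_left _ _
  have hfr := Sylow.normalizer_sup_eq_top
    ((PL.2.to_le inf_le_left).comap_of_injective O.subtype O.subtype_injective |>.toSylow hidx)
  change normalizer (((R'.subgroupOf O).map O.subtype : Subgroup L) : Set L) ⊔ O = ⊤ at hfr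
  rw [map_subgroupOf_eq_of_le inf_le_right] at hfr
  have hAL : A ≤ L := hA.1.trans hPL
  have hAR : A.subgroupOf L ≤ R' := by
    refine le_inf (fun x hx => (hA.1 hx : (x : G) ∈ (P : Subgroup G))) ?_
    refine CfsgLib.OddLocal.Stability.abelian_normal_le_pPrimePCore hLodd PL
      (A := A.subgroupOf L) (fun x hx => (hA.1 hx : (x : G) ∈ (P : Subgroup G))) ?_
      (fun x hx => (le_normalizer_comap L.subtype) (hA.2.1 hx))
    exact ⟨⟨fun a b => Subtype.ext (Subtype.ext
      (mem_centralizer_iff.1 ((hA.2.2.ge (mem_subgroupOf.1 b.2)).2) _ (mem_subgroupOf.1 a.2)))⟩⟩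
  refine ⟨R'.map L.subtype, (map_subgroupOf_eq_of_le hAL).ge.trans (map_mono hAR),
    (map_mono inf_le_left).trans hPLmap.le, ?_⟩
  have h' := congrArg (Subgroup.map L.subtype) hfr
  rw [Subgroup.map_sup, ← MonoidHom.range_eq_map, range_subtype] at h'
  refine h'.ge.trans (sup_le (le_sup_of_le_right (le_inf (map_subtype_le _) (le_normalizer_map L.subtype))) ?_)
  refine (map_mono hOeq).trans ?_
  rw [Subgroup.map_sup]
  exact sup_le le_sup_left (le_sup_of_le_right (le_inf (map_subtype_le _) le_normalizer))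

/-- A coprime group containing a nonabelian subgroup `⟨u, h⟩` of order `q l`, `⟨u⟩` normal, is generated by
the centralizers of `u` and of the conjugates of `h` under `⟨u⟩`. -/
theorem le_of_frobenius {t q l : ℕ} [Fact t.Prime] [Fact q.Prime] [Fact l.Prime] (hqt : q ≠ t) (hlt : l ≠ t)
    {N X : Subgroup G} (hN : IsPGroup t N) {u h : G} (hu : orderOf u = q) (hh : orderOf h = l)
    (hhu : h ∈ normalizer (zpowers u : Set G)) (hnc : ¬ Commute h u)
    (huN : u ∈ normalizer (N : Set G)) (hhN : h ∈ normalizer (N : Set G))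
    (hXu : N ⊓ centralizer ({u} : Set G) ≤ X)
    (hXh : ∀ v ∈ zpowers u, N ⊓ centralizer ({v * h * v⁻¹} : Set G) ≤ X) : N ≤ X := by
  classical
  have hqp : q.Prime := Fact.out
  have hlp : l.Prime := Fact.out
  set Γ := normalizer (N : Set G)
  set Φ := frattini N with hΦ
  haveI : Φ.Characteristic := frattini_characteristic
  obtain ⟨hcm, -⟩ := CfsgLib.PGroupBasic.commutator_pow_le_frattini hN
  letI : CommGroup (N ⧸ Φ) := { (inferInstance : Group (N ⧸ Φ)) with
    mul_comm := (Normal.quotient_commutative_iff_commutator_le.2 hcm).is_comm.comm }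
  let f : N →* N ⧸ Φ := QuotientGroup.mk' Φ
  let τ : Γ → (N ⧸ Φ →* N ⧸ Φ) := fun g =>
    QuotientGroup.map Φ Φ (normalizerMonoidHom N g).toMonoidHom
      (characteristic_iff_le_comap.1 inferInstance _)
  have hτf : ∀ (g : Γ) (y : N), τ g (f y) = f (normalizerMonoidHom N g y) := fun g y => rfl
  have hτmul : ∀ (a b : Γ) (x : N ⧸ Φ), τ (a * b) x = τ a (τ b x) := by
    intro a b x
    obtain ⟨y, rfl⟩ := QuotientGroup.mk'_surjective Φ x
    show τ (a * b) (f y) = τ a (τ b (f y))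
    rw [hτf, hτf, hτf, map_mul]
    rfl
  set U : Γ := ⟨u, huN⟩
  set H : Γ := ⟨h, hhN⟩
  set S := (X.subgroupOf N).map f with hS
  have hvΓ : ∀ v ∈ zpowers u, v ∈ Γ := fun v hv => zpowers_le.2 huN hv
  -- fixed points lift
  have hlift : ∀ g : Γ, (∃ r : ℕ, r.Prime ∧ r ≠ t ∧ orderOf (g : G) = r) →
      N ⊓ centralizer ({(g : G)} : Set G) ≤ X → ∀ x, τ g x = x → x ∈ S := by
    rintro g ⟨r, hr, hrt, hgr⟩ hgX x hx
    haveI := Fact.mk hr
    obtain ⟨y, rfl⟩ := QuotientGroup.mk'_surjective Φ x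
    set ΦG := Φ.map N.subtype
    have hcop : (Nat.card (zpowers (g : G))).Coprime (Nat.card N) :=
      IsPGroup.coprime_card_of_ne r t hrt _ _ (IsPGroup.of_card (n := 1) (by rw [Nat.card_zpowers, hgr, pow_one])) hN
    have hgΦ : (g : G) ∈ normalizer (ΦG : Set G) := normalizer_le_normalizer_map N Φ inferInstance g.2
    have hfix : ∀ a ∈ zpowers (g : G), (y : G)⁻¹ * (a * y * a⁻¹) ∈ ΦG := by
      have h1 : y⁻¹ * normalizerMonoidHom N g y ∈ Φ := by
        have h2 : f (y⁻¹ * normalizerMonoidHom N g y) = 1 := by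
          rw [map_mul, map_inv, ← hτf, show τ g (f y) = f y from hx, inv_mul_cancel]
        exact (QuotientGroup.eq_one_iff _).1 h2
      have hbase : (y : G)⁻¹ * ((g : G) * y * (g : G)⁻¹) ∈ ΦG := ⟨_, h1, rfl⟩
      intro a ha
      obtain ⟨i, rfl⟩ := (mem_zpowers_iff_mem_range_orderOf.1 ha |> Finset.mem_image.1).imp fun i hi => hi.2.symm
      induction i with
      | zero => simp
      | succ i ih =>
        have h3 := (mem_normalizer_iff.1 hgΦ _).1 (ih (pow_mem (mem_zpowers _) i))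
        have h4 := mul_mem hbase h3
        have e : (y : G)⁻¹ * ((g : G) ^ (i + 1) * y * ((g : G) ^ (i + 1))⁻¹) = (y : G)⁻¹ * ((g : G) * y * (g : G)⁻¹) *
            ((g : G) * ((y : G)⁻¹ * ((g : G) ^ i * y * ((g : G) ^ i)⁻¹)) * (g : G)⁻¹) := by
          rw [pow_succ']
          group
        rw [e]
        exact h4
    obtain ⟨c, hc, hcy⟩ := CfsgLib.CoprimeAct.exists_centralizing_mem_coset (zpowers_le.2 g.2) hcop
      (map_subtype_le Φ) (zpowers_le.2 hgΦ) (Or.inr (by
        haveI := (hN.to_le (map_subtype_le Φ)).isNilpotent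
        infer_instance)) y.2 hfix
    refine ⟨⟨c, hc.1⟩, hgX ⟨hc.1, mem_centralizer_singleton_iff.2
      (mem_centralizer_iff.1 hc.2 (g : G) (mem_zpowers _)).symm⟩, ?_⟩
    obtain ⟨z, hz, hzy⟩ := hcy
    have e : (⟨c, hc.1⟩ : N) = y * z := Subtype.ext (by
      show c = (y : G) * (z : G)
      rw [show (z : G) = (y : G)⁻¹ * c from hzy, mul_inv_cancel_left])
    rw [e, map_mul, show f z = 1 from (QuotientGroup.eq_one_iff z).2 hz, mul_one]
  suffices hall : ∀ y : N, f y ∈ S by
    have htop : X.subgroupOf N = ⊤ := frattini_nongenerating (eq_top_iff.2 fun y _ => by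
      obtain ⟨x, hx, hxy⟩ := hall y
      have hz : x⁻¹ * y ∈ Φ := (QuotientGroup.eq_one_iff _).1 (show f (x⁻¹ * y) = 1 by
        rw [map_mul, map_inv, hxy, inv_mul_cancel])
      have := mul_mem_sup hx hz
      rwa [mul_inv_cancel_left] at this)
    exact subgroupOf_eq_top.1 htop
  intro y
  -- the cyclic group of `u` inside `Γ`
  set Us := zpowers U
  haveI : Fintype Us := Fintype.ofFinite Us
  have hUs : ∀ v : Us, ((v : Γ) : G) ∈ zpowers u := fun v => by
    obtain ⟨i, hi⟩ := mem_zpowers_iff.1 v.2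
    exact mem_zpowers_iff.2 ⟨i, by rw [← hi]; rfl⟩
  have hHU : ∀ v : Γ, v ∈ Us → ∀ i : ℕ, H ^ i * v * (H ^ i)⁻¹ ∈ Us := by
    intro v hv i
    obtain ⟨j, rfl⟩ := mem_zpowers_iff.1 hv
    obtain ⟨k, hk⟩ := mem_zpowers_iff.1
      ((mem_normalizer_iff.1 (pow_mem hhu i) _).1 (zpow_mem (mem_zpowers u) j))
    exact mem_zpowers_iff.2 ⟨k, Subtype.ext (by simpa using hk)⟩
  let F : ℕ → Us → Us := fun i v =>
    ⟨(v : Γ) * (H ^ i * (v : Γ)⁻¹ * (H ^ i)⁻¹), mul_mem v.2 (hHU _ (inv_mem v.2) i)⟩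
  have hinner : ∀ v : Us, ∏ i ∈ Finset.range l, τ ((v : Γ) * H ^ i * (v : Γ)⁻¹) (f y) ∈ S := by
    intro v
    set g : Γ := (v : Γ) * H * (v : Γ)⁻¹ with hg
    have hgo : orderOf (g : G) = l := by
      rw [← hh]
      exact (MulAut.conj ((v : Γ) : G)).orderOf_eq h
    refine hlift g ⟨l, hlp, hlt, hgo⟩ (hXh _ (hUs v)) _ ?_
    rw [map_prod]
    have hpow : ∀ i : ℕ, (v : Γ) * H ^ i * (v : Γ)⁻¹ = g ^ i := fun i => by rw [hg, conj_pow]
    simp only [hpow, ← hτmul, ← pow_succ']
    have hgl : g ^ l = 1 := Subtype.ext (by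
      rw [SubmonoidClass.coe_pow, ← hgo, pow_orderOf_eq_one]; rfl)
    obtain ⟨l', rfl⟩ : ∃ l', l = l' + 1 := ⟨l - 1, (Nat.succ_pred_eq_of_pos hlp.pos).symm⟩
    rw [Finset.prod_range_succ (fun i => τ (g ^ (i + 1)) (f y)), Finset.prod_range_succ'
      (fun i => τ (g ^ i) (f y)), hgl, pow_zero]
  have houter : ∀ i : ℕ, ¬ l ∣ i → ∏ v : Us, τ ((v : Γ) * H ^ i * (v : Γ)⁻¹) (f y) ∈ S := by
    intro i hi
    have hFi : Function.Injective (F i) := by
      intro v w hvw
      have h1 : (v : Γ) * (H ^ i * (v : Γ)⁻¹ * (H ^ i)⁻¹) = (w : Γ) * (H ^ i * (w : Γ)⁻¹ * (H ^ i)⁻¹) :=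
        congrArg Subtype.val hvw
      have h2 : Commute ((w : Γ)⁻¹ * (v : Γ)) (H ^ i) := by
        have h3 := congrArg (fun z => (w : Γ)⁻¹ * (z * (H ^ i) * (v : Γ))) h1
        simp only [mul_assoc, inv_mul_cancel, mul_one, inv_mul_cancel_left] at h3
        show (w : Γ)⁻¹ * (v : Γ) * H ^ i = H ^ i * ((w : Γ)⁻¹ * (v : Γ))
        simpa [mul_assoc] using h3
      by_contra hne
      apply hnc
      have h4 : Commute ((((w : Γ)⁻¹ * (v : Γ) : Γ)) : G) (h ^ i) := by
        simpa [Commute, SemiconjBy] using congrArg Subtype.val h2.eq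
      set z : G := (((w : Γ)⁻¹ * (v : Γ) : Γ) : G) with hz
      have hzu : z ∈ zpowers u := by
        rw [hz]
        exact hUs (w⁻¹ * v)
      have hz1 : z ≠ 1 := fun e => hne (Subtype.ext (inv_mul_eq_one.1 (Subtype.ext e : (w : Γ)⁻¹ * (v : Γ) = 1)).symm)
      have hzgen : u ∈ zpowers z := by
        have hzq : Nat.card (zpowers z) = q := by
          rcases (Nat.dvd_prime hqp).1 ((card_dvd_of_le (zpowers_le.2 hzu)).trans (Nat.card_zpowers u ▸ hu ▸ dvd_rfl)) with e | e
          · exact absurd (zpowers_eq_bot.1 (eq_bot_of_card_eq _ e)) hz1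
          · exact e
        rw [eq_of_le_of_card_ge (zpowers_le.2 hzu) (by rw [hzq, Nat.card_zpowers, hu])]
        exact mem_zpowers u
      obtain ⟨j, hj⟩ := mem_zpowers_iff.1 hzgen
      have h5 : Commute (h ^ i) u := hj ▸ (h4.symm.zpow_right j)
      obtain ⟨m, hm⟩ := exists_pow_eq_self_of_coprime (x := h) (n := i)
        (by rw [hh]; exact (hlp.coprime_iff_not_dvd.2 hi).symm)
      exact hm ▸ h5.pow_left m
    have hbij : Function.Bijective (F i) := Finite.injective_iff_bijective.1 hFi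
    have e : ∏ v : Us, τ ((v : Γ) * H ^ i * (v : Γ)⁻¹) (f y) = ∏ v : Us, τ ((v : Γ) * H ^ i) (f y) := by
      refine Fintype.prod_bijective (F i) hbij _ _ fun v => ?_
      congr 2
      show (v : Γ) * H ^ i * (v : Γ)⁻¹ = (v : Γ) * (H ^ i * (v : Γ)⁻¹ * (H ^ i)⁻¹) * H ^ i
      group
    rw [e]
    refine hlift U ⟨q, hqp, hqt, hu⟩ hXu _ ?_
    rw [map_prod]
    refine Fintype.prod_equiv (Equiv.mulLeft (⟨U, mem_zpowers U⟩ : Us)) _ _ fun v => ?_
    rw [← hτmul, ← mul_assoc]
    rfl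
  have hcard : Fintype.card Us = q := by
    rw [← Nat.card_eq_fintype_card, Nat.card_zpowers, ← orderOf_coe]
    exact hu
  obtain ⟨l', rfl⟩ : ∃ l', l = l' + 1 := ⟨l - 1, (Nat.succ_pred_eq_of_pos hlp.pos).symm⟩
  have hswap : ∏ v : Us, ∏ i ∈ Finset.range (l' + 1), τ ((v : Γ) * H ^ i * (v : Γ)⁻¹) (f y) ∈ S :=
    prod_mem fun v _ => hinner v
  rw [Finset.prod_comm, Finset.prod_range_succ', mul_comm] at hswap
  have hrest : ∏ i ∈ Finset.range l', ∏ v : Us, τ ((v : Γ) * H ^ (i + 1) * (v : Γ)⁻¹) (f y) ∈ S := by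
    refine prod_mem fun i hi => houter (i + 1) fun hd => ?_
    have := Nat.le_of_dvd (Nat.succ_pos i) hd
    have := Finset.mem_range.1 hi
    omega
  have hq : f y ^ q ∈ S := by
    have h0 := (S.mul_mem_cancel_right hrest).1 hswap
    have hτ1 : τ 1 (f y) = f y := by rw [hτf, map_one]; rfl
    simpa [pow_zero, hτ1, Finset.prod_const, hcard] using h0
  obtain ⟨j, hj⟩ := (hN.to_quotient Φ) (f y)
  obtain ⟨m, hm⟩ := exists_pow_eq_self_of_coprime (x := f y) (n := q)
    (((Nat.coprime_primes hqp Fact.out).2 hqt).pow_right j |>.coprime_dvd_right (orderOf_dvd_of_pow_eq_one hj))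
  exact hm ▸ pow_mem hq m

/-- An elementary abelian group of order `p³` has a nontrivial element centralizing a coprime
group of rank at most two. -/
theorem exists_kernel_rank_two {p s : ℕ} [Fact p.Prime] [Fact s.Prime] (hs2 : s ≠ 2) (hsp : s ≠ p)
    {E F : Subgroup G} (hE : Cfsg.IsElementaryAbelian p E) (hE3 : Nat.card E = p ^ 3)
    (hEF : E ≤ normalizer (F : Set G)) (hF : IsPGroup s F) (hr : Cfsg.PRankLE s 2 F) :
    ∃ e ∈ E, e ≠ 1 ∧ F ≤ centralizer ({e} : Set G) := by
  obtain ⟨D, hDc, hDe, hDcard, hfaith⟩ := CfsgLib.FGSA.RankTwoAut.exists_thin hs2 hF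
    (fun B hB => hr B hB.1 hB.2)
  set D' := D.map F.subtype with hD'
  have hD'n : E ≤ normalizer (D' : Set G) := hEF.trans (normalizer_le_normalizer_map F D hDc)
  have hD'p : IsPGroup s D' := (hF.to_subgroup D).map _
  have hsp' : s.Coprime p := (Nat.coprime_primes Fact.out Fact.out).2 hsp
  suffices hker : ∃ e ∈ E, e ≠ 1 ∧ D' ≤ centralizer ({e} : Set G) by
    obtain ⟨e, he, he1, hcen⟩ := hker
    refine ⟨e, he, he1, fun x hx => ?_⟩
    have hf : normalizerMonoidHom F ⟨e, hEF he⟩ = 1 := by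
      refine hfaith _ ?_ fun d hd => Subtype.ext ?_
      · refine (hsp'.symm).coprime_dvd_left (orderOf_dvd_of_pow_eq_one ?_)
        rw [← map_pow, show (⟨e, hEF he⟩ : normalizer (F : Set G)) ^ p = 1 from Subtype.ext (hE.2 e he), map_one]
      · show e * (d : G) * e⁻¹ = d
        have h := mem_centralizer_singleton_iff.1 (hcen (mem_map_of_mem F.subtype hd))
        exact mul_inv_eq_iff_eq_mul.2 h.symm
    have := congrArg Subtype.val (DFunLike.congr_fun hf ⟨x, hx⟩)
    exact mem_centralizer_singleton_iff.2 (mul_inv_eq_iff_eq_mul.1 this).symm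
  by_contra hcon
  push Not at hcon
  have hp : p.Prime := Fact.out
  have hpD : ¬ p ∣ Nat.card D' := fun h => by
    obtain ⟨k, hk⟩ := IsPGroup.iff_card.1 hD'p
    exact hsp ((Nat.prime_dvd_prime_iff_eq hp Fact.out).1 (hp.dvd_of_dvd_pow (hk ▸ h))).symm
  -- two fixed-point pieces never generate
  have hpair : ∀ B₁ B₂ : Subgroup G, B₁ ≤ E → B₁.relIndex E ≤ p → B₂ ≤ E → B₂.relIndex E ≤ p →
      (D' ⊓ centralizer (B₁ : Set G)) ⊔ (D' ⊓ centralizer (B₂ : Set G)) < D' := by
    intro B₁ B₂ h1 i1 h2 i2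
    refine lt_of_le_of_ne (sup_le inf_le_left inf_le_left) fun heq => ?_
    have hc : ∀ B : Subgroup G, B ≤ E → B.relIndex E ≤ p → p ^ 2 ≤ Nat.card B := by
      intro B hB hi
      have hm : B.relIndex E * Nat.card B = p ^ 3 := by
        rw [← hE3, ← relIndex_bot_left, ← relIndex_bot_left, mul_comm]
        exact relIndex_mul_relIndex _ _ _ bot_le hB
      by_contra hlt
      have := Nat.mul_lt_mul_of_le_of_lt hi (not_le.1 hlt) hp.pos
      rw [hm, ← pow_succ'] at this
      exact lt_irrefl _ this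
    obtain ⟨e, he, he1⟩ : ∃ e ∈ B₁ ⊓ B₂, e ≠ 1 := by
      refine (bot_or_exists_ne_one _).resolve_left fun hb => ?_
      have hn : B₁ ≤ normalizer (B₂ : Set G) :=
        (h1.trans (CfsgLib.Signalizer.le_centralizer_of_le hE h2)).trans (centralizer_le_normalizer _)
      have hm := CfsgLib.Solvable.card_sup_mul_card_inf hn
      rw [hb, card_bot, mul_one] at hm
      have h3 : Nat.card ↥(B₁ ⊔ B₂) ≤ p ^ 3 := hE3 ▸ card_le_of_le (sup_le h1 h2)
      have h4 := Nat.mul_le_mul (hc B₁ h1 i1) (hc B₂ h2 i2)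
      rw [← hm] at h4
      have h5 : p ^ 3 < p ^ 2 * p ^ 2 := by
        rw [← pow_add]; exact Nat.pow_lt_pow_right hp.one_lt (by norm_num)
      omega
    refine hcon e (h1 he.1) he1 (heq.ge.trans (sup_le ?_ ?_))
    · exact inf_le_right.trans (centralizer_le (Set.singleton_subset_iff.2 he.1))
    · exact inf_le_right.trans (centralizer_le (Set.singleton_subset_iff.2 he.2))
  have hD'1 : D' ≠ ⊥ := fun h => by
    obtain ⟨e, he, he1⟩ := (bot_or_exists_ne_one E).resolve_left fun hb => by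
      rw [hb, card_bot] at hE3
      exact (Nat.one_lt_pow (by norm_num) hp.one_lt).ne hE3
    exact hcon e he he1 (h.le.trans bot_le)
  have hD'e : ∀ x ∈ D', x ^ s = 1 := by
    rintro _ ⟨d, hd, rfl⟩
    rw [← map_pow, hDe d hd, map_one]
  have hsmall : ∀ B₁ B₂ : Subgroup G, B₁ ≤ E → B₁.relIndex E ≤ p → B₂ ≤ E → B₂.relIndex E ≤ p →
      ∀ a ∈ D' ⊓ centralizer (B₁ : Set G), ∀ b ∈ D' ⊓ centralizer (B₂ : Set G), a * b = b * a := by
    intro B₁ B₂ h1 i1 h2 i2 a ha b hb
    have hlt := hpair B₁ B₂ h1 i1 h2 i2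
    set J := (D' ⊓ centralizer (B₁ : Set G)) ⊔ (D' ⊓ centralizer (B₂ : Set G))
    have hJp : IsPGroup s J := hD'p.to_le hlt.le
    obtain ⟨j, hj⟩ := IsPGroup.iff_card.1 hJp
    obtain ⟨d, hd⟩ := IsPGroup.iff_card.1 hD'p
    have hjd : j < d := by
      refine (Nat.pow_lt_pow_iff_right (Fact.out : s.Prime).one_lt).1 ?_
      rw [← hj, ← hd]
      exact CfsgLib.Solvable.card_lt_of_lt hlt
    have hd3 : d ≤ 3 := by
      refine (Nat.pow_le_pow_iff_right (Fact.out : s.Prime).one_lt).1 ?_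
      rw [← hd, hD', card_map_of_injective F.subtype_injective]
      exact hDcard
    haveI : IsMulCommutative J := by
      have hj2 : j ≤ 2 := by omega
      interval_cases j
      · haveI : Subsingleton J := (Nat.card_eq_one_iff_unique.1 (by simpa using hj)).1
        exact ⟨⟨fun _ _ => Subsingleton.elim _ _⟩⟩
      · haveI := isCyclic_of_prime_card (α := J) (p := s) (by simpa using hj)
        infer_instance
      · exact IsPGroup.isMulCommutative_of_card_eq_prime_sq hj
    exact setLike_mul_comm (s := J) (mem_sup_left ha) (mem_sup_right hb)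
  have hab : ∀ a ∈ D', ∀ b ∈ D', a * b = b * a := by
    have h1 : ∀ B : Subgroup G, B ≤ E → B.relIndex E ≤ p →
        D' ≤ centralizer ((D' ⊓ centralizer (B : Set G) : Subgroup G) : Set G) := fun B hB hi =>
      CfsgLib.Signalizer.le_of_forall_hyperplane hE hD'n hpD fun B' hB' hi' a ha =>
        mem_centralizer_iff.2 fun b hb => hsmall B B' hB hi hB' hi' b hb a ha
    have h2 : D' ≤ centralizer (D' : Set G) :=
      CfsgLib.Signalizer.le_of_forall_hyperplane hE hD'n hpD fun B hB hi a ha =>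
        mem_centralizer_iff.2 fun b hb => (mem_centralizer_iff.1 (h1 B hB hi hb) a ha).symm
    exact fun a ha b hb => mem_centralizer_iff.1 (h2 hb) a ha
  have hD'2 : Nat.card D' ≤ s ^ 2 := by
    have hle : D' ≤ F := map_subtype_le D
    exact Uniq.rankLE_elementary hr hle ⟨⟨⟨fun a b => Subtype.ext (hab a a.2 b b.2)⟩⟩, hD'e⟩
  obtain ⟨B₁, hB₁, hi₁, hne⟩ : ∃ B : Subgroup G, B ≤ E ∧ B.relIndex E ≤ p ∧ D' ⊓ centralizer (B : Set G) ≠ ⊥ := by
    by_contra hnone
    push Not at hnone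
    exact hD'1 (le_bot_iff.1 (CfsgLib.Signalizer.le_of_forall_hyperplane hE hD'n hpD fun B hB hi =>
      (hnone B hB hi).le))
  refine (hpair B₁ B₁ hB₁ hi₁ hB₁ hi₁).not_ge ?_
  rw [sup_idem]
  refine CfsgLib.Signalizer.le_of_forall_hyperplane hE hD'n hpD fun B hB hi => ?_
  have hlt := hpair B₁ B hB₁ hi₁ hB hi
  set C₁ := D' ⊓ centralizer (B₁ : Set G)
  set J := C₁ ⊔ (D' ⊓ centralizer (B : Set G))
  obtain ⟨j, hj⟩ := IsPGroup.iff_card.1 (hD'p.to_le hlt.le)
  obtain ⟨d, hd⟩ := IsPGroup.iff_card.1 hD'p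
  obtain ⟨c, hc⟩ := IsPGroup.iff_card.1 (hD'p.to_le (inf_le_left : C₁ ≤ D'))
  have hjd : j < d := by
    refine (Nat.pow_lt_pow_iff_right (Fact.out : s.Prime).one_lt).1 ?_
    rw [← hj, ← hd]
    exact CfsgLib.Solvable.card_lt_of_lt hlt
  have hd2 : d ≤ 2 := (Nat.pow_le_pow_iff_right (Fact.out : s.Prime).one_lt).1 (hd ▸ hD'2)
  have hc1 : c ≠ 0 := fun h => hne (eq_bot_of_card_eq _ (by rw [hc, h, pow_zero]))
  have hJ : C₁ = J := eq_of_le_of_card_ge le_sup_left (by
    rw [hj, hc]; exact Nat.pow_le_pow_right (Fact.out : s.Prime).pos (by omega))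
  rw [hJ]
  exact le_sup_right

end CfsgLib.OddLocal.UTool
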