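import Mathlib.GroupTheory.SchurZassenhaus
import Mathlib.GroupTheory.Solvable
import Mathlib.GroupTheory.Perm.Cycle.Type
import Mathlib.Algebra.GroupWithZero.Action.Basic
import Mathlib.Algebra.IsPrimePow
import Mathlib.Data.Nat.Factorization.PrimePow

set_option autoImplicit false

/-!
Solvable groups all whose elements have prime power order: at most two primes.
-/

namespace CfsgLib.OddLocal

/-- If `M⟨y⟩` is Frobenius with kernel `M` and acts fixed point freely on an abelian group, the
exponent of the latter divides `|M|`. -/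
theorem pow_card_eq_one_of_fpf {A : Type*} [CommGroup A] {T : Type*} [Group T] [Finite T]
    [MulDistribMulAction T A] (fpf : ∀ t : T, t ≠ 1 → ∀ a : A, t • a = a → a = 1)
    (M : Subgroup T) (hM : M ≠ ⊥) (y : T) (hy : y ≠ 1)
    (hn : ∀ m ∈ M, y * m * y⁻¹ ∈ M)
    (hc : ∀ m ∈ M, ∀ z ∈ Subgroup.zpowers y, z ≠ 1 → Commute m z → m = 1) (a : A) :
    a ^ Nat.card M = 1 := by
  classical
  let _ := Fintype.ofFinite T
  set R := Subgroup.zpowers y with hR
  -- orbit products vanish
  have van : ∀ S : Subgroup T, S ≠ ⊥ → ∀ b : A, ∏ s : S, (s : T) • b = 1 := by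
    intro S hS b
    obtain ⟨s₀, hs₀, hs₀1⟩ := S.bot_or_exists_ne_one.resolve_left hS
    refine fpf s₀ hs₀1 _ ?_
    rw [Finset.smul_prod']
    refine Fintype.prod_equiv (Equiv.mulLeft ⟨s₀, hs₀⟩) _ _ fun s => ?_
    rw [← mul_smul]
    rfl
  have hRn : ∀ z ∈ R, ∀ m ∈ M, z * m * z⁻¹ ∈ M := by
    have hy' : y ∈ Subgroup.normalizer (M : Set T) := by
      refine Subgroup.mem_normalizer_iff_map_conj_eq.2 (Subgroup.eq_of_le_of_card_ge ?_ ?_)
      · rintro _ ⟨m, hm, rfl⟩; simpa using hn m hm
      · rw [Subgroup.card_map_of_injective (MulAut.conj y).injective]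
    intro z hz m hm
    exact (Subgroup.mem_normalizer_iff.1 (Subgroup.zpowers_le.2 hy' hz) m).1 hm
  have hRne : R ≠ ⊥ := by rwa [Ne, hR, Subgroup.zpowers_eq_bot]
  -- first evaluation
  have h1 : ∏ z : R, ∏ m : M, ((m : T) * z * (m : T)⁻¹) • a = 1 := by
    rw [Finset.prod_comm]
    refine Finset.prod_eq_one fun m _ => ?_
    have : ∀ z : R, ((m : T) * z * (m : T)⁻¹) • a = (m : T) • ((z : T) • ((m : T)⁻¹ • a)) :=
      fun z => by rw [mul_smul, mul_smul]
    rw [Fintype.prod_congr _ _ this, ← Finset.smul_prod', van R hRne, smul_one]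
  -- second evaluation
  rw [← Finset.mul_prod_erase _ _ (Finset.mem_univ (1 : R))] at h1
  have hrest : ∏ z ∈ Finset.univ.erase (1 : R), ∏ m : M, ((m : T) * z * (m : T)⁻¹) • a = 1 := by
    refine Finset.prod_eq_one fun z hz => ?_
    have hz1 : (z : T) ≠ 1 := fun h => (Finset.ne_of_mem_erase hz) (Subtype.ext h)
    let f : M → M := fun m => ⟨(m : T) * ((z : T) * (m : T)⁻¹ * (z : T)⁻¹),
      mul_mem m.2 (hRn z z.2 _ (inv_mem m.2))⟩
    have hf : Function.Injective f := by
      intro m m' h
      have h' : (m : T) * ((z : T) * (m : T)⁻¹ * (z : T)⁻¹) = (m' : T) * ((z : T) * (m' : T)⁻¹ * (z : T)⁻¹) :=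
        congrArg Subtype.val h
      have hcomm : Commute ((m' : T)⁻¹ * m) z := by
        show _ * _ = _ * _
        rw [← mul_assoc, ← mul_assoc, ← mul_assoc, ← mul_assoc, mul_left_inj] at h'
        calc (m' : T)⁻¹ * m * z = (m' : T)⁻¹ * ((m : T) * z * (m : T)⁻¹) * m := by group
          _ = (m' : T)⁻¹ * ((m' : T) * z * (m' : T)⁻¹) * m := by rw [h']
          _ = z * ((m' : T)⁻¹ * m) := by group
      have := hc _ (mul_mem (inv_mem m'.2) m.2) z z.2 hz1 hcomm
      exact Subtype.ext (inv_mul_eq_one.1 this).symm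
    have hval : ∀ m : M, ((m : T) * z * (m : T)⁻¹) • a = ((f m : T)) • ((z : T) • a) := fun m => by
      rw [← mul_smul]; congr 1
      show _ = (m : T) * ((z : T) * (m : T)⁻¹ * (z : T)⁻¹) * (z : T)
      group
    rw [Fintype.prod_congr _ _ hval,
      Fintype.prod_equiv (Equiv.ofBijective f ⟨hf, Finite.surjective_of_injective hf⟩)
        (fun m => ((f m : T)) • ((z : T) • a)) (fun m => (m : T) • ((z : T) • a)) fun m => rfl]
    exact van M hM _
  rw [hrest, mul_one] at h1
  simpa [Finset.prod_const, Nat.card_eq_fintype_card] using h1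

/-- A non-trivial finite solvable group has a non-trivial normal abelian subgroup of prime exponent. -/
theorem exists_normal_prime_exponent (G : Type*) [Group G] [Finite G] [Group.IsSolvable G]
    [Nontrivial G] :
    ∃ (p : ℕ) (N : Subgroup G), p.Prime ∧ N.Normal ∧ N ≠ ⊥ ∧ (∀ a ∈ N, a ^ p = 1) ∧
      ∀ a ∈ N, ∀ b ∈ N, a * b = b * a := by
  classical
  have h := ‹Group.IsSolvable G›.solvable
  let n := Nat.find h
  have hn := Nat.find_spec h
  have hn0 : n ≠ 0 := fun h0 => by
    rw [show Nat.find h = 0 from h0, derivedSeries_zero] at hn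
    exact top_ne_bot hn
  obtain ⟨k, hk⟩ := Nat.exists_eq_succ_of_ne_zero hn0
  have hA : derivedSeries G k ≠ ⊥ := Nat.find_min h (show k < n by omega)
  have hAA : ∀ a ∈ derivedSeries G k, ∀ b ∈ derivedSeries G k, a * b = b * a := by
    intro a ha b hb
    have := Subgroup.commutator_mem_commutator ha hb
    rw [← derivedSeries_succ, ← Nat.succ_eq_add_one, ← hk, hn, Subgroup.mem_bot,
      commutatorElement_eq_one_iff_mul_comm] at this
    exact this
  have hcard : Nat.card (derivedSeries G k) ≠ 1 := fun h1 => hA (Subgroup.card_eq_one.1 h1)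
  have := Fact.mk (Nat.minFac_prime hcard)
  obtain ⟨x, hx⟩ := exists_prime_orderOf_dvd_card' _ (Nat.minFac_dvd (Nat.card (derivedSeries G k)))
  set p := (Nat.card (derivedSeries G k)).minFac
  let N : Subgroup G :=
    { carrier := {a | a ∈ derivedSeries G k ∧ a ^ p = 1}
      one_mem' := ⟨one_mem _, one_pow _⟩
      mul_mem' := fun {a b} ha hb => ⟨mul_mem ha.1 hb.1, by
        rw [(show Commute a b from hAA a ha.1 b hb.1).mul_pow, ha.2, hb.2, one_mul]⟩
      inv_mem' := fun {a} ha => ⟨inv_mem ha.1, by rw [inv_pow, ha.2, inv_one]⟩ }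
  refine ⟨p, N, Fact.out, ⟨fun a ha g => ⟨(derivedSeries_normal G k).conj_mem a ha.1 g, ?_⟩⟩, ?_,
    fun a ha => ha.2, fun a ha b hb => hAA a ha.1 b hb.1⟩
  · rw [conj_pow, ha.2, mul_one, mul_inv_cancel]
  · intro hN
    have hxN : (x : G) ∈ N := ⟨x.2, by rw [← SubgroupClass.coe_pow, ← hx, pow_orderOf_eq_one]; rfl⟩
    rw [hN, Subgroup.mem_bot] at hxN
    have : orderOf x = 1 := orderOf_eq_one_iff.2 (Subtype.ext hxN)
    exact (Fact.out : p.Prime).one_lt.ne' (hx ▸ this)

theorem not_commute_of_coprime {G : Type*} [Group G] (h : ∀ g : G, IsPrimePow (orderOf g) ∨ g = 1)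
    {a b : G} (ha : a ≠ 1) (hb : b ≠ 1) (hco : (orderOf a).Coprime (orderOf b)) : ¬ Commute a b := by
  intro hc
  have ho := hc.orderOf_mul_eq_mul_orderOf_of_coprime hco
  have ha' : orderOf a ≠ 1 := fun e => ha (orderOf_eq_one_iff.1 e)
  have hb' : orderOf b ≠ 1 := fun e => hb (orderOf_eq_one_iff.1 e)
  rcases h (a * b) with hp | hp
  · rw [ho] at hp
    rcases (Nat.Coprime.isPrimePow_dvd_mul hco hp).1 dvd_rfl with e | e
    · rcases Nat.eq_zero_or_pos (orderOf a) with h0 | h0
      · rw [h0, Nat.coprime_zero_left] at hco; exact hb' hco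
      · have := Nat.le_of_dvd h0 e
        have : orderOf b ≤ 1 := Nat.le_of_mul_le_mul_left (by omega) h0
        rcases Nat.eq_zero_or_pos (orderOf b) with h1 | h1
        · rw [h1, Nat.coprime_zero_right] at hco; exact ha' hco
        · omega
    · rcases Nat.eq_zero_or_pos (orderOf b) with h0 | h0
      · rw [h0, Nat.coprime_zero_right] at hco; exact ha' hco
      · have := Nat.le_of_dvd h0 e
        have : orderOf a ≤ 1 := Nat.le_of_mul_le_mul_right (by omega) h0
        rcases Nat.eq_zero_or_pos (orderOf a) with h1 | h1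
        · rw [h1, Nat.coprime_zero_left] at hco; exact hb' hco
        · omega
  · rw [hp, orderOf_one] at ho
    exact ha' (Nat.eq_one_of_mul_eq_one_right ho.symm)

/-- A finite solvable group whose elements have prime power order has at most two prime divisors. -/
theorem card_primeFactors_le_two (G : Type*) [Group G] [Finite G] [Group.IsSolvable G]
    (h : ∀ g : G, IsPrimePow (orderOf g) ∨ g = 1) : (Nat.card G).primeFactors.card ≤ 2 := by
  suffices ∀ (n : ℕ) (G : Type _) [Group G] [Finite G] [Group.IsSolvable G], Nat.card G = n →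
      (∀ g : G, IsPrimePow (orderOf g) ∨ g = 1) → (Nat.card G).primeFactors.card ≤ 2 from
    this _ G rfl h
  intro n
  induction n using Nat.strongRecOn with
  | ind n ih => ?_
  intro G _ _ _ hn h
  rcases subsingleton_or_nontrivial G with hG | hG
  · simp [Nat.card_unique]
  obtain ⟨p, N, hp, hN, hN1, hNp, hNab⟩ := exists_normal_prime_exponent G
  have hN2 : 1 < Nat.card N := N.one_lt_card_iff_ne_bot.2 hN1
  have hcard := N.card_mul_index
  have hidx : N.index < n := by
    rw [← hn, ← hcard]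
    exact lt_mul_left (Nat.pos_of_ne_zero Subgroup.index_ne_zero_of_finite) hN2
  have hq : ∀ g : G ⧸ N, IsPrimePow (orderOf g) ∨ g = 1 := by
    intro g
    obtain ⟨g, rfl⟩ := QuotientGroup.mk_surjective g
    rcases h g with hg | rfl
    · by_cases h1 : orderOf (g : G ⧸ N) = 1
      · exact Or.inr (orderOf_eq_one_iff.1 h1)
      · exact Or.inl (hg.dvd (orderOf_map_dvd (QuotientGroup.mk' N) g) h1)
    · exact Or.inr rfl
  have ihN := ih _ hidx (G ⧸ N) rfl hq
  rw [← N.index_eq_card] at ihN
  have hNpg : IsPGroup p N := fun a => ⟨1, Subtype.ext (by simpa using hNp a a.2)⟩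
  have := Fact.mk hp
  obtain ⟨e, he⟩ := IsPGroup.iff_card.1 hNpg
  have he0 : e ≠ 0 := by rintro rfl; rw [pow_zero] at he; omega
  have hpf : (Nat.card G).primeFactors = insert p N.index.primeFactors := by
    rw [← hcard, he, Nat.primeFactors_mul (pow_ne_zero _ hp.ne_zero) Subgroup.index_ne_zero_of_finite,
      Nat.primeFactors_prime_pow he0 hp, Finset.insert_eq]
  by_cases hpI : p ∈ N.index.primeFactors
  · rw [hpf, Finset.insert_eq_of_mem hpI]; exact ihN
  by_contra hlt
  rw [hpf, Finset.card_insert_of_notMem hpI] at hlt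
  have hpd : ¬ p ∣ N.index := fun hd => hpI
    (Nat.mem_primeFactors.2 ⟨hp, hd, Subgroup.index_ne_zero_of_finite⟩)
  have hco : (Nat.card N).Coprime N.index := by
    rw [he]; exact Nat.Coprime.pow_left _ (hp.coprime_iff_not_dvd.2 hpd)
  obtain ⟨K, hK⟩ := Subgroup.exists_right_complement'_of_coprime hco
  have hKcard : Nat.card K = N.index := hK.symm.index_eq_card.symm
  have : Nontrivial K := by
    rw [← Finite.one_lt_card_iff_nontrivial, hKcard]
    by_contra h1
    have h2 : 0 < N.index := Nat.pos_of_ne_zero Subgroup.index_ne_zero_of_finite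
    rw [show N.index = 1 by omega, Nat.primeFactors_one, Finset.card_empty] at hlt
    omega
  obtain ⟨q, M, hqp, hM, hM1, hMq, -⟩ := exists_normal_prime_exponent K
  obtain ⟨r, hr, hrq⟩ : ∃ r ∈ N.index.primeFactors, r ≠ q := by
    by_contra hall
    push Not at hall
    have := Finset.card_le_card (fun r hr => Finset.mem_singleton.2 (hall r hr) :
      N.index.primeFactors ⊆ {q})
    simp at this; omega
  obtain ⟨hrp, hrd, -⟩ := Nat.mem_primeFactors.1 hr
  have := Fact.mk hrp
  obtain ⟨y, hy⟩ := exists_prime_orderOf_dvd_card' (G := K) r (hKcard ▸ hrd)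
  let _ : CommGroup N := { (inferInstance : Group N) with
    mul_comm := fun a b => Subtype.ext (hNab a a.2 b b.2) }
  let φ : K →* MulAut N := MulAut.conjNormal.comp K.subtype
  let _ : MulDistribMulAction K N := MulDistribMulAction.compHom N φ
  have hsmul : ∀ (t : K) (a : N), ((t • a : N) : G) = (t : G) * a * (t : G)⁻¹ := fun t a => rfl
  have hy1 : y ≠ 1 := fun e => hrp.one_lt.ne (by rw [← hy, e, orderOf_one])
  have key := pow_card_eq_one_of_fpf (A := N) (T := K) ?_ M hM1 y hy1 (fun m hm => hM.conj_mem m hm y) ?_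
  · obtain ⟨a, ha, ha1⟩ := N.bot_or_exists_ne_one.resolve_left hN1
    have hk : a ^ Nat.card M = 1 := congrArg Subtype.val (key ⟨a, ha⟩)
    have hMc : ¬ p ∣ Nat.card M := fun hd => hpd
      (hKcard ▸ hd.trans (Subgroup.card_subgroup_dvd_card M))
    apply ha1
    rw [← pow_one a, ← (hp.coprime_iff_not_dvd.2 hMc).gcd_eq_one]
    exact pow_gcd_eq_one.2 ⟨hNp a ha, hk⟩
  · intro t ht a hta
    by_contra ha
    have e : (t : G) * a * (t : G)⁻¹ = a := (hsmul t a).symm.trans (congrArg Subtype.val hta)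
    refine not_commute_of_coprime h (a := (t : G)) (b := (a : G)) (fun e => ht (Subtype.ext e))
      (fun e => ha (Subtype.ext e)) ?_ (mul_inv_eq_iff_eq_mul.1 e)
    refine Nat.Coprime.of_dvd (Subgroup.orderOf_coe t ▸ orderOf_dvd_natCard t)
      (orderOf_dvd_of_pow_eq_one (hNp a a.2)) ?_
    rw [hKcard]
    exact (hp.coprime_iff_not_dvd.2 hpd).symm
  · intro m hm z hz hz1 hcomm
    by_contra hm1
    refine not_commute_of_coprime h (a := (m : G)) (b := (z : G)) (fun e => hm1 (Subtype.ext e))
      (fun e => hz1 (Subtype.ext e)) ?_ (congrArg Subtype.val hcomm)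
    rw [Subgroup.orderOf_coe, Subgroup.orderOf_coe]
    refine Nat.Coprime.of_dvd (orderOf_dvd_of_pow_eq_one (hMq m hm))
      ((hy ▸ Nat.card_zpowers y) ▸ (show orderOf z ∣ Nat.card (Subgroup.zpowers y) from
        Subgroup.orderOf_dvd_natCard _ hz)) ((Nat.coprime_primes hqp hrp).2 (Ne.symm hrq))

end CfsgLib.OddLocal
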