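import Cfsg.Agent.OddLocal.CNQuotient

/-!
Maximal nilpotent subgroups of CN-groups.
-/

set_option autoImplicit false
set_option linter.style.haveILetI false
set_option linter.unusedSectionVars false

namespace CfsgLib.CN

open Subgroup

variable {G : Type*} [Group G]

/-- A nilpotent subgroup contained in no larger one. -/
def MaxNilp (H : Subgroup G) : Prop :=
  Group.IsNilpotent H ∧ ∀ L : Subgroup G, Group.IsNilpotent L → H ≤ L → L = H

theorem nilpotent_zpowers (x : G) : Group.IsNilpotent (zpowers x) :=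
  letI : CommGroup (zpowers x) :=
    { (inferInstance : Group (zpowers x)) with
      mul_comm := fun a b => setLike_mul_comm a.2 b.2 |> Subtype.ext }
  CommGroup.isNilpotent

theorem mem_map_conj {H : Subgroup G} {g x : G} :
    x ∈ H.map (MulAut.conj g).toMonoidHom ↔ g⁻¹ * x * g ∈ H := by
  constructor
  · rintro ⟨y, hy, rfl⟩
    simpa [mul_assoc] using hy
  · exact fun h => ⟨_, h, by simp [mul_assoc]⟩

variable [Finite G]

theorem exists_maxNilp_ge {K : Subgroup G} (hK : Group.IsNilpotent K) :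
    ∃ H : Subgroup G, MaxNilp H ∧ K ≤ H := by
  obtain ⟨H, hKH, hH⟩ := Finite.exists_le_maximal (p := fun L : Subgroup G => Group.IsNilpotent L) hK
  exact ⟨H, ⟨hH.1, fun L hL hle => le_antisymm (hH.2 hL hle) hle⟩, hKH⟩

theorem MaxNilp.ne_bot [Nontrivial G] {H : Subgroup G} (hH : MaxNilp H) : H ≠ ⊥ := by
  intro h
  obtain ⟨x, hx⟩ := exists_ne (1 : G)
  exact hx (zpowers_eq_bot.1 ((hH.2 _ (nilpotent_zpowers x) (h ▸ bot_le)).trans h))

theorem MaxNilp.conj {H : Subgroup G} (hH : MaxNilp H) (g : G) :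
    MaxNilp (H.map (MulAut.conj g).toMonoidHom) := by
  refine ⟨nilpotent_map hH.1 _, fun L hL hle => le_antisymm ?_ hle⟩
  have h := hH.2 (L.map (MulAut.conj g⁻¹).toMonoidHom) (nilpotent_map hL _) (fun x hx => by
    rw [mem_map_conj]
    exact hle (mem_map_conj.2 (by simpa [mul_assoc] using hx)))
  intro x hx
  rw [mem_map_conj, ← h, mem_map_conj]
  simpa [mul_assoc] using hx

omit [Finite G] in
theorem exists_central {H : Subgroup G} (hH : Group.IsNilpotent H) (hne : H ≠ ⊥) :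
    ∃ z ∈ H, z ≠ 1 ∧ ∀ h ∈ H, Commute h z := by
  haveI := hH
  haveI : Nontrivial H := (nontrivial_iff_ne_bot H).2 hne
  have htop : (⊤ : Subgroup H) ≠ ⊥ := top_ne_bot
  obtain ⟨z, hz, hz1⟩ :=
    (Subgroup.bot_or_exists_ne_one _).resolve_left (CfsgLib.PGroupBasic.inf_center_ne_bot _ htop)
  exact ⟨z, z.2, fun e => hz1 (Subtype.ext e), fun h hh => congrArg Subtype.val (mem_center_iff.1 hz.2 ⟨h, hh⟩)⟩

theorem centralizer_eq {H : Subgroup G} (hCN : Cfsg.IsCNGroup G) (hH : MaxNilp H) {z : G}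
    (hz1 : z ≠ 1) (hz : ∀ h ∈ H, Commute h z) : centralizer ({z} : Set G) = H :=
  hH.2 _ (hCN z hz1) fun h hh => mem_centralizer_singleton_iff.2 (hz h hh).eq

/-- An element of a centralizer commuting with a suitable central element lies in `H`. -/
theorem mem_of_coprime_central {H : Subgroup G} (hCN : Cfsg.IsCNGroup G) (hH : MaxNilp H) {x z c : G}
    (hx : x ∈ H) (hx1 : x ≠ 1) (hz1 : z ≠ 1) (hz : ∀ h ∈ H, Commute h z)
    (hc : c ∈ centralizer ({x} : Set G)) (hco : (orderOf c).Coprime (orderOf z)) : c ∈ H := by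
  rw [← centralizer_eq hCN hH hz1 hz]
  exact mem_centralizer_singleton_iff.2
    (commute_in (hCN x hx1) hc (mem_centralizer_singleton_iff.2 (hz x hx).symm.eq) hco).eq

/-- `H` is the union of the centralizers of its non-identity elements. -/
def CentLe (H : Subgroup G) : Prop :=
  ∀ x ∈ H, x ≠ 1 → centralizer ({x} : Set G) ≤ H

theorem centLe_of_not_isPrimePow {H : Subgroup G} (hCN : Cfsg.IsCNGroup G) (hH : MaxNilp H)
    (hpp : ¬ IsPrimePow (Nat.card H)) : CentLe H := by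
  intro x hx hx1
  refine CfsgLib.FGSA.le_of_prime_power_mem fun r hr c hc hck => ?_
  have h1 : Nat.card H ≠ 1 := fun e => hx1 (by rwa [eq_bot_of_card_eq _ e, mem_bot] at hx)
  obtain ⟨q, hq, hqd, hqr⟩ : ∃ q : ℕ, q.Prime ∧ q ∣ Nat.card H ∧ q ≠ r := by
    by_contra hcon
    push Not at hcon
    refine hpp ((isPrimePow_nat_iff _).2 ?_)
    obtain ⟨k, hk⟩ : ∃ k, Nat.card H = r ^ k := ⟨_, Nat.eq_prime_pow_of_unique_prime_dvd Nat.card_pos.ne'
      fun {d} hd hdd => hcon d hd hdd⟩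
    exact ⟨r, k, hr, Nat.pos_of_ne_zero (fun e => h1 (by rw [hk, e, pow_zero])), hk.symm⟩
  haveI := Fact.mk hq
  haveI := hH.1
  obtain ⟨Q⟩ := (inferInstance : Nonempty (Sylow q H))
  haveI : (Q : Subgroup H).Normal :=
    Q.normal_of_normalizerCondition Group.normalizerCondition_of_isNilpotent
  obtain ⟨z, hz, hz1⟩ := (Subgroup.bot_or_exists_ne_one _).resolve_left
    (CfsgLib.PGroupBasic.inf_center_ne_bot _ (Q.ne_bot_of_dvd_card hqd))
  obtain ⟨k, hk⟩ := hck
  obtain ⟨j, hj⟩ := IsPGroup.iff_card.1 Q.2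
  refine mem_of_coprime_central hCN hH hx hx1 (z := (z : G)) (fun e => hz1 (Subtype.ext e))
    (fun h hh => congrArg Subtype.val (mem_center_iff.1 hz.2 ⟨h, hh⟩)) hc ?_
  rw [hk, orderOf_coe]
  exact ((((Nat.coprime_primes hq hr).2 hqr).symm).pow k j).coprime_dvd_right
    (hj ▸ (Q : Subgroup H).orderOf_dvd_natCard hz.1)

theorem ti_of_centLe {H : Subgroup G} (hH : Group.IsNilpotent H) (hc : CentLe H) (g : G)
    (hg : H.map (MulAut.conj g).toMonoidHom ≠ H) : H ⊓ H.map (MulAut.conj g).toMonoidHom = ⊥ := by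
  by_contra hne
  obtain ⟨x, ⟨hxH, hxg⟩, hx1⟩ := (Subgroup.bot_or_exists_ne_one _).resolve_left hne
  obtain ⟨z, hzH, hz1, hz⟩ := exists_central hH fun e => hx1 (mem_bot.1 (e ▸ hxH))
  have hxg' := mem_map_conj.1 hxg
  have hcomm : Commute x z := hz x hxH
  have hzg : g⁻¹ * z * g ∈ H := by
    refine hc _ hxg' (fun e => hx1 ?_) (mem_centralizer_singleton_iff.2 ?_)
    · have := congrArg (fun y => g * y * g⁻¹) e
      simpa [mul_assoc] using this
    · calc g⁻¹ * z * g * (g⁻¹ * x * g) = g⁻¹ * (z * x) * g := by group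
        _ = g⁻¹ * (x * z) * g := by rw [hcomm.symm.eq]
        _ = g⁻¹ * x * g * (g⁻¹ * z * g) := by group
  have hle : H ≤ H.map (MulAut.conj g).toMonoidHom := by
    intro h hh
    rw [mem_map_conj]
    refine hc _ hzg (fun e => hz1 ?_) (mem_centralizer_singleton_iff.2 ?_)
    · have := congrArg (fun y => g * y * g⁻¹) e
      simpa [mul_assoc] using this
    · calc g⁻¹ * h * g * (g⁻¹ * z * g) = g⁻¹ * (h * z) * g := by group
        _ = g⁻¹ * (z * h) * g := by rw [(hz h hh).eq]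
        _ = g⁻¹ * z * g * (g⁻¹ * h * g) := by group
  exact hg (eq_of_le_of_card_ge hle (by rw [card_map_of_injective (MulAut.conj g).injective])).symm

/-- A maximal nilpotent subgroup of prime power order is a Sylow subgroup. -/
theorem exists_sylow_eq {H : Subgroup G} (hH : MaxNilp H) {p : ℕ} [Fact p.Prime] (hp : IsPGroup p H) :
    ∃ P : Sylow p G, (P : Subgroup G) = H := by
  obtain ⟨P, hP⟩ := hp.exists_le_sylow
  exact ⟨P, hH.2 P P.2.isNilpotent hP⟩

theorem coprime_index {H : Subgroup G} (hCN : Cfsg.IsCNGroup G) (hH : MaxNilp H) :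
    (Nat.card H).Coprime H.index := by
  refine Nat.coprime_of_dvd fun p hp hpc => ?_
  haveI := Fact.mk hp
  by_cases hpp : IsPrimePow (Nat.card H)
  · obtain ⟨q, k, hq, hk, hqk⟩ := (isPrimePow_nat_iff _).1 hpp
    haveI := Fact.mk hq
    obtain rfl : p = q := (Nat.prime_dvd_prime_iff_eq hp hq).1 (hp.dvd_of_dvd_pow (hqk ▸ hpc))
    obtain ⟨P, hP⟩ := exists_sylow_eq hH (IsPGroup.of_card hqk.symm)
    rw [← hP]
    exact P.not_dvd_index
  · have hc := centLe_of_not_isPrimePow hCN hH hpp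
    obtain ⟨Q⟩ := (inferInstance : Nonempty (Sylow p H))
    obtain ⟨T, hT⟩ := (Q.2.map H.subtype).exists_le_sylow
    obtain ⟨y, hy, hy1⟩ := (Subgroup.bot_or_exists_ne_one _).resolve_left (Q.ne_bot_of_dvd_card hpc)
    have hyT : (y : G) ∈ T := hT ⟨y, hy, rfl⟩
    have hy1' : (y : G) ≠ 1 := fun e => hy1 (Subtype.ext e)
    obtain ⟨w, hwT, hw1, hw⟩ := exists_central T.2.isNilpotent fun e => hy1' (mem_bot.1 (e ▸ hyT))
    have hwH : w ∈ H := hc _ y.2 hy1' (mem_centralizer_singleton_iff.2 (hw _ hyT).symm.eq)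
    have hTH : (T : Subgroup G) ≤ H := fun t ht => hc _ hwH hw1 (mem_centralizer_singleton_iff.2 (hw t ht).eq)
    exact fun h => T.not_dvd_index (h.trans (index_dvd_of_le hTH))

theorem centLe_of_ti {H : Subgroup G} (hCN : Cfsg.IsCNGroup G) (hH : MaxNilp H)
    (hti : ∀ g : G, H.map (MulAut.conj g).toMonoidHom ≠ H → H ⊓ H.map (MulAut.conj g).toMonoidHom = ⊥) :
    CentLe H := by
  by_cases hpp : IsPrimePow (Nat.card H)
  swap
  · exact centLe_of_not_isPrimePow hCN hH hpp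
  obtain ⟨p, k, hp, hk, hpk⟩ := (isPrimePow_nat_iff _).1 hpp
  haveI := Fact.mk hp
  intro x hx hx1
  obtain ⟨P, hP⟩ := exists_sylow_eq hH (IsPGroup.of_card hpk.symm)
  obtain ⟨z, hzH, hz1, hz⟩ := exists_central hH.1 fun e => hx1 (mem_bot.1 (e ▸ hx))
  refine CfsgLib.FGSA.le_of_prime_power_mem fun r hr c hc ⟨j, hj⟩ => ?_
  by_cases hrp : r = p
  · subst hrp
    obtain ⟨Q, hQC, hQp, hQall⟩ := CfsgLib.FGSA.exists_pPart (hCN x hx1) r
    obtain ⟨T, hT⟩ := hQp.exists_le_sylow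
    obtain ⟨g, hg⟩ := MulAction.exists_smul_eq G P T
    have hTg : (T : Subgroup G) = H.map (MulAut.conj g).toMonoidHom := by
      rw [← hg, Sylow.coe_subgroup_smul, hP]; rfl
    have hxT : x ∈ H.map (MulAut.conj g).toMonoidHom := hTg ▸ hT (hQall x (mem_centralizer_singleton_iff.2 rfl)
      (IsPGroup.iff_orderOf.1 (IsPGroup.of_card hpk.symm : IsPGroup r H) ⟨x, hx⟩ |>.imp fun i hi => by
        rwa [← orderOf_coe] at hi))
    have heq : H.map (MulAut.conj g).toMonoidHom = H := by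
      by_contra hne
      exact hx1 (mem_bot.1 (hti g hne ▸ ⟨hx, hxT⟩))
    rw [← heq, ← hTg]
    exact hT (hQall c hc ⟨j, hj⟩)
  · refine mem_of_coprime_central hCN hH hx hx1 hz1 hz hc ?_
    rw [hj]
    exact ((((Nat.coprime_primes hr hp).2 hrp)).pow j k).coprime_dvd_right
      (hpk ▸ H.orderOf_dvd_natCard hzH)

end CfsgLib.CN
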