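import Cfsg.Agent.Solvable.SchurZassenhaus
import Cfsg.Agent.Solvable.CoprimeAct
import Cfsg.Agent.Transfer.Alperin
import Cfsg.Agent.FGSA.PLengthSeries

/-!
Supplements of normal subgroups and coprime subgroups; groups of `p`-length one.
-/

set_option autoImplicit false
set_option linter.style.haveILetI false
set_option linter.unusedSectionVars false

namespace CfsgLib.OddLocal.Supp

open Subgroup Pointwise

variable {G : Type*} [Group G] [Finite G]

/-- `H ∩ G' ≤ U'` when `G = KU` and `H ≤ U` is coprime to the normal subgroup `K`. -/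
theorem inf_commutator_le {K U H : Subgroup G} [K.Normal] (hKU : K ⊔ U = ⊤) (hH : H ≤ U)
    (hcop : (Nat.card H).Coprime (Nat.card K)) : H ⊓ commutator G ≤ ⁅U, U⁆ := by
  rintro x ⟨hxH, hxG⟩
  let f : G →* G ⧸ K := QuotientGroup.mk' K
  have hker : f.ker = K := QuotientGroup.ker_mk' K
  have hU : U.map f = (⊤ : Subgroup G).map f := by
    refine le_antisymm (map_mono le_top) (map_le_map_iff.2 ?_)
    rw [hker, sup_comm, hKU]
  have hx : f x ∈ (⁅U, U⁆).map f := by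
    rw [map_commutator, hU, ← map_commutator]
    exact ⟨x, hxG, rfl⟩
  obtain ⟨u, hu, hux⟩ := hx
  have huU : u ∈ U := commutator_le_self _ hu
  have hk : u⁻¹ * x ∈ K := by
    rw [← hker, MonoidHom.mem_ker, map_mul, map_inv, hux, inv_mul_cancel]
  have hxU : x ∈ U := hH hxH
  let g : U →* U ⧸ commutator U := QuotientGroup.mk' _
  have hcomm : ∀ {w : G} (hw : w ∈ U), g ⟨w, hw⟩ = 1 ↔ w ∈ ⁅U, U⁆ := by
    intro w hw
    have hUU : (⊤ : Subgroup U).map U.subtype = U := by rw [← MonoidHom.range_eq_map, range_subtype]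
    refine (QuotientGroup.eq_one_iff _).trans ⟨fun h => ?_, fun h => ?_⟩
    · have hm : w ∈ (commutator U).map U.subtype := ⟨_, h, rfl⟩
      rwa [_root_.commutator_def, map_commutator, hUU] at hm
    · rw [← hUU, ← map_commutator] at h
      obtain ⟨v, hv, hvw⟩ := h
      have e : (⟨w, hw⟩ : U) = v := Subtype.ext hvw.symm
      rw [e, _root_.commutator_def]
      exact hv
  have hgy : g ⟨x, hxU⟩ = g ⟨u⁻¹ * x, mul_mem (inv_mem huU) hxU⟩ := by
    have : (⟨u⁻¹ * x, mul_mem (inv_mem huU) hxU⟩ : U) = (⟨u, huU⟩ : U)⁻¹ * ⟨x, hxU⟩ := Subtype.ext rfl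
    rw [this, map_mul, map_inv, (hcomm huU).2 hu, inv_one, one_mul]
  refine (hcomm hxU).1 (orderOf_eq_one_iff.1 (Nat.eq_one_of_dvd_coprimes hcop ?_ ?_))
  · refine (orderOf_map_dvd g _).trans ?_
    rw [orderOf_mk]
    exact H.orderOf_dvd_natCard hxH
  · rw [hgy]
    refine (orderOf_map_dvd g _).trans ?_
    rw [orderOf_mk]
    exact K.orderOf_dvd_natCard hk

/-- Fusion of a subgroup coprime to `K` into a supplement of `K`. -/
theorem exists_mul_of_conj_le [Group.IsSolvable G] {K U H : Subgroup G} [K.Normal] (hKU : K ⊔ U = ⊤)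
    (hH : H ≤ U) (hcop : (Nat.card H).Coprime (Nat.card K)) {g : G}
    (hg : H.map (MulAut.conj g).toMonoidHom ≤ U) :
    ∃ u ∈ U, ∃ c ∈ K ⊓ centralizer (H : Set G), g = u * c := by
  obtain ⟨u₀, hu₀, k, hk, rfl⟩ := (CfsgLib.Solvable.mem_sup_of_le_normalizer
    (le_normalizer_of_normal : U ≤ normalizer (K : Set G))).1 (sup_comm K U ▸ hKU ▸ mem_top g)
  set H' := H.map (MulAut.conj k).toMonoidHom with hH'
  have hH'U : H' ≤ U := by
    rintro _ ⟨h, hh, rfl⟩
    have h1 := mul_mem (mul_mem (inv_mem hu₀) (hg ⟨h, hh, rfl⟩)) hu₀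
    have e : u₀⁻¹ * (MulAut.conj (u₀ * k)).toMonoidHom h * u₀ = k * h * k⁻¹ := by
      show u₀⁻¹ * (u₀ * k * h * (u₀ * k)⁻¹) * u₀ = k * h * k⁻¹
      group
    show k * h * k⁻¹ ∈ U
    rwa [e] at h1
  set J := K ⊓ U
  have hHJ : H ≤ normalizer (J : Set G) :=
    le_trans (le_inf le_normalizer_of_normal (hH.trans le_normalizer)) inf_normalizer_le_normalizer_inf
  have hB : H' ≤ H ⊔ J := by
    rintro _ ⟨h, hh, rfl⟩
    have hmem : (k * h * k⁻¹) * h⁻¹ ∈ J := by
      refine mem_inf.2 ⟨?_, mul_mem (hH'U ⟨h, hh, rfl⟩) (inv_mem (hH hh))⟩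
      rw [mul_assoc k, mul_assoc k]
      exact mul_mem hk (Normal.conj_mem inferInstance _ (inv_mem hk) h)
    have := mul_mem (mem_sup_right hmem : k * h * k⁻¹ * h⁻¹ ∈ H ⊔ J) (mem_sup_left hh : h ∈ H ⊔ J)
    show k * h * k⁻¹ ∈ H ⊔ J
    simpa [mul_assoc] using this
  obtain ⟨j, hj, hje⟩ := CfsgLib.SZ.conj_rel hHJ (hcop.coprime_dvd_right (card_dvd_of_le inf_le_left))
    (Or.inl inferInstance) hB (card_map_of_injective (MulAut.conj k).injective)
  have hjk : j⁻¹ * k ∈ normalizer (H : Set G) := by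
    rw [← CfsgLib.SZ.conj_smul_eq_iff_mem_normalizer, CfsgLib.SZ.conj_smul_mul,
      CfsgLib.SZ.conj_smul_eq_map k H, ← hH', ← hje, CfsgLib.SZ.conj_smul_inv_smul]
  refine ⟨u₀ * j, mul_mem hu₀ hj.2, j⁻¹ * k, mem_inf.2 ⟨mul_mem (inv_mem hj.1) hk, ?_⟩, by group⟩
  exact CfsgLib.CoprimeAct.mem_centralizer_of_normalizes (le_normalizer_of_normal : H ≤ normalizer (K : Set G)) hcop
    (mul_mem (inv_mem hj.1) hk) hjk

/-- Data of a group of `p`-length one. -/
theorem exists_data {p : ℕ} [Fact p.Prime] (h : Cfsg.PLengthLE p 1 G) (S : Sylow p G) :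
    ∃ O : Subgroup G, O.Normal ∧ (Nat.card O).Coprime p ∧ (O ⊔ (S : Subgroup G)).Normal ∧
      (∀ Q : Subgroup G, IsPGroup p Q → Q ≤ O ⊔ (S : Subgroup G)) := by
  have hp : p.Prime := Fact.out
  set U1 := CfsgLib.FGSA.PLen.U p G 1
  set U2 := CfsgLib.FGSA.PLen.U p G 2
  have h3 : CfsgLib.FGSA.PLen.U p G 3 = ⊤ := h
  have hf1 : ∃ k, U1.relIndex U2 = p ^ k := by
    simpa [CfsgLib.FGSA.PLen.Good] using CfsgLib.FGSA.PLen.good_factor (G := G) (p := p) 1
  have hf2 : (U2.index).Coprime p := by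
    have h2 := CfsgLib.FGSA.PLen.good_factor (G := G) (p := p) 2
    simp only [CfsgLib.FGSA.PLen.Good, even_two, if_true] at h2
    rwa [h3, relIndex_top_right] at h2
  haveI : U1.Normal := Cfsg.upperPSeries_normal p G 1
  haveI : U2.Normal := Cfsg.upperPSeries_normal p G 2
  have hpel : ∀ Q : Subgroup G, IsPGroup p Q → Q ≤ U2 := by
    intro Q hQ x hx
    obtain ⟨k, hk⟩ := IsPGroup.iff_card.1 hQ
    rw [← QuotientGroup.eq_one_iff]
    refine orderOf_eq_one_iff.1 (Nat.eq_one_of_dvd_coprimes (hf2.pow_right k).symm ?_ ?_)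
    · exact (orderOf_map_dvd (QuotientGroup.mk' U2) x).trans (hk ▸ Q.orderOf_dvd_natCard hx)
    · rw [index_eq_card]
      exact _root_.orderOf_dvd_natCard _
  have hle : U1 ⊔ (S : Subgroup G) ≤ U2 := sup_le (CfsgLib.FGSA.PLen.U_le_succ 1) (hpel _ S.2)
  have heq : U1 ⊔ (S : Subgroup G) = U2 := by
    refine le_antisymm hle (relIndex_eq_one.1 ?_)
    obtain ⟨k, hk⟩ := hf1
    refine Nat.eq_one_of_dvd_coprimes
      ((((Nat.Prime.coprime_iff_not_dvd hp).2 S.not_dvd_index).pow_left k).symm) ?_ ?_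
    · exact (dvd_of_mul_right_eq _ (relIndex_mul_index hle)).trans (index_dvd_of_le le_sup_right)
    · rw [← hk]
      exact relIndex_dvd_of_le_left U2 le_sup_left
  exact ⟨U1, inferInstance, CfsgLib.FGSA.PLen.card_U_one_coprime, by rw [heq]; infer_instance,
    fun Q hQ => heq.symm ▸ hpel Q hQ⟩

/-- Every `p`-subgroup is conjugate into `S` by an element of `O_{p'}`. -/
theorem exists_conj_into {p : ℕ} [Fact p.Prime] {S : Sylow p G} {O : Subgroup G} [O.Normal]
    {Q : Subgroup G} (hQ : IsPGroup p Q) (hle : Q ≤ O ⊔ (S : Subgroup G)) :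
    ∃ o ∈ O, Q.map (MulAut.conj o).toMonoidHom ≤ (S : Subgroup G) := by
  obtain ⟨m, hm, hmQ⟩ := CfsgLib.Fusion.exists_conj_le_of_sylow_relIndex (T := (S : Subgroup G))
    (le_sup_right : _ ≤ O ⊔ (S : Subgroup G)) S.2
    (fun h => S.not_dvd_index (h.trans (dvd_of_mul_right_eq _ (relIndex_mul_index le_sup_right)))) hQ hle
  obtain ⟨s, hs, o, ho, rfl⟩ := (CfsgLib.Solvable.mem_sup_of_le_normalizer
    (le_normalizer_of_normal : (S : Subgroup G) ≤ normalizer (O : Set G))).1 (sup_comm O _ ▸ hm)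
  refine ⟨o, ho, ?_⟩
  rintro _ ⟨x, hx, rfl⟩
  have h := hmQ (smul_mem_pointwise_smul x (MulAut.conj (s * o)) Q hx)
  have h2 := mul_mem (mul_mem (inv_mem hs) h) hs
  have e : s⁻¹ * (MulAut.conj (s * o) • x) * s = o * x * o⁻¹ := by
    show s⁻¹ * (s * o * x * (s * o)⁻¹) * s = o * x * o⁻¹
    group
  rwa [e] at h2

/-- Frattini argument: `G = O_{p'} N(S)`. -/
theorem exists_decomp {p : ℕ} [Fact p.Prime] {S : Sylow p G} {O : Subgroup G} [O.Normal]
    (hall : ∀ Q : Subgroup G, IsPGroup p Q → Q ≤ O ⊔ (S : Subgroup G)) (g : G) :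
    ∃ o ∈ O, ∃ n ∈ normalizer ((S : Subgroup G) : Set G), g = o * n := by
  have hSg : IsPGroup p ((S : Subgroup G).map (MulAut.conj g).toMonoidHom) := S.2.map _
  obtain ⟨o, ho, hoS⟩ := exists_conj_into hSg (hall _ hSg)
  refine ⟨o⁻¹, inv_mem ho, o * g, mem_normalizer_iff_map_conj_eq.2 ?_, by group⟩
  refine Subgroup.eq_of_le_of_card_ge (fun x hx => ?_)
    (card_map_of_injective (f := (MulAut.conj (o * g)).toMonoidHom) (MulAut.conj (o * g)).injective).ge
  obtain ⟨y, hy, rfl⟩ := hx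
  have h := hoS ⟨_, ⟨y, hy, rfl⟩, rfl⟩
  simpa [mul_assoc] using h

end CfsgLib.OddLocal.Supp
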