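import Cfsg.Agent.OddLocal.UniquenessTheorem
import Cfsg.Agent.FGSA.PLengthSeries
import Cfsg.Agent.FGSA.RankTwoSolvable
import Cfsg.Agent.S1450
import Cfsg.Agent.S1451
import Cfsg.Agent.S1461

/-!
The sets `σ(M)` and `α(M)` of a maximal subgroup: control of fusion, the Hall subgroups `M_σ` and `M_α`.
-/

set_option autoImplicit false
set_option linter.style.haveILetI false
set_option linter.unusedSectionVars false

namespace CfsgLib.OddLocal.Sig

open Subgroup Cfsg CfsgLib.OddLocal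

universe u

section General

variable {X : Type u} [Group X] [Finite X] {p : ℕ} [Fact p.Prime]

open CfsgLib.FGSA.PLen in
/-- The upper `p`-series under restriction to a subgroup. -/
theorem comap_U_le (H : Subgroup X) (j : ℕ) : (U p X j).comap H.subtype ≤ U p H j := by
  induction j with
  | zero => rw [U_zero, U_zero, ← MonoidHom.ker_eq_bot_iff H.subtype |>.2 H.subtype_injective]; rfl
  | succ j ih =>
    haveI : (U p X (j + 1)).Normal := Cfsg.upperPSeries_normal p X (j + 1)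
    haveI : (U p X j).Normal := Cfsg.upperPSeries_normal p X j
    refine le_succ (Subgroup.Normal.comap inferInstance _) ((good_factor (G := X) j).of_dvd ?_)
    refine (Subgroup.relIndex_dvd_of_le_left _ ih).trans ?_
    rw [Subgroup.relIndex_comap]
    exact relIndex_dvd_of_le_right _ (Subgroup.map_comap_le _ _)

theorem pLengthLE_subgroup {k : ℕ} (h : Cfsg.PLengthLE p k X) (H : Subgroup X) : Cfsg.PLengthLE p k H := by
  have h' := comap_U_le (p := p) H (2 * k + 1)
  rw [show CfsgLib.FGSA.PLen.U p X (2 * k + 1) = ⊤ from h, comap_top] at h'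
  exact top_le_iff.1 h'

open CfsgLib.FGSA.PLen in
/-- `O_{p',p}` of coprime index gives `p`-length one. -/
theorem pLengthLE_one_of_index (h : ((Cfsg.pPrimePCore p X).index).Coprime p) : Cfsg.PLengthLE p 1 X := by
  haveI : (Cfsg.pPrimeCore p X).Normal := CfsgLib.Solvable.pPrimeCore_normal p
  haveI : (Cfsg.pPrimePCore p X).Normal := (CfsgLib.Solvable.pCore_normal p).comap _
  have h1 : Cfsg.pPrimeCore p X ≤ U p X 1 := by
    refine le_succ (j := 0) inferInstance ?_
    rw [U_zero, relIndex_bot_left]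
    simpa [Good] using CfsgLib.Solvable.coprime_card_pPrimeCore (G := X) p
  have h2 : Cfsg.pPrimePCore p X ≤ U p X 2 := by
    refine le_succ (j := 1) inferInstance ?_
    refine Good.of_dvd (n := (Cfsg.pPrimeCore p X).relIndex (Cfsg.pPrimePCore p X)) ?_
      (relIndex_dvd_of_le_left _ h1)
    have e := relIndex_ker (Cfsg.pPrimePCore p X) (f := QuotientGroup.mk' (Cfsg.pPrimeCore p X))
    rw [QuotientGroup.ker_mk'] at e
    rw [e]
    obtain ⟨k, hk⟩ := IsPGroup.iff_card.1 ((CfsgLib.Solvable.isPGroup_pCore p).to_le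
      (map_comap_le (QuotientGroup.mk' (Cfsg.pPrimeCore p X)) (Cfsg.pCore p (X ⧸ Cfsg.pPrimeCore p X))))
    show Good p 1 _
    simp only [Good, Nat.not_even_one, if_false]
    exact ⟨k, hk⟩
  refine top_le_iff.1 (le_succ (j := 2) (inferInstance : (⊤ : Subgroup X).Normal) ?_)
  rw [relIndex_top_right]
  simp only [Good, even_two, if_true]
  exact h.coprime_dvd_left (index_dvd_of_le h2)

end General

variable {G : Type u} [Group G] [Finite G] {p : ℕ} [Fact p.Prime]

/-- A Sylow `p`-subgroup of `M` as a Sylow subgroup of `G`, when `p ∈ σ(M)`. -/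
theorem exists_sylow {M : Subgroup G} (hp : p ∈ Cfsg.sigma M) :
    ∃ S : Sylow p G, (S : Subgroup G) ≤ M ∧ normalizer ((S : Subgroup G) : Set G) ≤ M := by
  obtain ⟨-, -, P, hP⟩ := hp
  obtain ⟨S, hS⟩ := (P.2.map M.subtype).exists_le_sylow
  suffices heq : (S : Subgroup G) = (P : Subgroup M).map M.subtype by
    exact ⟨S, heq ▸ map_subtype_le _, heq ▸ hP⟩
  by_contra hne
  have hlt := CfsgLib.Fusion.lt_inf_normalizer S.2 (lt_of_le_of_ne hS (Ne.symm hne))
  refine hlt.ne ?_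
  have hle : (S : Subgroup G) ⊓ normalizer (((P : Subgroup M).map M.subtype : Subgroup G) : Set G) ≤ M :=
    inf_le_right.trans hP
  rw [← map_subgroupOf_eq_of_le hle]
  exact congrArg (Subgroup.map M.subtype) (P.is_maximal' ((S.2.to_le inf_le_left).comap_subtype (K := M))
    fun x hx => hlt.le (mem_map_of_mem M.subtype hx)).symm

theorem sylow_ne_bot {M : Subgroup G} (hp : p ∈ Cfsg.sigma M) (S : Sylow p G) : (S : Subgroup G) ≠ ⊥ :=
  S.ne_bot_of_dvd_card (hp.2.1.trans M.card_subgroup_dvd_card)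

/-- The index of `M` is prime to every `p ∈ σ(M)`. -/
theorem not_dvd_index {M : Subgroup G} (hp : p ∈ Cfsg.sigma M) : ¬ p ∣ M.index := by
  obtain ⟨S, hSM, -⟩ := exists_sylow hp
  exact fun h => S.not_dvd_index (h.trans (index_dvd_of_le hSM))

/-- Every Sylow `p`-subgroup of `G` inside `M` has its normalizer in `M`, for `p ∈ σ(M)`. -/
theorem normalizer_sylow_le {M : Subgroup G} (hp : p ∈ Cfsg.sigma M) (S : Sylow p G) (hSM : (S : Subgroup G) ≤ M) :
    normalizer ((S : Subgroup G) : Set G) ≤ M := by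
  obtain ⟨S₀, hS₀M, hN⟩ := exists_sylow hp
  obtain ⟨m, hm⟩ := MulAction.exists_smul_eq M (S₀.subtype hS₀M) (S.subtype hSM)
  have hSeq : (S : Subgroup G) = (S₀ : Subgroup G).map (MulAut.conj (m : G)).toMonoidHom := by
    rw [← map_subgroupOf_eq_of_le hSM, ← map_subgroupOf_eq_of_le hS₀M]
    have h := congrArg (fun Q : Sylow p M => (Q : Subgroup M).map M.subtype) hm.symm
    simp only [Sylow.coe_subgroup_smul, Sylow.coe_subtype] at h
    rw [h]
    ext x
    constructor
    · rintro ⟨_, ⟨y, hy, rfl⟩, rfl⟩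
      exact ⟨y, ⟨y, hy, rfl⟩, rfl⟩
    · rintro ⟨_, ⟨y, hy, rfl⟩, rfl⟩
      exact ⟨MulAut.conj m y, ⟨y, hy, rfl⟩, rfl⟩
  intro g hg
  have h1 : (m : G)⁻¹ * g * m ∈ normalizer ((S₀ : Subgroup G) : Set G) := by
    refine mem_normalizer_iff_map_conj_eq.2 ?_
    have hg' : (S : Subgroup G).map (MulAut.conj g).toMonoidHom = S := mem_normalizer_iff_map_conj_eq.1 hg
    show (S₀ : Subgroup G).map (MulAut.conj ((m : G)⁻¹ * g * m)).toMonoidHom = S₀
    rw [← TH.map_conj_map_conj, ← hSeq, ← TH.map_conj_map_conj, hg', hSeq, Uniq.map_conj_inv]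
  simpa [mul_assoc] using mul_mem (mul_mem m.2 (hN h1)) (inv_mem m.2)

variable (hG : Cfsg.IsMinSimpleOddOrder G)
include hG

theorem sylow_rank {M : Subgroup G} (hr : ¬ Cfsg.PRankLE p 2 M) (P : Sylow p M) :
    ¬ Cfsg.PRankLE p 2 ↥((P : Subgroup M).map M.subtype) := by
  obtain ⟨E, hEM, hEe, hEc⟩ := Uniq.exists_elementary hr
  obtain ⟨Q, hQ⟩ := ((CfsgLib.Signalizer.isPGroup hEe).comap_subtype (K := M)).exists_le_sylow
  obtain ⟨m, hm⟩ := MulAction.exists_smul_eq M Q P
  intro h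
  have hE' : Cfsg.IsElementaryAbelian p (E.map (MulAut.conj (m : G)).toMonoidHom) := by
    haveI := hEe.1
    refine ⟨Subgroup.map_isMulCommutative E _, ?_⟩
    rintro _ ⟨a, ha, rfl⟩
    rw [← map_pow, hEe.2 a ha, map_one]
  have hle : E.map (MulAut.conj (m : G)).toMonoidHom ≤ (P : Subgroup M).map M.subtype := by
    rintro _ ⟨x, hx, rfl⟩
    refine ⟨MulAut.conj m ⟨x, hEM hx⟩, ?_, rfl⟩
    rw [← hm]
    exact smul_mem_pointwise_smul _ _ _ (hQ (show (⟨x, hEM hx⟩ : M) ∈ E.comap M.subtype from hx))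
  have h1 := Uniq.rankLE_elementary h hle hE'
  rw [card_map_of_injective (f := (MulAut.conj (m : G)).toMonoidHom) (MulAut.conj (m : G)).injective, hEc] at h1
  exact absurd h1 (not_le.2 (Nat.pow_lt_pow_right (Fact.out : p.Prime).one_lt (by norm_num)))

/-- Primes of rank three are in `σ`. -/
theorem alpha_subset_sigma {M : Subgroup G} (hM : IsCoatom M) : Cfsg.alpha M ⊆ Cfsg.sigma M := by
  rintro r ⟨hr, hrk⟩
  haveI := Fact.mk hr
  obtain ⟨P⟩ : Nonempty (Sylow r M) := inferInstance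
  have hP3 := sylow_rank hG hrk P
  refine ⟨hr, ?_, P, Uniq.le_of_uniq (UThm.rank_three_unique hG (P.2.map M.subtype) hP3) hM (map_subtype_le _) ?_
    le_normalizer⟩
  · obtain ⟨E, hEM, -, hEc⟩ := Uniq.exists_elementary hrk
    exact (dvd_pow_self r (by norm_num)).trans (hEc ▸ card_dvd_of_le hEM)
  · refine CfsgLib.CN.MinSimple.normalizer_ne_top hG (P.2.map M.subtype).isNilpotent fun h => hP3 fun B _ _ => ?_
    refine (card_le_card_group B).trans ?_
    rw [h, card_bot]
    exact Nat.one_le_pow _ _ hr.pos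

/-- `M` strongly controls fusion in its Sylow `p`-subgroups, for `p ∈ σ(M)`. -/
theorem control {M : Subgroup G} (hM : IsCoatom M) (hp : p ∈ Cfsg.sigma M) (S : Sylow p G)
    (hSM : (S : Subgroup G) ≤ M) {B : Set G} (hB : B ⊆ (S : Subgroup G)) (g : G)
    (hg : (fun a => g * a * g⁻¹) '' B ⊆ (S : Subgroup G)) :
    ∃ x ∈ M, ∀ a ∈ B, g * a * g⁻¹ = x * a * x⁻¹ := by
  have hp2 : p ≠ 2 := CfsgLib.CN.MinSimple.p_ne_two hG (hp.2.1.trans M.card_subgroup_dvd_card)
  have hNS := normalizer_sylow_le hp S hSM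
  set Z := Cfsg.centerThompsonOf p (S : Subgroup G)
  have K := CfsgLib.ZJ.zkind_centerThompsonOf (p := p) hp2
  obtain ⟨x, hx, hxe⟩ := (CfsgLib.ZJ.controlsStrongFusionOf_of_fused (S := (S : Subgroup G))
    (fun B x hB hx => CfsgLib.ZJ.control_of_free hp2 K G (CfsgLib.CN.MinSimple.not_involves_qd hG hp2) S _
      (CfsgLib.ZJ.stronglyClosed_self S) B x hB hx) B hB).2 g hg
  set N := normalizer (Z : Set G)
  have hSN : (S : Subgroup G) ≤ N := le_normalizer.trans (CfsgLib.ZJ.normalizer_le_centerThompsonOf _)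
  have hN : N ≠ ⊤ := CfsgLib.CN.MinSimple.normalizer_ne_top hG (S.2.to_le (K.le G _)).isNilpotent
    (K.ne_bot G _ S.2 (sylow_ne_bot hp S))
  by_cases hr : Cfsg.PRankLE p 2 ↥(S : Subgroup G)
  swap
  · exact ⟨x, Uniq.le_of_uniq (UThm.rank_three_unique hG S.2 hr) hM hSM hN hSN hx, hxe⟩
  -- rank at most two: `N = O_{p'}(N) N_N(S)`
  haveI : Group.IsSolvable N := hG.2.2.2 N hN
  have hrN : Cfsg.PRankLE p 2 N := by
    intro A hA hAe
    haveI := hA
    have hA' : Cfsg.IsElementaryAbelian p (A.map N.subtype) := ⟨Subgroup.map_isMulCommutative A _, by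
      rintro _ ⟨a, ha, rfl⟩
      rw [← map_pow, hAe a ha, map_one]⟩
    obtain ⟨T, hT⟩ := (CfsgLib.Signalizer.isPGroup hA').exists_le_sylow
    obtain ⟨y, hy⟩ := MulAction.exists_smul_eq G T S
    have hle : (A.map N.subtype).map (MulAut.conj y).toMonoidHom ≤ (S : Subgroup G) := by
      rw [← hy, Sylow.coe_subgroup_smul]
      rintro _ ⟨a, ha, rfl⟩
      exact smul_mem_pointwise_smul _ _ _ (hT ha)
    have hA'' : Cfsg.IsElementaryAbelian p ((A.map N.subtype).map (MulAut.conj y).toMonoidHom) := by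
      haveI := hA'.1
      refine ⟨Subgroup.map_isMulCommutative _ _, ?_⟩
      rintro _ ⟨a, ha, rfl⟩
      rw [← map_pow, hA'.2 a ha, map_one]
    have h := Uniq.rankLE_elementary hr hle hA''
    rwa [card_map_of_injective (f := (MulAut.conj y).toMonoidHom) (MulAut.conj y).injective,
      card_map_of_injective N.subtype_injective] at h
  have hpN : p ∣ Nat.card N := by
    refine dvd_trans ?_ (card_dvd_of_le hSN)
    exact (S.2.card_eq_or_dvd).resolve_left fun e => sylow_ne_bot hp S (eq_bot_of_card_eq _ e)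
  have hpl := pLengthLE_one_of_index
    (Cfsg.Agent.S1450.result (hG.1.of_dvd_nat (card_subgroup_dvd_card N)) p hpN hrN).2.2.2.2.2
  obtain ⟨n, hn, c, hc, hnc⟩ := (Cfsg.Agent.S1461.result p hpl (S.subtype hSN)).2.1
    {a : N | (a : G) ∈ B} ⟨x, hx⟩ (fun a ha => hB ha) (by
      rintro _ ⟨a, ha, rfl⟩
      show x * (a : G) * x⁻¹ ∈ (S : Subgroup G)
      rw [← hxe _ ha]
      exact hg ⟨a, ha, rfl⟩)
  have hnS : (n : G) ∈ normalizer ((S : Subgroup G) : Set G) := by
    refine mem_normalizer_iff.2 fun y => ⟨fun hy => ?_, fun hy => ?_⟩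
    · exact (mem_normalizer_iff.1 hn ⟨y, hSN hy⟩).1 hy
    · have hyN : y ∈ N := by simpa [mul_assoc] using mul_mem (mul_mem (inv_mem n.2) (hSN hy)) n.2
      exact (mem_normalizer_iff.1 hn ⟨y, hyN⟩).2 hy
  refine ⟨n, hNS hnS, fun a ha => ?_⟩
  rw [hxe a ha]
  have hxn : x = (n : G) * (c : G) := (congrArg Subtype.val hnc).symm
  have hca : a * (c : G) = c * a :=
    congrArg Subtype.val (mem_centralizer_iff.1 hc ⟨a, hSN (hB ha)⟩ ha)
  rw [hxn]
  calc (n : G) * c * a * ((n : G) * c)⁻¹ = n * (c * a) * (c : G)⁻¹ * (n : G)⁻¹ := by group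
    _ = n * (a * c) * (c : G)⁻¹ * (n : G)⁻¹ := by rw [hca]
    _ = n * a * (n : G)⁻¹ := by group

/-- Fusion of `p`-elements in `M` is controlled by `M`. -/
theorem fusion_in {M : Subgroup G} (hM : IsCoatom M) (hp : p ∈ Cfsg.sigma M) {X : Subgroup G}
    (hX : IsPGroup p X) (hXM : X ≤ M) (g : G) (hg : X.map (MulAut.conj g).toMonoidHom ≤ M) :
    ∃ m ∈ M, ∃ c ∈ centralizer (X : Set G), g = m * c := by
  obtain ⟨S, hSM, -⟩ := exists_sylow hp
  let SM : Sylow p M := S.subtype hSM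
  have conj_into : ∀ Y : Subgroup G, IsPGroup p Y → Y ≤ M → ∃ m ∈ M, Y.map (MulAut.conj m).toMonoidHom ≤ (S : Subgroup G) := by
    intro Y hY hYM
    obtain ⟨T, hT⟩ := (hY.comap_subtype (K := M)).exists_le_sylow
    obtain ⟨m, hm⟩ := MulAction.exists_smul_eq M T SM
    refine ⟨m, m.2, ?_⟩
    rintro _ ⟨y, hy, rfl⟩
    have : MulAut.conj m ⟨y, hYM hy⟩ ∈ (SM : Subgroup M) := by
      rw [← hm, Sylow.coe_subgroup_smul]
      exact smul_mem_pointwise_smul _ _ _ (hT (show (⟨y, hYM hy⟩ : M) ∈ Y.comap M.subtype from hy))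
    exact this
  obtain ⟨m₁, hm₁, h₁⟩ := conj_into X hX hXM
  obtain ⟨m₂, hm₂, h₂⟩ := conj_into _ (hX.map _) hg
  obtain ⟨x, hx, hxe⟩ := control hG hM hp S hSM (B := ((X.map (MulAut.conj m₁).toMonoidHom : Subgroup G) : Set G))
    (SetLike.coe_subset_coe.2 h₁) (m₂ * g * m₁⁻¹) (by
      rintro _ ⟨_, ⟨y, hy, rfl⟩, rfl⟩
      refine h₂ ⟨g * y * g⁻¹, ⟨y, hy, rfl⟩, ?_⟩
      show m₂ * (g * y * g⁻¹) * m₂⁻¹ = m₂ * g * m₁⁻¹ * (m₁ * y * m₁⁻¹) * (m₂ * g * m₁⁻¹)⁻¹
      group)
  refine ⟨m₂⁻¹ * x * m₁, mul_mem (mul_mem (inv_mem hm₂) hx) hm₁, m₁⁻¹ * x⁻¹ * m₂ * g,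
    mem_centralizer_iff.2 fun y hy => ?_, by group⟩
  have he : m₂ * g * m₁⁻¹ * (m₁ * y * m₁⁻¹) * (m₂ * g * m₁⁻¹)⁻¹ = x * (m₁ * y * m₁⁻¹) * x⁻¹ :=
    hxe _ ⟨y, hy, rfl⟩
  calc y * (m₁⁻¹ * x⁻¹ * m₂ * g) = m₁⁻¹ * x⁻¹ * (x * (m₁ * y * m₁⁻¹) * x⁻¹) * m₂ * g := by group
    _ = m₁⁻¹ * x⁻¹ * (m₂ * g * m₁⁻¹ * (m₁ * y * m₁⁻¹) * (m₂ * g * m₁⁻¹)⁻¹) * m₂ * g := by rw [he]
    _ = m₁⁻¹ * x⁻¹ * m₂ * g * y := by group

omit hG in
/-- A subgroup controlling the fusion of its `p`-elements has the Sylow `p`-subgroup in its derived subgroup. -/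
theorem le_derived_of_fusion (hperf : commutator G = ⊤) {M : Subgroup G} (hidx : p.Coprime M.index)
    (hfus : ∀ g ∈ M, (∃ k : ℕ, orderOf g = p ^ k) → ∀ a : G, a * g * a⁻¹ ∈ M →
      ∃ h ∈ M, h * g * h⁻¹ = a * g * a⁻¹)
    [Group.IsSolvable M] {P : Subgroup G} (hP : IsPGroup p P) (hPM : P ≤ M) : P ≤ ⁅M, M⁆ := by
  have hp : p.Prime := Fact.out
  intro x hx
  let f : M →* M ⧸ commutator M := QuotientGroup.mk' _
  have hq : IsMulCommutative (M ⧸ commutator M) :=
    Normal.quotient_commutative_iff_commutator_le.2 le_rfl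
  obtain ⟨L, hLc, hLi⟩ : ∃ L : Subgroup (M ⧸ commutator M), ¬ p ∣ Nat.card L ∧ ∃ n, L.index = p ^ n := by
    haveI := hq
    letI : CommGroup (M ⧸ commutator M) := { (inferInstance : Group (M ⧸ commutator M)) with
      mul_comm := hq.is_comm.comm }
    obtain ⟨S₀⟩ : Nonempty (Sylow p (M ⧸ commutator M)) := inferInstance
    haveI : (S₀ : Subgroup (M ⧸ commutator M)).Normal := inferInstance
    obtain ⟨L, hL⟩ := exists_right_complement'_of_coprime S₀.card_coprime_index
    refine ⟨L, ?_, ?_⟩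
    · rw [← hL.symm.index_eq_card]
      exact S₀.not_dvd_index
    · obtain ⟨n, hn⟩ := IsPGroup.iff_card.1 S₀.2
      exact ⟨n, by rw [hL.index_eq_card, hn]⟩
  obtain ⟨n, hn⟩ := hLi
  haveI : (L.comap f).Normal := by
    haveI : L.Normal := ⟨fun l hl g => by rw [hq.is_comm.comm g, mul_assoc, mul_inv_cancel, mul_one]; exact hl⟩
    infer_instance
  have htop := CfsgLib.CN.eq_top_of_index_pow hperf hidx hfus
    (K := L.comap f) (n := n) (by rw [index_comap_of_surjective _ (QuotientGroup.mk'_surjective _), hn])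
  have hxM : f ⟨x, hPM hx⟩ ∈ L := by
    have : (⟨x, hPM hx⟩ : M) ∈ L.comap f := htop ▸ mem_top _
    exact this
  have hone : f ⟨x, hPM hx⟩ = 1 := by
    obtain ⟨k, hk⟩ := IsPGroup.iff_card.1 hP
    refine orderOf_eq_one_iff.1 (Nat.eq_one_of_dvd_coprimes ((hp.coprime_iff_not_dvd.2 hLc).pow_left k) ?_
      (L.orderOf_dvd_natCard hxM))
    refine (orderOf_map_dvd f _).trans ?_
    rw [orderOf_mk, ← hk]
    exact P.orderOf_dvd_natCard hx
  have hm : x ∈ (commutator M).map M.subtype := ⟨_, (QuotientGroup.eq_one_iff _).1 hone, rfl⟩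
  rwa [_root_.commutator_def, map_commutator, ← MonoidHom.range_eq_map, range_subtype] at hm

/-- The `p`-subgroups of `M` lie in `M'`, for `p ∈ σ(M)`. -/
theorem le_derived {M : Subgroup G} (hM : IsCoatom M) (hp : p ∈ Cfsg.sigma M) {P : Subgroup G}
    (hP : IsPGroup p P) (hPM : P ≤ M) : P ≤ ⁅M, M⁆ := by
  haveI := CfsgLib.CN.MinSimple.nontrivial hG
  haveI : Group.IsSolvable M := hG.2.2.2 M hM.1
  refine le_derived_of_fusion (CfsgLib.CN.MinSimple.perfect hG)
    ((Fact.out : p.Prime).coprime_iff_not_dvd.2 (not_dvd_index hp)) ?_ hP hPM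
  rintro g hg ⟨i, hi⟩ a ha
  have hgp : IsPGroup p (zpowers g) := IsPGroup.of_card (n := i) (by rw [Nat.card_zpowers, hi])
  obtain ⟨m, hm, c, hc, rfl⟩ := fusion_in hG hM hp hgp (zpowers_le.2 hg) a (by
    rw [MonoidHom.map_zpowers]; exact zpowers_le.2 ha)
  refine ⟨m, hm, ?_⟩
  have hcg : g * c = c * g := mem_centralizer_iff.1 hc g (mem_zpowers g)
  calc m * g * m⁻¹ = m * (g * c) * c⁻¹ * m⁻¹ := by group
    _ = m * c * g * (m * c)⁻¹ := by rw [hcg]; group

omit [Fact p.Prime] in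
/-- The main facts on `M_α`. -/
theorem alpha_core {M : Subgroup G} (hM : IsCoatom M) :
    Cfsg.IsPiHallOf (Cfsg.alpha M) (Cfsg.alphaCore M) M ∧
      Cfsg.RankLE 2 (↥M ⧸ Cfsg.piCore (Cfsg.alpha M) ↥M) ∧
      Group.IsNilpotent ↥((commutator ↥M).map (QuotientGroup.mk' (Cfsg.piCore (Cfsg.alpha M) ↥M))) := by
  haveI : Group.IsSolvable M := hG.2.2.2 M hM.1
  set O := Cfsg.piCore (Cfsg.alpha M) ↥M with hO
  have hOπ : ∀ q : ℕ, q.Prime → q ∣ Nat.card O → q ∈ Cfsg.alpha M := fun q hq hd =>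
    TH.core_primes M q hq (by rwa [piCoreOf, card_map_of_injective M.subtype_injective])
  set f := QuotientGroup.mk' O
  have hf : Function.Surjective f := QuotientGroup.mk'_surjective O
  -- the Fitting subgroup of the quotient has rank at most two
  have hrkα : ∀ q : ℕ, q.Prime → q ∈ Cfsg.alpha M → ¬ q ∣ Nat.card (Cfsg.fittingSubgroup (M ⧸ O)) := by
    intro q hq hqα hd
    haveI := Fact.mk hq
    obtain ⟨x, hx⟩ := exists_prime_orderOf_dvd_card' q hd
    have hxF : ((x : M ⧸ O)) ∈ Cfsg.pCore q (M ⧸ O) :=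
      CfsgLib.FGSA.RankTwoSolvable.mem_pCore_of_mem_fitting hq (j := 1) (by rw [orderOf_coe, pow_one, hx]) x.2
    have hle : (Cfsg.pCore q (M ⧸ O)).comap f ≤ O := by
      refine le_sSup ⟨(CfsgLib.Solvable.pCore_normal q).comap f, fun r hr hrd => ?_⟩
      have h1 := card_mul_index (O.subgroupOf ((Cfsg.pCore q (M ⧸ O)).comap f))
      have hle' : O ≤ (Cfsg.pCore q (M ⧸ O)).comap f := by
        conv_lhs => rw [← QuotientGroup.ker_mk' O]
        exact ker_le_comap _ _
      rw [Nat.card_congr (subgroupOfEquivOfLe hle').toEquiv] at h1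
      rw [← h1] at hrd
      rcases (Nat.Prime.dvd_mul hr).1 hrd with h | h
      · exact hOπ r hr h
      · change r ∣ O.relIndex _ at h
        have e := relIndex_ker ((Cfsg.pCore q (M ⧸ O)).comap f) (f := f)
        rw [QuotientGroup.ker_mk'] at e
        rw [e, map_comap_eq_self_of_surjective hf] at h
        obtain ⟨k, hk⟩ := IsPGroup.iff_card.1 (CfsgLib.Solvable.isPGroup_pCore (G := M ⧸ O) q)
        rw [(Nat.prime_dvd_prime_iff_eq hr hq).1 (hr.dvd_of_dvd_pow (hk ▸ h))]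
        exact hqα
    obtain ⟨y, hy⟩ := hf (x : M ⧸ O)
    have : f y = 1 := (QuotientGroup.eq_one_iff y).2 (hle (show y ∈ _ from mem_comap.2 (hy ▸ hxF)))
    rw [hy] at this
    rw [← orderOf_coe, this, orderOf_one] at hx
    exact hq.ne_one hx.symm
  have hrkq : ∀ q : ℕ, q.Prime → q ∉ Cfsg.alpha M → Cfsg.PRankLE q 2 (M ⧸ O) := by
    intro q hq hqα
    haveI := Fact.mk hq
    refine fun E hE hEe => CfsgLib.FGSA.RankTwoSolvable.rank_quotient O
      ((hq.coprime_iff_not_dvd.2 fun hd => hqα (hOπ q hq hd)).symm) ?_ E hE hEe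
    by_contra hcon
    exact hqα ⟨hq, hcon⟩
  have hrkF : Cfsg.RankLE 2 (Cfsg.fittingSubgroup (M ⧸ O)) := by
    intro q hq B hB hBe
    haveI := Fact.mk hq
    by_cases hqα : q ∈ Cfsg.alpha M
    · rcases (IsPGroup.card_eq_or_dvd (p := q) (fun b => ⟨1, by
        rw [pow_one]; exact Subtype.ext (hBe b b.2)⟩ : IsPGroup q B)) with h | h
      · rw [h]; exact Nat.one_le_pow _ _ hq.pos
      · exact absurd (h.trans B.card_subgroup_dvd_card) (hrkα q hq hqα)
    · haveI := hB
      rw [← card_map_of_injective (Cfsg.fittingSubgroup (M ⧸ O)).subtype_injective]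
      refine hrkq q hq hqα _ (Subgroup.map_isMulCommutative B _) ?_
      rintro _ ⟨b, hb, rfl⟩
      rw [← map_pow, hBe b hb, map_one]
  haveI : Group.IsSolvable (M ⧸ O) := Group.isSolvable_of_surjective hf
  have hodd : Odd (Nat.card (M ⧸ O)) :=
    (hG.1.of_dvd_nat (card_subgroup_dvd_card M)).of_dvd_nat (card_quotient_dvd_card O)
  have hnil := (Cfsg.Agent.S1451.result hodd (Or.inr hrkF)).1
  have hcomm : (commutator ↥M).map f = commutator (M ⧸ O) := by
    rw [_root_.commutator_def, map_commutator, Subgroup.map_top_of_surjective f hf, _root_.commutator_def]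
  have hidx : ∀ q : ℕ, q.Prime → q ∈ Cfsg.alpha M → ¬ q ∣ O.index := by
    intro q hq hqα hd
    haveI := Fact.mk hq
    rw [index_eq_card] at hd
    obtain ⟨x, hx⟩ := exists_prime_orderOf_dvd_card' q hd
    obtain ⟨Q⟩ : Nonempty (Sylow q M) := inferInstance
    obtain ⟨T, hT⟩ := (IsPGroup.of_card (n := 1) (by rw [Nat.card_zpowers, hx, pow_one]) : IsPGroup q (zpowers x)).exists_le_sylow
    obtain ⟨g, hg⟩ := MulAction.exists_smul_eq (M ⧸ O) (Q.mapSurjective hf) T
    obtain ⟨g, rfl⟩ := hf g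
    have hxQ : x ∈ (((g • Q : Sylow q M) : Subgroup M)).map f := by
      have h1 := hT (mem_zpowers x)
      rw [← hg, Sylow.coe_subgroup_smul, Sylow.coe_mapSurjective] at h1
      obtain ⟨_, ⟨s, hs, rfl⟩, hsx⟩ := h1
      refine ⟨g * s * g⁻¹, ?_, ?_⟩
      · rw [Sylow.coe_subgroup_smul]; exact ⟨s, hs, rfl⟩
      · rw [map_mul, map_mul, map_inv]; exact hsx
    have hQ' := le_derived hG hM (alpha_subset_sigma hG hM hqα) ((g • Q : Sylow q M).2.map M.subtype) (map_subtype_le _)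
    have hsub : ((g • Q : Sylow q M) : Subgroup M) ≤ commutator M := by
      intro y hy
      have h1 := hQ' (mem_map_of_mem M.subtype hy)
      rw [show ⁅M, M⁆ = (commutator M).map M.subtype by
        rw [_root_.commutator_def, map_commutator, ← MonoidHom.range_eq_map, range_subtype]] at h1
      obtain ⟨z, hz, hzy⟩ := h1
      rwa [← M.subtype_injective hzy]
    have hxc : x ∈ commutator (M ⧸ O) := hcomm ▸ map_mono hsub hxQ
    refine hrkα q hq hqα ?_
    have hxF := CfsgLib.Solvable.le_fittingSubgroup (inferInstance : (commutator (M ⧸ O)).Normal) hnil hxc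
    rw [← hx]
    exact (Cfsg.fittingSubgroup (M ⧸ O)).orderOf_dvd_natCard hxF
  refine ⟨⟨map_subtype_le O, fun q hq hd => TH.core_primes M q hq hd, fun q hq hqα => ?_⟩, ?_, ?_⟩
  · rw [relIndex, alphaCore, ← comap_subtype, comap_map_eq_self_of_injective M.subtype_injective]
    exact hidx q hq hqα
  · intro q hq
    by_cases hqα : q ∈ Cfsg.alpha M
    · intro B hB hBe
      haveI := Fact.mk hq
      rcases (IsPGroup.card_eq_or_dvd (p := q) (fun b => ⟨1, by
        rw [pow_one]; exact Subtype.ext (hBe b b.2)⟩ : IsPGroup q B)) with h | h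
      · rw [h]; exact Nat.one_le_pow _ _ hq.pos
      · exact absurd (index_eq_card O ▸ h.trans B.card_subgroup_dvd_card) (hidx q hq hqα)
    · exact hrkq q hq hqα
  · rw [hcomm]
    exact hnil

theorem alphaCore_le_sigmaCore {M : Subgroup G} (hM : IsCoatom M) :
    Cfsg.alphaCore M ≤ Cfsg.sigmaCore M := by
  refine map_mono (sSup_le fun N hN => le_sSup ⟨hN.1, fun q hq hd => alpha_subset_sigma hG hM (hN.2 q hq hd)⟩)

omit [Fact p.Prime] in
theorem alpha_hall {M : Subgroup G} (hM : IsCoatom M) :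
    Cfsg.IsPiHall (Cfsg.alpha M) (Cfsg.alphaCore M) := by
  obtain ⟨⟨hle, h1, h2⟩, -, -⟩ := alpha_core hG hM
  refine ⟨h1, fun q hq hqα hd => ?_⟩
  haveI := Fact.mk hq
  rw [← relIndex_mul_index hle] at hd
  rcases (Nat.Prime.dvd_mul hq).1 hd with h | h
  · exact h2 q hq hqα h
  · exact not_dvd_index (alpha_subset_sigma hG hM hqα) h

omit [Fact p.Prime] in
/-- `M_σ` is a Hall `σ(M)`-subgroup inside `M'`. -/
theorem sigma_core {M : Subgroup G} (hM : IsCoatom M) :
    Cfsg.IsPiHallOf (Cfsg.sigma M) (Cfsg.sigmaCore M) M ∧ Cfsg.IsPiHall (Cfsg.sigma M) (Cfsg.sigmaCore M) ∧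
      Cfsg.sigmaCore M ≤ ⁅M, M⁆ := by
  haveI : Group.IsSolvable M := hG.2.2.2 M hM.1
  obtain ⟨-, -, hnil⟩ := alpha_core hG hM
  set O := Cfsg.piCore (Cfsg.alpha M) ↥M with hO
  set Oσ := Cfsg.piCore (Cfsg.sigma M) ↥M with hOσ
  have hOπ : ∀ q : ℕ, q.Prime → q ∣ Nat.card O → q ∈ Cfsg.alpha M := fun q hq hd =>
    TH.core_primes M q hq (by rwa [piCoreOf, card_map_of_injective M.subtype_injective])
  have hσπ : ∀ q : ℕ, q.Prime → q ∣ Nat.card Oσ → q ∈ Cfsg.sigma M := fun q hq hd =>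
    TH.core_primes M q hq (by rwa [piCoreOf, card_map_of_injective M.subtype_injective])
  set f := QuotientGroup.mk' O
  have hM' : ⁅M, M⁆ = (commutator M).map M.subtype := by
    rw [_root_.commutator_def, map_commutator, ← MonoidHom.range_eq_map, range_subtype]
  have key : ∀ q : ℕ, q.Prime → q ∈ Cfsg.sigma M → ∀ (_ : Fact q.Prime) (Q : Sylow q M),
      (Q : Subgroup M) ≤ Oσ ∧ (Q : Subgroup M) ≤ commutator M := by
    intro q hq hqσ _ Q
    have hsub : (Q : Subgroup M) ≤ commutator M := by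
      intro y hy
      have h1 := le_derived hG hM hqσ (Q.2.map M.subtype) (map_subtype_le _) (mem_map_of_mem M.subtype hy)
      rw [hM'] at h1
      obtain ⟨z, hz, hzy⟩ := h1
      rwa [← M.subtype_injective hzy]
    refine ⟨fun y hy => ?_, hsub⟩
    set C := (commutator M).map f
    haveI : Group.IsNilpotent C := hnil
    haveI : C.Normal := Subgroup.Normal.map inferInstance f (QuotientGroup.mk'_surjective O)
    obtain ⟨P₀⟩ : Nonempty (Sylow q C) := inferInstance
    have hPn : (P₀ : Subgroup C).Normal :=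
      Sylow.normal_of_normalizerCondition Group.normalizerCondition_of_isNilpotent P₀
    haveI : (P₀ : Subgroup C).Characteristic :=
      P₀.characteristic_of_normal hPn
    set W := ((P₀ : Subgroup C).map C.subtype).comap f
    have hWn : W.Normal := (ConjAct.normal_of_characteristic_of_normal (H := C) (K := (P₀ : Subgroup C))).comap f
    have hyW : y ∈ W := by
      refine mem_comap.2 ⟨⟨f y, mem_map_of_mem f (hsub hy)⟩, ?_, rfl⟩
      have hp' : IsPGroup q (zpowers (⟨f y, mem_map_of_mem f (hsub hy)⟩ : C)) := by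
        obtain ⟨k, hk⟩ := IsPGroup.iff_card.1 Q.2
        obtain ⟨i, -, hi⟩ := (Nat.dvd_prime_pow hq).1 (((orderOf_map_dvd f y).trans (Q.orderOf_dvd_natCard hy)).trans hk.dvd)
        exact IsPGroup.of_card (n := i) (by rw [Nat.card_zpowers, orderOf_mk]; exact hi)
      obtain ⟨T, hT⟩ := hp'.exists_le_sylow
      haveI := P₀.unique_of_normal hPn
      rw [Subsingleton.elim P₀ T]
      exact hT (mem_zpowers _)
    refine (le_sSup ⟨hWn, fun r hr hrd => ?_⟩ : W ≤ Oσ) hyW
    have hle' : O ≤ W := by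
      conv_lhs => rw [← QuotientGroup.ker_mk' O]
      exact ker_le_comap _ _
    have h1 := card_mul_index (O.subgroupOf W)
    rw [Nat.card_congr (subgroupOfEquivOfLe hle').toEquiv] at h1
    rw [← h1] at hrd
    rcases (Nat.Prime.dvd_mul hr).1 hrd with h | h
    · exact alpha_subset_sigma hG hM (hOπ r hr h)
    · change r ∣ O.relIndex _ at h
      have e := relIndex_ker W (f := f)
      rw [QuotientGroup.ker_mk'] at e
      rw [e, map_comap_eq_self_of_surjective (QuotientGroup.mk'_surjective O),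
        card_map_of_injective C.subtype_injective] at h
      obtain ⟨k, hk⟩ := IsPGroup.iff_card.1 P₀.2
      rw [(Nat.prime_dvd_prime_iff_eq hr hq).1 (hr.dvd_of_dvd_pow (hk ▸ h))]
      exact hqσ
  have hidx : ∀ q : ℕ, q.Prime → q ∈ Cfsg.sigma M → ¬ q ∣ Oσ.index := fun q hq hqσ hd => by
    haveI := Fact.mk hq
    obtain ⟨Q⟩ : Nonempty (Sylow q M) := inferInstance
    exact Q.not_dvd_index (hd.trans (index_dvd_of_le (key q hq hqσ inferInstance Q).1))
  have hhall : Cfsg.IsPiHallOf (Cfsg.sigma M) (Cfsg.sigmaCore M) M := by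
    refine ⟨map_subtype_le Oσ, fun q hq hd => TH.core_primes M q hq hd, fun q hq hqσ => ?_⟩
    rw [relIndex, sigmaCore, ← comap_subtype, comap_map_eq_self_of_injective M.subtype_injective]
    exact hidx q hq hqσ
  refine ⟨hhall, ⟨hhall.2.1, fun q hq hqσ hd => ?_⟩, ?_⟩
  · haveI := Fact.mk hq
    rw [← relIndex_mul_index hhall.1] at hd
    rcases (Nat.Prime.dvd_mul hq).1 hd with h | h
    · exact hhall.2.2 q hq hqσ h
    · exact not_dvd_index hqσ h
  · rw [hM']
    refine map_mono ?_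
    refine (relIndex_eq_one (H := commutator M)).1 (not_not.1 fun hne => ?_)
    obtain ⟨r, hr, hrd⟩ := Nat.exists_prime_and_dvd hne
    haveI := Fact.mk hr
    have e := relIndex_ker Oσ (f := QuotientGroup.mk' (commutator M))
    rw [QuotientGroup.ker_mk'] at e
    rw [e] at hrd
    have hrσ := hσπ r hr (hrd.trans (card_map_dvd _ _))
    obtain ⟨Q⟩ : Nonempty (Sylow r M) := inferInstance
    refine Q.not_dvd_index ?_
    refine dvd_trans ?_ (index_dvd_of_le (key r hr hrσ inferInstance Q).2)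
    rw [index_eq_card]
    exact hrd.trans (card_subgroup_dvd_card _)

end CfsgLib.OddLocal.Sig
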