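import Cfsg.Agent.OddLocal.FixedLine
import Cfsg.Agent.FGSA.PLengthSeries
import Cfsg.Agent.Solvable.Fitting
import Cfsg.Agent.OddLocal.SigmaBasic
import Mathlib.GroupTheory.SpecificGroups.ZGroup

/-!
An odd solvable group with a complement containing an element of prime order whose fixed points form a
Z-group: the commutator has `p`-length at most one.
-/

set_option autoImplicit false
set_option linter.style.haveILetI false
set_option linter.unusedSectionVars false
set_option maxHeartbeats 1600000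

namespace CfsgLib.OddLocal.PLenZ

open Subgroup Cfsg CfsgLib.OddLocal
open CfsgLib.FGSA.PLen (U Good good_factor U_zero le_succ)
open scoped commutatorElement

universe u

section General

variable {X : Type u} [Group X] [Finite X] {p : ℕ} [Fact p.Prime]

/-- The quotients by two normal subgroups with trivial intersection control the `p`-length. -/
theorem pLengthLE_of_inf_eq_bot {k : ℕ} (N₁ N₂ : Subgroup X) [N₁.Normal] [N₂.Normal] (h : N₁ ⊓ N₂ = ⊥)
    (h₁ : Cfsg.PLengthLE p k (X ⧸ N₁)) (h₂ : Cfsg.PLengthLE p k (X ⧸ N₂)) : Cfsg.PLengthLE p k X := by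
  let f₁ := QuotientGroup.mk' N₁
  let f₂ := QuotientGroup.mk' N₂
  let T : ℕ → Subgroup X := fun j => (U p (X ⧸ N₁) j).comap f₁ ⊓ (U p (X ⧸ N₂) j).comap f₂
  suffices hT : ∀ j, T j ≤ U p X j by
    have h3 := hT (2 * k + 1)
    simp only [T, show U p (X ⧸ N₁) (2 * k + 1) = ⊤ from h₁, show U p (X ⧸ N₂) (2 * k + 1) = ⊤ from h₂,
      comap_top, top_inf_eq] at h3
    exact top_le_iff.1 h3
  intro j
  induction j with
  | zero =>
    simp only [T, U_zero, MonoidHom.comap_bot, f₁, f₂, QuotientGroup.ker_mk', h, le_refl]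
  | succ j ih =>
    haveI hnA : ((U p (X ⧸ N₁) j).comap f₁).Normal := Subgroup.Normal.comap inferInstance _
    haveI hnB : ((U p (X ⧸ N₂) j).comap f₂).Normal := Subgroup.Normal.comap inferInstance _
    haveI hA' : ((U p (X ⧸ N₁) (j + 1)).comap f₁).Normal := Subgroup.Normal.comap inferInstance _
    haveI hB' : ((U p (X ⧸ N₂) (j + 1)).comap f₂).Normal := Subgroup.Normal.comap inferInstance _
    refine le_succ inferInstance (Good.of_dvd ?_ (relIndex_dvd_of_le_left _ ih))
    set A := (U p (X ⧸ N₁) j).comap f₁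
    set B := (U p (X ⧸ N₂) j).comap f₂
    show Good p j ((A ⊓ B).relIndex (T (j + 1)))
    rw [← relIndex_inf_mul_relIndex]
    refine Good.mul ?_ ?_
    · refine (good_factor (G := X ⧸ N₁) j).of_dvd ?_
      refine (CfsgLib.FGSA.PLen.relIndex_dvd_of_le_right A (K' := (U p (X ⧸ N₁) (j + 1)).comap f₁)
        (inf_le_right.trans inf_le_left)).trans ?_
      rw [relIndex_comap, map_comap_eq_self_of_surjective (QuotientGroup.mk'_surjective N₁)]
    · refine (good_factor (G := X ⧸ N₂) j).of_dvd ?_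
      refine (CfsgLib.FGSA.PLen.relIndex_dvd_of_le_right B (K' := (U p (X ⧸ N₂) (j + 1)).comap f₂)
        inf_le_right).trans ?_
      rw [relIndex_comap, map_comap_eq_self_of_surjective (QuotientGroup.mk'_surjective N₂)]

/-- A subgroup of prime power order in a Z-group is cyclic. -/
theorem isCyclic_of_le_zgroup {Z T : Subgroup X} (hZ : IsZGroup Z) {s : ℕ} [Fact s.Prime] (hT : IsPGroup s T)
    (hTZ : T ≤ Z) : IsCyclic T := by
  haveI := hZ
  haveI : IsCyclic (T.subgroupOf Z) := IsPGroup.isCyclic_of_isZGroup (p := s)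
    (hT.comap_of_injective Z.subtype Z.subtype_injective)
  exact isCyclic_of_injective (subgroupOfEquivOfLe hTZ).symm.toMonoidHom (MulEquiv.injective _)

theorem card_le_of_cyclic_exp {T : Subgroup X} (hT : IsCyclic T) (h : ∀ t ∈ T, t ^ p = 1) : Nat.card T ≤ p := by
  obtain ⟨g, hg⟩ := hT.exists_generator
  rw [← orderOf_eq_card_of_forall_mem_zpowers hg, ← orderOf_coe]
  exact Nat.le_of_dvd (Fact.out : p.Prime).pos (orderOf_dvd_of_pow_eq_one (h g g.2))

/-- `C(O_p) ≤ O_p` in a solvable group without normal `p'`-subgroup. -/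
theorem centralizer_pCore_le [Group.IsSolvable X] (h : Cfsg.pPrimeCore p X = ⊥) :
    centralizer (Cfsg.pCore p X : Set X) ≤ Cfsg.pCore p X := by
  have hF : Cfsg.fittingSubgroup X ≤ Cfsg.pCore p X := by
    rw [CfsgLib.Solvable.fittingSubgroup_eq_iSup_pCore]
    refine iSup_le fun q => ?_
    haveI := Fact.mk q.2
    by_cases hq : (q : ℕ) = p
    · rw [hq]
    · refine le_trans (le_trans (CfsgLib.Solvable.le_pPrimeCore p inferInstance ?_) h.le) bot_le
      obtain ⟨e, he⟩ := IsPGroup.iff_card.1 (CfsgLib.Solvable.isPGroup_pCore (q : ℕ) (G := X))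
      rw [he]
      exact Nat.Coprime.pow_left _ ((Nat.coprime_primes q.2 Fact.out).2 hq)
  exact (centralizer_le (SetLike.coe_subset_coe.2 hF)).trans
    (CfsgLib.Fitting.centralizer_fittingSubgroup_le_of_solvable.trans hF)

/-- A nilpotent normal subgroup has trivial `p`-subgroups if `O_p = 1`. -/
theorem eq_bot_of_le_fitting (h : Cfsg.pCore p X = ⊥) {T : Subgroup X} (hT : IsPGroup p T)
    (hTF : T ≤ Cfsg.fittingSubgroup X) : T = ⊥ := by
  haveI := CfsgLib.Solvable.isNilpotent_fittingSubgroup (G := X)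
  obtain ⟨S, hS⟩ := (hT.comap_of_injective (Cfsg.fittingSubgroup X).subtype
    (Subgroup.subtype_injective _)).exists_le_sylow
  haveI : (S : Subgroup (Cfsg.fittingSubgroup X)).Normal := inferInstance
  haveI := Sylow.characteristic_of_normal S inferInstance
  have h1 : (S : Subgroup (Cfsg.fittingSubgroup X)).map (Cfsg.fittingSubgroup X).subtype = ⊥ :=
    le_bot_iff.1 ((CfsgLib.Solvable.le_pCore p inferInstance (S.2.map _)).trans h.le)
  refine le_bot_iff.1 (le_trans ?_ h1.le)
  rw [← map_subgroupOf_eq_of_le hTF]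
  exact map_mono hS

theorem characteristic_pCore (q : ℕ) : (Cfsg.pCore q X).Characteristic :=
  characteristic_iff_map_le.2 fun φ => CfsgLib.Solvable.le_pCore q
    (Subgroup.Normal.map inferInstance φ.toMonoidHom φ.surjective) ((CfsgLib.Solvable.isPGroup_pCore q).map _)

theorem characteristic_pPrimeCore (q : ℕ) : (Cfsg.pPrimeCore q X).Characteristic :=
  characteristic_iff_map_le.2 fun φ => CfsgLib.Solvable.le_pPrimeCore q
    (Subgroup.Normal.map inferInstance φ.toMonoidHom φ.surjective)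
    ((CfsgLib.Solvable.coprime_card_pPrimeCore q).coprime_dvd_left (card_map_dvd _ _))

end General

/-- Quotient data: the hypothesis passes to `H̄ = HM/M`. -/
theorem quotient_data {G : Type u} [Group G] [Finite G] [Group.IsSolvable G] {H R M : Subgroup G} [H.Normal]
    [M.Normal] (hcompl : IsComplement' H R) (hcop : (Nat.card H).Coprime (Nat.card R)) (hMH : M ≤ H)
    {x : G} {r : ℕ} [Fact r.Prime] (hxR : x ∈ R) (hx : orderOf x = r)
    (hZ : IsZGroup ↥(H ⊓ centralizer ({x} : Set G))) :
    let f := QuotientGroup.mk' M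
    IsComplement' (H.map f) (R.map f) ∧ (Nat.card (H.map f)).Coprime (Nat.card (R.map f)) ∧
      orderOf (f x) = r ∧ IsZGroup ↥(H.map f ⊓ centralizer ({f x} : Set (G ⧸ M))) := by
  intro f
  have hf : Function.Surjective f := QuotientGroup.mk'_surjective M
  have hc : (Nat.card (H.map f)).Coprime (Nat.card (R.map f)) :=
    (hcop.coprime_dvd_left (card_map_dvd _ _)).coprime_dvd_right (card_map_dvd _ _)
  have hxM : x ∉ M := fun h => by
    have h1 : orderOf x ∣ Nat.card H := H.orderOf_dvd_natCard (hMH h)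
    have h2 : orderOf x ∣ Nat.card R := R.orderOf_dvd_natCard hxR
    rw [hx] at h1 h2
    exact (Fact.out : r.Prime).one_lt.ne' (Nat.eq_one_of_dvd_coprimes hcop h1 h2)
  have hfx : orderOf (f x) = r := orderOf_eq_prime (by rw [← map_pow, ← hx, pow_orderOf_eq_one, map_one])
    fun h => hxM ((QuotientGroup.eq_one_iff x).1 h)
  refine ⟨?_, hc, hfx, ?_⟩
  · refine isComplement'_of_coprime ?_ hc
    have hn : R.map f ≤ normalizer (H.map f : Set (G ⧸ M)) := by
      haveI : (H.map f).Normal := Subgroup.Normal.map inferInstance f hf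
      rw [normalizer_eq_top]; exact le_top
    rw [mul_comm, ← CfsgLib.Solvable.card_sup_of_disjoint hn
      (disjoint_iff.1 (disjoint_of_coprime_natCard hc.symm)), sup_comm, ← Subgroup.map_sup, hcompl.sup_eq_top,
      map_top_of_surjective f hf, card_top]
  · haveI := hZ
    let g : ↥(H ⊓ centralizer ({x} : Set G)) →* ↥(H.map f ⊓ centralizer ({f x} : Set (G ⧸ M))) :=
      { toFun := fun y => ⟨f y, ⟨_, y.2.1, rfl⟩, mem_centralizer_singleton_iff.2 (by
          rw [← map_mul, mem_centralizer_singleton_iff.1 y.2.2, map_mul])⟩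
        map_one' := Subtype.ext (map_one f)
        map_mul' := fun a b => Subtype.ext (map_mul f _ _) }
    refine IsZGroup.of_surjective (f := g) ?_
    rintro ⟨y, hyH, hyc⟩
    obtain ⟨h, hh, rfl⟩ := hyH
    have hxn : zpowers x ≤ normalizer (H : Set G) := by rw [normalizer_eq_top]; exact le_top
    have hxc : (Nat.card (zpowers x)).Coprime (Nat.card H) :=
      hcop.symm.coprime_dvd_left (card_dvd_of_le (zpowers_le.2 hxR))
    obtain ⟨c, hc, hhc⟩ := CfsgLib.CoprimeAct.exists_centralizing_mem_coset hxn hxc hMH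
      (by rw [normalizer_eq_top]; exact le_top) (Or.inl (inferInstance : Group.IsSolvable (zpowers x))) hh
      fun a ha => by
        refine (QuotientGroup.eq_one_iff _).1 (show f (h⁻¹ * (a * h * a⁻¹)) = 1 from ?_)
        obtain ⟨i, rfl⟩ := mem_zpowers_iff.1 ha
        have hcomm : Commute (f h) (f x) := mem_centralizer_singleton_iff.1 hyc
        rw [map_mul, map_mul, map_mul, map_inv, map_inv, map_zpow, (hcomm.zpow_right i).symm.eq,
          mul_inv_cancel_right, inv_mul_cancel]
    refine ⟨⟨c, hc.1, FixedLine.centralizer_zpowers_le x hc.2⟩, Subtype.ext ?_⟩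
    show f c = f h
    refine (inv_mul_eq_one.1 ?_).symm
    rw [← map_inv, ← map_mul]
    exact (QuotientGroup.eq_one_iff _).2 hhc

theorem key {p r : ℕ} [Fact p.Prime] [Fact r.Prime] : ∀ (n : ℕ) (G : Type u) [Group G] [Finite G] [Group.IsSolvable G],
    Odd (Nat.card G) → ∀ (H R : Subgroup G) [H.Normal], IsComplement' H R → (Nat.card H).Coprime (Nat.card R) →
    ∀ x ∈ R, orderOf x = r → IsZGroup ↥(H ⊓ centralizer ({x} : Set G)) → ⁅H, R⁆ = H → Nat.card H = n →
    Cfsg.PLengthLE p 1 H := by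
  intro n
  induction n using Nat.strongRecOn with | ind n ih => ?_
  intro G _ _ _ hodd H R hHn hcompl hcop x hxR hx hZ hHR hn
  subst hn
  classical
  by_cases hpH : ¬ p ∣ Nat.card H
  · exact CfsgLib.FGSA.PLen.pLengthLE_mono (Nat.zero_le 1) (CfsgLib.FGSA.PLen.pLengthLE_zero_of_coprime
      ((Fact.out : p.Prime).coprime_iff_not_dvd.2 hpH).symm)
  push Not at hpH
  have hodd_dvd : ∀ q : ℕ, q.Prime → q ∣ Nat.card G → q ≠ 2 := fun q hq hd h => by
    subst h
    exact (Nat.not_even_iff_odd.2 hodd) (even_iff_two_dvd.2 hd)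
  have hrR : r ∣ Nat.card R := hx ▸ R.orderOf_dvd_natCard hxR
  have hp2 : p ≠ 2 := hodd_dvd p Fact.out (hpH.trans H.card_subgroup_dvd_card)
  have hr2 : r ≠ 2 := hodd_dvd r Fact.out (hrR.trans R.card_subgroup_dvd_card)
  have hrH : ∀ s : ℕ, s.Prime → s ∣ Nat.card H → r ≠ s := fun s hs hd h => by
    subst h
    exact hs.one_lt.ne' (Nat.eq_one_of_dvd_coprimes hcop hd hrR)
  have hrp : r ≠ p := hrH p Fact.out hpH
  have hnorm : ∀ T : Subgroup G, T ≤ normalizer (H : Set G) := fun T => by rw [normalizer_eq_top]; exact le_top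
  -- quotients
  have hquot : ∀ M : Subgroup G, M.Normal → M ≠ ⊥ → M ≤ H → ∀ [(M.subgroupOf H).Normal],
      Cfsg.PLengthLE p 1 (↥H ⧸ M.subgroupOf H) := by
    intro M hM hM1 hMH _
    haveI := hM
    let f := QuotientGroup.mk' M
    obtain ⟨hc1, hc2, hfx, hfZ⟩ := quotient_data hcompl hcop hMH hxR hx hZ
    haveI : (H.map f).Normal := Subgroup.Normal.map inferInstance f (QuotientGroup.mk'_surjective M)
    have hlt : Nat.card (H.map f) < Nat.card H := by
      have e := relIndex_ker H (f := f)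
      rw [QuotientGroup.ker_mk'] at e
      rw [← e]
      refine lt_of_le_of_ne (Nat.le_of_dvd Nat.card_pos (relIndex_dvd_card M H)) fun h => hM1 (eq_bot_of_card_eq _ ?_)
      have hmul : Nat.card M * M.relIndex H = Nat.card H := by
        rw [← relIndex_bot_left, ← relIndex_bot_left]
        exact relIndex_mul_relIndex _ _ _ bot_le hMH
      rw [h] at hmul
      exact Nat.eq_of_mul_eq_mul_right Nat.card_pos (hmul.trans (one_mul _).symm)
    haveI : Group.IsSolvable (G ⧸ M) := Group.isSolvable_of_surjective (QuotientGroup.mk'_surjective M)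
    have h := ih _ hlt (G ⧸ M) (hodd.of_dvd_nat M.card_quotient_dvd_card) (H.map f) (R.map f) hc1 hc2 (f x)
      ⟨x, hxR, rfl⟩ hfx hfZ (by rw [← map_commutator, hHR]) rfl
    let g : H →* H.map f := f.subgroupMap H
    have hgker : g.ker = M.subgroupOf H := by
      ext y
      rw [MonoidHom.mem_ker, mem_subgroupOf, ← QuotientGroup.eq_one_iff (y : G), Subtype.ext_iff]
      rfl
    refine CfsgLib.FGSA.PLen.pLengthLE_of_surjective
      (((QuotientGroup.quotientMulEquivOfEq hgker).symm.trans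
        (QuotientGroup.quotientKerEquivOfSurjective g (f.subgroupMap_surjective H))).symm.toMonoidHom)
      (MulEquiv.surjective _) h
  -- no normal `p'`-subgroup
  set O := (Cfsg.pPrimeCore p H).map H.subtype with hO
  by_cases hO1 : O ≠ ⊥
  · haveI : (Cfsg.pPrimeCore p H).Characteristic := characteristic_pPrimeCore p
    have hOn : O.Normal := inferInstance
    haveI : (Cfsg.pPrimeCore p H).Normal := inferInstance
    have h2 := hquot O hOn hO1 (map_subtype_le _)
    have e : O.subgroupOf H = Cfsg.pPrimeCore p H := comap_map_eq_self_of_injective H.subtype_injective _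
    replace h2 := CfsgLib.FGSA.PLen.pLengthLE_of_surjective (QuotientGroup.quotientMulEquivOfEq e).toMonoidHom
      (MulEquiv.surjective _) h2
    exact CfsgLib.FGSA.PLen.pLengthLE_add (a := 0) (b := 1) (Cfsg.pPrimeCore p H)
      (CfsgLib.FGSA.PLen.pLengthLE_zero_of_coprime (CfsgLib.Solvable.coprime_card_pPrimeCore p)) h2
  push Not at hO1
  have hcore : Cfsg.pPrimeCore p H = ⊥ := (map_eq_bot_iff_of_injective _ H.subtype_injective).1 hO1
  -- two normal subgroups
  have htwo : ∀ M₁ M₂ : Subgroup G, M₁.Normal → M₂.Normal → M₁ ≠ ⊥ → M₂ ≠ ⊥ → M₁ ≤ H → M₂ ≤ H → M₁ ⊓ M₂ = ⊥ →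
      Cfsg.PLengthLE p 1 H := by
    intro M₁ M₂ hn₁ hn₂ h₁ h₂ hle₁ hle₂ hinf
    haveI := hn₁; haveI := hn₂
    refine pLengthLE_of_inf_eq_bot (M₁.subgroupOf H) (M₂.subgroupOf H) ?_ (hquot M₁ hn₁ h₁ hle₁) (hquot M₂ hn₂ h₂ hle₂)
    rw [subgroupOf, subgroupOf, ← comap_inf, hinf, MonoidHom.comap_bot, ker_subtype]
  set V' := Cfsg.pCore p H with hV'
  by_cases hidx : V'.index.Coprime p
  · refine Sig.pLengthLE_one_of_index (hidx.coprime_dvd_left (index_dvd_of_le ?_))
    intro v hv
    show QuotientGroup.mk' (Cfsg.pPrimeCore p H) v ∈ Cfsg.pCore p (H ⧸ Cfsg.pPrimeCore p H)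
    refine CfsgLib.Solvable.le_pCore p (Subgroup.Normal.map inferInstance _ (QuotientGroup.mk'_surjective _))
      ((CfsgLib.Solvable.isPGroup_pCore p).map _) ⟨v, hv, rfl⟩
  have hpidx : p ∣ V'.index := by
    by_contra h
    exact hidx ((Fact.out : p.Prime).coprime_iff_not_dvd.2 h).symm
  set V := V'.map H.subtype with hVdef
  have hVH : V ≤ H := map_subtype_le _
  haveI : V'.Characteristic := characteristic_pCore p
  haveI hVn : V.Normal := inferInstance
  have hVp : IsPGroup p V := (CfsgLib.Solvable.isPGroup_pCore p).map _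
  have hmax : ∀ T : Subgroup G, T ≤ H → H ≤ normalizer (T : Set G) → IsPGroup p T → T ≤ V := by
    intro T hTH hTn hT
    rw [← map_subgroupOf_eq_of_le hTH]
    exact map_mono (CfsgLib.Solvable.le_pCore p ((normal_subgroupOf_iff_le_normalizer hTH).2 hTn)
      (hT.comap_of_injective _ H.subtype_injective))
  have hCV : H ⊓ centralizer (V : Set G) ≤ V := by
    rintro g ⟨hgH, hgc⟩
    refine ⟨⟨g, hgH⟩, centralizer_pCore_le hcore (mem_centralizer_iff.2 fun v hv => Subtype.ext ?_), rfl⟩
    exact mem_centralizer_iff.1 hgc v ⟨v, hv, rfl⟩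
  -- `V` is elementary
  have hVel : Cfsg.IsElementaryAbelian p V := by
    suffices hΦ : frattini V = ⊥ by
      obtain ⟨hcm, hpw⟩ := CfsgLib.PGroupBasic.commutator_pow_le_frattini hVp
      rw [hΦ] at hcm hpw
      refine ⟨⟨⟨fun a b => ?_⟩⟩, fun a ha => congrArg Subtype.val (mem_bot.1 (hpw ⟨a, ha⟩))⟩
      exact commutatorElement_eq_one_iff_mul_comm.1 (mem_bot.1 (hcm (commutator_mem_commutator (mem_top a) (mem_top b))))
    by_contra hΦ
    set Φ := (frattini V).map V.subtype
    have hΦH : Φ ≤ H := (map_subtype_le _).trans hVH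
    have hΦn : Φ.Normal := inferInstance
    have hΦ1 : Φ ≠ ⊥ := fun h => hΦ ((map_eq_bot_iff_of_injective _ V.subtype_injective).1 h)
    set M := Φ.subgroupOf H with hMdef
    haveI : M.Normal := inferInstance
    have hq := hquot Φ hΦn hΦ1 hΦH
    set T := (U p (↥H ⧸ M) 1).comap (QuotientGroup.mk' M) with hT
    haveI hTn : T.Normal := Subgroup.Normal.comap inferInstance _
    have hMp : IsPGroup p M := (hVp.to_le (map_subtype_le _)).comap_of_injective _ H.subtype_injective
    have hTVM : T ⊓ V' ≤ M := by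
      intro t ht
      refine (QuotientGroup.eq_one_iff t).1 ?_
      obtain ⟨j, hj⟩ := IsPGroup.iff_orderOf.1 (CfsgLib.Solvable.isPGroup_pCore p (G := H)) ⟨t, ht.2⟩
      rw [orderOf_mk] at hj
      refine orderOf_eq_one_iff.1 (Nat.eq_one_of_dvd_coprimes
        (CfsgLib.FGSA.PLen.card_U_one_coprime (G := ↥H ⧸ M) (p := p) |>.pow_right j)
        ((U p (↥H ⧸ M) 1).orderOf_dvd_natCard (mem_comap.1 ht.1)) (hj ▸ orderOf_map_dvd (QuotientGroup.mk' M) t))
    have hTp : IsPGroup p T := by
      intro t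
      obtain ⟨k, hk⟩ : ∃ k, orderOf (t : H) ∣ p ^ k ∨ ∃ q, q.Prime ∧ q ≠ p ∧ q ∣ orderOf (t : H) := by
        by_cases h : ∃ q, q.Prime ∧ q ≠ p ∧ q ∣ orderOf (t : H)
        · exact ⟨0, Or.inr h⟩
        · push Not at h
          refine ⟨(orderOf (t : H)).primeFactorsList.length, Or.inl (dvd_of_eq ?_)⟩
          exact Nat.eq_prime_pow_of_unique_prime_dvd (orderOf_pos _).ne' fun {q} hq hd =>
            by_contra fun hne => h q hq hne hd
      rcases hk with hk | ⟨q, hq, hqp, hd⟩
      · exact ⟨k, Subtype.ext (by rw [SubmonoidClass.coe_pow]; exact orderOf_dvd_iff_pow_eq_one.1 hk)⟩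
      exfalso
      set w : H := (t : H) ^ (orderOf (t : H) / q)
      have hwo : orderOf w = q := orderOf_pow_orderOf_div (orderOf_pos _).ne' hd
      have hwT : w ∈ T := pow_mem t.2 _
      have hwV : zpowers (w : G) ≤ normalizer (V : Set G) := by rw [normalizer_eq_top]; exact le_top
      have hwc : (Nat.card (zpowers (w : G))).Coprime (Nat.card (frattini V)) := by
        rw [Nat.card_zpowers, orderOf_coe, hwo]
        obtain ⟨e, he⟩ := IsPGroup.iff_card.1 (hVp.to_subgroup (frattini V))
        rw [he]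
        exact ((Nat.coprime_primes hq Fact.out).2 hqp).pow_right e
      have hcen := CfsgLib.CoprimeAct.trivial_on_frattini_quotient hwV hwc fun a ha v hv => by
        obtain ⟨i, rfl⟩ := mem_zpowers_iff.1 ha
        have hwiT : w ^ i ∈ T := zpow_mem hwT i
        obtain ⟨v', hv', rfl⟩ := hv
        have hm : ⁅w ^ i, v'⁆ ∈ T ⊓ V' := by
          constructor
          · rw [commutatorElement_def, mul_assoc, mul_assoc]
            exact mul_mem hwiT (by simpa [mul_assoc] using hTn.conj_mem _ (inv_mem hwiT) v')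
          · rw [commutatorElement_def]
            exact V'.mul_mem ((inferInstance : V'.Normal).conj_mem _ hv' _) (V'.inv_mem hv')
        exact (hTVM hm : ((⁅w ^ i, v'⁆ : H) : G) ∈ Φ)
      have hwV' : (w : G) ∈ V := hCV ⟨w.2, hcen (mem_zpowers _)⟩
      obtain ⟨j, hj⟩ := IsPGroup.iff_orderOf.1 hVp ⟨w, hwV'⟩
      rw [orderOf_mk, orderOf_coe, hwo] at hj
      exact hqp ((Nat.prime_dvd_prime_iff_eq hq Fact.out).1 (hq.dvd_of_dvd_pow (dvd_of_eq hj)))
    have hU1 : U p (↥H ⧸ M) 1 = ⊥ := by
      rw [← map_comap_eq_self_of_surjective (QuotientGroup.mk'_surjective M) (U p (↥H ⧸ M) 1), ← hT,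
        Subgroup.map_eq_bot_iff, QuotientGroup.ker_mk']
      exact fun t ht => hTVM ⟨ht, CfsgLib.Solvable.le_pCore p hTn hTp ht⟩
    set T₂ := (U p (↥H ⧸ M) 2).comap (QuotientGroup.mk' M)
    haveI hT₂n : T₂.Normal := Subgroup.Normal.comap inferInstance _
    have hT₂p : IsPGroup p T₂ := (CfsgLib.FGSA.PLen.isPGroup_U_two hU1).comap_of_ker_isPGroup _
      (by rw [QuotientGroup.ker_mk']; exact hMp)
    have hT₂i : T₂.index.Coprime p := by
      rw [index_comap_of_surjective _ (QuotientGroup.mk'_surjective M)]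
      have h2 := good_factor (G := ↥H ⧸ M) (p := p) 2
      rw [show U p (↥H ⧸ M) (2 + 1) = ⊤ from hq, relIndex_top_right] at h2
      simpa [Good] using h2
    exact hidx (hT₂i.coprime_dvd_left (index_dvd_of_le (CfsgLib.Solvable.le_pCore p hT₂n hT₂p)))
  haveI := hVel.1
  have hVV : V ≤ centralizer (V : Set G) := le_centralizer_iff_isMulCommutative.2 inferInstance
  -- a minimal normal subgroup above `V`
  let f := QuotientGroup.mk' V
  have hfs : Function.Surjective f := QuotientGroup.mk'_surjective V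
  haveI : (H.map f).Normal := Subgroup.Normal.map inferInstance f hfs
  have hHV : H.map f ≠ ⊥ := fun h => by
    rw [Subgroup.map_eq_bot_iff, QuotientGroup.ker_mk'] at h
    refine (Fact.out : p.Prime).not_dvd_one ?_
    have e : V' = ⊤ := eq_top_iff.2 fun y _ => by
      obtain ⟨z, hz, he⟩ := h y.2
      rwa [← Subtype.ext he]
    rw [e, index_top] at hpidx
    exact hpidx
  obtain ⟨Mb, hMbn, hMb1, hMbH, -, -, s, hs, -, hMbs⟩ := CfsgLib.Solvable.exists_normal_elementary_le hHV
    (Group.isSolvable_of_surjective (f.subgroupMap_surjective H))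
  haveI := Fact.mk hs
  set M := Mb.comap f
  haveI : M.Normal := hMbn.comap f
  have hVM : V ≤ M := by
    intro v hv
    show f v ∈ Mb
    rw [show f v = 1 from (QuotientGroup.eq_one_iff v).2 hv]
    exact one_mem _
  have hMH : M ≤ H := by
    refine (comap_mono hMbH).trans ?_
    rw [comap_map_eq, QuotientGroup.ker_mk']
    exact sup_le le_rfl hVH
  have hsp : s ≠ p := by
    rintro rfl
    apply hMb1
    rw [← map_comap_eq_self_of_surjective hfs Mb, Subgroup.map_eq_bot_iff, QuotientGroup.ker_mk']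
    exact hmax M hMH (by rw [normalizer_eq_top]; exact le_top)
      (hMbs.comap_of_ker_isPGroup f (by rw [QuotientGroup.ker_mk']; exact hVp))
  have hRM : R ≤ normalizer (M : Set G) := by rw [normalizer_eq_top]; exact le_top
  obtain ⟨S, hRS⟩ := CfsgLib.CoprimeAct.exists_invariant_sylow hRM
    (hcop.symm.coprime_dvd_right (card_dvd_of_le hMH)) (Or.inl inferInstance) s
  set Qs := (S : Subgroup M).map M.subtype
  have hQsM : Qs ≤ M := map_subtype_le _
  have hQsH : Qs ≤ H := hQsM.trans hMH
  have hQsp : IsPGroup s Qs := S.2.map _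
  have hMVQ : M ≤ V ⊔ Qs := by
    have hle : V ⊔ Qs ≤ M := sup_le hVM hQsM
    have hdvd : Nat.card M ∣ Nat.card ↥(V ⊔ Qs) := by
      obtain ⟨a, ha⟩ := IsPGroup.iff_card.1 hMbs
      have hMcard : Nat.card V * s ^ a = Nat.card M := by
        rw [← ha, ← map_comap_eq_self_of_surjective hfs Mb]
        have e := relIndex_ker M (f := f)
        rw [QuotientGroup.ker_mk'] at e
        rw [← e, ← relIndex_bot_left, ← relIndex_bot_left]
        exact relIndex_mul_relIndex _ _ _ bot_le hVM
      rw [← hMcard]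
      have hcopV : (Nat.card V).Coprime (s ^ a) := by
        obtain ⟨e, he⟩ := IsPGroup.iff_card.1 hVp
        rw [he]
        exact ((Nat.coprime_primes Fact.out hs).2 hsp.symm).pow _ _
      refine hcopV.mul_dvd_of_dvd_of_dvd (card_dvd_of_le le_sup_left) (dvd_trans ?_ (card_dvd_of_le (le_sup_right : Qs ≤ _)))
      rw [card_map_of_injective M.subtype_injective, Sylow.card_eq_multiplicity]
      exact Nat.pow_dvd_pow s ((hs.pow_dvd_iff_le_factorization Nat.card_pos.ne').1 (hMcard ▸ dvd_mul_left _ _))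
    exact (eq_of_le_of_card_ge hle (Nat.le_of_dvd Nat.card_pos hdvd)).ge
  set NG := normalizer (Qs : Set G) with hNG
  have hfrat : NG ⊔ V = ⊤ := by
    refine top_le_iff.1 ((S.normalizer_sup_eq_top).ge.trans (sup_le le_sup_left (hMVQ.trans (sup_le le_sup_right ?_))))
    exact le_normalizer.trans le_sup_left
  have hNGV : NG ≤ normalizer (V : Set G) := by rw [normalizer_eq_top]; exact le_top
  have hnormal : ∀ T : Subgroup G, T ≤ V → (∀ g ∈ NG, T.map (MulAut.conj g).toMonoidHom = T) → T.Normal := by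
    intro T hTV hT
    refine normalizer_eq_top_iff.1 (top_le_iff.1 (hfrat.ge.trans (sup_le (fun g hg => ?_) ?_)))
    · exact mem_normalizer_iff_map_conj_eq.2 (hT g hg)
    · exact (hVV.trans (centralizer_le hTV)).trans (centralizer_le_normalizer _)
  set C₀ := V ⊓ centralizer (Qs : Set G)
  set V₁ := ⁅V, Qs⁆
  have hV₁V : V₁ ≤ V := commutator_le_left _ _
  have hC₀n : C₀.Normal := hnormal C₀ inf_le_left fun g hg => by
    rw [map_inf_eq _ _ _ (MulAut.conj g).injective, FixedLine.map_centralizer_conj,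
      show V.map (MulAut.conj g).toMonoidHom = V from mem_normalizer_iff_map_conj_eq.1 (hNGV hg),
      show Qs.map (MulAut.conj g).toMonoidHom = Qs from mem_normalizer_iff_map_conj_eq.1 hg]
  have hV₁n : V₁.Normal := hnormal V₁ hV₁V fun g hg => by
    rw [map_commutator, show V.map (MulAut.conj g).toMonoidHom = V from mem_normalizer_iff_map_conj_eq.1 (hNGV hg),
      show Qs.map (MulAut.conj g).toMonoidHom = Qs from mem_normalizer_iff_map_conj_eq.1 hg]
  have hQsV : Qs ≤ normalizer (V : Set G) := by rw [normalizer_eq_top]; exact le_top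
  have hQVc : (Nat.card Qs).Coprime (Nat.card V) := IsPGroup.coprime_card_of_ne s p hsp _ _ hQsp hVp
  have hQs1 : Qs ≠ ⊥ := by
    intro h
    apply hMb1
    rw [← map_comap_eq_self_of_surjective hfs Mb, Subgroup.map_eq_bot_iff, QuotientGroup.ker_mk']
    exact hMVQ.trans (by rw [h, sup_bot_eq])
  have hV₁1 : V₁ ≠ ⊥ := fun h => hQs1 (by
    refine le_bot_iff.1 ((le_inf le_rfl ((le_inf hQsH (le_centralizer_iff.1
      (commutator_eq_bot_iff_le_centralizer.1 h))).trans hCV)).trans ?_)
    exact (inf_eq_bot_of_coprime hQVc).le)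
  by_cases hC₀ : C₀ ≠ ⊥
  · exact htwo C₀ V₁ hC₀n hV₁n hC₀ hV₁1 (inf_le_left.trans hVH) (hV₁V.trans hVH)
      (CfsgLib.CoprimeAct.fixed_inf_commutator_abelian hQsV hQVc)
  push Not at hC₀
  -- the complement `N`
  set N := H ⊓ NG with hNdef
  have hNH : N ≤ H := inf_le_left
  have hRN : R ≤ normalizer (N : Set G) :=
    (le_inf (hnorm R) (hRS.trans le_normalizer)).trans fun g hg => by
      refine mem_normalizer_iff_map_conj_eq.2 ?_
      show (H ⊓ NG).map (MulAut.conj g).toMonoidHom = H ⊓ NG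
      rw [map_inf_eq _ _ _ (MulAut.conj g).injective,
        show H.map (MulAut.conj g).toMonoidHom = H from mem_normalizer_iff_map_conj_eq.1 hg.1,
        show NG.map (MulAut.conj g).toMonoidHom = NG from mem_normalizer_iff_map_conj_eq.1 hg.2]
  have hVN : V ⊓ N = ⊥ := by
    refine le_bot_iff.1 (hC₀ ▸ le_inf inf_le_left ?_)
    intro v hv
    refine mem_centralizer_iff.2 fun q hq => ?_
    have h1 : ⁅q, v⁆ ∈ Qs ⊓ V := by
      refine ⟨?_, ?_⟩
      · rw [commutatorElement_def, mul_assoc, mul_assoc]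
        exact mul_mem hq (by simpa [mul_assoc] using (mem_normalizer_iff.1 hv.2.2 _).1 (inv_mem hq))
      · rw [commutatorElement_def]
        exact V.mul_mem (hVn.conj_mem v hv.1 q) (V.inv_mem hv.1)
    rw [inf_eq_bot_of_coprime hQVc, mem_bot] at h1
    exact commutatorElement_eq_one_iff_mul_comm.1 h1
  have hNV : N ≤ normalizer (V : Set G) := by rw [normalizer_eq_top]; exact le_top
  have hHVN : ∀ h ∈ H, ∃ n ∈ N, ∃ v ∈ V, n * v = h := fun h hh => by
    obtain ⟨g, hg, v, hv, hgv⟩ := (CfsgLib.Solvable.mem_sup_of_le_normalizer hNGV).1 (hfrat.ge (mem_top h))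
    refine ⟨g, ⟨?_, hg⟩, v, hv, hgv⟩
    have := mul_mem hh (inv_mem (hVH hv))
    rwa [← hgv, mul_inv_cancel_right] at this
  have hNR : N ≤ ⁅N, R⁆ := by
    set J := V ⊔ ⁅N, R⁆
    have hNRn : N ⊔ R ≤ normalizer ((⁅N, R⁆ : Subgroup G) : Set G) :=
      sup_le (normalizer_commutator_ge_left _ _) (normalizer_commutator_ge_right _ _)
    have hJ : ⁅H, R⁆ ≤ J := by
      rw [commutator_le]
      intro h hh a ha
      obtain ⟨n, hn, v, hv, rfl⟩ := hHVN h hh
      rw [commutatorElement_mul_left_eq_conj_mul]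
      refine mul_mem (mem_sup_left (hVn.conj_mem _ ?_ n)) (mem_sup_right (commutator_mem_commutator hn ha))
      exact commutator_le_left V R (commutator_mem_commutator hv ha)
    intro n hn
    have hle : ⁅N, R⁆ ≤ N := le_normalizer_iff_commutator_le_left.1 hRN
    obtain ⟨m, hm, v, hv, hmv⟩ := (CfsgLib.Solvable.mem_sup_of_le_normalizer (hle.trans hNV)).1
      (show n ∈ ⁅N, R⁆ ⊔ V by rw [sup_comm]; exact hJ (hHR.ge (hNH hn)))
    have hv1 : v ∈ V ⊓ N := ⟨hv, by
      have := mul_mem (inv_mem (hle hm)) hn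
      rwa [← hmv, inv_mul_cancel_left] at this⟩
    rw [hVN, mem_bot] at hv1
    rw [← hmv, hv1, mul_one]
    exact hm
  have hNfaith : N ⊓ centralizer (V : Set G) = ⊥ :=
    le_bot_iff.1 ((le_inf ((inf_le_inf_right _ hNH).trans hCV) inf_le_left).trans hVN.le)
  -- `O_p(N) = 1`
  have hpN : Cfsg.pCore p N = ⊥ := by
    set T := (Cfsg.pCore p N).map N.subtype
    have hTN : T ≤ N := map_subtype_le _
    have hTn : N ≤ normalizer (T : Set G) :=
      (normal_subgroupOf_iff_le_normalizer hTN).1 (by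
        rw [show T.subgroupOf N = Cfsg.pCore p N from comap_map_eq_self_of_injective N.subtype_injective _]
        infer_instance)
    have hTp : IsPGroup p T := (CfsgLib.Solvable.isPGroup_pCore p).map _
    have hJp : IsPGroup p ↥(V ⊔ T) := hVp.to_sup_of_normal_left' hTp (hTN.trans hNV)
    have hJn : H ≤ normalizer ((V ⊔ T : Subgroup G) : Set G) := by
      intro h hh
      obtain ⟨n, hn, v, hv, rfl⟩ := hHVN h hh
      exact mul_mem (normalizer_inf_normalizer_le_normalizer_sup V T ⟨hNV hn, hTn hn⟩)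
        (le_normalizer (mem_sup_left hv))
    refine (map_eq_bot_iff_of_injective _ N.subtype_injective).1 (le_bot_iff.1 ?_)
    exact hVN ▸ le_inf ((le_sup_right).trans (hmax _ (sup_le hVH (hTN.trans hNH)) hJn hJp)) hTN
  -- the invariant Sylow `p`-subgroup
  set A := zpowers x with hA
  have hAR : A ≤ R := zpowers_le.2 hxR
  have hAN : A ≤ normalizer (N : Set G) := hAR.trans hRN
  obtain ⟨P₀, hAP⟩ := CfsgLib.CoprimeAct.exists_invariant_sylow hAN
    ((hcop.symm.coprime_dvd_left (card_dvd_of_le hAR)).coprime_dvd_right (card_dvd_of_le hNH))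
    (Or.inl inferInstance) p
  set P := (P₀ : Subgroup N).map N.subtype
  have hPN : P ≤ N := map_subtype_le _
  have hPp : IsPGroup p P := P₀.2.map _
  have hxV : x ∈ normalizer (V : Set G) := by rw [normalizer_eq_top]; exact mem_top _
  have hxP : x ∈ normalizer (P : Set G) := hAP (mem_zpowers x)
  have hPne : P ≠ ⊥ := by
    intro h
    have hpN' : ¬ p ∣ Nat.card N := fun hd => P₀.ne_bot_of_dvd_card hd
      ((map_eq_bot_iff_of_injective _ N.subtype_injective).1 h)
    apply hpN'
    have hcard : Nat.card V * Nat.card N = Nat.card H := by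
      have hle : N ⊔ V = H := le_antisymm (sup_le hNH hVH) fun h hh => by
        obtain ⟨n, hn, v, hv, rfl⟩ := hHVN h hh
        exact mul_mem (mem_sup_left hn) (mem_sup_right hv)
      rw [← hle, CfsgLib.Solvable.card_sup_of_disjoint hNV (by rw [inf_comm]; exact hVN), mul_comm]
    have hVc : Nat.card V = Nat.card V' := card_map_of_injective H.subtype_injective
    rw [← V'.card_mul_index, hVc] at hcard
    rw [Nat.eq_of_mul_eq_mul_left Nat.card_pos hcard]
    exact hpidx
  have hZcyc : ∀ {q : ℕ} [Fact q.Prime] {T : Subgroup G}, IsPGroup q T → T ≤ H →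
      IsCyclic ↥(T ⊓ centralizer ({x} : Set G)) := fun hT hTH =>
    isCyclic_of_le_zgroup hZ (hT.to_le inf_le_left) (inf_le_inf_right _ hTH)
  have hfix : Nat.card ↥(V ⊓ centralizer ({x} : Set G)) ≤ p :=
    card_le_of_cyclic_exp (hZcyc hVp hVH) fun v hv => hVel.2 v hv.1
  have hPfix : ∀ u ∈ P, u ≠ 1 → Commute u x → V ⊓ centralizer ({x} : Set G) = ⊥ := by
    intro u hu hu1 hux
    refine (eq_bot_iff_forall _).2 fun v hv => by_contra fun hv1 => ?_
    obtain ⟨j, hj⟩ := IsPGroup.iff_orderOf.1 hPp ⟨u, hu⟩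
    rw [orderOf_mk] at hj
    have hd : p ∣ orderOf u := by
      rcases Nat.eq_zero_or_pos j with h0 | hpos
      · exact absurd (orderOf_eq_one_iff.1 (by rw [hj, h0, pow_zero])) hu1
      · rw [hj]; exact dvd_pow_self p hpos.ne'
    set u' := u ^ (orderOf u / p)
    have hu'o : orderOf u' = p := orderOf_pow_orderOf_div (orderOf_pos u).ne' hd
    have hJp : IsPGroup p ↥(V ⊔ P) := hVp.to_sup_of_normal_left' hPp (hPN.trans hNV)
    have e := UTool.zpowers_eq_of_cyclic (hZcyc hJp (sup_le hVH (hPN.trans hNH))) (u := v) (v := u')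
      ⟨mem_sup_left hv.1, hv.2⟩ ⟨mem_sup_right (pow_mem hu _),
        mem_centralizer_singleton_iff.2 (hux.pow_left _).eq⟩
      (orderOf_eq_prime (hVel.2 v hv.1) hv1) hu'o
    have h1 : u' ∈ V ⊓ N := ⟨zpowers_le.2 hv.1 (e.ge (mem_zpowers u')), pow_mem (hPN hu) _⟩
    rw [hVN, mem_bot] at h1
    rw [h1, orderOf_one] at hu'o
    exact (Fact.out : p.Prime).one_lt.ne hu'o
  -- the Fitting subgroup of `N`
  set F := (Cfsg.fittingSubgroup N).map N.subtype with hFdef
  have hFcore : ∀ T : Subgroup G, (∀ q : ℕ, q.Prime → q ∣ Nat.card H → q ≠ p →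
      (Cfsg.pCore q N).map N.subtype ≤ T) → F ≤ T := by
    intro T hT
    rw [hFdef, CfsgLib.Solvable.fittingSubgroup_eq_iSup_pCore, Subgroup.map_iSup]
    refine iSup_le fun q => ?_
    haveI := Fact.mk q.2
    by_cases hqp : (q : ℕ) = p
    · rw [hqp, hpN, Subgroup.map_bot]; exact bot_le
    by_cases hb : Cfsg.pCore (q : ℕ) N = ⊥
    · rw [hb, Subgroup.map_bot]; exact bot_le
    refine hT q q.2 ?_ hqp
    obtain ⟨e, he⟩ := IsPGroup.iff_card.1 (CfsgLib.Solvable.isPGroup_pCore (q : ℕ) (G := N))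
    have he0 : e ≠ 0 := fun h => hb (eq_bot_of_card_eq _ (by rw [he, h, pow_zero]))
    exact (he ▸ dvd_pow_self (q : ℕ) he0 : (q : ℕ) ∣ Nat.card (Cfsg.pCore (q : ℕ) N)).trans
      ((card_subgroup_dvd_card _).trans (card_dvd_of_le hNH))
  have hQdata : ∀ (q : ℕ) [Fact q.Prime], IsPGroup q ↥((Cfsg.pCore q N).map N.subtype) ∧
      (Cfsg.pCore q N).map N.subtype ≤ N ∧
      normalizer (N : Set G) ≤ normalizer ((Cfsg.pCore q N).map N.subtype : Set G) := fun q _ =>
    ⟨(CfsgLib.Solvable.isPGroup_pCore q).map _, map_subtype_le _,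
      UTool.normalizer_le_normalizer_map N _ (characteristic_pCore q)⟩
  haveI : Group.IsSolvable N := inferInstance
  have hCF : N ⊓ centralizer (F : Set G) ≤ F := by
    rintro g ⟨hgN, hgc⟩
    refine ⟨⟨g, hgN⟩, CfsgLib.Fitting.centralizer_fittingSubgroup_le_of_solvable
      (mem_centralizer_iff.2 fun y hy => Subtype.ext ?_), rfl⟩
    exact mem_centralizer_iff.1 hgc y ⟨y, hy, rfl⟩
  have hbotF : ∀ T : Subgroup G, IsPGroup p T → T ≤ F → T = ⊥ := by
    intro T hT hTF
    have hTN : T ≤ N := hTF.trans (map_subtype_le _)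
    have h := eq_bot_of_le_fitting hpN (T := T.subgroupOf N) (hT.comap_of_injective _ N.subtype_injective)
      fun y hy => by
        obtain ⟨z, hz, he⟩ := hTF hy
        rwa [← Subtype.ext he]
    rw [← map_subgroupOf_eq_of_le hTN, h, Subgroup.map_bot]
  have hPA : ⁅P, A⁆ ≤ P := le_normalizer_iff_commutator_le_left.1 hAP
  by_cases hPx : ⁅P, A⁆ = ⊥
  · -- `x` centralizes `P`
    exfalso
    have hPc := commutator_eq_bot_iff_le_centralizer.1 hPx
    obtain ⟨u, hu, hu1⟩ := (bot_or_exists_ne_one P).resolve_left hPne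
    have hV0 := hPfix u hu hu1 (mem_centralizer_singleton_iff.1 (FixedLine.centralizer_zpowers_le x (hPc hu)))
    have hFx : F ≤ centralizer ({x} : Set G) := hFcore _ fun q hq hqH hqp => by
      haveI := Fact.mk hq
      obtain ⟨h1, h2, h3⟩ := hQdata q
      exact FixedLine.fpf_centralizes (hodd_dvd q hq (hqH.trans H.card_subgroup_dvd_card)) hr2 hqp hrp (hrH q hq hqH)
        hVel hx hxV hV0 h1 (h2.trans hNV) (le_bot_iff.1 (hNfaith ▸ inf_le_inf_right _ h2))
        (h3 (hRN hxR))
    have hFH : F ≤ H ⊓ centralizer ({x} : Set G) := le_inf ((map_subtype_le _).trans hNH) hFx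
    have hFc : IsCyclic F := by
      haveI := hZ
      haveI : IsZGroup F := IsZGroup.of_injective (inclusion_injective hFH)
      haveI : Group.IsNilpotent (Cfsg.fittingSubgroup N) := CfsgLib.Solvable.isNilpotent_fittingSubgroup
      haveI : Group.IsNilpotent F := Group.nilpotent_of_surjective _ (N.subtype.subgroupMap_surjective _)
      infer_instance
    have hNRF : N ⊔ R ≤ normalizer (F : Set G) :=
      (sup_le le_normalizer hRN).trans (UTool.normalizer_le_normalizer_map N _ inferInstance)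
    have hNF : N ≤ F := (le_inf le_rfl ((hNR.trans (commutator_mono le_sup_left le_sup_right)).trans
      (UTool.commutator_le_centralizer_cyclic hNRF hFc))).trans hCF
    exact hPne (hbotF P hPp (hPN.trans hNF))
  · exfalso
    refine hPx (hbotF _ (hPp.to_le hPA) ((le_inf (hPA.trans hPN) ?_).trans hCF))
    refine le_centralizer_iff.1 (hFcore _ fun q hq hqH hqp => le_centralizer_iff.1 ?_)
    haveI := Fact.mk hq
    obtain ⟨h1, h2, h3⟩ := hQdata q
    exact FixedLine.commutator_centralizes hp2 (hodd_dvd q hq (hqH.trans H.card_subgroup_dvd_card)) hr2 hqp hrp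
      (hrH q hq hqH) hVel hx hxV hfix hPp (hPN.trans hNV) hxP hPfix h1 (h2.trans hNV)
      (le_bot_iff.1 (hNfaith ▸ inf_le_inf_right _ h2)) (hPN.trans ((le_normalizer).trans h3))
      (h3 (hRN hxR)) (hZcyc h1 (h2.trans hNH))

/-- The commutator with a complement has `p`-length at most one. -/
theorem pLengthLE_commutator {G : Type u} [Group G] [Finite G] [Group.IsSolvable G] (hodd : Odd (Nat.card G))
    {p : ℕ} [Fact p.Prime] (H R : Subgroup G) [H.Normal] (hcop : (Nat.card H).Coprime (Nat.card R))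
    (hcompl : IsComplement' H R) {r : ℕ} [Fact r.Prime] {x : G} (hxR : x ∈ R) (hx : orderOf x = r)
    (hZ : IsZGroup ↥(H ⊓ centralizer ({x} : Set G))) : Cfsg.PLengthLE p 1 ↥⁅H, R⁆ := by
  have hRH : R ≤ normalizer (H : Set G) := by rw [normalizer_eq_top]; exact le_top
  set K := ⁅H, R⁆ with hK
  have hKH : K ≤ H := commutator_le_left H R
  have hKK : ⁅K, R⁆ = K := CfsgLib.CoprimeAct.commutator_commutator hRH hcop.symm (Or.inl inferInstance)
  have hKn : K.Normal := normalizer_eq_top_iff.1 (top_le_iff.1 (hcompl.sup_eq_top.ge.trans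
    (sup_le (normalizer_commutator_ge_left _ _) (normalizer_commutator_ge_right _ _))))
  set J := K ⊔ R with hJ
  haveI : (K.subgroupOf J).Normal := inferInstance
  have hcc : (Nat.card K).Coprime (Nat.card R) := hcop.coprime_dvd_left (card_dvd_of_le hKH)
  have hcK : Nat.card (K.subgroupOf J) = Nat.card K := Nat.card_congr (subgroupOfEquivOfLe le_sup_left).toEquiv
  have hcR : Nat.card (R.subgroupOf J) = Nat.card R := Nat.card_congr (subgroupOfEquivOfLe le_sup_right).toEquiv
  have hc1 : IsComplement' (K.subgroupOf J) (R.subgroupOf J) := by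
    refine isComplement'_of_coprime ?_ (by rw [hcK, hcR]; exact hcc)
    rw [hcK, hcR, hJ, sup_comm, CfsgLib.Solvable.card_sup_of_disjoint (by rw [normalizer_eq_top]; exact le_top)
      (disjoint_iff.1 (disjoint_of_coprime_natCard hcc.symm)), mul_comm]
  have hxJ : x ∈ J := mem_sup_right hxR
  have hZ' : IsZGroup ↥(K.subgroupOf J ⊓ centralizer ({⟨x, hxJ⟩} : Set J)) := by
    haveI := hZ
    let g : ↥(K.subgroupOf J ⊓ centralizer ({⟨x, hxJ⟩} : Set J)) →* ↥(H ⊓ centralizer ({x} : Set G)) :=
      { toFun := fun y => ⟨((y : J) : G), hKH (mem_inf.1 y.2).1, mem_centralizer_singleton_iff.2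
          (congrArg Subtype.val (mem_centralizer_singleton_iff.1 (mem_inf.1 y.2).2))⟩
        map_one' := rfl
        map_mul' := fun a b => rfl }
    refine IsZGroup.of_injective (f := g) fun a b h => ?_
    exact Subtype.ext (Subtype.ext (congrArg (Subtype.val : ↥(H ⊓ centralizer ({x} : Set G)) → G) h))
  have hcomm : ⁅K.subgroupOf J, R.subgroupOf J⁆ = K.subgroupOf J := by
    apply map_injective J.subtype_injective
    rw [map_commutator, map_subgroupOf_eq_of_le le_sup_left, map_subgroupOf_eq_of_le le_sup_right, hKK]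
  have h := key (p := p) (r := r) _ J (hodd.of_dvd_nat J.card_subgroup_dvd_card) (K.subgroupOf J) (R.subgroupOf J) hc1
    (by rw [hcK, hcR]; exact hcc) ⟨x, hxJ⟩ hxR (by rw [← hx]; exact (orderOf_coe (⟨x, hxJ⟩ : J)).symm) hZ' hcomm rfl
  exact CfsgLib.FGSA.PLen.pLengthLE_of_surjective (subgroupOfEquivOfLe (le_sup_left : K ≤ J)).toMonoidHom
    (MulEquiv.surjective _) h

end CfsgLib.OddLocal.PLenZ
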