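import Cfsg.Agent.OddLocal.Transitivity
import Cfsg.Agent.KGroup.Invariant
import Cfsg.Agent.Invol.AbelianSignalizer
import Cfsg.Agent.PLocal.PConstrained
import Cfsg.Agent.Solvable.PGroupRank
import Cfsg.Agent.S0125

/-!
Invariant `p'`-subgroups lie in the `p'`-core: reduction to centralizers, and the case of a
self-centralizing normal abelian subgroup of rank at least two of a Sylow `p`-subgroup.
-/

set_option autoImplicit false
set_option linter.style.haveILetI false
set_option linter.unusedSectionVars false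

namespace CfsgLib.OddLocal.THCases

open Subgroup Cfsg

variable {p : ℕ} [Fact p.Prime]

theorem isPConstrained_of_solvable {X : Type*} [Group X] [Finite X] [Group.IsSolvable X] :
    Cfsg.IsPConstrained p X :=
  CfsgLib.PConstrained.isPConstrained_iff.2
    (CfsgLib.Fitting.centralizer_pCore_le (CfsgLib.Fitting.pPrimeCore_quotient_eq_bot p))

/-- An invariant `p'`-subgroup lies in `O_{p'}` if its centralizer pieces lie in `p'`-subgroups
normalized by the centralizers. -/
theorem le_pPrimeCore_of_local {X : Type*} [Group X] [Finite X] [Group.IsSolvable X]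
    {B H : Subgroup X} (hB : Cfsg.IsElementaryAbelian p B) (hB2 : p ^ 2 ≤ Nat.card B)
    (hBH : B ≤ normalizer (H : Set X)) (hH : (Nat.card H).Coprime p)
    (hloc : ∀ b ∈ B, b ≠ 1 → ∃ K : Subgroup X, (Nat.card K).Coprime p ∧
      centralizer ({b} : Set X) ≤ normalizer (K : Set X) ∧ H ⊓ centralizer ({b} : Set X) ≤ K) :
    H ≤ Cfsg.pPrimeCore p X := by
  set O := Cfsg.pPrimeCore p X
  have hp : p.Prime := Fact.out
  refine CfsgLib.Signalizer.le_of_forall_centralizer hB le_rfl hB2 hBH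
    ((Nat.Prime.coprime_iff_not_dvd hp).1 hH.symm) fun b hb hb1 => ?_
  obtain ⟨K, hKc, hKn, hHK⟩ := hloc b hb hb1
  let f := QuotientGroup.mk' O
  set F := Cfsg.pCore p (X ⧸ O)
  have hF : IsPGroup p F := CfsgLib.Solvable.isPGroup_pCore p
  haveI : F.Normal := CfsgLib.Solvable.pCore_normal p
  set Q := (H ⊓ centralizer ({b} : Set X)).map f
  have hQ : (Nat.card Q).Coprime p :=
    (hH.coprime_dvd_left (card_dvd_of_le inf_le_left)).coprime_dvd_left (card_map_dvd _ _)
  have hzb : IsPGroup p (zpowers b) := (CfsgLib.Signalizer.isPGroup hB).to_le (zpowers_le.2 hb)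
  have hfb : zpowers b ≤ centralizer ((H ⊓ centralizer ({b} : Set X) : Subgroup X) : Set X) := by
    rw [zpowers_le, mem_centralizer_iff]
    exact fun h hh => mem_centralizer_singleton_iff.1 hh.2
  have hPQ : (zpowers b).map f ≤ centralizer (Q : Set (X ⧸ O)) := by
    rintro _ ⟨z, hz, rfl⟩
    refine mem_centralizer_iff.2 ?_
    rintro _ ⟨h, hh, rfl⟩
    rw [← map_mul, ← map_mul, mem_centralizer_iff.1 (hfb hz) h hh]
  have hfix : F ⊓ centralizer ((zpowers b).map f : Set (X ⧸ O)) ≤ centralizer (Q : Set (X ⧸ O)) := by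
    rintro g ⟨hgF, hgb⟩
    obtain ⟨g, rfl⟩ := QuotientGroup.mk'_surjective O g
    haveI := hzb.isNilpotent
    obtain ⟨j, hj⟩ := IsPGroup.iff_card.1 hzb
    obtain ⟨c, hc1, hc2⟩ := CfsgLib.Coprime.exists_commute_mem_coset (zpowers b) O le_normalizer_of_normal
      (hj ▸ ((CfsgLib.Solvable.coprime_card_pPrimeCore p).pow_right j).symm) g (fun a ha => by
        rw [← QuotientGroup.ker_mk' O, MonoidHom.mem_ker]
        change f (g⁻¹ * (a * g * a⁻¹)) = 1
        rw [map_mul, map_mul, map_mul, map_inv, map_inv, mem_centralizer_iff.1 hgb (f a) ⟨a, ha, rfl⟩,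
          mul_inv_cancel_right, inv_mul_cancel])
    have hcg : f c = f g := by
      have h1 : f (g⁻¹ * c) = 1 := (QuotientGroup.eq_one_iff _).2 hc2
      rw [map_mul, map_inv, inv_mul_eq_one] at h1
      exact h1.symm
    have hcb : c ∈ centralizer ({b} : Set X) := mem_centralizer_singleton_iff.2 (hc1 b (mem_zpowers b)).symm
    refine mem_centralizer_iff.2 ?_
    rintro _ ⟨h, hh, rfl⟩
    show f h * f g = f g * f h
    rw [← hcg, ← mul_inv_eq_iff_eq_mul, ← mul_inv_eq_one]
    have hK : h * c * h⁻¹ * c⁻¹ ∈ K := by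
      rw [mul_assoc h, mul_assoc h]
      exact mul_mem (hHK hh) ((mem_normalizer_iff.1 (hKn hcb) _).1 (inv_mem (hHK hh)))
    have hd : f (h * c * h⁻¹ * c⁻¹) ∈ F := by
      simp only [map_mul, map_inv]
      exact mul_mem (Normal.conj_mem inferInstance _ (hcg ▸ hgF) _) (inv_mem (hcg ▸ hgF))
    have h1 := CfsgLib.CharP.eq_one_of_mem_pgroup hF hd
      ((hKc.coprime_dvd_left (K.orderOf_dvd_natCard hK)).coprime_dvd_left (orderOf_map_dvd f _))
    simpa only [map_mul, map_inv] using h1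
  have hnorm : ∀ U : Subgroup (X ⧸ O), U ≤ normalizer (F : Set (X ⧸ O)) := fun U => le_normalizer_of_normal
  have hcomm := CfsgLib.CoprimeAct.p_times_q_aux (Nat.card F) p ((zpowers b).map f) Q F rfl (hzb.map f) hQ hF hPQ
    (hnorm _) (hnorm _) hfix
  intro h hh
  rw [← QuotientGroup.eq_one_iff]
  show f h = 1
  have hcF : f h ∈ centralizer (F : Set (X ⧸ O)) := mem_centralizer_iff.2 fun z hz =>
    (mem_centralizer_iff.1 ((commutator_eq_bot_iff_le_centralizer.1 hcomm) hz) (f h) ⟨h, hh, rfl⟩).symm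
  exact CfsgLib.CharP.eq_one_of_mem_pgroup hF
    (CfsgLib.Fitting.centralizer_pCore_le (CfsgLib.Fitting.pPrimeCore_quotient_eq_bot p) hcF)
    (hQ.coprime_dvd_left (Subgroup.orderOf_dvd_natCard Q (show f h ∈ Q from ⟨h, hh, rfl⟩)))

variable {G : Type*} [Group G] [Finite G]

theorem mem_of_scn (P : Sylow p G) {A : Subgroup G} (hA : Cfsg.IsSCN (P : Subgroup G) A) {c : G}
    (hc : c ∈ centralizer (A : Set G)) (hcp : ∃ k : ℕ, c ^ p ^ k = 1) : c ∈ A := by
  obtain ⟨H, hHC, hHc, -, -, hsup⟩ := Cfsg.Agent.S0125.result P A hA.1 hA.2.1 hA.2.2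
  have hAC : A ≤ centralizer (A : Set G) := fun a ha => (hA.2.2.ge ha).2
  have hHA : H ≤ normalizer (A : Set G) := hHC.trans (centralizer_le_normalizer _)
  obtain ⟨h, hh, a, ha, rfl⟩ := (CfsgLib.Solvable.mem_sup_of_le_normalizer hHA).1 (hsup ▸ hc)
  suffices h = 1 by rw [this, one_mul]; exact ha
  obtain ⟨k, hk⟩ := hcp
  obtain ⟨l, hl⟩ := (P.2.to_le hA.1) ⟨a, ha⟩
  have hl' : a ^ p ^ l = 1 := congrArg Subtype.val hl
  have hcomm : Commute h a := (mem_centralizer_iff.1 (hHC hh) a ha).symm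
  have h1 : h ^ p ^ (k + l) = 1 := by
    have h2 : (h * a) ^ p ^ (k + l) = 1 := by rw [pow_add, pow_mul, hk, one_pow]
    rwa [hcomm.mul_pow, show a ^ p ^ (k + l) = 1 by rw [add_comm, pow_add, pow_mul, hl', one_pow], mul_one] at h2
  exact orderOf_eq_one_iff.1 (Nat.eq_one_of_dvd_coprimes (Nat.Coprime.pow_right (k + l) hHc)
    (H.orderOf_dvd_natCard hh) (orderOf_dvd_of_pow_eq_one h1))

/-- A subgroup of index at most `p` in a `p`-subgroup is normalized by it. -/
theorem le_normalizer_of_card_le {S D : Subgroup G} (hS : IsPGroup p S) (hDS : D ≤ S)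
    (h : Nat.card S ≤ p * Nat.card D) : S ≤ normalizer (D : Set G) := by
  rcases eq_or_ne D S with rfl | hne
  · exact le_normalizer
  have hlt := CfsgLib.Fusion.lt_inf_normalizer hS (lt_of_le_of_ne hDS hne)
  have hcard := CfsgLib.Solvable.card_lt_of_lt hlt
  obtain ⟨a, ha⟩ := IsPGroup.iff_card.1 (hS.to_le hDS)
  obtain ⟨b, hb⟩ := IsPGroup.iff_card.1 (hS.to_le (inf_le_left : S ⊓ normalizer (D : Set G) ≤ S))
  have hab : a < b := by
    refine (Nat.pow_lt_pow_iff_right (Fact.out : p.Prime).one_lt).1 ?_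
    rwa [← ha, ← hb]
  have hle : Nat.card S ≤ Nat.card ↥(S ⊓ normalizer (D : Set G)) := by
    rw [hb]
    refine h.trans ?_
    rw [ha, ← pow_succ']
    exact Nat.pow_le_pow_right (Fact.out : p.Prime).pos hab
  exact (CfsgLib.Solvable.eq_of_le_of_card_le inf_le_left hle).ge.trans inf_le_right

theorem le_pPrimeCore_of_scn (hG : Cfsg.IsMinSimpleOddOrder G) (hp2 : p ≠ 2) (P : Sylow p G)
    {A : Subgroup G} (hA : Cfsg.IsSCN (P : Subgroup G) A) (hA2 : ¬ Cfsg.PRankLE p 1 A) (X : Subgroup G)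
    (hX : X ≠ ⊤) (hAX : A ≤ X) {W : Subgroup G} (hWX : W ≤ X) (hn : A ≤ normalizer (W : Set G))
    (hW : (Nat.card W).Coprime p) : W ≤ (Cfsg.pPrimeCore p X).map X.subtype := by
  have hp : p.Prime := Fact.out
  have hAcomm : ∀ a ∈ A, ∀ b ∈ A, a * b = b * a := fun a ha b hb =>
    mem_centralizer_iff.1 ((hA.2.2.ge hb).2) a ha
  -- the elements of order dividing `p` in `A`
  set P' := (P : Subgroup G)
  let Y : Subgroup P' :=
    { carrier := {u | (u : G) ∈ A ∧ (u : G) ^ p = 1}
      one_mem' := ⟨one_mem _, by simp⟩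
      mul_mem' := fun {u v} hu hv => ⟨mul_mem hu.1 hv.1, by
        show ((u : G) * v) ^ p = 1
        rw [(show Commute (u : G) v from hAcomm _ hu.1 _ hv.1).mul_pow, hu.2, hv.2, mul_one]⟩
      inv_mem' := fun {u} hu => ⟨inv_mem hu.1, by
        show ((u : G)⁻¹) ^ p = 1
        rw [inv_pow, hu.2, inv_one]⟩ }
  haveI : Y.Normal := ⟨fun u hu g => ⟨(mem_normalizer_iff.1 (hA.2.1 g.2) _).1 hu.1, by
    show ((g : G) * u * (g : G)⁻¹) ^ p = 1
    rw [conj_pow, hu.2, mul_one, mul_inv_cancel]⟩⟩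
  obtain ⟨a, ha⟩ := IsPGroup.iff_card.1 (P.2.to_subgroup Y)
  have ha2 : 2 ≤ a := by
    unfold Cfsg.PRankLE at hA2
    push Not at hA2
    obtain ⟨E, -, hEe, hEc⟩ := hA2
    let f : E →* Y :=
      { toFun := fun e => ⟨⟨((e : A) : G), hA.1 (e : A).2⟩, (e : A).2, congrArg Subtype.val (hEe e e.2)⟩
        map_one' := rfl
        map_mul' := fun _ _ => rfl }
    have hinj : Function.Injective f := fun x y h =>
      Subtype.ext (Subtype.ext (congrArg (fun w : Y => ((w : P') : G)) h))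
    have hle := Nat.card_le_card_of_injective f hinj
    by_contra hlt
    have h3 : p ^ a ≤ p ^ 1 := Nat.pow_le_pow_right hp.pos (by omega)
    exact absurd hEc (not_lt.2 ((hle.trans ha.le).trans h3))
  obtain ⟨B₀, -, hB₀Y, hB₀c, -, hidx⟩ := CfsgLib.PGroupRank.exists_normal_le P.2 Y ha 2 ha2
  set B := B₀.map P'.subtype
  have hBA : B ≤ A := by
    rintro _ ⟨u, hu, rfl⟩
    exact (hB₀Y hu).1
  have hB : Cfsg.IsElementaryAbelian p B := by
    refine ⟨⟨⟨fun u v => Subtype.ext (hAcomm _ (hBA u.2) _ (hBA v.2))⟩⟩, ?_⟩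
    rintro _ ⟨u, hu, rfl⟩
    exact (hB₀Y hu).2
  have hBcard : p ^ 2 ≤ Nat.card B := hB₀c.trans_eq (card_map_of_injective P'.subtype_injective).symm
  haveI : Group.IsSolvable X := hG.2.2.2 X hX
  have hBX : B ≤ X := hBA.trans hAX
  have hWc : (Nat.card (W.subgroupOf X)).Coprime p := by
    rwa [Nat.card_congr (subgroupOfEquivOfLe hWX).toEquiv]
  have hB' : Cfsg.IsElementaryAbelian p (B.subgroupOf X) := by
    refine ⟨⟨⟨fun u v => Subtype.ext (Subtype.ext (hAcomm _ (hBA u.2) _ (hBA v.2)))⟩⟩, fun u hu => Subtype.ext ?_⟩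
    simpa using hB.2 _ hu
  refine le_of_eq_of_le (map_subgroupOf_eq_of_le hWX).symm (map_mono ?_)
  refine le_pPrimeCore_of_local hB' (hBcard.trans_eq (Nat.card_congr (subgroupOfEquivOfLe hBX).toEquiv).symm)
    (fun u hu => ?_) hWc fun b hb hb1 => ?_
  · exact (le_normalizer_comap X.subtype) (hn (hBA hu))
  -- inside the centralizer of `b`
  have hb1' : (b : G) ≠ 1 := fun e => hb1 (Subtype.ext e)
  set C := centralizer ({(b : G)} : Set G) with hCdef
  have hC : C ≠ ⊤ := fun h => by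
    refine CfsgLib.CN.MinSimple.normalizer_ne_top hG (CfsgLib.CN.nilpotent_zpowers (b : G))
      (fun e => hb1' (zpowers_eq_bot.1 e)) (top_unique (h ▸ ?_))
    intro g hg
    refine centralizer_le_normalizer _ (mem_centralizer_iff.2 fun z hz => ?_)
    obtain ⟨i, rfl⟩ := mem_zpowers_iff.1 hz
    exact ((show Commute g (b : G) from mem_centralizer_singleton_iff.1 hg).symm.zpow_left i).eq
  haveI : Group.IsSolvable C := hG.2.2.2 C hC
  have hbA : (b : G) ∈ A := hBA hb
  have hAC : A ≤ C := fun a ha => mem_centralizer_singleton_iff.2 (hAcomm a ha _ hbA)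
  set D := P' ⊓ C
  obtain ⟨S, hS⟩ := ((P.2.to_le (inf_le_left : D ≤ P')).comap_subtype (K := C)).exists_le_sylow
  set S' := (S : Subgroup C).map C.subtype
  have hDS : D ≤ S' :=
    le_of_eq_of_le (map_subgroupOf_eq_of_le (inf_le_right : D ≤ C)).symm (map_mono hS)
  have hPD : Nat.card P' ≤ p * Nat.card D := by
    have hle : (centralizer (B₀ : Set P')).map P'.subtype ≤ D := by
      rintro _ ⟨g, hg, rfl⟩
      refine ⟨g.2, mem_centralizer_singleton_iff.2 ?_⟩
      have hb' : (b : G) ∈ B := hb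
      obtain ⟨u, hu, he⟩ := hb'
      rw [← he]
      exact congrArg Subtype.val (mem_centralizer_iff.1 hg u hu).symm
    have h1 := card_le_of_le hle
    rw [card_map_of_injective P'.subtype_injective] at h1
    have h2 : (centralizer (B₀ : Set P')).index ≤ p := by simpa using hidx
    calc Nat.card P' = (centralizer (B₀ : Set P')).index * Nat.card (centralizer (B₀ : Set P')) := by
          rw [mul_comm, card_mul_index]
      _ ≤ p * Nat.card D := Nat.mul_le_mul h2 h1
  obtain ⟨T, hT⟩ := (S.2.map C.subtype).exists_le_sylow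
  have hSD : S' ≤ normalizer (D : Set G) := by
    refine le_normalizer_of_card_le (S.2.map _) hDS (le_trans ?_ hPD)
    refine (card_le_of_le hT).trans ?_
    rw [T.card_eq_multiplicity, P.card_eq_multiplicity]
  set Wb := (W ⊓ C).subgroupOf C with hWb
  have hWbc : (Nat.card Wb).Coprime p := by
    rw [hWb, Nat.card_congr (subgroupOfEquivOfLe (inf_le_right : W ⊓ C ≤ C)).toEquiv]
    exact hW.coprime_dvd_left (card_dvd_of_le inf_le_left)
  have hcore : Wb ≤ Cfsg.pPrimeCore p C := by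
    refine CfsgLib.Invariant.le_pPrimeCore (hG.1.of_dvd_nat (card_subgroup_dvd_card C)) hp2 S
      (B := A.subgroupOf C) ?_ (fun x hx y hy => Subtype.ext (hAcomm _ hx _ hy)) ?_ hWbc ?_ ?_
    · intro x hx
      exact hS (⟨hA.1 hx, x.2⟩ : (x : G) ∈ D)
    · intro x hx
      refine (le_normalizer_comap C.subtype) ?_
      exact le_trans (le_inf hn (hAC.trans le_normalizer)) inf_normalizer_le_normalizer_inf hx
    · rintro x ⟨hxS, hxA⟩
      refine mem_of_scn P hA (mem_centralizer_iff.2 fun a ha => ?_) ?_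
      · exact congrArg Subtype.val (mem_centralizer_iff.1 hxA ⟨a, hAC ha⟩ ha)
      · obtain ⟨k, hk⟩ := S.2 ⟨x, hxS⟩
        exact ⟨k, congrArg (fun w : (S : Subgroup C) => ((w : C) : G)) hk⟩
    · intro x hx a ha
      have hc : (x : G) * a * (x : G)⁻¹ * (a : G)⁻¹ ∈ P' :=
        (mul_mem ((mem_normalizer_iff.1 (hSD ⟨x, hx, rfl⟩) _).1 (⟨hA.1 ha, hAC ha⟩ : (a : G) ∈ D))
          (inv_mem (⟨hA.1 ha, hAC ha⟩ : (a : G) ∈ D)) : _ ∈ D).1
      show (x : G) * a * (x : G)⁻¹ * (a : G)⁻¹ * a * ((x : G) * a * (x : G)⁻¹ * (a : G)⁻¹)⁻¹ * (a : G)⁻¹ ∈ A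
      exact mul_mem ((mem_normalizer_iff.1 (hA.2.1 hc) _).1 ha) (inv_mem ha)
  refine ⟨((Cfsg.pPrimeCore p C).map C.subtype).subgroupOf X, ?_, ?_, ?_⟩
  · refine Nat.Coprime.coprime_dvd_left ((card_comap_dvd_of_injective _ X.subtype X.subtype_injective).trans ?_)
      (CfsgLib.Solvable.coprime_card_pPrimeCore (G := C) p)
    rw [card_map_of_injective C.subtype_injective]
  · intro g hg
    refine (le_normalizer_comap X.subtype) ?_
    have hgC : (g : G) ∈ C := mem_centralizer_singleton_iff.2 (congrArg Subtype.val (mem_centralizer_singleton_iff.1 hg))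
    have h := le_normalizer_map C.subtype (mem_map_of_mem C.subtype
      (le_normalizer_of_normal (H := Cfsg.pPrimeCore p C) (mem_top (⟨g, hgC⟩ : C))))
    exact h
  · rintro w ⟨hw, hwb⟩
    have hwC : (w : G) ∈ C := mem_centralizer_singleton_iff.2 (congrArg Subtype.val (mem_centralizer_singleton_iff.1 hwb))
    exact ⟨⟨w, hwC⟩, hcore (show (w : G) ∈ W ⊓ C from ⟨hw, hwC⟩), rfl⟩

end CfsgLib.OddLocal.THCases
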