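import Cfsg.Agent.OddLocal.KappaSupport

/-!
The cosets `x R(x)` (BG 14.5).
-/

set_option autoImplicit false
set_option linter.style.haveILetI false
set_option linter.unusedSectionVars false

namespace CfsgLib.OddLocal.Kap

open Subgroup Cfsg CfsgLib.OddLocal
open scoped commutatorElement Pointwise

universe u

variable {G : Type u} [Group G] [Finite G]

/-- The `π`-part of an element is well defined. -/
theorem part_unique {π : Set ℕ} {a b a' b' : G} (hab : Commute a b) (hab' : Commute a' b')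
    (ha : ∀ p : ℕ, p.Prime → p ∣ orderOf a → p ∈ π) (ha' : ∀ p : ℕ, p.Prime → p ∣ orderOf a' → p ∈ π)
    (hb : ∀ p : ℕ, p.Prime → p ∣ orderOf b → p ∉ π) (hb' : ∀ p : ℕ, p.Prime → p ∣ orderOf b' → p ∉ π)
    (h : a * b = a' * b') : a = a' := by
  have hco : (orderOf a * orderOf a').Coprime (orderOf b * orderOf b') := Nat.coprime_of_dvd fun p hp h1 h2 => by
    rcases hp.dvd_mul.1 h1 with h1 | h1 <;> rcases hp.dvd_mul.1 h2 with h2 | h2
    exacts [hb p hp h2 (ha p hp h1), hb' p hp h2 (ha p hp h1), hb p hp h2 (ha' p hp h1), hb' p hp h2 (ha' p hp h1)]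
  obtain ⟨n, hn1, hn0⟩ := Nat.chineseRemainder hco 1 0
  have key : ∀ c d : G, Commute c d → orderOf c ∣ orderOf a * orderOf a' → orderOf d ∣ orderOf b * orderOf b' →
      (c * d) ^ n = c := fun c d hcd hc hd => by
    rw [hcd.mul_pow, orderOf_dvd_iff_pow_eq_one.1 (hd.trans (Nat.modEq_zero_iff_dvd.1 hn0)), mul_one]
    calc c ^ n = c ^ 1 := pow_eq_pow_iff_modEq.2 (hn1.of_dvd hc)
      _ = c := pow_one c
  rw [← key a b hab (dvd_mul_right _ _) (dvd_mul_right _ _),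
    ← key a' b' hab' (dvd_mul_left _ _) (dvd_mul_left _ _), h]

variable (hG : Cfsg.IsMinSimpleOddOrder G)
include hG

theorem sigma_of_order {M : Subgroup G} (hM : IsCoatom M) {x : G} (hx : x ∈ Cfsg.sigmaCore M) :
    ∀ p : ℕ, p.Prime → p ∣ orderOf x → p ∈ Cfsg.sigma M := fun p hp hd =>
  (Sig.sigma_core hG hM).1.2.1 p hp (hd.trans ((Cfsg.sigmaCore M).orderOf_dvd_natCard hx))

theorem sigma_eq_or_disjoint {M N : Subgroup G} (hM : IsCoatom M) (hN : IsCoatom N) :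
    Cfsg.sigma N = Cfsg.sigma M ∨ ∀ p ∈ Cfsg.sigma N, p ∉ Cfsg.sigma M := by
  by_cases h : ∃ p ∈ Cfsg.sigma N, p ∈ Cfsg.sigma M
  · obtain ⟨p, hpN, hpM⟩ := h
    haveI := Fact.mk hpM.1
    obtain ⟨g, rfl⟩ := conj_of_common hG hM hN hpM hpN
    exact Or.inl (Set.ext fun q => sigma_map_iff g)
  · push Not at h
    exact Or.inr h

theorem supportR_eq_bot {M : Subgroup G} {x : G} (hxC : centralizer ({x} : Set G) ≤ M) :
    Cfsg.supportR M x = ⊥ := dif_neg fun h => h.1 hxC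

theorem supportR_eq {M N : Subgroup G} {x : G} (hxC : ¬ centralizer ({x} : Set G) ≤ M) (hN : IsCoatom N)
    (hCN : centralizer ({x} : Set G) ≤ N)
    (hu : ∀ L : Subgroup G, IsCoatom L → centralizer ({x} : Set G) ≤ L → L = N)
    (hnil : Group.IsNilpotent (Cfsg.sigmaCore N)) :
    Cfsg.supportR M x = Cfsg.sigmaCore N ⊓ centralizer ({x} : Set G) := by
  have h : ¬ centralizer ({x} : Set G) ≤ M ∧ ∃! L : Subgroup G, IsCoatom L ∧ centralizer ({x} : Set G) ≤ L :=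
    ⟨hxC, N, ⟨hN, hCN⟩, fun L hL => hu L hL.1 hL.2⟩
  rw [Cfsg.supportR, dif_pos h]
  have hc := Classical.choose_spec h.2.exists
  rw [hu _ hc.1 hc.2, fittingHallOf_eq hG hN hnil]

/-- Every element of `R(x)` commutes with `x` and has order prime to `σ(M)`. -/
theorem supportR_spec {M : Subgroup G} (hM : IsCoatom M) {x : G} (hx : x ∈ Cfsg.sigmaCore M) (hx1 : x ≠ 1)
    {r : G} (hr : r ∈ Cfsg.supportR M x) :
    Commute x r ∧ (∀ p : ℕ, p.Prime → p ∣ orderOf r → p ∉ Cfsg.sigma M) ∧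
      (r ≠ 1 → ∃ L : Subgroup G, IsCoatom L ∧ centralizer ({x} : Set G) ≤ L ∧
        (∀ L' : Subgroup G, IsCoatom L' → centralizer ({x} : Set G) ≤ L' → L' = L) ∧
        r ∈ Cfsg.sigmaCore L ∧ (∀ p : ℕ, p.Prime → p ∣ orderOf x → p ∈ Cfsg.tau2 L)) := by
  by_cases hxC : centralizer ({x} : Set G) ≤ M
  · rw [supportR_eq_bot hG hxC, Subgroup.mem_bot] at hr
    subst hr
    exact ⟨Commute.one_right x, fun p hp hd => absurd (by rwa [orderOf_one, Nat.dvd_one] at hd) hp.ne_one,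
      fun h => absurd rfl h⟩
  obtain ⟨L, hL, hCL, hu, hnc, -, hnil, hτ, -⟩ := exists_over hG hM hx hx1 hxC
  rw [supportR_eq hG hxC hL hCL hu hnil] at hr
  refine ⟨(mem_centralizer_singleton_iff.1 hr.2).symm, fun p hp hd hpM => ?_, fun _ => ⟨L, hL, hCL, hu, hr.1, hτ⟩⟩
  haveI := Fact.mk hp
  obtain ⟨g, hg⟩ := conj_of_common hG hM hL hpM (sigma_of_order hG hL hr.1 p hp hd)
  exact hnc g hg

/-- BG 14.5: distinct cosets `x R(x)` are disjoint. -/
theorem cosets_disjoint {M N : Subgroup G} (hM : IsCoatom M) (hN : IsCoatom N) {x y : G}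
    (hx : x ∈ Cfsg.sigmaCore M) (hy : y ∈ Cfsg.sigmaCore N) (hx1 : x ≠ 1) (hy1 : y ≠ 1) (hxy : x ≠ y) {r s : G}
    (hr : r ∈ Cfsg.supportR M x) (hs : s ∈ Cfsg.supportR N y) : x * r ≠ y * s := by
  intro h
  obtain ⟨hxr, hrσ, hrL⟩ := supportR_spec hG hM hx hx1 hr
  obtain ⟨hys, hsσ, hsL⟩ := supportR_spec hG hN hy hy1 hs
  have hxσ := sigma_of_order hG hM hx
  have hyσ := sigma_of_order hG hN hy
  rcases sigma_eq_or_disjoint hG hM hN with e | hdis
  · rw [e] at hyσ hsσ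
    exact hxy (part_unique hxr hys hxσ hyσ hrσ hsσ h)
  by_cases hs1 : s = 1
  · subst hs1
    rw [mul_one] at h
    refine hx1 (part_unique hxr (Commute.one_left y) hxσ
      (fun p hp hd => absurd (by rwa [orderOf_one, Nat.dvd_one] at hd) hp.ne_one) hrσ
      (fun p hp hd => hdis p (hyσ p hp hd)) (by rw [h, one_mul]))
  obtain ⟨L', hL', hCL', hu', hsK, hyτ⟩ := hsL hs1
  have hsσ' := sigma_of_order hG hL' hsK
  rcases sigma_eq_or_disjoint hG hM hL' with e | hdis'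
  swap
  · refine hx1 (part_unique hxr (Commute.one_left (y * s)) hxσ
      (fun p hp hd => absurd (by rwa [orderOf_one, Nat.dvd_one] at hd) hp.ne_one) hrσ
      (fun p hp hd => ?_) (by rw [h, one_mul]))
    rcases hp.dvd_mul.1 (hd.trans hys.orderOf_mul_dvd_mul_orderOf) with hd' | hd'
    exacts [hdis p (hyσ p hp hd'), hdis' p (hsσ' p hp hd')]
  rw [e] at hsσ'
  have hxs : x = s := part_unique hxr hys.symm hxσ hsσ' hrσ (fun p hp hd => hdis p (hyσ p hp hd)) (by rw [h, hys.eq])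
  have hry : r = y := mul_left_cancel (a := x) (by rw [h, hxs]; exact hys.eq)
  subst hry hxs
  obtain ⟨L, hL, hCL, -, hrK, hτ⟩ := hrL hy1
  obtain ⟨p, hp, hpd⟩ := Nat.exists_prime_and_dvd (fun e => hx1 (orderOf_eq_one_iff.1 e))
  have hxL : x ∈ L := hCL (mem_centralizer_singleton_iff.2 rfl)
  by_cases hC : centralizer ({r} : Set G) ≤ L
  · obtain rfl := hu' L hL hC
    exact (hτ p hp hpd).2.1 (sigma_of_order hG hL hsK p hp hpd)
  obtain ⟨N', hN', hCN', -, -, hcompl, -⟩ := exists_over hG hL hrK hy1 hC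
  obtain rfl := hu' N' hN' hCN'
  exact hx1 (Subgroup.mem_bot.1 (hcompl.2.2.1.le ⟨⟨hxL, hCN' (mem_centralizer_singleton_iff.2 hxr.eq)⟩, hsK⟩))

end CfsgLib.OddLocal.Kap
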