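import Cfsg.Agent.OddLocal.KappaTilde

/-!
The covers `M̃` of non-conjugate maximal subgroups are disjoint, and counting conjugates of a TI-set.
-/

set_option autoImplicit false
set_option linter.style.haveILetI false
set_option linter.unusedSectionVars false

namespace CfsgLib.OddLocal.Kap

open Subgroup Cfsg CfsgLib.OddLocal
open scoped commutatorElement Pointwise

universe u

variable {G : Type u} [Group G] [Finite G]

theorem mem_conj_centralizer {g x c : G} :
    c ∈ centralizer ({g * x * g⁻¹} : Set G) ↔ g⁻¹ * c * g ∈ centralizer ({x} : Set G) := by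
  rw [mem_centralizer_singleton_iff, mem_centralizer_singleton_iff]
  constructor <;> intro h
  · calc g⁻¹ * c * g * x = g⁻¹ * (c * (g * x * g⁻¹)) * g := by group
      _ = x * (g⁻¹ * c * g) := by rw [h]; group
  · calc c * (g * x * g⁻¹) = g * ((g⁻¹ * c * g) * x) * g⁻¹ := by group
      _ = g * x * g⁻¹ * c := by rw [h]; group

/-- Counting the conjugates of a TI-set. -/
theorem ti_count (Z : Subgroup G) (T : Set G)
    (hti : ∀ w ∈ T, ∀ g : G, g * w * g⁻¹ ∈ T → g ∈ Z) (hinv : ∀ c ∈ Z, ∀ w ∈ T, c * w * c⁻¹ ∈ T) :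
    Nat.card Z * Set.ncard {a : G | ∃ g : G, ∃ w ∈ T, a = g * w * g⁻¹} = Set.ncard T * Nat.card G := by
  classical
  haveI := Fintype.ofFinite G
  set Tf : Finset G := Finset.univ.filter (· ∈ T) with hTf
  set Zf : Finset G := Finset.univ.filter (· ∈ Z) with hZf
  set k : G × G → G := fun p => p.1 * p.2 * p.1⁻¹ with hk
  set D : Finset (G × G) := Finset.univ ×ˢ Tf with hD
  have himage : (D.image k : Set G) = {a : G | ∃ g : G, ∃ w ∈ T, a = g * w * g⁻¹} := by
    ext a
    simp only [Finset.coe_image, Set.mem_image, Finset.mem_coe, Set.mem_setOf_eq, D, Finset.mem_product,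
      Finset.mem_univ, true_and, Tf, Finset.mem_filter, Prod.exists, k, eq_comm (a := a)]
  have hfib : ∀ a ∈ D.image k, (D.filter (fun p => k p = a)).card = Nat.card Z := by
    intro a ha
    obtain ⟨⟨g₀, w₀⟩, hp, e⟩ := Finset.mem_image.1 ha
    obtain ⟨-, hw₀⟩ := Finset.mem_product.1 hp
    have hw₀' : w₀ ∈ T := (Finset.mem_filter.1 hw₀).2
    dsimp [k] at e
    subst e
    have he : (D.filter (fun p => k p = g₀ * w₀ * g₀⁻¹)) =
        Zf.image (fun c => (g₀ * c⁻¹, c * w₀ * c⁻¹)) := by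
      ext ⟨g, w⟩
      simp only [Finset.mem_filter, Finset.mem_image, Finset.mem_product, Finset.mem_univ, true_and,
        Prod.mk.injEq, D, Tf, Zf, k]
      constructor
      · rintro ⟨hw, e⟩
        have h1 : (g⁻¹ * g₀) * w₀ * (g⁻¹ * g₀)⁻¹ = w := by
          rw [show (g⁻¹ * g₀) * w₀ * (g⁻¹ * g₀)⁻¹ = g⁻¹ * (g₀ * w₀ * g₀⁻¹) * g by group, ← e]; group
        exact ⟨g⁻¹ * g₀, hti w₀ hw₀' _ (h1.symm ▸ hw), by group, h1⟩
      · rintro ⟨c, hc, rfl, rfl⟩
        exact ⟨hinv c hc w₀ hw₀', by group⟩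
    rw [he, Finset.card_image_of_injective _ (fun c c' e => inv_injective (mul_left_cancel (congrArg Prod.fst e))),
      Nat.card_eq_fintype_card, Fintype.card_subtype]
  have hsum : D.card = (D.image k).card * Nat.card Z := by
    rw [Finset.card_eq_sum_card_fiberwise (t := D.image k) (fun p hp => Finset.mem_image_of_mem k hp),
      Finset.sum_congr rfl hfib, Finset.sum_const, smul_eq_mul]
  rw [hD, Finset.card_product, Finset.card_univ, ← Nat.card_eq_fintype_card] at hsum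
  have hTc : Set.ncard T = Tf.card := by
    rw [← Set.ncard_coe_finset]; congr 1; ext z; simp [Tf]
  rw [← himage, Set.ncard_coe_finset, hTc, mul_comm, ← hsum, mul_comm]

variable (hG : Cfsg.IsMinSimpleOddOrder G)
include hG

/-- `R` is equivariant under conjugation. -/
theorem supportR_map {M : Subgroup G} (hM : IsCoatom M) {b : G} (hb : b ∈ Cfsg.sigmaCore M) (hb1 : b ≠ 1) (g : G)
    {r : G} (hr : r ∈ Cfsg.supportR M b) :
    g * r * g⁻¹ ∈ Cfsg.supportR (M.map (MulAut.conj g).toMonoidHom) (g * b * g⁻¹) := by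
  by_cases hbC : centralizer ({b} : Set G) ≤ M
  · rw [supportR_eq_bot hG hbC, Subgroup.mem_bot] at hr
    subst hr
    rw [mul_one, mul_inv_cancel]
    exact one_mem _
  obtain ⟨L, hL, hCL, hu, -, -, hnil, -⟩ := exists_over hG hM hb hb1 hbC
  rw [supportR_eq hG hbC hL hCL hu hnil] at hr
  have hM' := Uniq.coatom_conj hM g
  have ha := mem_sigmaCore_conj hG hM hb g
  have ha1 : g * b * g⁻¹ ≠ 1 := fun e => hb1 (by rw [show b = g⁻¹ * (g * b * g⁻¹) * g by group, e]; group)
  have haC : ¬ centralizer ({g * b * g⁻¹} : Set G) ≤ M.map (MulAut.conj g).toMonoidHom := fun h => hbC fun c hc => by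
    obtain ⟨c', hc', e⟩ := h (mem_conj_centralizer.2 (by
      rw [show g⁻¹ * (g * c * g⁻¹) * g = c by group]; exact hc) : g * c * g⁻¹ ∈ _)
    exact (MulAut.conj g).injective e ▸ hc'
  obtain ⟨N, hN, hCN, huN, -, -, hnilN, -⟩ := exists_over hG hM' ha ha1 haC
  rw [supportR_eq hG haC hN hCN huN hnilN]
  have e : L.map (MulAut.conj g).toMonoidHom = N := huN _ (Uniq.coatom_conj hL g) fun c hc =>
    ⟨g⁻¹ * c * g, hCL (mem_conj_centralizer.1 hc), by show g * (g⁻¹ * c * g) * g⁻¹ = c; group⟩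
  exact ⟨e ▸ mem_sigmaCore_conj hG hL hr.1 g,
    mem_conj_centralizer.2 (by rw [show g⁻¹ * (g * r * g⁻¹) * g = r by group]; exact hr.2)⟩

/-- The covers of non-conjugate maximal subgroups are disjoint. -/
theorem tilde_disjoint {M N : Subgroup G} (hM : IsCoatom M) (hN : IsCoatom N)
    (hnc : ∀ g : G, N ≠ M.map (MulAut.conj g).toMonoidHom) :
    Cfsg.tildeOf M ((Cfsg.sigmaCore M : Set G) \ {1}) ∩ Cfsg.tildeOf N ((Cfsg.sigmaCore N : Set G) \ {1}) = ∅ := by
  refine Set.eq_empty_iff_forall_notMem.2 ?_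
  rintro z ⟨⟨a, ⟨ha, ha1⟩, r, hr, y, rfl⟩, b, ⟨hb, hb1⟩, s, hs, v, e⟩
  have ha1' : a ≠ 1 := fun h => ha1 h
  have hb1' : b ≠ 1 := fun h => hb1 h
  set g := y⁻¹ * v
  have hbg : g * b * g⁻¹ ≠ 1 := fun h => hb1' (by rw [show b = g⁻¹ * (g * b * g⁻¹) * g by group, h]; group)
  have hne : a ≠ g * b * g⁻¹ := fun h => by
    obtain ⟨p, hp, hpd⟩ := Nat.exists_prime_and_dvd (fun e => ha1' (orderOf_eq_one_iff.1 e))
    haveI := Fact.mk hp
    have hd : p ∣ orderOf b := by rwa [h, conj_orderOf] at hpd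
    obtain ⟨c, hc⟩ := conj_of_common hG hM hN (sigma_of_order hG hM ha p hp hpd) (sigma_of_order hG hN hb p hp hd)
    exact hnc c hc
  refine cosets_disjoint hG hM (Uniq.coatom_conj hN g) ha (mem_sigmaCore_conj hG hN hb g) ha1' hbg hne hr
    (supportR_map hG hN hb hb1' g hs) ?_
  calc a * r = y⁻¹ * (y * (a * r) * y⁻¹) * y := by group
    _ = y⁻¹ * (v * (b * s) * v⁻¹) * y := by rw [e]
    _ = g * b * g⁻¹ * (g * s * g⁻¹) := by simp only [g]; group

end CfsgLib.OddLocal.Kap
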