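import Cfsg.Agent.OddLocal.KappaTypeTwoMain

/-!
BG 14.12: `H ⊓ M*` is a complement to `H_σ` in `H`.
-/

set_option autoImplicit false
set_option linter.style.haveILetI false
set_option linter.unusedSectionVars false

namespace CfsgLib.OddLocal.Kap

open Subgroup Cfsg CfsgLib.OddLocal
open scoped commutatorElement Pointwise

universe u

variable {G : Type u} [Group G] [Finite G]
variable (hG : Cfsg.IsMinSimpleOddOrder G)
variable {M K U : Subgroup G} (hM : IsCoatom M) (hKU : Cfsg.IsSigmaDecomposition M K U) (hK1 : K ≠ ⊥)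
variable {N : Subgroup G} (hN : IsCoatom N) (hNK : Cfsg.IsPiHallOf (Cfsg.kappa N) (star M K) N)
  (hKe : K = star N (star M K))
variable {q : ℕ} [hq : Fact q.Prime] {k : G} (hk : k ∈ K) (hko : orderOf k = q)
variable (hnU : U ≠ ⊥) {H : Subgroup G} (hH : IsCoatom H) (hnc : ∀ g : G, H ≠ M.map (MulAut.conj g).toMonoidHom)
  (hUH : U ≤ H) (hkH : k ∈ H)
include hG hM hKU hK1 hN hNK hKe hk hko hnU hH hnc hUH hkH

/-- `H_σ` meets `M*` trivially. -/
theorem over_core_meet : Cfsg.sigmaCore H ⊓ N = ⊥ := by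
  have hne := over_ne hG hM hKU hK1 hN hNK hKe hk hko hnU hH hnc hUH hkH
  obtain ⟨hkN, -, -, -⟩ := partner_sigma hG hM hKU hK1 hN hNK hKe hk hko
  have hco : (Nat.card (Cfsg.sigmaCore H)).Coprime (Nat.card (Cfsg.sigmaCore N)) :=
    Nat.coprime_of_dvd fun p hp h1 h2 => over_disjoint hG hM hKU hK1 hN hNK hKe hk hko hH hne hkH
      ((Sig.sigma_core hG hH).1.2.1 p hp h1) ((Sig.sigma_core hG hN).1.2.1 p hp h2)
  refine le_bot_iff.1 fun v hv => ?_
  have hc : ⁅v, k⁆ ∈ Cfsg.sigmaCore H ⊓ Cfsg.sigmaCore N := by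
    refine ⟨?_, ?_⟩
    · rw [commutatorElement_def, show v * k * v⁻¹ * k⁻¹ = v * (k * v⁻¹ * k⁻¹) by group]
      exact (Cfsg.sigmaCore H).mul_mem hv.1 ((mem_normalizer_iff.1 (TH.le_normalizer_core H hkH) _).1
        ((Cfsg.sigmaCore H).inv_mem hv.1))
    · rw [commutatorElement_def]
      exact (Cfsg.sigmaCore N).mul_mem ((mem_normalizer_iff.1 (TH.le_normalizer_core N hv.2) k).1 hkN)
        ((Cfsg.sigmaCore N).inv_mem hkN)
  rw [disjoint_iff.1 (disjoint_of_coprime_natCard hco), Subgroup.mem_bot,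
    commutatorElement_eq_one_iff_mul_comm] at hc
  rw [← over_fpf hG hM hKU hK1 hN hNK hKe hk hko hnU hH hnc hne hkH]
  exact ⟨hv.1, mem_centralizer_singleton_iff.2 hc⟩

/-- `k` centralizes the derived subgroup of a complement containing it. -/
theorem over_derived {E : Subgroup G} (hE : Cfsg.IsComplIn E (Cfsg.sigmaCore H) H) (hkE : k ∈ E) :
    ⁅E, E⁆ ≤ centralizer ({k} : Set G) := by
  haveI hab := (Cfsg.Agent.S1420.result hG H hH E hE).2.1
  set D := ⁅E, E⁆ with hD
  have hDE : D ≤ E := commutator_le_self E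
  refine Excep.le_of_sylows fun s hs hsd => ?_
  haveI := Fact.mk hs
  obtain ⟨P⟩ : Nonempty (Sylow s D) := inferInstance
  set R := (P : Subgroup D).map D.subtype with hR
  have hRd : ¬ s ∣ R.relIndex D := by
    rw [hR, relIndex, ← comap_subtype, comap_map_eq_self_of_injective D.subtype_injective]
    exact P.not_dvd_index
  have hDR : D ≤ normalizer (R : Set G) := fun d hd =>
    centralizer_le_normalizer _ (mem_centralizer_iff.2 fun r hr => congrArg Subtype.val
      (hab.is_comm.comm ⟨r, map_subtype_le _ hr⟩ ⟨d, hd⟩))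
  have hkD : k ∈ normalizer (D : Set G) := by
    refine Uniq.mem_normalizer_of_map_le ?_
    rw [hD, map_commutator]
    exact commutator_mono (le_of_eq (mem_normalizer_iff_map_conj_eq.1 (le_normalizer hkE)))
      (le_of_eq (mem_normalizer_iff_map_conj_eq.1 (le_normalizer hkE)))
  have hkR : k ∈ normalizer (R : Set G) := by
    refine Uniq.mem_normalizer_of_map_le ?_
    refine Excep.le_of_hall (map_subtype_le _) hDR ((map_mono (map_subtype_le _)).trans
      (le_of_eq (mem_normalizer_iff_map_conj_eq.1 hkD))) ?_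
    exact Excep.coprime_of_pgroup ((P.2.map D.subtype).map _) hRd
  exact ⟨R, le_inf (map_subtype_le _) (over_centralized hG hM hKU hK1 hN hNK hKe hk hko hnU hH hnc hUH hkH hE hkE
    (P.2.map D.subtype) ((map_subtype_le _).trans hDE) hkR), hRd⟩

/-- BG 14.12: `K ≤ F(H ⊓ M*)` and `H ⊓ M*` is a complement to `H_σ`. -/
theorem over_partner : k ∈ Cfsg.fittingOf (H ⊓ N) ∧ Cfsg.IsComplIn (H ⊓ N) (Cfsg.sigmaCore H) H := by
  have hne := over_ne hG hM hKU hK1 hN hNK hKe hk hko hnU hH hnc hUH hkH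
  have hqH := over_not_sigma hG hM hKU hK1 hN hNK hKe hk hko hH hne hkH
  have hk1 : k ≠ 1 := fun e => hq.out.ne_one (by rw [← hko, e, orderOf_one])
  obtain ⟨E, hE, hkE'⟩ := Tau.exists_complement_of hG hH (X := zpowers k) (zpowers_le.2 hkH) fun r hr hd => by
    rw [Nat.card_zpowers, hko] at hd
    exact (Nat.prime_dvd_prime_iff_eq hr hq.out).1 hd ▸ hqH
  rw [zpowers_le] at hkE'
  have hkE : k ∈ E := hkE'
  haveI hab := (Cfsg.Agent.S1420.result hG H hH E hE).2.1
  have hEσ : ∀ r : ℕ, r.Prime → r ∣ Nat.card E → r ∉ Cfsg.sigma H := (Compl.card_eq hG hH hE).2.2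
  have hDk := over_derived hG hM hKU hK1 hN hNK hKe hk hko hnU hH hnc hUH hkH hE hkE
  set D := ⁅E, E⁆ ⊔ zpowers k with hD
  have hDE : D ≤ E := sup_le (commutator_le_self E) (zpowers_le.2 hkE)
  have hDn : E ≤ normalizer (D : Set G) := fun e he => by
    refine mem_normalizer_iff.2 fun d => ?_
    have key : ∀ e ∈ E, ∀ d ∈ D, e * d * e⁻¹ ∈ D := fun e he d hd => by
      rw [show e * d * e⁻¹ = ⁅e, d⁆ * d by rw [commutatorElement_def]; group]
      exact D.mul_mem (mem_sup_left (commutator_mem_commutator he (hDE hd))) hd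
    refine ⟨key e he d, fun h => ?_⟩
    have := key e⁻¹ (E.inv_mem he) _ h
    rwa [show e⁻¹ * (e * d * e⁻¹) * e⁻¹⁻¹ = d by group] at this
  haveI hDc : IsMulCommutative D := by
    haveI : IsMulCommutative (zpowers k : Subgroup G) := inferInstance
    have h1 : ⁅E, E⁆ ≤ centralizer (zpowers k : Set G) := hDk.trans (FixedLine.le_centralizer_zpowers le_rfl)
    refine le_centralizer_iff_isMulCommutative.1 (sup_le (le_centralizer_iff.1 (sup_le ?_ ?_))
      (le_centralizer_iff.1 (sup_le ?_ ?_)))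
    · exact le_centralizer_iff_isMulCommutative.2 hab
    · exact le_centralizer_iff.1 h1
    · exact h1
    · exact le_centralizer_iff_isMulCommutative.2 inferInstance
  have hkF : k ∈ Cfsg.fittingOf E := Bender.le_fitting hDE hDn
    (by letI : CommGroup D := { (inferInstance : Group D) with mul_comm := hDc.is_comm.comm }
        exact CommGroup.isNilpotent)
    (mem_sup_right (mem_zpowers k))
  have hEN : E ≤ N := by
    by_cases hτ : (Cfsg.tau2 H).Nonempty
    · obtain ⟨s, hs⟩ := hτ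
      haveI := Fact.mk hs.1
      obtain ⟨B, hBH, hB, hB2⟩ := Uniq.exists_elementary hs.2.2.2
      obtain ⟨g, hg, hgB⟩ := Tau.conj_into_of_product (π := {s}) (solvable_le hG hH le_rfl) hE.1
        (map_subtype_le _ : Cfsg.sigmaCore H ≤ H) (TH.le_normalizer_core H)
        (by rw [sup_comm]; exact (Compl.card_eq hG hH hE).2.1.ge)
        (fun r hr hrt => hrt.symm ▸ not_dvd_core hG hH hs.1 hs.2.1) hBH fun r hr hd => by
          rw [hB2] at hd
          exact (Nat.prime_dvd_prime_iff_eq hr hs.1).1 (hr.dvd_of_dvd_pow hd)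
      have hA2 : Nat.card ↥(B.map (MulAut.conj g).toMonoidHom) = s ^ 2 := by
        rw [card_map_of_injective (MulAut.conj g).injective, hB2]
      have hA := Tau.elementary_map hB (MulAut.conj g).toMonoidHom
      obtain ⟨⟨hEA, -⟩, -, -⟩ := Cfsg.Agent.S1418.result hG H hH E hE s hs _ ⟨hgB, hA, hA2⟩
      exact hEA.trans (over_plane hG hM hKU hK1 hN hNK hKe hk hko hnU hH hnc hne hkH hE hkE hs hgB hA hA2).2
    have hr1 : Cfsg.PRankLE q 1 H := by
      by_contra h
      exact hτ ⟨q, hq.out, hqH, by_contra fun h' => hqH (Sig.alpha_subset_sigma hG hH ⟨hq.out, h'⟩), h⟩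
    refine fun e he => ?_
    have hy : e * k * e⁻¹ ∈ D := (mem_normalizer_iff.1 (hDn he) k).1 (mem_sup_right (mem_zpowers k))
    have hyo : orderOf (e * k * e⁻¹) = q := by rw [conj_orderOf, hko]
    have hkD : k ∈ D := mem_sup_right (mem_zpowers k)
    have hW : Cfsg.IsElementaryAbelian q (zpowers k ⊔ zpowers (e * k * e⁻¹) : Subgroup G) :=
      CfsgLib.Thompson.elab_sup (CfsgLib.Thompson.elab_zpowers (by rw [← hko, pow_orderOf_eq_one]))
        (CfsgLib.Thompson.elab_zpowers (by rw [← hyo, pow_orderOf_eq_one])) fun a ha =>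
          mem_centralizer_iff.2 fun b hb => congrArg Subtype.val
            (hDc.is_comm.comm ⟨b, zpowers_le.2 hy hb⟩ ⟨a, zpowers_le.2 hkD ha⟩)
    have heq := eq_of_le_of_card_ge (le_sup_left : zpowers k ≤ zpowers k ⊔ zpowers (e * k * e⁻¹))
      ((Uniq.rankLE_elementary hr1
        (sup_le (zpowers_le.2 hkH) (zpowers_le.2 (hE.1 (hDE hy)))) hW).trans (by
          rw [pow_one, Nat.card_zpowers, hko]))
    have hkN' : zpowers (e * k * e⁻¹) = zpowers k := eq_of_le_of_card_ge
      (le_sup_right.trans heq.ge) (by rw [Nat.card_zpowers, Nat.card_zpowers, hyo, hko])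
    refine eq_of_conj_eq hG hN (((centralizer_le_partner hG hM hKU hK1 hN hNK hKe hk hko).2 _
      (Uniq.coatom_conj hN e) fun c hc => ?_))
    refine ⟨e⁻¹ * c * e, (centralizer_le_partner hG hM hKU hK1 hN hNK hKe hk hko).1
      (mem_centralizer_singleton_iff.2 ?_), by show e * (e⁻¹ * c * e) * e⁻¹ = c; group⟩
    obtain ⟨i, hi⟩ := mem_zpowers_iff.1 (hkN'.ge (mem_zpowers k) : k ∈ zpowers (e * k * e⁻¹))
    have hck : Commute c (e * k * e⁻¹) := by
      obtain ⟨j, hj⟩ := mem_zpowers_iff.1 (hkN'.le (mem_zpowers _) : e * k * e⁻¹ ∈ zpowers k)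
      rw [← hj]
      exact (show Commute c k from mem_centralizer_singleton_iff.1 hc).zpow_right j
    calc e⁻¹ * c * e * k = e⁻¹ * (c * (e * k * e⁻¹)) * e := by group
      _ = e⁻¹ * ((e * k * e⁻¹) * c) * e := by rw [hck.eq]
      _ = k * (e⁻¹ * c * e) := by group
  have heq : H ⊓ N = E := by
    refine le_antisymm (fun h hh => ?_) (le_inf hE.1 hEN)
    obtain ⟨a, ha, b, hb, rfl⟩ := hE.2.2.2 h hh.1
    have hbN : b ∈ N := by
      rw [show b = a⁻¹ * (a * b) by group]
      exact N.mul_mem (N.inv_mem (hEN ha)) hh.2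
    have hb1 : b ∈ Cfsg.sigmaCore H ⊓ N := ⟨hb, hbN⟩
    rw [over_core_meet hG hM hKU hK1 hN hNK hKe hk hko hnU hH hnc hUH hkH, Subgroup.mem_bot] at hb1
    rwa [hb1, mul_one]
  rw [heq]
  exact ⟨hkF, hE⟩

end CfsgLib.OddLocal.Kap
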