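import Cfsg.Agent.OddLocal.SigmaConjugate

/-!
Cyclic Sylow subgroups of a complement act on `M_σ` with uniform fixed points.
-/

set_option autoImplicit false
set_option linter.style.haveILetI false
set_option linter.unusedSectionVars false

namespace CfsgLib.OddLocal.Tau

open Subgroup Cfsg CfsgLib.OddLocal
open scoped commutatorElement Pointwise

universe u

variable {G : Type u} [Group G] [Finite G] {p q : ℕ} [hp : Fact p.Prime] [hq : Fact q.Prime]
variable (hG : Cfsg.IsMinSimpleOddOrder G)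
include hG

/-- A `p`-group of `L`, `p ∈ σ(L)`, centralizes the `q`-subgroups it normalizes in `M ⊓ L`, `q ∈ σ(M)`. -/
theorem centralizes_cross {M L Q S : Subgroup G} (hM : IsCoatom M) (hL : IsCoatom L) (hne : L ≠ M)
    (hqσ : q ∈ Cfsg.sigma M) (hpσ : p ∈ Cfsg.sigma L) (hqp : q ≠ p) (hQ : IsPGroup q Q) (hQM : Q ≤ M) (hQL : Q ≤ L)
    (hS : IsPGroup p S) (hSL : S ≤ L) (hSQ : S ≤ normalizer (Q : Set G)) : ⁅Q, S⁆ = ⊥ := by
  classical
  have hcop : (Nat.card S).Coprime (Nat.card Q) := IsPGroup.coprime_card_of_ne p q (Ne.symm hqp) S Q hS hQ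
  have hsol : Group.IsSolvable S := hG.2.2.2 S (ne_top_of_le_ne_top hL.1 hSL)
  set Q' := ⁅Q, S⁆ with hQ'
  have hQ'Q : Q' ≤ Q := le_normalizer_iff_commutator_le_left.1 hSQ
  have hQ'e : ⁅Q', S⁆ = Q' := CfsgLib.CoprimeAct.commutator_commutator hSQ hcop (Or.inl hsol)
  have hQ'p : IsPGroup q Q' := hQ.to_le hQ'Q
  by_contra h1
  have hQ'α : Q' ≤ Cfsg.alphaCore L := hQ'e.ge.trans (Excep.commutator_le_alphaCore hG hL
    (commutator_mono hQL hSL) (Sig.le_derived hG hL hpσ hS hSL)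
    (IsPGroup.coprime_card_of_ne q p hqp _ _ hQ'p hS))
  have hqα : q ∈ Cfsg.alpha L := (Sig.alpha_core hG hL).1.2.1 q hq.out
    ((Excep.isPGroup_ne_bot_dvd hQ'p h1).trans (card_dvd_of_le hQ'α))
  have hqσL : q ∈ Cfsg.sigma L := Sig.alpha_subset_sigma hG hL hqα
  obtain ⟨T, hTM, -⟩ := Sig.exists_sylow hqσ
  have hqαM : q ∈ Cfsg.alpha M := ⟨hq.out, fun h =>
    Excep.rank_of_full T.2 T.not_dvd_index hqα (Uniq.rankLE_mono hTM h)⟩
  by_cases hβ : q ∈ Cfsg.beta L
  · obtain ⟨x, hx⟩ := exists_prime_orderOf_dvd_card' q (Excep.isPGroup_ne_bot_dvd hQ'p h1)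
    have hXc : Nat.card (zpowers (x : G)) = q := by rw [Nat.card_zpowers, orderOf_coe, hx]
    have hX : zpowers (x : G) ≤ Q := zpowers_le.2 (hQ'Q x.2)
    obtain ⟨SM⟩ : Nonempty (Sylow q (Cfsg.sigmaCore M)) := inferInstance
    obtain ⟨SL⟩ : Nonempty (Sylow q (Cfsg.sigmaCore L)) := inferInstance
    have hM' := (order_p_unique hG hM hqσ (hX.trans hQM) hXc (SM.2.map _) (map_subtype_le _) (by
      rw [relIndex, ← comap_subtype, comap_map_eq_self_of_injective (Cfsg.sigmaCore M).subtype_injective]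
      exact SM.not_dvd_index) (Or.inl ⟨hqαM, hβ.2⟩)).1
    have hL' := (order_p_unique hG hL hqσL (hX.trans hQL) hXc (SL.2.map _) (map_subtype_le _) (by
      rw [relIndex, ← comap_subtype, comap_map_eq_self_of_injective (Cfsg.sigmaCore L).subtype_injective]
      exact SL.not_dvd_index) (Or.inl hβ)).1
    exact hne (hM'.2 L hL hL'.1)
  · obtain ⟨k, hk⟩ := Beta.npc_index (Beta.npc_sigma hG hL hq.out hqσL.2.1 hβ)
    set O := Excep.opc q (Cfsg.sigmaCore L)
    have hSO : S ≤ O := Excep.pgroup_le_opc hS (Excep.le_sigmaCore hG hL hSL (Excep.primes_of_pgroup hS hpσ))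
      (by rw [hk]; exact fun h => hqp ((Nat.prime_dvd_prime_iff_eq hp.out hq.out).1 (hp.out.dvd_of_dvd_pow h)).symm)
    have hQ'O : Q' ≤ O := hQ'e.ge.trans ((commutator_mono le_rfl hSO).trans
      (le_normalizer_iff_commutator_le_right.1 ((hQ'Q.trans hQL).trans
        ((TH.le_normalizer_core L).trans (Excep.normalizer_le_normalizer_opc q _)))))
    exact hq.out.coprime_iff_not_dvd.1 (Excep.opc_coprime q _).symm
      ((Excep.isPGroup_ne_bot_dvd hQ'p h1).trans (card_dvd_of_le hQ'O))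

/-- For a common prime of `σ(M)` and `σ(L)`, a `p`-subgroup of `L`, `p ∉ σ(L)`, is conjugate into `M`. -/
theorem conj_into_of_common {M L B : Subgroup G} (hL : IsCoatom L) (hqM : q ∈ Cfsg.sigma M)
    (hqL : q ∈ Cfsg.sigma L) (hpσ : p ∉ Cfsg.sigma L) (hB : IsPGroup p B) (hBL : B ≤ L) :
    ∃ g : G, B.map (MulAut.conj g).toMonoidHom ≤ M := by
  obtain ⟨Q₁, hQ₁L, -⟩ := Sig.exists_sylow hqL
  obtain ⟨Q₀, hQ₀M, hN₀⟩ := Sig.exists_sylow hqM
  have hQ₁K : (Q₁ : Subgroup G) ≤ Cfsg.sigmaCore L := Excep.le_sigmaCore hG hL hQ₁L (Excep.primes_of_pgroup Q₁.2 hqL)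
  have hfr := Excep.frattini_le (map_subtype_le _) (TH.le_normalizer_core L) hQ₁K Q₁.2
    fun h => Q₁.not_dvd_index (h.trans (Dvd.intro _ (relIndex_mul_index hQ₁K)))
  obtain ⟨g, -, hg⟩ := conj_into_of_product (π := {p}) (hG.2.2.2 L hL.1)
    (inf_le_left : L ⊓ normalizer ((Q₁ : Subgroup G) : Set G) ≤ L) (map_subtype_le _) (TH.le_normalizer_core L) hfr
    (fun r hr hrp h => hpσ (Set.mem_singleton_iff.1 hrp ▸ (Sig.sigma_core hG hL).1.2.1 r hr h))
    hBL (Excep.primes_of_pgroup hB rfl)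
  obtain ⟨h, hh⟩ := MulAction.exists_smul_eq G Q₁ Q₀
  refine ⟨h * g, ?_⟩
  rw [← map_conj_comp]
  refine (map_mono (hg.trans inf_le_right)).trans (le_trans ?_ hN₀)
  refine (le_normalizer_map _).trans (le_of_eq ?_)
  rw [← hh, Sylow.coe_subgroup_smul, CfsgLib.SZ.conj_smul_eq_map]

/-- The fixed points of an element of order `p` of a cyclic Sylow subgroup of a complement. -/
theorem cyclic_action {M E S : Subgroup G} (hM : IsCoatom M) (hE : Cfsg.IsComplIn E (Cfsg.sigmaCore M) M)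
    (hS : IsPGroup p S) (hSE : S ≤ E) (hSd : ¬ p ∣ S.relIndex E) (hSc : IsCyclic S)
    {x₁ : G} (hx₁ : x₁ ∈ S) (hx₁o : orderOf x₁ = p) :
    Cfsg.sigmaCore M ⊓ centralizer ({x₁} : Set G) ≤ centralizer (S : Set G) := by
  classical
  set K := Cfsg.sigmaCore M
  set X₁ := zpowers x₁ with hX₁def
  have hKM : K ≤ M := map_subtype_le _
  have hEM : E ≤ M := hE.1
  have hSM : S ≤ M := hSE.trans hEM
  have hpE : p ∣ Nat.card E := by
    rw [← hx₁o, ← orderOf_mk x₁ (hSE hx₁)]; exact orderOf_dvd_natCard _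
  obtain ⟨hEc, hEsup, hEσ⟩ := Compl.card_eq hG hM hE
  have hpM : p ∉ Cfsg.sigma M := hEσ p hp.out hpE
  have hp2 : p ≠ 2 := CfsgLib.CN.MinSimple.p_ne_two hG (hpE.trans E.card_subgroup_dvd_card)
  have hMs : Group.IsSolvable M := hG.2.2.2 M hM.1
  have hSs : Group.IsSolvable S := hG.2.2.2 S (ne_top_of_le_ne_top hM.1 hSM)
  -- `M` has `p`-rank one
  have hr1 : ∀ B : Subgroup G, B ≤ M → Cfsg.IsElementaryAbelian p B → Nat.card B ≤ p := by
    intro B hBM hB
    obtain ⟨g, -, hg⟩ := conj_into_of_product (π := {p}) hMs hEM hKM (TH.le_normalizer_core M)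
      (hEsup.ge.trans (le_of_eq (sup_comm _ _)))
      (fun r hr hrp h => hpM (Set.mem_singleton_iff.1 hrp ▸ (Sig.sigma_core hG hM).1.2.1 r hr h))
      hBM (Excep.primes_of_pgroup (CfsgLib.Signalizer.isPGroup hB) rfl)
    set B' := B.map (MulAut.conj g).toMonoidHom with hB'
    have hB'e : Cfsg.IsElementaryAbelian p B' := elementary_map hB _
    obtain ⟨T, hT⟩ := ((CfsgLib.Signalizer.isPGroup hB'e).comap_subtype (K := E)).exists_le_sylow
    obtain ⟨T₀, hT₀⟩ : ∃ T₀ : Sylow p E, (T₀ : Subgroup E) = S.subgroupOf E :=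
      ⟨(hS.comap_subtype (K := E)).toSylow hSd, rfl⟩
    have hTc : IsCyclic (T : Subgroup E) := by
      refine (T.equiv T₀).isCyclic.2 ?_
      show IsCyclic (T₀ : Subgroup E)
      rw [hT₀]
      exact (subgroupOfEquivOfLe hSE).isCyclic.2 hSc
    haveI : IsCyclic ((T : Subgroup E).map E.subtype) :=
      ((T : Subgroup E).equivMapOfInjective E.subtype E.subtype_injective).isCyclic.1 hTc
    have hle : B' ≤ (T : Subgroup E).map E.subtype := by
      rw [← map_subgroupOf_eq_of_le hg]; exact map_mono hT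
    have h := PLenZ.card_le_of_cyclic_exp (Subgroup.isCyclic_of_le hle) hB'e.2
    rwa [hB', card_map_of_injective (f := (MulAut.conj g).toMonoidHom) (MulAut.conj g).injective] at h
  have hnoSq : ∀ B : Subgroup G, Cfsg.IsElementaryAbelian p B → Nat.card B = p ^ 2 → ∀ g : G,
      ¬ B.map (MulAut.conj g).toMonoidHom ≤ M := fun B hB hB2 g hg => by
    have h := hr1 _ hg (elementary_map hB _)
    rw [card_map_of_injective (f := (MulAut.conj g).toMonoidHom) (MulAut.conj g).injective, hB2] at h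
    exact absurd h (not_le.2 (lt_self_pow₀ hp.out.one_lt one_lt_two))
  by_contra hnot
  set C := K ⊓ centralizer ({x₁} : Set G) with hC
  have hScomm : ∀ s ∈ S, Commute s x₁ := fun s hs => by
    haveI := hSc
    letI := IsCyclic.commGroup (α := S)
    exact congrArg Subtype.val (mul_comm (⟨s, hs⟩ : S) ⟨x₁, hx₁⟩)
  have hSx : S ≤ centralizer ({x₁} : Set G) := fun s hs => mem_centralizer_singleton_iff.2 (hScomm s hs).eq
  have hSC : S ≤ normalizer (C : Set G) :=
    (le_inf (hSM.trans (TH.le_normalizer_core M)) (hSx.trans le_normalizer)).trans inf_normalizer_le_normalizer_inf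
  have hpC : ¬ p ∣ Nat.card C := fun h =>
    hpM ((Sig.sigma_core hG hM).1.2.1 p hp.out (h.trans (card_dvd_of_le inf_le_left)))
  -- a prime `r` with an invariant `r`-group moved by `S`
  obtain ⟨r, hr, Q, hQC, hQ, hSQ, hQS⟩ : ∃ (r : ℕ) (_ : r.Prime) (Q : Subgroup G), Q ≤ C ∧ IsPGroup r Q ∧
      S ≤ normalizer (Q : Set G) ∧ ¬ Q ≤ centralizer (S : Set G) := by
    by_contra hall
    refine hnot (Excep.le_of_sylows fun r hr hrd => ?_)
    haveI := Fact.mk hr
    obtain ⟨R, -, hRC, hR, hSR, hRd⟩ := Excep.exists_inv_sylow (t := r) hSC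
      (Excep.coprime_of_pgroup hS hpC) (Or.inl hSs) bot_le IsPGroup.of_bot le_normalizer_of_normal
    exact ⟨R, le_inf hRC (by_contra fun h => hall ⟨r, hr, R, hRC, hR, hSR, h⟩), hRd⟩
  haveI := Fact.mk hr
  have hQ1 : Q ≠ ⊥ := fun e => hQS (e ▸ bot_le)
  have hrσ : r ∈ Cfsg.sigma M := (Sig.sigma_core hG hM).1.2.1 r hr
    ((Excep.isPGroup_ne_bot_dvd hQ hQ1).trans (card_dvd_of_le (hQC.trans inf_le_left)))
  have hrp : r ≠ p := fun e => hpM (e ▸ hrσ)
  have hQM : Q ≤ M := (hQC.trans inf_le_left).trans hKM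
  set Q' := ⁅Q, S⁆ with hQ'
  have hQ'Q : Q' ≤ Q := le_normalizer_iff_commutator_le_left.1 hSQ
  have hQ'e : ⁅Q', S⁆ = Q' := CfsgLib.CoprimeAct.commutator_commutator hSQ
    (IsPGroup.coprime_card_of_ne p r (Ne.symm hrp) S Q hS hQ) (Or.inl hSs)
  have hQ'1 : Q' ≠ ⊥ := fun e => hQS (commutator_eq_bot_iff_le_centralizer.1 e)
  -- a maximal subgroup over the centralizer of `x₁`
  have hX₁c : Nat.card X₁ = p := by rw [hX₁def, Nat.card_zpowers, hx₁o]
  obtain ⟨H, hH, hNH⟩ := (eq_top_or_exists_le_coatom (normalizer (X₁ : Set G))).resolve_left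
    (Excep.normalizer_line_ne_top hG hX₁c)
  have hCH : centralizer ({x₁} : Set G) ≤ H := by
    refine le_trans (fun c hc => ?_) ((centralizer_le_normalizer _).trans hNH)
    refine mem_centralizer_iff.2 fun y hy => ?_
    obtain ⟨i, rfl⟩ := mem_zpowers_iff.1 hy
    exact ((show Commute c x₁ from mem_centralizer_singleton_iff.1 hc).zpow_right i).eq.symm
  have hSH : S ≤ H := hSx.trans hCH
  have hpH : p ∣ Nat.card H := hX₁c ▸ card_dvd_of_le ((zpowers_le.2 hx₁).trans hSH)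
  obtain ⟨P, hSP⟩ := hS.exists_le_sylow
  have hNcyc : IsCyclic (P : Subgroup G) →
      normalizer ((P : Subgroup G) : Set G) ≤ H := fun h =>
    (UTool.normalizer_le_normalizer_zpowers h (hSP hx₁)).trans hNH
  have hHM : H ≠ M := by
    rintro rfl
    obtain ⟨T, hT⟩ := (hS.comap_subtype (K := H)).exists_le_sylow
    set T' := (T : Subgroup H).map H.subtype
    have hST : S ≤ T' := by rw [← map_subgroupOf_eq_of_le hSH]; exact map_mono hT
    have hTc : IsCyclic T' := by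
      by_contra h
      obtain ⟨B, hBT, hB, hB2⟩ := Uniq.exists_sq hp2 (T.2.map _) h
      have h' := hr1 B (hBT.trans (map_subtype_le _)) hB
      rw [hB2] at h'
      exact absurd h' (not_le.2 (lt_self_pow₀ hp.out.one_lt one_lt_two))
    have hNT : normalizer (T' : Set G) ≤ H := (UTool.normalizer_le_normalizer_zpowers hTc (hST hx₁)).trans hNH
    exact hpM ⟨hp.out, hpH, T, hNT⟩
  have hQH : Q ≤ H := (hQC.trans inf_le_right).trans hCH
  have hpH' : p ∉ Cfsg.sigma H := fun h =>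
    hQ'1 (centralizes_cross hG hM hH hHM hrσ h hrp hQ hQM hQH hS hSH hSQ)
  have hnc : ¬ IsCyclic (P : Subgroup G) := fun h => hpH' (Excep.mem_sigma_of_sylow P (le_normalizer.trans (hNcyc h))
    (hNcyc h) hpH)
  obtain ⟨B₀, hB₀H, hB₀, hB₀2⟩ : ∃ B : Subgroup G, B ≤ H ∧ Cfsg.IsElementaryAbelian p B ∧ Nat.card B = p ^ 2 := by
    obtain ⟨z, hzP, hzo, hzc⟩ := Excep.exists_central_order P.2 le_rfl le_normalizer fun e => hnc (by rw [e]; infer_instance)
    by_cases hzX : z ∈ X₁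
    · have hPC : (P : Subgroup G) ≤ centralizer ({x₁} : Set G) := fun s hs => by
        have e : zpowers z = X₁ := eq_of_le_of_card_ge (zpowers_le.2 hzX) (by rw [hX₁c, Nat.card_zpowers, hzo])
        obtain ⟨i, hi⟩ := mem_zpowers_iff.1 (e ▸ mem_zpowers x₁ : x₁ ∈ zpowers z)
        exact mem_centralizer_singleton_iff.2 (hi ▸ ((hzc s hs).zpow_right i).eq)
      obtain ⟨B, hBP, hB, hB2⟩ := Uniq.exists_sq hp2 P.2 hnc
      exact ⟨B, (hBP.trans hPC).trans hCH, hB, hB2⟩
    · have hU : Cfsg.IsElementaryAbelian p (X₁ ⊔ zpowers z : Subgroup G) := by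
        refine CfsgLib.Thompson.elab_sup (CfsgLib.Thompson.elab_zpowers (by rw [← hx₁o, pow_orderOf_eq_one]))
          (CfsgLib.Thompson.elab_zpowers (by rw [← hzo, pow_orderOf_eq_one])) fun a ha => ?_
        refine mem_centralizer_iff.2 fun y hy => ?_
        obtain ⟨i, rfl⟩ := mem_zpowers_iff.1 ha
        obtain ⟨j, rfl⟩ := mem_zpowers_iff.1 hy
        exact (((hzc x₁ (hSP hx₁)).zpow_zpow i j).eq).symm
      have hlt : p < Nat.card ↥(X₁ ⊔ zpowers z) :=
        hX₁c ▸ CfsgLib.Solvable.card_lt_of_lt (lt_of_le_of_ne le_sup_left fun e =>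
          hzX (e.ge (mem_sup_right (mem_zpowers z))))
      obtain ⟨B, hBU, hB, hB2⟩ := Uniq.exists_sq hp2 (CfsgLib.Signalizer.isPGroup hU) fun h =>
        absurd (PLenZ.card_le_of_cyclic_exp h hU.2) (not_le.2 hlt)
      refine ⟨B, hBU.trans (sup_le ((zpowers_le.2 hx₁).trans hSH) (zpowers_le.2 ?_)), hB, hB2⟩
      exact hCH (mem_centralizer_singleton_iff.2 (hzc x₁ (hSP hx₁)).eq.symm)
  have hr2 : Cfsg.PRankLE p 2 H := by
    by_contra h
    exact hpH' (Sig.alpha_subset_sigma hG hH ⟨hp.out, h⟩)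
  have hrH : r ∉ Cfsg.sigma H := fun h => by
    obtain ⟨g, hg⟩ := conj_into_of_common hG hH hrσ h hpH' (IsPGroup.of_card hB₀2 : IsPGroup p B₀) hB₀H
    exact hnoSq B₀ hB₀ hB₀2 g hg
  -- a complement of `H` over `Q` and `S`
  have hQSπ : ∀ s : ℕ, s.Prime → s ∣ Nat.card ↥(S ⊔ Q) → s ∉ Cfsg.sigma H := fun s hs hd => by
    have h2 : s ∣ Nat.card S * Nat.card Q :=
      CfsgLib.Solvable.card_sup_mul_card_inf hSQ ▸ hd.trans (dvd_mul_right _ _)
    rcases hs.dvd_mul.1 h2 with h | h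
    · rw [Excep.primes_of_pgroup (π := {p}) hS rfl s hs h]; exact hpH'
    · rw [Excep.primes_of_pgroup (π := {r}) hQ rfl s hs h]; exact hrH
  obtain ⟨E', hE', hQSE⟩ := exists_complement_of hG hH (sup_le hSH hQH) hQSπ
  obtain ⟨g, -, hg⟩ := conj_into_of_product (π := {p}) (hG.2.2.2 H hH.1) hE'.1 (map_subtype_le _)
    (TH.le_normalizer_core H) (fun m hm => by
      obtain ⟨a, ha, b, hb, rfl⟩ := hE'.2.2.2 m hm
      exact mul_mem (mem_sup_right ha) (mem_sup_left hb))
    (fun s hs hsp h => hpH' (Set.mem_singleton_iff.1 hsp ▸ (Sig.sigma_core hG hH).1.2.1 s hs h))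
    hB₀H (Excep.primes_of_pgroup (IsPGroup.of_card hB₀2) rfl)
  set B := B₀.map (MulAut.conj g).toMonoidHom with hBdef
  have hB : Cfsg.IsElementaryAbelian p B := elementary_map hB₀ _
  have hB2 : Nat.card B = p ^ 2 := by
    rw [hBdef, card_map_of_injective (f := (MulAut.conj g).toMonoidHom) (MulAut.conj g).injective, hB₀2]
  have hBH : B ≤ H := hg.trans hE'.1
  have hBM : ¬ B ≤ M := hnoSq B₀ hB₀ hB₀2 g
  have hmax : ∀ B' : Subgroup G, Cfsg.IsElementaryAbelian p B' → B ≤ B' → B' = B := fun B' hB' hBB => by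
    have hBC : B' ≤ centralizer (B : Set G) := fun b hb => mem_centralizer_iff.2 fun a ha =>
      CfsgLib.Signalizer.commute hB' (hBB ha) hb
    exact (eq_of_le_of_card_ge hBB ((Uniq.rankLE_elementary hr2
      (hBC.trans (centralizer_le_coatom hG hB hB2 hH hBH)) hB').trans hB2.ge)).symm
  set D := ⁅E', E'⁆
  have hQ'D : Q' ≤ Bender.qc r D := by
    intro x hx
    obtain ⟨k, hk⟩ := hQ.to_le hQ'Q ⟨x, hx⟩
    obtain ⟨j, -, hj⟩ := (Nat.dvd_prime_pow hr).1 (orderOf_dvd_of_pow_eq_one (congrArg Subtype.val hk))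
    refine Bender.mem_qc (Bender.le_fitting le_rfl le_normalizer (Compl.nilpotent_derived hG hH hE') ?_) hj
    exact commutator_mono (le_sup_right.trans hQSE) (le_sup_left.trans hQSE) hx
  have hEN : E' ≤ normalizer (Bender.qc r D : Set G) :=
    (normalizer_commutator_ge_left E' E').trans (UTool.normalizer_le_normalizer_map D _
      (Subgroup.characteristic_iff_map_le.2 fun φ => CfsgLib.Solvable.le_pCore r
        (Subgroup.Normal.map (CfsgLib.Solvable.pCore_normal r) _ φ.surjective)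
        ((CfsgLib.Solvable.isPGroup_pCore r).map _)))
  have hBQ : B ≤ normalizer (Q' : Set G) := by
    have h := centralizes_invariant hG hB hB2 hH hBH hpH' hmax hrH hrp (Bender.isPGroup_qc D)
      (((Bender.qc_le r D).trans (commutator_le_self E')).trans hE'.1) (hg.trans hEN)
    exact (le_centralizer_iff.1 (hQ'D.trans h)).trans (centralizer_le_normalizer _)
  -- the final maximal subgroup
  obtain ⟨L, hL, hNL⟩ := (eq_top_or_exists_le_coatom (normalizer (Q' : Set G))).resolve_left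
    (CfsgLib.CN.MinSimple.normalizer_ne_top hG (hQ.to_le hQ'Q).isNilpotent hQ'1)
  have hBL : B ≤ L := hBQ.trans hNL
  have hLM : L ≠ M := fun e => hBM (e ▸ hBL)
  have hSQ' : S ≤ normalizer (Q' : Set G) := normalizer_commutator_ge_right Q S
  have hpL : p ∉ Cfsg.sigma L := fun h => hQ'1 (hQ'e ▸ centralizes_cross hG hM hL hLM hrσ h hrp (hQ.to_le hQ'Q)
    (hQ'Q.trans hQM) (le_normalizer.trans hNL) hS (hSQ'.trans hNL) hSQ')
  obtain ⟨N, hNσ, hNL', hNn, hLe, -, -⟩ := exists_product_over hG hM hrσ hL hLM (hQ.to_le hQ'Q) hQ'1 (hQ'Q.trans hQM) hNL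
  obtain ⟨c, -, hc⟩ := conj_into_of_product (π := {p}) (hG.2.2.2 L hL.1) (inf_le_right : M ⊓ L ≤ L) hNL' hNn hLe
    (fun s hs hsp h => hpL (Set.mem_singleton_iff.1 hsp ▸ (Sig.sigma_core hG hL).1.2.1 s hs (h.trans (card_dvd_of_le hNσ))))
    hBL (Excep.primes_of_pgroup (IsPGroup.of_card hB2) rfl)
  exact hnoSq B hB hB2 c (hc.trans inf_le_left)

end CfsgLib.OddLocal.Tau
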