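import Cfsg.Agent.OddLocal.FixedLineBasic
import Cfsg.Agent.OddLocal.PLengthZGroup
import Mathlib.GroupTheory.SemidirectProduct

/-!
An element of prime order without fixed points on a module centralizes every solvable group of odd order
acting on it without normal subgroup of the module's characteristic.
-/

set_option autoImplicit false
set_option linter.style.haveILetI false
set_option linter.unusedSectionVars false

namespace CfsgLib.OddLocal.Fpf

open Subgroup Cfsg CfsgLib.OddLocal
open scoped commutatorElement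

universe u

/-- Automorphism form: the fixed-point-free element centralizes the group. -/
theorem commute_of_fpf {V : Type u} [Group V] [Finite V] {q r : ℕ} [Fact q.Prime] [Fact r.Prime]
    (hVc : IsMulCommutative V) (hVe : ∀ v : V, v ^ q = 1) (hr2 : r ≠ 2) (hrq : r ≠ q)
    (K : Subgroup (MulAut V)) [Group.IsSolvable K] (hKodd : Odd (Nat.card K))
    (hrK : (Nat.card K).Coprime r) (hcore : Cfsg.pCore q K = ⊥) {a : MulAut V} (ha : orderOf a = r)
    (haK : a ∈ normalizer (K : Set (MulAut V))) (hfix : ∀ v : V, a v = v → v = 1) :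
    ∀ k ∈ K, a * k = k * a := by
  set E := SemidirectProduct V (MulAut V) (MonoidHom.id (MulAut V))
  haveI : Finite (MulAut V) := inferInstance
  haveI : Finite E := Finite.of_equiv _ SemidirectProduct.equivProd.symm
  let i : MulAut V →* E := SemidirectProduct.inr
  let j : V →* E := SemidirectProduct.inl
  have hi : Function.Injective i := SemidirectProduct.inr_injective
  have hj : Function.Injective j := SemidirectProduct.inl_injective
  have hconj : ∀ (g : MulAut V) (v : V), i g * j v * (i g)⁻¹ = j (g v) := fun g v => by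
    rw [← map_inv]
    exact (SemidirectProduct.inl_aut g v).symm
  set W := j.range
  have hW : Cfsg.IsElementaryAbelian q W := by
    refine ⟨⟨⟨fun y z => ?_⟩⟩, ?_⟩
    · obtain ⟨_, v, rfl⟩ := y
      obtain ⟨_, w, rfl⟩ := z
      exact Subtype.ext (show j v * j w = j w * j v by rw [← map_mul, hVc.is_comm.comm, map_mul])
    · rintro _ ⟨v, rfl⟩
      rw [← map_pow, hVe, map_one]
  have hiW : ∀ g : MulAut V, i g ∈ normalizer (W : Set E) := fun g => Uniq.mem_normalizer_of_map_le (by
    rintro _ ⟨_, ⟨v, rfl⟩, rfl⟩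
    exact ⟨g v, (hconj g v).symm⟩)
  set K' := K.map i
  haveI : Group.IsSolvable K' := Group.isSolvable_of_surjective (i.subgroupMap_surjective K)
  set x := i a
  have hx : orderOf x = r := (orderOf_injective i hi a).trans ha
  have hfixW : W ⊓ centralizer ({x} : Set E) = ⊥ := by
    refine (eq_bot_iff_forall _).2 ?_
    rintro _ ⟨⟨v, rfl⟩, hc⟩
    have h : a v = v := hj (by
      rw [← hconj, ← mem_centralizer_singleton_iff.1 hc, mul_inv_cancel_right])
    rw [hfix v h, map_one]
  have hxK : x ∈ normalizer (K' : Set E) := Uniq.mem_normalizer_of_map_le (by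
    rintro _ ⟨_, ⟨k, hk, rfl⟩, rfl⟩
    exact ⟨a * k * a⁻¹, (mem_normalizer_iff.1 haK k).1 hk, by simp [x]⟩)
  have hcore' : Cfsg.pCore q K' = ⊥ := by
    let e := K.equivMapOfInjective i hi
    haveI := CfsgLib.Solvable.pCore_normal (G := K') q
    refine (map_eq_bot_iff_of_injective (f := e.symm.toMonoidHom) _ e.symm.injective).1 (le_bot_iff.1 ?_)
    exact hcore ▸ CfsgLib.Solvable.le_pCore q (Subgroup.Normal.map inferInstance _ e.symm.surjective)
      ((CfsgLib.Solvable.isPGroup_pCore q).map _)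
  set F := (Cfsg.fittingSubgroup K').map K'.subtype with hF
  have hFx : F ≤ centralizer ({x} : Set E) := by
    rw [hF, CfsgLib.Solvable.fittingSubgroup_eq_iSup_pCore, Subgroup.map_iSup]
    refine iSup_le fun s => ?_
    haveI := Fact.mk s.2
    by_cases hb : Cfsg.pCore (s : ℕ) K' = ⊥
    · rw [hb, Subgroup.map_bot]; exact bot_le
    have hsK : (s : ℕ) ∣ Nat.card K := by
      obtain ⟨e, he⟩ := IsPGroup.iff_card.1 (CfsgLib.Solvable.isPGroup_pCore (s : ℕ) (G := K'))
      have he0 : e ≠ 0 := fun h => hb (eq_bot_of_card_eq _ (by rw [he, h, pow_zero]))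
      rw [Nat.card_congr (K.equivMapOfInjective i hi).toEquiv]
      exact (he ▸ dvd_pow_self (s : ℕ) he0 : (s : ℕ) ∣ Nat.card (Cfsg.pCore (s : ℕ) K')).trans (card_subgroup_dvd_card _)
    have hs2 : (s : ℕ) ≠ 2 := fun h => (Nat.not_even_iff_odd.2 hKodd) (even_iff_two_dvd.2 (h ▸ hsK))
    have hsq : (s : ℕ) ≠ q := fun h => hb (h.symm ▸ hcore')
    have hrs : r ≠ (s : ℕ) := fun h => (Fact.out : r.Prime).one_lt.ne' (Nat.eq_one_of_dvd_coprimes hrK (h ▸ hsK) dvd_rfl)
    refine FixedLine.fpf_centralizes hs2 hr2 hsq hrq hrs hW hx (hiW a) hfixW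
      ((CfsgLib.Solvable.isPGroup_pCore _).map _) ?_ ?_
      (UTool.normalizer_le_normalizer_map K' _ (PLenZ.characteristic_pCore _) hxK)
    · rintro y hy
      obtain ⟨k, -, rfl⟩ := map_subtype_le _ hy
      exact hiW k
    · refine (eq_bot_iff_forall _).2 fun y hy => ?_
      obtain ⟨k, -, rfl⟩ := map_subtype_le _ hy.1
      have : k = 1 := MulEquiv.ext fun v => hj (by
        rw [← hconj, ← mem_centralizer_iff.1 hy.2 _ ⟨v, rfl⟩, mul_inv_cancel_right]; rfl)
      rw [this, map_one]
  -- three subgroups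
  set R := zpowers x
  have hFR : ⁅F, R⁆ = ⊥ := commutator_eq_bot_iff_le_centralizer.2 (FixedLine.le_centralizer_zpowers hFx)
  have hFK : F ≤ K' := map_subtype_le _
  have hFn : K' ≤ normalizer (F : Set E) :=
    le_normalizer.trans (UTool.normalizer_le_normalizer_map K' _ inferInstance)
  have hRK : R ≤ normalizer (K' : Set E) := zpowers_le.2 hxK
  have h3 : ⁅⁅K', R⁆, F⁆ = ⊥ := by
    refine commutator_commutator_eq_bot_of_rotate (H₁ := K') (H₂ := R) (H₃ := F) ?_ ?_
    · rw [commutator_comm R F, hFR, commutator_bot_left]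
    · refine le_bot_iff.1 ((commutator_mono ?_ le_rfl).trans hFR.le)
      exact le_normalizer_iff_commutator_le_left.1 hFn
  have hKR : ⁅K', R⁆ ≤ K' := le_normalizer_iff_commutator_le_left.1 hRK
  have hKRF : ⁅K', R⁆ ≤ F := by
    intro g hg
    refine ⟨⟨g, hKR hg⟩, CfsgLib.Fitting.centralizer_fittingSubgroup_le_of_solvable
      (mem_centralizer_iff.2 fun y hy => Subtype.ext ?_), rfl⟩
    exact mem_centralizer_iff.1 (commutator_eq_bot_iff_le_centralizer.1 h3 hg) y ⟨y, hy, rfl⟩
  have hcop : (Nat.card R).Coprime (Nat.card K') := by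
    rw [Nat.card_zpowers, hx, ← Nat.card_congr (K.equivMapOfInjective i hi).toEquiv]; exact hrK.symm
  have hzero : ⁅K', R⁆ = ⊥ := by
    rw [← CfsgLib.CoprimeAct.commutator_commutator hRK hcop (Or.inr inferInstance)]
    exact le_bot_iff.1 ((commutator_mono hKRF le_rfl).trans hFR.le)
  intro k hk
  refine hi ?_
  rw [map_mul, map_mul]
  exact mem_centralizer_iff.1 (commutator_eq_bot_iff_le_centralizer.1 hzero ⟨k, hk, rfl⟩) x (mem_zpowers x)

variable {X : Type u} [Group X] [Finite X]

/-- Subgroup form. -/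
theorem commutator_centralizes {q r : ℕ} [Fact q.Prime] [Fact r.Prime] (hr2 : r ≠ 2) (hrq : r ≠ q)
    {V : Subgroup X} (hV : Cfsg.IsElementaryAbelian q V) {x : X} (hx : orderOf x = r)
    (hxV : x ∈ normalizer (V : Set X)) (hfix : V ⊓ centralizer ({x} : Set X) = ⊥)
    {K : Subgroup X} [Group.IsSolvable K] (hKodd : Odd (Nat.card K)) (hrK : (Nat.card K).Coprime r)
    (hKV : K ≤ normalizer (V : Set X)) (hxK : x ∈ normalizer (K : Set X))
    (hcore : (Nat.card K).Coprime q ∨ ∀ U : Subgroup X, U ≤ V → K ≤ normalizer (U : Set X) →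
      x ∈ normalizer (U : Set X) → U = ⊥ ∨ U = V) :
    ⁅K, zpowers x⁆ ≤ centralizer (V : Set X) := by
  by_cases hV1 : V = ⊥
  · rw [hV1]
    intro g _
    exact mem_centralizer_iff.2 fun v hv => by rw [mem_bot.1 hv]; simp
  let ρ : K →* MulAut V := (normalizerMonoidHom V).comp (inclusion hKV)
  set a : MulAut V := normalizerMonoidHom V ⟨x, hxV⟩
  have har : orderOf a = r := by
    refine orderOf_eq_prime ?_ fun h => hV1 ?_
    · rw [← map_pow, show (⟨x, hxV⟩ : normalizer (V : Set X)) ^ r = 1 from Subtype.ext (by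
        rw [SubmonoidClass.coe_pow, ← hx, pow_orderOf_eq_one]; rfl), map_one]
    · refine le_bot_iff.1 (hfix ▸ le_inf le_rfl fun v hv => mem_centralizer_singleton_iff.2 ?_)
      have h' := congrArg Subtype.val (DFunLike.congr_fun h (⟨v, hv⟩ : V))
      exact (mul_inv_eq_iff_eq_mul.1 h').symm
  have hρ : ∀ k : K, a * ρ k * a⁻¹ = ρ ⟨x * k * x⁻¹, (mem_normalizer_iff.1 hxK k).1 k.2⟩ := fun k => by
    show normalizerMonoidHom V _ * normalizerMonoidHom V _ * (normalizerMonoidHom V _)⁻¹ = normalizerMonoidHom V _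
    rw [← map_mul, ← map_inv, ← map_mul]
    rfl
  have haK : a ∈ normalizer (ρ.range : Set (MulAut V)) := Uniq.mem_normalizer_of_map_le (by
    rintro _ ⟨_, ⟨k, rfl⟩, rfl⟩
    exact ⟨_, (hρ k).symm⟩)
  haveI : Group.IsSolvable ρ.range := Group.isSolvable_of_surjective ρ.rangeRestrict_surjective
  have hdvd : Nat.card ρ.range ∣ Nat.card K := card_range_dvd ρ
  have hcore' : Cfsg.pCore q ρ.range = ⊥ := by
    rcases hcore with hc | hirr
    · refine eq_bot_of_card_eq _ ?_
      obtain ⟨e, he⟩ := IsPGroup.iff_card.1 (CfsgLib.Solvable.isPGroup_pCore q (G := ρ.range))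
      refine Nat.eq_one_of_dvd_coprimes (hc.pow_right e) ?_ he.dvd
      exact (card_subgroup_dvd_card _).trans hdvd
    set T := (Cfsg.pCore q ρ.range).map ρ.range.subtype with hT
    have hTp : IsPGroup q T := (CfsgLib.Solvable.isPGroup_pCore q).map _
    have hTn : normalizer (ρ.range : Set (MulAut V)) ≤ normalizer (T : Set (MulAut V)) :=
      UTool.normalizer_le_normalizer_map _ _ (PLenZ.characteristic_pCore q)
    let U : Subgroup X :=
      { carrier := {v | ∃ hv : v ∈ V, ∀ t ∈ T, t ⟨v, hv⟩ = ⟨v, hv⟩}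
        one_mem' := ⟨one_mem V, fun t _ => map_one t⟩
        mul_mem' := fun {v w} ⟨hv, hv'⟩ ⟨hw, hw'⟩ => ⟨mul_mem hv hw, fun t ht => by
          rw [show (⟨v * w, mul_mem hv hw⟩ : V) = ⟨v, hv⟩ * ⟨w, hw⟩ from rfl, map_mul, hv' t ht, hw' t ht]⟩
        inv_mem' := fun {v} ⟨hv, hv'⟩ => ⟨inv_mem hv, fun t ht => by
          rw [show (⟨v⁻¹, inv_mem hv⟩ : V) = (⟨v, hv⟩)⁻¹ from rfl, map_inv, hv' t ht]⟩ }
    have hnorm : ∀ (g : X) (hg : g ∈ normalizer (V : Set X)),
        normalizerMonoidHom V ⟨g, hg⟩ ∈ normalizer (T : Set (MulAut V)) → g ∈ normalizer (U : Set X) := by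
      intro g hg hgT
      refine Uniq.mem_normalizer_of_map_le ?_
      rintro _ ⟨v, ⟨hv, hv'⟩, rfl⟩
      refine ⟨(mem_normalizer_iff.1 hg v).1 hv, fun t ht => ?_⟩
      set γ := normalizerMonoidHom V ⟨g, hg⟩
      show t (γ ⟨v, hv⟩) = γ ⟨v, hv⟩
      have h := hv' (γ⁻¹ * t * γ) (by
        have := (mem_normalizer_iff.1 (inv_mem hgT) t).1 ht
        simpa using this)
      simp only [MulAut.mul_apply] at h
      conv_rhs => rw [← h]
      rw [MulAut.apply_inv_self]
    have hKU : K ≤ normalizer (U : Set X) := fun k hk =>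
      hnorm k (hKV hk) (hTn (le_normalizer (show ρ ⟨k, hk⟩ ∈ ρ.range from ⟨_, rfl⟩)))
    rcases hirr U (fun v ⟨hv, _⟩ => hv) hKU (hnorm x hxV (hTn haK)) with hU | hU
    · exfalso
      letI : MulAction T V := MulAction.compHom V T.subtype
      haveI : Nontrivial V := (nontrivial_iff_ne_bot V).2 hV1
      have hpV : q ∣ Nat.card V :=
        (CfsgLib.Signalizer.isPGroup hV).card_eq_or_dvd.resolve_left fun h => hV1 (eq_bot_of_card_eq _ h)
      have h1 : (1 : V) ∈ MulAction.fixedPoints T V := fun t => map_one (t : MulAut V)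
      obtain ⟨v, hv, hv1⟩ := hTp.exists_fixed_point_of_prime_dvd_card_of_fixed_point V hpV h1
      have hvU : (v : X) ∈ U := ⟨v.2, fun t ht => hv ⟨t, ht⟩⟩
      rw [hU, mem_bot] at hvU
      exact hv1.symm (Subtype.ext hvU)
    · refine (map_eq_bot_iff_of_injective _ ρ.range.subtype_injective).1 ((eq_bot_iff_forall _).2 fun t ht => ?_)
      refine MulEquiv.ext fun v => ?_
      obtain ⟨_, h⟩ := (hU.ge v.2 : (v : X) ∈ U)
      exact h t ht
  have h := commute_of_fpf hV.1 (fun v => Subtype.ext (by rw [SubmonoidClass.coe_pow]; exact hV.2 v v.2)) hr2 hrq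
    ρ.range (hKodd.of_dvd_nat hdvd) (hrK.coprime_dvd_left hdvd) hcore' har haK fun v hv => by
      have h1 : (v : X) ∈ V ⊓ centralizer ({x} : Set X) := ⟨v.2, mem_centralizer_singleton_iff.2
        (mul_inv_eq_iff_eq_mul.1 (congrArg Subtype.val hv)).symm⟩
      rw [hfix, mem_bot] at h1
      exact Subtype.ext h1
  rw [commutator_le]
  intro k hk g hg
  have hgV : g ∈ normalizer (V : Set X) := zpowers_le.2 hxV hg
  have hcom : Commute (normalizerMonoidHom V ⟨k, hKV hk⟩) (normalizerMonoidHom V ⟨g, hgV⟩) := by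
    obtain ⟨i, rfl⟩ := mem_zpowers_iff.1 hg
    have e : normalizerMonoidHom V ⟨x ^ i, hgV⟩ = a ^ i := by rw [← map_zpow]; rfl
    rw [e]
    exact (show Commute (ρ ⟨k, hk⟩) a from (h _ ⟨_, rfl⟩).symm).zpow_right i
  have hker : ⁅(⟨k, hKV hk⟩ : normalizer (V : Set X)), ⟨g, hgV⟩⁆ ∈ (normalizerMonoidHom V).ker := by
    rw [MonoidHom.mem_ker, map_commutatorElement, commutatorElement_eq_one_iff_mul_comm]
    exact hcom.eq
  rw [normalizerMonoidHom_ker, mem_subgroupOf] at hker
  exact hker

end CfsgLib.OddLocal.Fpf
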