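import Cfsg.Agent.OddLocal.ExceptionalBase
import Cfsg.Agent.OddLocal.FixedPointFree

/-!
Actions on `α`-cores of maximal subgroups around a maximal elementary abelian subgroup of order `p ^ 2`.
-/

set_option autoImplicit false
set_option linter.style.haveILetI false
set_option linter.unusedSectionVars false

namespace CfsgLib.OddLocal.Excep

open Subgroup Cfsg CfsgLib.OddLocal
open scoped commutatorElement

universe u

variable {G : Type u} [Group G] [Finite G] {p t : ℕ}

theorem le_normalizer_bot (T : Subgroup G) : T ≤ normalizer ((⊥ : Subgroup G) : Set G) :=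
  (normalizer_eq_top (H := (⊥ : Subgroup G))).ge.trans' le_top

theorem conj_elementary {B : Subgroup G} (hB : Cfsg.IsElementaryAbelian t B) (g : G) :
    Cfsg.IsElementaryAbelian t (B.map (MulAut.conj g).toMonoidHom) := by
  haveI := hB.1
  refine ⟨Subgroup.map_isMulCommutative B _, ?_⟩
  rintro _ ⟨x, hx, rfl⟩
  rw [← map_pow, hB.2 x hx, map_one]

/-- A coprime action without fixed points on a `s`-group. -/
theorem commutator_centralizes_pgroup {s r : ℕ} [Fact s.Prime] [Fact r.Prime] (hr2 : r ≠ 2) (hrs : r ≠ s)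
    {S : Subgroup G} (hS : IsPGroup s S) {x : G} (hx : orderOf x = r) (hxS : x ∈ normalizer (S : Set G))
    (hfix : S ⊓ centralizer ({x} : Set G) = ⊥) {K : Subgroup G} [Group.IsSolvable K]
    (hKodd : Odd (Nat.card K)) (hrK : (Nat.card K).Coprime r) (hsK : (Nat.card K).Coprime s)
    (hKS : K ≤ normalizer (S : Set G)) (hxK : x ∈ normalizer (K : Set G)) :
    ⁅K, zpowers x⁆ ≤ centralizer (S : Set G) := by
  classical
  set R := zpowers x with hR
  have hRS : R ≤ normalizer (S : Set G) := zpowers_le.2 hxS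
  have hrR : Nat.card R = r := by rw [hR, Nat.card_zpowers, hx]
  set Φ := (frattini S).map S.subtype with hΦ
  have hΦS : Φ ≤ S := map_subtype_le _
  have hΦn : normalizer (S : Set G) ≤ normalizer (Φ : Set G) :=
    UTool.normalizer_le_normalizer_map S _ frattini_characteristic
  set N := normalizer (S : Set G)
  haveI hΦN : (Φ.subgroupOf N).Normal :=
    (normal_subgroupOf_iff_le_normalizer (hΦS.trans le_normalizer)).2 hΦn
  set f : N →* N ⧸ Φ.subgroupOf N := QuotientGroup.mk' (Φ.subgroupOf N) with hf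
  have hker : ∀ y : N, f y = 1 ↔ (y : G) ∈ Φ := fun y => by
    rw [hf, QuotientGroup.mk'_apply, QuotientGroup.eq_one_iff, mem_subgroupOf]
  haveI : Group.IsNilpotent S := hS.isNilpotent
  obtain ⟨hcm, hpw⟩ := CfsgLib.PGroupBasic.commutator_pow_le_frattini hS
  set V := (S.subgroupOf N).map f with hV
  have hVe : Cfsg.IsElementaryAbelian s V := by
    refine ⟨⟨⟨fun a b => Subtype.ext ?_⟩⟩, ?_⟩
    · obtain ⟨a', ha', ha⟩ := a.2
      obtain ⟨b', hb', hb⟩ := b.2
      show (a : N ⧸ Φ.subgroupOf N) * b = b * a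
      rw [← ha, ← hb]
      refine commutatorElement_eq_one_iff_mul_comm.1 ?_
      rw [← map_commutatorElement, hker]
      exact ⟨⁅(⟨a', ha'⟩ : S), ⟨b', hb'⟩⁆, hcm (commutator_mem_commutator (mem_top _) (mem_top _)), rfl⟩
    · rintro _ ⟨a', ha', rfl⟩
      rw [← map_pow, hker]
      exact ⟨(⟨a', ha'⟩ : S) ^ s, hpw _, by simp⟩
  have hRs : (Nat.card R).Coprime (Nat.card S) := by
    obtain ⟨k, hk⟩ := IsPGroup.iff_card.1 hS
    rw [hrR, hk]; exact ((Nat.coprime_primes Fact.out Fact.out).2 hrs).pow_right k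
  set x' := f ⟨x, hxS⟩ with hx'
  have hxo : orderOf x' = r := by
    refine orderOf_eq_prime ?_ fun h => (Fact.out : r.Prime).ne_one ?_
    · rw [← map_pow, show (⟨x, hxS⟩ : N) ^ r = 1 from Subtype.ext (by
        rw [SubmonoidClass.coe_pow, ← hx, pow_orderOf_eq_one]; rfl), map_one]
    · have h1 : x ∈ Φ := (hker _).1 h
      rw [← hx, orderOf_eq_one_iff]
      exact orderOf_eq_one_iff.1 (Nat.eq_one_of_dvd_coprimes hRs
        (by rw [hrR, ← hx]) (S.orderOf_dvd_natCard (hΦS h1)))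
  have hfix' : V ⊓ centralizer ({x'} : Set (N ⧸ Φ.subgroupOf N)) = ⊥ := by
    refine (eq_bot_iff_forall _).2 ?_
    rintro _ ⟨⟨v, hv, rfl⟩, hvc⟩
    have hvS : (v : G) ∈ S := hv
    refine (hker v).2 ?_
    obtain ⟨c, hc, hcv⟩ := CfsgLib.CoprimeAct.exists_centralizing_mem_coset hRS hRs hΦS (hRS.trans hΦn)
      (Or.inl inferInstance) hvS fun a ha => by
        obtain ⟨i, rfl⟩ := mem_zpowers_iff.1 ha
        have hcm' : Commute (x' ^ i) (f v) := ((show Commute x' (f v) from
          (mem_centralizer_singleton_iff.1 hvc).symm).zpow_left i)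
        have h1 : f (v⁻¹ * ((⟨x, hxS⟩ : N) ^ i * v * ((⟨x, hxS⟩ : N) ^ i)⁻¹)) = 1 := by
          rw [map_mul, map_inv, map_mul, map_mul, map_inv, map_zpow, ← hx', hcm'.eq, mul_inv_cancel_right,
            inv_mul_cancel]
        have h2 := (hker _).1 h1
        simpa using h2
    have : c ∈ (⊥ : Subgroup G) := hfix ▸ ⟨hc.1, centralizer_le (Set.singleton_subset_iff.2 (mem_zpowers x)) hc.2⟩
    rw [mem_bot.1 this, mul_one] at hcv
    simpa using inv_mem hcv
  set K' := (K.subgroupOf N).map f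
  haveI : Group.IsSolvable (K.subgroupOf N) :=
    Group.isSolvable_of_surjective (f := (subgroupOfEquivOfLe hKS).symm.toMonoidHom) (subgroupOfEquivOfLe hKS).symm.surjective
  haveI : Group.IsSolvable K' := Group.isSolvable_of_surjective (f.subgroupMap_surjective _)
  have hK'd : Nat.card K' ∣ Nat.card K := by
    rw [← Nat.card_congr (subgroupOfEquivOfLe hKS).toEquiv]; exact card_map_dvd _ _
  haveI : (S.subgroupOf N).Normal := normal_in_normalizer
  have hVn : V.Normal := Subgroup.Normal.map inferInstance f (QuotientGroup.mk'_surjective _)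
  have hxK' : x' ∈ normalizer (K' : Set (N ⧸ Φ.subgroupOf N)) := le_normalizer_map f ⟨⟨x, hxS⟩, by
    refine mem_normalizer_iff.2 fun y => ?_
    simpa [mem_subgroupOf] using mem_normalizer_iff.1 hxK (y : G), rfl⟩
  have hmain := Fpf.commutator_centralizes (X := N ⧸ Φ.subgroupOf N) hr2 hrs hVe hxo
    (by rw [normalizer_eq_top]; exact mem_top _) hfix' (K := K') (hKodd.of_dvd_nat hK'd)
    (hrK.coprime_dvd_left hK'd) (by rw [normalizer_eq_top]; exact le_top) hxK'
    (Or.inl (hsK.coprime_dvd_left hK'd))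
  have hle : ⁅K, R⁆ ≤ K := le_normalizer_iff_commutator_le_left.1 (zpowers_le.2 hxK)
  refine CfsgLib.CoprimeAct.trivial_on_frattini_quotient (hle.trans hKS) ?_ fun a ha k hk => ?_
  · obtain ⟨k, hk⟩ := IsPGroup.iff_card.1 hS
    exact ((hsK.coprime_dvd_left (card_dvd_of_le hle)).pow_right k).coprime_dvd_right
      (hk ▸ card_subgroup_dvd_card (frattini S))
  · set a' : N := ⟨a, hKS (hle ha)⟩
    have hmem : f a' ∈ ⁅K', zpowers x'⁆ := by
      have himg : (⁅K, R⁆).subgroupOf N ≤ ⁅K.subgroupOf N, zpowers (⟨x, hxS⟩ : N)⁆ := by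
        have e : (zpowers (⟨x, hxS⟩ : N)).map N.subtype = R := by rw [MonoidHom.map_zpowers]; rfl
        intro y hy
        have h1 : (y : G) ∈ (⁅K.subgroupOf N, zpowers (⟨x, hxS⟩ : N)⁆).map N.subtype := by
          rw [map_commutator, map_subgroupOf_eq_of_le hKS, e]
          exact mem_subgroupOf.1 hy
        obtain ⟨z, hz, hzy⟩ := h1
        rwa [← N.subtype_injective hzy]
      have := mem_map_of_mem f (himg (show a' ∈ (⁅K, R⁆).subgroupOf N from mem_subgroupOf.2 ha))
      rwa [map_commutator, MonoidHom.map_zpowers] at this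
    set k' : N := ⟨k, le_normalizer hk⟩
    have h3 : f (a' * k' * a'⁻¹ * k'⁻¹) = 1 := by
      have hc := mem_centralizer_iff.1 (hmain hmem) (f k') (mem_map_of_mem f (show k' ∈ S.subgroupOf N from hk))
      rw [map_mul, map_mul, map_mul, map_inv, map_inv, ← hc]
      group
    exact (hker _).1 h3

/-- In an odd group acting on a `t`-group of rank at most two the derived part of coprime order is trivial. -/
theorem derived_centralizes [Fact t.Prime] (ht2 : t ≠ 2) {R T : Subgroup G} (hR : IsPGroup t R)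
    (hr : Cfsg.PRankLE t 2 R) (hodd : Odd (Nat.card T)) (hT : T ≤ normalizer (R : Set G)) {y : G}
    (hy : y ∈ ⁅T, T⁆) (hyo : (orderOf y).Coprime t) : y ∈ centralizer (R : Set G) := by
  let φ : T →* MulAut R := (normalizerMonoidHom R).comp (inclusion hT)
  have h := CfsgLib.FGSA.RankTwoAut.derived_isPGroup ht2 hR (fun E hE => hr E hE.1 hE.2)
    (A := φ.range) (hodd.of_dvd_nat (card_range_dvd φ)) φ.range.subtype φ.range.subtype_injective
  rw [← map_subtype_commutator] at hy
  obtain ⟨y', hy', rfl⟩ := hy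
  have hm : φ.rangeRestrict y' ∈ commutator φ.range := by
    have := mem_map_of_mem φ.rangeRestrict hy'
    rw [_root_.commutator_def, map_commutator] at this
    exact commutator_mono le_top le_top this
  obtain ⟨k, hk⟩ := h ⟨_, hm⟩
  have hone : φ.rangeRestrict y' = 1 := by
    refine orderOf_eq_one_iff.1 (Nat.eq_one_of_dvd_coprimes (hyo.pow_right k) ?_ ?_)
    · rw [Subgroup.coe_subtype, orderOf_coe]; exact orderOf_map_dvd _ _
    · exact orderOf_dvd_of_pow_eq_one (congrArg Subtype.val hk)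
  have h2 : (inclusion hT y') ∈ (normalizerMonoidHom R).ker := congrArg Subtype.val hone
  rw [normalizerMonoidHom_ker, mem_subgroupOf] at h2
  exact h2

/-- A Sylow subgroup with normalizer inside gives membership in `σ`. -/
theorem mem_sigma_of_sylow [Fact p.Prime] {H : Subgroup G} (P : Sylow p G) (hP : (P : Subgroup G) ≤ H)
    (hN : normalizer ((P : Subgroup G) : Set G) ≤ H) (hd : p ∣ Nat.card H) : p ∈ Cfsg.sigma H := by
  refine ⟨Fact.out, hd, P.subtype hP, ?_⟩
  rwa [Sylow.coe_subtype, map_subgroupOf_eq_of_le hP]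

/-- `α` is invariant under conjugation. -/
theorem alpha_conj {H : Subgroup G} [Fact t.Prime] (h : t ∈ Cfsg.alpha H) (g : G) :
    t ∈ Cfsg.alpha (H.map (MulAut.conj g).toMonoidHom) := by
  obtain ⟨B, hBH, hB, hBc⟩ := Uniq.exists_elementary h.2
  refine ⟨Fact.out, fun hr => ?_⟩
  have := Uniq.rankLE_elementary hr (map_mono hBH) (conj_elementary hB g)
  rw [card_map_of_injective (MulAut.conj g).injective, hBc] at this
  exact absurd this (not_le.2 (Nat.pow_lt_pow_right (Fact.out : t.Prime).one_lt (by norm_num)))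

/-- A Sylow subgroup has the rank of the group. -/
theorem rank_of_full [Fact t.Prime] {S K : Subgroup G} (hS : IsPGroup t S) (hd : ¬ t ∣ S.index)
    (hK : t ∈ Cfsg.alpha K) : ¬ Cfsg.PRankLE t 2 S := by
  obtain ⟨B, -, hB, hBc⟩ := Uniq.exists_elementary hK.2
  obtain ⟨S₀, hS₀⟩ := (CfsgLib.Signalizer.isPGroup hB).exists_le_sylow
  obtain ⟨g, hg⟩ := MulAction.exists_smul_eq G S₀ (hS.toSylow hd)
  intro h
  have hle : B.map (MulAut.conj g).toMonoidHom ≤ S := by
    refine le_trans (map_mono hS₀) (le_of_eq ?_)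
    exact congrArg (fun Q : Sylow t G => (Q : Subgroup G)) hg
  have := Uniq.rankLE_elementary h hle (conj_elementary hB g)
  rw [card_map_of_injective (MulAut.conj g).injective, hBc] at this
  exact absurd this (not_le.2 (Nat.pow_lt_pow_right (Fact.out : t.Prime).one_lt (by norm_num)))

theorem eq_of_full_le [Fact t.Prime] {R S : Subgroup G} (hS : IsPGroup t S) (hd : ¬ t ∣ R.index)
    (hle : R ≤ S) : R = S := by
  refine eq_of_le_of_card_ge hle (Nat.le_of_dvd Nat.card_pos
    ((Nat.Coprime.dvd_mul_right (coprime_of_pgroup hS hd)).1 ?_))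
  rw [R.card_mul_index]; exact card_subgroup_dvd_card S

theorem index_not_dvd [Fact t.Prime] {R K : Subgroup G} (hRK : R ≤ K) (h1 : ¬ t ∣ R.relIndex K)
    (h2 : ¬ t ∣ K.index) : ¬ t ∣ R.index := fun h => by
  rw [← relIndex_mul_index hRK] at h
  exact ((Fact.out : t.Prime).dvd_mul.1 h).elim h1 h2

variable [hp : Fact p.Prime] {A : Subgroup G} (hG : Cfsg.IsMinSimpleOddOrder G)
  (hA : Cfsg.IsElementaryAbelian p A) (hA2 : Nat.card A = p ^ 2)
  (hmax : ∀ B : Subgroup G, Cfsg.IsElementaryAbelian p B → A ≤ B → B = A)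

include hG hA hA2 hmax

/-- Invariant Sylow subgroups of `G` meeting another maximal subgroup exclude that prime from its `α`. -/
theorem not_alpha_of_meet [ht : Fact t.Prime] (htp : t ≠ p) {M K Q X : Subgroup G} (hM : IsCoatom M)
    (hK : IsCoatom K) (hKM : K ≠ M) (hQ : IsPGroup t Q) (hQM : Q ≤ M) (hQd : ¬ t ∣ Q.index)
    (hAQ : A ≤ normalizer (Q : Set G)) (hQu : Cfsg.InUniqueMaximal Q) (hXA : X ≤ A)
    (hNX : normalizer (X : Set G) ≤ K) (hne : Q ⊓ centralizer (X : Set G) ≠ ⊥) : t ∉ Cfsg.alpha K := by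
  intro hα
  have hσ := Sig.alpha_subset_sigma hG hK hα
  have hcX : centralizer (X : Set G) ≤ K := (centralizer_le_normalizer _).trans hNX
  have hAcX : A ≤ centralizer (X : Set G) :=
    (le_centralizer_iff_isMulCommutative.2 hA.1).trans (centralizer_le hXA)
  have hAK : A ≤ K := hAcX.trans hcX
  have hpK : p ∣ Nat.card K := (dvd_pow_self p two_ne_zero).trans (hA2 ▸ card_dvd_of_le hAK)
  have hσK : Cfsg.sigmaCore K ≤ K := map_subtype_le _
  obtain ⟨k, hk⟩ := Beta.npc_index (Beta.npc_sigma hG hK hp.out hpK (not_beta hA hA2 hmax K))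
  set N₀ := opc p (Cfsg.sigmaCore K) with hN₀
  have hN₀i : ¬ t ∣ N₀.relIndex (Cfsg.sigmaCore K) := by
    rw [relIndex, hN₀, opc_subgroupOf, hk]
    exact fun h => htp ((Nat.prime_dvd_prime_iff_eq ht.out hp.out).1 (ht.out.dvd_of_dvd_pow h))
  have hAN : A ≤ normalizer (N₀ : Set G) :=
    (hAK.trans (TH.le_normalizer_core K)).trans (normalizer_le_normalizer_opc _ _)
  set U := Q ⊓ centralizer (X : Set G) with hU
  have hUp : IsPGroup t U := hQ.to_le inf_le_left
  have hUσ : U ≤ Cfsg.sigmaCore K := le_sigmaCore hG hK (inf_le_right.trans hcX) (primes_of_pgroup hUp hσ)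
  have hUN : U ≤ N₀ := le_of_hall (opc_le _ _) (le_normalizer_opc _ _) hUσ (coprime_of_pgroup hUp hN₀i)
  have hAp : IsPGroup p A := IsPGroup.of_card hA2
  haveI hAs : Group.IsSolvable A := hG.2.2.2 A (ne_top_of_le_ne_top hK.1 hAK)
  obtain ⟨R, hUR, hRN, hRp, hAR, hRd⟩ := exists_inv_sylow hAN
    (coprime_of_pgroup hAp (hp.out.coprime_iff_not_dvd.1 (opc_coprime p _).symm)) (Or.inl hAs) hUN hUp
    (normalizes_inf_centralizer hA hA2 hXA hAQ)
  have hRd' : ¬ t ∣ R.index := index_not_dvd hRN hRd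
    (index_not_dvd (opc_le _ _) hN₀i ((Sig.sigma_core hG hK).2.1.2 t ht.out hσ))
  obtain ⟨c, hc, hRQ⟩ := le_conj_sylow hA hA2 hmax hG htp hQ hQd hAQ hRp hAR
    fun h => hne (le_bot_iff.1 (h ▸ le_inf hUR inf_le_left))
  have hReq := eq_of_full_le (hQ.map _) hRd' hRQ
  have hcK : c ∈ K := hcX (centralizer_le hXA hc)
  have hRK : R ≤ K := hRN.trans ((opc_le _ _).trans hσK)
  have hQK : Q ≤ K := by
    have h := map_mono (f := (MulAut.conj c⁻¹).toMonoidHom) (hReq ▸ hRK)
    rw [Uniq.map_conj_inv] at h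
    refine h.trans ?_
    rintro _ ⟨y, hy, rfl⟩
    exact mul_mem (mul_mem (inv_mem hcK) hy) (inv_mem (inv_mem hcK))
  exact hKM (Uniq.eq_of hQu hK hQK hM hQM)

/-- Invariant `t`-subgroups act trivially on `H_α` up to centralizers of `A`. -/
theorem commutator_centralizes_alphaCore [ht : Fact t.Prime] (htp : t ≠ p) {H B O₀ U Y : Subgroup G}
    (hH : IsCoatom H) (hAH : A ≤ H) (hBA : B ≤ A) (hB : Nat.card B = p) (hNB : normalizer (B : Set G) ≤ H)
    (hO : IsPGroup t O₀) (hAO : A ≤ normalizer (O₀ : Set G)) (hOB : O₀ ≤ centralizer (B : Set G))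
    (hOA : ⁅O₀, A⁆ ≠ ⊥) (htα : t ∉ Cfsg.alpha H)
    (hU : IsPGroup t U) (hUH : U ≤ H) (hAU : A ≤ normalizer (U : Set G)) (hYA : Y ≤ A) (hY : Nat.card Y = p)
    (hUY : U ≤ centralizer (Y : Set G)) : ⁅U, A⁆ ≤ centralizer (Cfsg.alphaCore H : Set G) := by
  classical
  have hp2 : p ≠ 2 := CfsgLib.CN.MinSimple.p_ne_two hG
    ((dvd_pow_self p two_ne_zero).trans (hA2 ▸ A.card_subgroup_dvd_card))
  have hAp : IsPGroup p A := IsPGroup.of_card hA2
  have hOH : O₀ ≤ H := hOB.trans ((centralizer_le_normalizer _).trans hNB)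
  have hpσ : p ∉ Cfsg.sigma H := fun h => htα (alpha_of_sigma hG htp hH h hAp hAH hO hOH hAO hOA)
  have hpα : p ∉ Cfsg.alpha H := fun h => hpσ (Sig.alpha_subset_sigma hG hH h)
  by_contra hcon
  have hHs : Group.IsSolvable H := hG.2.2.2 H hH.1
  have hcopAU : A ⊓ U = ⊥ :=
    disjoint_iff.1 (disjoint_of_coprime_natCard (IsPGroup.coprime_card_of_ne p t (Ne.symm htp) A U hAp hU))
  set T₀ := A ⊔ U with hT₀
  have hT₀H : T₀ ≤ H := sup_le hAH hUH
  have hT₀c : (Nat.card T₀).Coprime (Nat.card (Cfsg.alphaCore H)) := by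
    refine Nat.coprime_of_dvd fun q hq h1 h2 => ?_
    have hqα := (Sig.alpha_core hG hH).1.2.1 q hq h2
    rw [hT₀, CfsgLib.Solvable.card_sup_of_disjoint hAU hcopAU] at h1
    rcases hq.dvd_mul.1 h1 with h | h
    · exact hpα (primes_of_pgroup (π := {p}) hAp rfl q hq h ▸ hqα)
    · exact htα (primes_of_pgroup (π := {t}) hU rfl q hq h ▸ hqα)
  haveI hT₀s : Group.IsSolvable T₀ := hG.2.2.2 T₀ (ne_top_of_le_ne_top hH.1 hT₀H)
  -- a prime of `α` on whose Sylow subgroup `[U, A]` acts
  obtain ⟨s, hs, S, hSα, hSp, hTS, hSd, hSU⟩ : ∃ s, s.Prime ∧ ∃ S : Subgroup G, S ≤ Cfsg.alphaCore H ∧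
      IsPGroup s S ∧ T₀ ≤ normalizer (S : Set G) ∧ ¬ s ∣ S.relIndex (Cfsg.alphaCore H) ∧
      ¬ ⁅U, A⁆ ≤ centralizer (S : Set G) := by
    by_contra hall
    push Not at hall
    refine hcon (le_centralizer_iff.1 (le_of_sylows fun r hr hrd => ?_))
    haveI := Fact.mk hr
    obtain ⟨S, -, h2, h3, h4, h5⟩ := exists_inv_sylow (t := r) (hT₀H.trans (TH.le_normalizer_core H)) hT₀c
      (Or.inl hT₀s) (bot_le : (⊥ : Subgroup G) ≤ _) IsPGroup.of_bot (le_normalizer_bot _)
    exact ⟨S, le_inf h2 (le_centralizer_iff.1 (hall r hr S h2 h3 h4 h5)), h5⟩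
  haveI := Fact.mk hs
  have hsα : s ∈ Cfsg.alpha H := by
    refine (Sig.alpha_core hG hH).1.2.1 s hs ((isPGroup_ne_bot_dvd hSp fun e => hSU ?_).trans (card_dvd_of_le hSα))
    intro g _
    rw [mem_centralizer_iff]
    intro y hy
    rw [e] at hy
    simp [Subgroup.mem_bot.1 hy]
  have hsp : s ≠ p := fun e => hpα (e ▸ hsα)
  have hst : s ≠ t := fun e => htα (e ▸ hsα)
  have hSH : S ≤ H := hSα.trans (map_subtype_le _)
  have hSd' : ¬ s ∣ S.index := index_not_dvd hSα hSd ((Sig.alpha_hall hG hH).2 s hs hsα)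
  have hSu : Cfsg.InUniqueMaximal S := UThm.rank_three_unique hG hSp (rank_of_full hSp hSd' hsα)
  have hAS : A ≤ normalizer (S : Set G) := le_sup_left.trans hTS
  -- every line other than `Y` has fixed points on `S`
  have hfix : ∀ Z : Subgroup G, Z ≤ A → Nat.card Z = p → Z ≠ Y → S ⊓ centralizer (Z : Set G) ≠ ⊥ := by
    intro Z hZA hZ hZY hbot
    obtain ⟨b, hbZ, hb1, hbY⟩ : ∃ b ∈ Z, b ≠ 1 ∧ b ∉ Y := by
      by_contra hno
      push Not at hno
      refine hZY (eq_of_le_of_card_ge (fun z hz => ?_) (by rw [hY, hZ]))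
      by_cases h1 : z = 1
      · rw [h1]; exact one_mem _
      · exact hno z hz h1
    have hbo : orderOf b = p := orderOf_eq_prime (hA.2 b (hZA hbZ)) hb1
    have hzb : zpowers b = Z := eq_of_le_of_card_ge (zpowers_le.2 hbZ) (by rw [Nat.card_zpowers, hbo, hZ])
    haveI : Group.IsSolvable U := hG.2.2.2 U (ne_top_of_le_ne_top hH.1 hUH)
    have hle := commutator_centralizes_pgroup (r := p) hp2 (Ne.symm hsp) hSp hbo (hAS (hZA hbZ))
      (le_bot_iff.1 (le_trans (inf_le_inf_left _ (FixedLine.le_centralizer_zpowers le_rfl)) (hzb.symm ▸ hbot).le))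
      (K := U) (hG.1.of_dvd_nat (card_subgroup_dvd_card U))
      (coprime_of_pgroup hU fun h => htp ((Nat.prime_dvd_prime_iff_eq ht.out hp.out).1 h))
      (coprime_of_pgroup hU fun h => hst ((Nat.prime_dvd_prime_iff_eq ht.out hs).1 h).symm)
      (le_sup_right.trans hTS) (hAU (hZA hbZ))
    refine hSU (le_trans ?_ hle)
    rw [commutator_le]
    intro u hu a ha
    rw [← line_sup hA2 hYA hY (hZA hbZ) hbY] at ha
    haveI := hA.1
    obtain ⟨y, hy, w, hw, rfl⟩ := (CfsgLib.Solvable.mem_sup_of_le_normalizer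
      ((hYA.trans (le_centralizer_iff_isMulCommutative.2 hA.1)).trans
        ((centralizer_le (zpowers_le.2 (hZA hbZ))).trans (centralizer_le_normalizer _)))).1 ha
    have h1 : Commute y u := mem_centralizer_iff.1 (hUY hu) y hy
    have h2 : Commute y w := setLike_mul_comm (hYA hy) ((zpowers_le.2 (hZA hbZ) : zpowers b ≤ A) hw)
    have e : ⁅u, y * w⁆ = y * ⁅u, w⁆ * y⁻¹ := by
      rw [commutatorElement_def, commutatorElement_def]
      calc u * (y * w) * u⁻¹ * (y * w)⁻¹ = (u * y) * w * u⁻¹ * w⁻¹ * y⁻¹ := by group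
        _ = (y * u) * w * u⁻¹ * w⁻¹ * y⁻¹ := by rw [h1.eq]
        _ = y * (u * w * u⁻¹ * w⁻¹) * y⁻¹ := by group
    have hc : Commute y ⁅u, w⁆ := by
      rw [commutatorElement_def]
      exact ((h1.mul_right h2).mul_right h1.inv_right).mul_right h2.inv_right
    rw [e, hc.eq, mul_inv_cancel_right]
    exact commutator_mem_commutator hu hw
  -- the normalizer of `A` lies in `H`
  have hmove : ∀ g ∈ normalizer (A : Set G), g ∉ H → B.map (MulAut.conj g).toMonoidHom = Y := by
    intro g hg hgH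
    by_contra hne
    set Z := B.map (MulAut.conj g).toMonoidHom with hZ
    have hZA : Z ≤ A := (map_mono hBA).trans (mem_normalizer_iff_map_conj_eq.1 hg).le
    have hZc : Nat.card Z = p := by rw [hZ, card_map_of_injective (MulAut.conj g).injective, hB]
    set K := H.map (MulAut.conj g).toMonoidHom with hKdef
    have hK : IsCoatom K := Uniq.coatom_conj hH g
    set W := S ⊓ centralizer (Z : Set G) with hW
    have hWne : W ≠ ⊥ := hfix Z hZA hZc hne
    have hCZ : centralizer (Z : Set G) ≤ K := by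
      intro x hx
      have h' : g⁻¹ * x * g ∈ centralizer (B : Set G) := mem_centralizer_iff.2 fun b hb => by
        have h2 := mem_centralizer_iff.1 hx _ (mem_map_of_mem (MulAut.conj g).toMonoidHom hb)
        simp only [MulEquiv.coe_toMonoidHom, MulAut.conj_apply] at h2
        calc b * (g⁻¹ * x * g) = g⁻¹ * (g * b * g⁻¹ * x) * g := by group
          _ = g⁻¹ * (x * (g * b * g⁻¹)) * g := by rw [h2]
          _ = g⁻¹ * x * g * b := by group
      exact ⟨g⁻¹ * x * g, hNB (centralizer_le_normalizer _ h'), by simp [mul_assoc]⟩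
    have hsK : s ∈ Cfsg.alpha K := alpha_conj hsα g
    have hpK : p ∉ Cfsg.alpha K := fun h => hpα (by
      have := alpha_conj h g⁻¹
      rwa [hKdef, Uniq.map_conj_inv] at this)
    have hAK : A ≤ K := ((le_centralizer_iff_isMulCommutative.2 hA.1).trans (centralizer_le hZA)).trans hCZ
    have hWp : IsPGroup s W := hSp.to_le inf_le_left
    haveI hAs : Group.IsSolvable A := hG.2.2.2 A (ne_top_of_le_ne_top hH.1 hAH)
    obtain ⟨R, hWR, hRK, hRp, hAR, hRd⟩ := exists_inv_sylow (hAK.trans (TH.le_normalizer_core K))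
      (coprime_of_pgroup hAp fun h => hpK ((Sig.alpha_core hG hK).1.2.1 p hp.out h)) (Or.inl hAs)
      (le_alphaCore hG hK (inf_le_right.trans hCZ) (primes_of_pgroup hWp hsK)) hWp
      (normalizes_inf_centralizer hA hA2 hZA hAS)
    have hRd' : ¬ s ∣ R.index := index_not_dvd hRK hRd ((Sig.alpha_hall hG hK).2 s hs hsK)
    obtain ⟨c, hc, hRS⟩ := le_conj_sylow hA hA2 hmax hG hsp hSp hSd' hAS hRp hAR
      fun h => hWne (le_bot_iff.1 (h ▸ le_inf hWR inf_le_left))
    have hReq := eq_of_full_le (hSp.map _) hRd' hRS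
    have hcH : c ∈ H := hNB (centralizer_le_normalizer _ (centralizer_le hBA hc))
    have hRH : R ≤ H := by
      rw [hReq]
      rintro _ ⟨y, hy, rfl⟩
      exact mul_mem (mul_mem hcH (hSH hy)) (inv_mem hcH)
    have hKH : K = H := Uniq.eq_of (hReq ▸ Uniq.conj hSu c) hK (hRK.trans (map_subtype_le _)) hH hRH
    refine hgH ?_
    have hHne : H ≠ ⊥ := fun e => by
      have := card_le_of_le (hAH.trans e.le)
      rw [hA2, card_bot] at this
      exact absurd this (not_le.2 (Nat.one_lt_pow two_ne_zero hp.out.one_lt))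
    rw [← Uniq.coatom_normalizer_eq hG hH le_rfl le_normalizer hHne]
    exact mem_normalizer_iff_map_conj_eq.2 hKH
  have hNA : normalizer (A : Set G) ≤ H := by
    intro g hg
    by_contra hgH
    by_cases hg2 : g * g ∈ H
    · refine hgH ?_
      obtain ⟨m, hm⟩ := hG.1.of_dvd_nat (orderOf_dvd_natCard g)
      have : g = (g * g) ^ (m + 1) := by
        rw [← pow_two, ← pow_mul, show 2 * (m + 1) = orderOf g + 1 by omega, pow_succ, pow_orderOf_eq_one, one_mul]
      rw [this]; exact pow_mem hg2 _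
    · have h1 := hmove g hg hgH
      have h2 := hmove _ (mul_mem hg hg) hg2
      rw [← TH.map_conj_map_conj, h1] at h2
      have h3 : B = Y := by
        have := congrArg (fun X : Subgroup G => X.map (MulAut.conj g⁻¹).toMonoidHom) (h1.trans h2.symm)
        simpa only [Uniq.map_conj_inv] using this
      refine hgH (hNB (mem_normalizer_iff_map_conj_eq.2 ?_))
      rw [h3] at h1 ⊢
      exact h1
  -- the Sylow normalizer
  obtain ⟨P, hAP⟩ := hAp.exists_le_sylow
  have hpH : p ∣ Nat.card H := (dvd_pow_self p two_ne_zero).trans (hA2 ▸ card_dvd_of_le hAH)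
  have hA1 : A ≠ ⊥ := fun e => by
    rw [e, card_bot] at hA2
    exact (Nat.one_lt_pow two_ne_zero hp.out.one_lt).ne hA2
  obtain ⟨z₀, hz₀, hz₀1, hz₀c⟩ := CfsgLib.CN.exists_central P.2.isNilpotent
    (fun e : (P : Subgroup G) = ⊥ => hA1 (le_bot_iff.1 (e ▸ hAP)))
  obtain ⟨z, hzP, hzo, hzc⟩ : ∃ z ∈ (P : Subgroup G), orderOf z = p ∧ ∀ h ∈ (P : Subgroup G), Commute h z := by
    obtain ⟨k, hk⟩ := P.2 ⟨z₀, hz₀⟩
    have hk' : z₀ ^ p ^ k = 1 := congrArg Subtype.val hk
    obtain ⟨j, -, hj⟩ := (Nat.dvd_prime_pow hp.out).1 (orderOf_dvd_of_pow_eq_one hk')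
    have hj0 : j ≠ 0 := fun e => hz₀1 (orderOf_eq_one_iff.1 (by rw [hj, e, pow_zero]))
    refine ⟨z₀ ^ p ^ (j - 1), pow_mem hz₀ _, ?_, fun h hh => (hz₀c h hh).pow_right _⟩
    rw [orderOf_pow' _ (pow_ne_zero _ hp.out.ne_zero), hj,
      Nat.gcd_eq_right (pow_dvd_pow p (Nat.sub_le j 1)), Nat.pow_div (Nat.sub_le j 1) hp.out.pos,
      show j - (j - 1) = 1 by omega, pow_one]
  have hzA : z ∈ A := mem_of_commute hA hmax (by rw [← hzo, pow_orderOf_eq_one]) fun a ha => hzc a (hAP ha)
  have hcentral : ∀ n ∈ normalizer ((P : Subgroup G) : Set G), ∀ a ∈ A, (∀ h ∈ (P : Subgroup G), Commute h a) →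
      n * a * n⁻¹ ∈ A ∧ ∀ h ∈ (P : Subgroup G), Commute h (n * a * n⁻¹) := by
    intro n hn a ha hac
    have hc : ∀ h ∈ (P : Subgroup G), Commute h (n * a * n⁻¹) := fun h hh => by
      have h1 : n⁻¹ * h * n ∈ (P : Subgroup G) := (mem_normalizer_iff''.1 hn h).1 hh
      calc h * (n * a * n⁻¹) = n * ((n⁻¹ * h * n) * a) * n⁻¹ := by group
        _ = n * (a * (n⁻¹ * h * n)) * n⁻¹ := by rw [(hac _ h1).eq]
        _ = (n * a * n⁻¹) * h := by group
    refine ⟨mem_of_commute hA hmax ?_ fun b hb => (hc b (hAP hb)).eq, hc⟩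
    rw [conj_pow, hA.2 a ha, mul_one, mul_inv_cancel]
  by_cases hAZ : ∀ a ∈ A, ∀ h ∈ (P : Subgroup G), Commute h a
  · refine hpσ (mem_sigma_of_sylow P ?_ (le_trans ?_ hNA) hpH)
    · exact fun h hh => hNA (centralizer_le_normalizer _ (mem_centralizer_iff.2 fun a ha => ((hAZ a ha) h hh).eq.symm))
    · exact fun n hn => Uniq.mem_normalizer_of_map_le (by
        rintro _ ⟨a, ha, rfl⟩; exact (hcentral n hn a ha (hAZ a ha)).1)
  have hzZ : ∀ a ∈ A, (∀ h ∈ (P : Subgroup G), Commute h a) → a ∈ zpowers z := by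
    intro a ha hac
    by_contra hne
    refine hAZ fun x hx h hh => ?_
    have hle : A ≤ centralizer ({h} : Set G) := by
      rw [← line_sup hA2 (zpowers_le.2 hzA) (by rw [Nat.card_zpowers, hzo]) ha hne]
      exact sup_le (zpowers_le.2 (mem_centralizer_singleton_iff.2 (hzc h hh).eq.symm))
        (zpowers_le.2 (mem_centralizer_singleton_iff.2 (hac h hh).eq.symm))
    exact (mem_centralizer_singleton_iff.1 (hle hx)).symm
  by_cases hBz : B = zpowers z
  · refine hpσ (mem_sigma_of_sylow P ?_ (le_trans ?_ hNB) hpH)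
    · intro h hh
      refine hNB (centralizer_le_normalizer _ (mem_centralizer_iff.2 fun b hb => ?_))
      rw [hBz] at hb
      obtain ⟨i, rfl⟩ := mem_zpowers_iff.1 hb
      exact ((hzc h hh).zpow_right i).eq.symm
    · intro n hn
      refine Uniq.mem_normalizer_of_map_le ?_
      rw [hBz, MonoidHom.map_zpowers, zpowers_le]
      obtain ⟨h1, h2⟩ := hcentral n hn z hzA hzc
      exact hzZ _ h1 h2
  -- an element of `P` inducing a transvection on `A`
  have hCP : (P : Subgroup G) ⊓ centralizer (A : Set G) < (P : Subgroup G) := lt_of_le_of_ne inf_le_left fun e =>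
    hAZ fun a ha h hh => (mem_centralizer_iff.1 (e.ge hh).2 a ha).symm
  obtain ⟨g, hg, hgC⟩ := SetLike.exists_of_lt (CfsgLib.Fusion.lt_inf_normalizer P.2 hCP)
  have hgA : g ∈ normalizer (A : Set G) := Uniq.mem_normalizer_of_map_le (by
    rintro _ ⟨a, ha, rfl⟩
    have haC : a ∈ (P : Subgroup G) ⊓ centralizer (A : Set G) :=
      ⟨hAP ha, le_centralizer_iff_isMulCommutative.2 hA.1 ha⟩
    have h1 := (mem_normalizer_iff.1 hg.2 a).1 haC
    exact mem_of_commute hA hmax (by simp [conj_pow, hA.2 a ha])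
      fun b hb => mem_centralizer_iff.1 h1.2 b hb)
  have hgH := hNA hgA
  obtain ⟨b, hbB, hb1⟩ := (bot_or_exists_ne_one B).resolve_left fun e => by
    rw [e, card_bot] at hB; exact hp.out.ne_one hB.symm
  set T := A ⊔ zpowers g with hT
  have hTp : IsPGroup p T := P.2.to_le (sup_le hAP (zpowers_le.2 hg.1))
  have hTH : T ≤ H := sup_le hAH (zpowers_le.2 hgH)
  set y := ⁅b, g⁆ with hy
  have hyA : y ∈ A := by
    rw [hy, commutatorElement_def, mul_assoc, mul_assoc, ← mul_assoc g]
    exact mul_mem (hBA hbB) ((mem_normalizer_iff.1 hgA _).1 (inv_mem (hBA hbB)))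
  have hbz : b ∉ zpowers z := fun h => hBz (by
    refine eq_of_le_of_card_ge (fun x hx => ?_) (by rw [Nat.card_zpowers, hzo, hB])
    rw [← (line_of_mem hA (hBA hbB) hb1).2] at hB
    rw [← eq_of_le_of_card_ge (zpowers_le.2 hbB) hB.le] at hx
    exact zpowers_le.2 h hx)
  have hAgen : zpowers z ⊔ zpowers b = A :=
    line_sup hA2 (zpowers_le.2 hzA) (by rw [Nat.card_zpowers, hzo]) (hBA hbB) hbz
  have hyB : y ∉ B := by
    intro hyB
    have hBn : T ≤ normalizer (B : Set G) := by
      haveI := hA.1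
      refine sup_le (((le_centralizer_iff_isMulCommutative.2 hA.1).trans (centralizer_le hBA)).trans
        (centralizer_le_normalizer _)) (zpowers_le.2 ?_)
      have hBb : zpowers b = B := eq_of_le_of_card_ge (zpowers_le.2 hbB) (by rw [(line_of_mem hA (hBA hbB) hb1).2, hB])
      rw [← hBb]
      refine Uniq.mem_normalizer_of_map_le ?_
      rw [MonoidHom.map_zpowers, zpowers_le, hBb, MulEquiv.coe_toMonoidHom, MulAut.conj_apply]
      have e : g * b * g⁻¹ = y⁻¹ * b := by rw [hy, commutatorElement_def]; group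
      rw [e]
      exact mul_mem (inv_mem hyB) hbB
    have hBT : B ≤ T := hBA.trans le_sup_left
    haveI : (B.subgroupOf T).Normal := (normal_subgroupOf_iff_le_normalizer hBT).2 hBn
    have hcen := CfsgLib.FGSA.Huppert.le_center_of_card_le hTp (B.subgroupOf T)
      (by rw [Nat.card_congr (subgroupOfEquivOfLe hBT).toEquiv, hB])
    have hbg : Commute g b := congrArg Subtype.val (mem_center_iff.1
      (hcen (show (⟨b, hBT hbB⟩ : T) ∈ B.subgroupOf T from hbB)) ⟨g, mem_sup_right (mem_zpowers g)⟩)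
    refine hgC ⟨hg.1, mem_centralizer_iff.2 fun a ha => mem_centralizer_singleton_iff.1 ?_⟩
    revert a
    show A ≤ centralizer ({g} : Set G)
    rw [← hAgen]
    exact sup_le (zpowers_le.2 (mem_centralizer_singleton_iff.2 (hzc g hg.1).eq.symm))
      (zpowers_le.2 (mem_centralizer_singleton_iff.2 hbg.eq.symm))
  set O := opc p H with hO'
  have hOc : (Nat.card T).Coprime (Nat.card O) :=
    coprime_of_pgroup hTp (hp.out.coprime_iff_not_dvd.1 (opc_coprime p _).symm)
  have hOc' : (Nat.card A).Coprime (Nat.card O) :=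
    coprime_of_pgroup hAp (hp.out.coprime_iff_not_dvd.1 (opc_coprime p _).symm)
  have hOs : Group.IsSolvable O := hG.2.2.2 O (ne_top_of_le_ne_top hH.1 (opc_le _ _))
  obtain ⟨R', -, hR'O, hR'p, hTR', hR'd⟩ := exists_inv_sylow (t := t) (hTH.trans (le_normalizer_opc p H)) hOc
    (Or.inr hOs) (bot_le : (⊥ : Subgroup G) ≤ _) IsPGroup.of_bot (le_normalizer_bot _)
  obtain ⟨R, hO₀R, hRO, hRp, hAR, hRd⟩ := exists_inv_sylow (hAH.trans (le_normalizer_opc p H)) hOc' (Or.inr hOs)
    (invariant_le_opc hA hA2 hmax hG hH.1 hAH hOH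
      (coprime_of_pgroup hO fun h => htp ((Nat.prime_dvd_prime_iff_eq ht.out hp.out).1 h)) hAO) hO hAO
  obtain ⟨c, hc, hcR⟩ := inv_sylow_conj (hAH.trans (le_normalizer_opc p H)) hOc' hOs hR'O hR'p hR'd
    (le_sup_left.trans hTR') hRO hRp hRd hAR
  have hR'r : Cfsg.PRankLE t 2 R' := by
    by_contra h
    exact htα (mem_alpha_of (hR'O.trans (opc_le _ _)) h)
  have ht2 : t ≠ 2 := CfsgLib.CN.MinSimple.p_ne_two hG
    ((isPGroup_ne_bot_dvd hO fun e => hOA (by rw [e, commutator_bot_left])).trans (card_subgroup_dvd_card _))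
  have hyT : y ∈ ⁅T, T⁆ := commutator_mem_commutator (mem_sup_left (hBA hbB)) (mem_sup_right (mem_zpowers g))
  have hyR' : y ∈ centralizer (R' : Set G) := derived_centralizes ht2 hR'p hR'r
    (hG.1.of_dvd_nat (card_subgroup_dvd_card T)) hTR' hyT
    (((Nat.coprime_primes hp.out ht.out).2 (Ne.symm htp)).coprime_dvd_left
      (orderOf_dvd_of_pow_eq_one (hA.2 y hyA)))
  refine hOA (commutator_eq_bot_iff_le_centralizer.2 ?_)
  rw [← centralizer_line_sup hA hA2 hBA hB hyA hyB]
  refine le_inf hOB fun x hx => ?_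
  obtain ⟨x', hx', rfl⟩ := hcR.ge (hO₀R hx)
  have h1 : y * x' = x' * y := (mem_centralizer_iff.1 hyR' x' hx').symm
  have h2 : y * c = c * y := mem_centralizer_iff.1 hc.2 y hyA
  rw [MulEquiv.coe_toMonoidHom, MulAut.conj_apply, mem_centralizer_singleton_iff]
  have hcy : Commute y c := h2
  exact (((show Commute y x' from h1) |> (hcy.mul_right ·)).mul_right hcy.inv_right).eq.symm

end CfsgLib.OddLocal.Excep
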