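import Cfsg.Agent.OddLocal.ExceptionalAction

/-!
Maximal subgroups of rank two around an elementary abelian subgroup of order `p ^ 2`: preparations.
-/

set_option autoImplicit false
set_option linter.style.haveILetI false
set_option linter.unusedSectionVars false

namespace CfsgLib.OddLocal.Excep

open Subgroup Cfsg CfsgLib.OddLocal
open scoped commutatorElement

universe u

variable {G : Type u} [Group G] [Finite G] {p t : ℕ}

theorem exists_central_order [Fact p.Prime] {P N : Subgroup G} (hP : IsPGroup p P) (hNP : N ≤ P)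
    (hn : P ≤ normalizer (N : Set G)) (hN : N ≠ ⊥) :
    ∃ z ∈ N, orderOf z = p ∧ ∀ h ∈ P, Commute h z := by
  haveI := hP.isNilpotent
  haveI : (N.subgroupOf P).Normal := (normal_subgroupOf_iff_le_normalizer hNP).2 hn
  have hne := CfsgLib.PGroupBasic.inf_center_ne_bot (N.subgroupOf P) fun h => hN (by
    rw [← map_subgroupOf_eq_of_le hNP, h, Subgroup.map_bot])
  obtain ⟨k, hk⟩ := IsPGroup.iff_card.1 (hP.to_subgroup (N.subgroupOf P ⊓ center P))
  obtain ⟨z, hz⟩ := exists_prime_orderOf_dvd_card' p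
    (hk ▸ dvd_pow_self p fun e => hne (eq_bot_of_card_eq _ (by rw [hk, e, pow_zero])))
  refine ⟨((z : P) : G), z.2.1, by rw [orderOf_coe, orderOf_coe, hz], fun h hh => ?_⟩
  exact congrArg Subtype.val (mem_center_iff.1 z.2.2 ⟨h, hh⟩)

/-- Frattini argument inside a subgroup. -/
theorem frattini_le [Fact p.Prime] {M N P : Subgroup G} (hNM : N ≤ M) (hn : M ≤ normalizer (N : Set G))
    (hPN : P ≤ N) (hP : IsPGroup p P) (hd : ¬ p ∣ P.relIndex N) : M ≤ N ⊔ (M ⊓ normalizer (P : Set G)) := by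
  haveI : (N.subgroupOf M).Normal := (normal_subgroupOf_iff_le_normalizer hNM).2 hn
  have hle : P.subgroupOf M ≤ N.subgroupOf M := fun x hx => hPN hx
  have hd' : ¬ p ∣ ((P.subgroupOf M).subgroupOf (N.subgroupOf M)).index := by
    change ¬ p ∣ (P.subgroupOf M).relIndex (N.subgroupOf M)
    rwa [← relIndex_map_map_of_injective _ _ (f := M.subtype) M.subtype_injective,
      map_subgroupOf_eq_of_le (hPN.trans hNM), map_subgroupOf_eq_of_le hNM]
  have h := Sylow.normalizer_sup_eq_top (((hP.comap_subtype (K := M)).comap_subtype (K := N.subgroupOf M)).toSylow hd')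
  intro m hm
  have h1 : (⟨m, hm⟩ : M) ∈ normalizer ((P.subgroupOf M : Subgroup M) : Set M) ⊔ N.subgroupOf M := by
    have h2 := h.ge (mem_top (⟨m, hm⟩ : M))
    change (⟨m, hm⟩ : M) ∈ normalizer ((((P.subgroupOf M).subgroupOf (N.subgroupOf M)).map (N.subgroupOf M).subtype : Subgroup M) : Set M) ⊔ N.subgroupOf M at h2
    rwa [map_subgroupOf_eq_of_le hle] at h2
  have h3 := mem_map_of_mem M.subtype h1
  rw [Subgroup.map_sup, map_subgroupOf_eq_of_le hNM, sup_comm] at h3
  refine sup_le_sup_left (le_inf (map_subtype_le _) ?_) N h3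
  refine (le_normalizer_map M.subtype).trans ?_
  rw [map_subgroupOf_eq_of_le (hPN.trans hNM)]

theorem rank_le_of_alpha_empty [Fact t.Prime] {M B : Subgroup G} (hα : ∀ r, r ∉ Cfsg.alpha M) (hB : B ≤ M) :
    Cfsg.PRankLE t 2 B :=
  Uniq.rankLE_mono hB (not_not.1 fun h => hα t ⟨Fact.out, h⟩)

variable (hG : Cfsg.IsMinSimpleOddOrder G)
include hG

theorem eq_bot_of_alpha_empty {M : Subgroup G} (hM : IsCoatom M) (hα : ∀ r, r ∉ Cfsg.alpha M) :
    Cfsg.alphaCore M = ⊥ := by
  refine eq_bot_of_card_eq _ ?_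
  by_contra hne
  obtain ⟨r, hr, hd⟩ := Nat.exists_prime_and_dvd hne
  exact hα r ((Sig.alpha_core hG hM).1.2.1 r hr hd)

theorem alpha_empty_of_eq_bot {M : Subgroup G} (hM : IsCoatom M) (h : Cfsg.alphaCore M = ⊥) :
    ∀ r, r ∉ Cfsg.alpha M := by
  intro r hr
  haveI := Fact.mk hr.1
  obtain ⟨B, hBM, hB, hBc⟩ := Uniq.exists_elementary hr.2
  have := (Sig.alpha_core hG hM).1.2.2 r hr.1 hr
  rw [h, relIndex_bot_left] at this
  exact this ((dvd_pow_self r (by norm_num)).trans (hBc ▸ card_dvd_of_le hBM))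

theorem derived_le_fitting {M : Subgroup G} (hM : IsCoatom M) (hα : ∀ r, r ∉ Cfsg.alpha M) :
    ⁅M, M⁆ ≤ Cfsg.fittingOf M := by
  refine Bender.le_fitting (commutator_le_self M) ?_ (nilpotent_of_centralizes hG hM le_rfl ?_)
  · exact le_trans (le_inf (normalizer_commutator_ge_left M M) le_rfl) inf_le_left
  · rw [eq_bot_of_alpha_empty hG hM hα]
    intro g _
    rw [mem_centralizer_iff]
    intro y hy
    simp [Subgroup.mem_bot.1 hy]

/-- The largest prime of a maximal subgroup of rank two. -/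
theorem exists_top_prime {H : Subgroup G} (hH : IsCoatom H) (hα : ∀ r, r ∉ Cfsg.alpha H) (hd : p.Prime ∧ p ∣ Nat.card H) :
    ∃ (q : ℕ) (Q : Subgroup G), q.Prime ∧ q ∣ Nat.card H ∧ (∀ r : ℕ, r.Prime → r ∣ Nat.card H → r ≤ q) ∧
      q ∈ Cfsg.sigma H ∧ Q ≤ H ∧ IsPGroup q Q ∧ H ≤ normalizer (Q : Set G) ∧ ¬ q ∣ Q.index ∧ Q ≠ ⊥ ∧
      normalizer (Q : Set G) = H ∧ (∀ U : Subgroup G, U ≤ H → IsPGroup q U → U ≤ Q) := by
  have hne : (Nat.card H).primeFactors.Nonempty :=
    ⟨p, Nat.mem_primeFactors.2 ⟨hd.1, hd.2, Nat.card_pos.ne'⟩⟩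
  set q := (Nat.card H).primeFactors.max' hne
  have hqm := Finset.max'_mem _ hne
  have hq : q.Prime := Nat.prime_of_mem_primeFactors hqm
  have hqd : q ∣ Nat.card H := Nat.dvd_of_mem_primeFactors hqm
  have hmaxq : ∀ r : ℕ, r.Prime → r ∣ Nat.card H → r ≤ q := fun r hr h =>
    Finset.le_max' _ _ (Nat.mem_primeFactors.2 ⟨hr, h, Nat.card_pos.ne'⟩)
  haveI := Fact.mk hq
  haveI : Group.IsSolvable H := hG.2.2.2 H hH.1
  obtain ⟨N, hNc, hN1, hN2⟩ := (Cfsg.Agent.S1451.result (hG.1.of_dvd_nat (card_subgroup_dvd_card H))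
    (Or.inl fun r hr => by
      haveI := Fact.mk hr
      exact rank_le_of_alpha_empty hα le_rfl)).2.2 (q - 1)
  set Q := N.map H.subtype
  have hQc : Nat.card Q = Nat.card N := card_map_of_injective H.subtype_injective
  have hQp : IsPGroup q Q := by
    refine IsPGroup.of_card (hQc.trans (Nat.eq_prime_pow_of_unique_prime_dvd Nat.card_pos.ne'
      fun {r} hr hrd => ?_))
    have h1 := (hN1 r hr hrd).2
    have h2 := hmaxq r hr (hrd.trans (card_subgroup_dvd_card N))
    omega
  have hQrel : ¬ q ∣ Q.relIndex H := by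
    rw [relIndex, ← comap_subtype, comap_map_eq_self_of_injective H.subtype_injective]
    exact hN2 q hq ⟨hq, by have := hq.one_lt; omega⟩
  have hQH : Q ≤ H := map_subtype_le _
  have hHn : H ≤ normalizer (Q : Set G) := le_normalizer.trans (UTool.normalizer_le_normalizer_map H N hNc)
  have hQ1 : Q ≠ ⊥ := fun e => hQrel (by rwa [e, relIndex_bot_left])
  have hNQ := Uniq.coatom_normalizer_eq hG hH hQH hHn hQ1
  let PQ : Sylow q H := (hQp.comap_subtype (K := H)).toSylow hQrel
  have hσ : q ∈ Cfsg.sigma H := by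
    refine ⟨hq, hqd, PQ, ?_⟩
    show normalizer (((Q.subgroupOf H).map H.subtype : Subgroup G) : Set G) ≤ H
    rw [map_subgroupOf_eq_of_le hQH, hNQ]
  refine ⟨q, Q, hq, hqd, hmaxq, hσ, hQH, hQp, hHn, ?_, hQ1, hNQ, fun U hU hUp => ?_⟩
  · exact index_not_dvd hQH hQrel (Sig.not_dvd_index hσ)
  · exact le_of_hall hQH hHn hU (coprime_of_pgroup hUp hQrel)

variable [hp : Fact p.Prime] {A : Subgroup G} (hA : Cfsg.IsElementaryAbelian p A) (hA2 : Nat.card A = p ^ 2)
  (hmax : ∀ B : Subgroup G, Cfsg.IsElementaryAbelian p B → A ≤ B → B = A)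
include hA hA2 hmax

/-- The rank-two prime argument: no prime below the top prime lies in the `α` of another maximal subgroup. -/
theorem no_alpha_below [ht : Fact t.Prime] {M K Q T₁ : Subgroup G} {q : ℕ} (hq : q.Prime) (hM : IsCoatom M)
    (hαM : ∀ r, r ∉ Cfsg.alpha M) (hqσ : q ∈ Cfsg.sigma M) (hmaxq : ∀ r : ℕ, r.Prime → r ∣ Nat.card M → r ≤ q)
    (hQp : IsPGroup q Q) (hQn : M ≤ normalizer (Q : Set G)) (hNQ : normalizer (Q : Set G) = M)
    (hK : IsCoatom K) (hKM : K ≠ M) (hT : IsPGroup t T₁) (hT1 : T₁ ≠ ⊥) (hTM : T₁ ≤ M)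
    (hMT : M ≤ normalizer (T₁ : Set G)) (hTK : T₁ ≤ K) (htq : t ≠ q) (hQK : Q ≤ K) : t ∉ Cfsg.alpha K := by
  intro htα
  haveI := Fact.mk hq
  have htK := Sig.alpha_subset_sigma hG hK htα
  have hlt : t < q := lt_of_le_of_ne (hmaxq t ht.out ((isPGroup_ne_bot_dvd hT hT1).trans (card_dvd_of_le hTM))) htq
  have hqK : q ∉ Cfsg.alpha K := not_alpha_of_sigma hG hM hqσ (hαM q) K
  have htβ : t ∉ Cfsg.beta K := by
    rintro ⟨-, hid⟩
    obtain ⟨P0, hP0⟩ := (hT.comap_subtype (K := K)).exists_le_sylow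
    have hTS : T₁ ≤ (P0 : Subgroup K).map K.subtype := by
      rw [← map_subgroupOf_eq_of_le hTK]; exact map_mono hP0
    set S := (P0 : Subgroup K).map K.subtype with hS
    have hSK : S ≤ K := map_subtype_le _
    have hSd : ¬ t ∣ S.index := index_not_dvd hSK
      (by rw [relIndex, hS, ← comap_subtype, comap_map_eq_self_of_injective K.subtype_injective]; exact P0.not_dvd_index)
      (Sig.not_dvd_index htK)
    have hSp : IsPGroup t S := P0.2.map _
    obtain ⟨x, hxT, hxo, hxc⟩ := exists_central_order hT le_rfl le_normalizer hT1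
    have hx1 : x ≠ 1 := fun e => ht.out.ne_one (by rw [← hxo, e, orderOf_one])
    have hS1 : S ≠ ⊥ := fun e => hT1 (le_bot_iff.1 (hTS.trans e.le))
    obtain ⟨z, hzS, hzo, hzc⟩ := exists_central_order hSp le_rfl le_normalizer hS1
    have hS3 := rank_of_full hSp hSd htα
    obtain ⟨D, hDK, hDx, hDu⟩ : ∃ D : Subgroup G, D ≤ K ∧ D ≤ centralizer ({x} : Set G) ∧ Cfsg.InUniqueMaximal D := by
      by_cases hxz : x ∈ zpowers z
      · refine ⟨S, hSK, fun s hs => mem_centralizer_singleton_iff.2 ?_, UThm.rank_three_unique hG hSp hS3⟩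
        obtain ⟨i, rfl⟩ := mem_zpowers_iff.1 hxz
        exact ((hzc s hs).zpow_right i).eq
      · have hzx : Commute x z := hzc x (hTS hxT)
        have hzz : zpowers z ≤ centralizer (zpowers x : Set G) := zpowers_le.2 (mem_centralizer_iff.2 fun w hw => by
          obtain ⟨i, rfl⟩ := mem_zpowers_iff.1 hw
          exact (hzx.zpow_left i).eq)
        set E := zpowers z ⊔ zpowers x with hE
        have hEe : Cfsg.IsElementaryAbelian t E := CfsgLib.Thompson.elab_sup
          (CfsgLib.Thompson.elab_zpowers (by rw [← hzo, pow_orderOf_eq_one]))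
          (CfsgLib.Thompson.elab_zpowers (by rw [← hxo, pow_orderOf_eq_one])) hzz
        have hEc : Nat.card E = t ^ 2 := by
          rw [hE, CfsgLib.Solvable.card_sup_of_disjoint (hzz.trans (centralizer_le_normalizer _)) ?_,
            Nat.card_zpowers, Nat.card_zpowers, hzo, hxo, pow_two]
          refine (eq_bot_iff_forall _).2 fun w hw => by_contra fun hw1 => hxz ?_
          have h1 : orderOf w ∣ t := hxo ▸ Nat.card_zpowers x ▸ (zpowers x).orderOf_dvd_natCard hw.2
          have h2 : zpowers w = zpowers x := eq_of_le_of_card_ge (zpowers_le.2 hw.2) (by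
            rw [Nat.card_zpowers, Nat.card_zpowers, hxo,
              (ht.out.eq_one_or_self_of_dvd _ h1).resolve_left (fun e => hw1 (orderOf_eq_one_iff.1 e))])
          exact zpowers_le.2 hw.1 (h2.ge (mem_zpowers x))
        obtain ⟨B, hBS, hB, hlt'⟩ := hid.2.2 (hSp.toSylow hSd) E
          (sup_le (zpowers_le.2 hzS) (zpowers_le.2 (hTS hxT))) hEe hEc
        have hB3 : ¬ Cfsg.PRankLE t 2 B := fun h => by
          have h1 := Uniq.rankLE_elementary h le_rfl hB
          have h2 := CfsgLib.Solvable.card_lt_of_lt hlt'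
          rw [hEc] at h2
          omega
        exact ⟨B, (show B ≤ S from hBS).trans hSK, fun b hb => mem_centralizer_singleton_iff.2
          (CfsgLib.Signalizer.commute hB hb (hlt'.le (mem_sup_right (mem_zpowers x)))),
          UThm.rank_three_unique hG (CfsgLib.Signalizer.isPGroup hB) hB3⟩
    have hCx : centralizer ({x} : Set G) ≤ K :=
      Uniq.le_of_uniq hDu hK hDK (Uniq.centralizer_singleton_ne_top hG hx1) hDx
    have hNK : normalizer (T₁ : Set G) ≤ K := fun g hg => by
      obtain ⟨m, hm, c, hc, rfl⟩ := Sig.fusion_in hG hK htK hT hTK g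
        ((mem_normalizer_iff_map_conj_eq.1 hg).le.trans hTK)
      exact mul_mem hm (hCx (centralizer_le (Set.singleton_subset_iff.2 hxT) hc))
    exact hKM ((hM.le_iff.1 (hMT.trans hNK)).resolve_left hK.1)
  obtain ⟨hidx, -, -⟩ := Beta.structure_of_not_beta (p := t) hG hK
    ((isPGroup_ne_bot_dvd hT hT1).trans (card_dvd_of_le hTK)) htβ
  have hQO : Q ≤ opc t K := pgroup_le_opc hQp hQK fun h => absurd (hidx q hq h) (not_le.2 hlt)
  haveI hQs : Group.IsSolvable Q := hG.2.2.2 Q (ne_top_of_le_ne_top hK.1 hQK)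
  obtain ⟨S, -, hSα, hSp, hQS, hSd⟩ := exists_inv_sylow (t := t) (hQK.trans (TH.le_normalizer_core K))
    (coprime_of_pgroup hQp fun h => hqK ((Sig.alpha_core hG hK).1.2.1 q hq h)) (Or.inl hQs)
    (bot_le : (⊥ : Subgroup G) ≤ Cfsg.alphaCore K) IsPGroup.of_bot (le_normalizer_bot _)
  have hSK : S ≤ K := hSα.trans (map_subtype_le _)
  have hcomm : ⁅S, Q⁆ = ⊥ := by
    refine le_bot_iff.1 (le_trans (le_inf (le_normalizer_iff_commutator_le_left.1 hQS)
      ((commutator_mono hSK hQO).trans (le_normalizer_iff_commutator_le_right.1 (le_normalizer_opc t K)))) ?_)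
    exact (disjoint_iff.1 (disjoint_of_coprime_natCard
      (coprime_of_pgroup hSp (ht.out.coprime_iff_not_dvd.1 (opc_coprime t K).symm)))).le
  have hSM : S ≤ M :=
    (commutator_eq_bot_iff_le_centralizer.1 hcomm).trans ((centralizer_le_normalizer _).trans hNQ.le)
  exact hαM t (mem_alpha_of hSM (rank_of_full hSp
    (index_not_dvd hSα hSd ((Sig.alpha_hall hG hK).2 t ht.out htα)) htα))

/-- In a maximal subgroup of rank two, outside `σ`, the subgroup `A` is central in a Sylow subgroup. -/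
theorem central_case {M : Subgroup G} (hM : IsCoatom M) (hαM : ∀ r, r ∉ Cfsg.alpha M) (hpσ : p ∉ Cfsg.sigma M)
    (P : Sylow p M) (hAP : A ≤ (P : Subgroup M).map M.subtype) :
    ∀ a ∈ A, ∀ h ∈ (P : Subgroup M).map M.subtype, Commute h a := by
  by_contra hcon
  push Not at hcon
  obtain ⟨a₀, ha₀, h₀, hh₀, hnc⟩ := hcon
  set P' := (P : Subgroup M).map M.subtype with hP'
  have hP'M : P' ≤ M := map_subtype_le _
  have hP'p : IsPGroup p P' := P.2.map _
  have hAM : A ≤ M := hAP.trans hP'M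
  have hpM : p ∣ Nat.card M := (dvd_pow_self p two_ne_zero).trans (hA2 ▸ card_dvd_of_le hAM)
  have hP'rel : ¬ p ∣ P'.relIndex M := by
    rw [relIndex, hP', ← comap_subtype, comap_map_eq_self_of_injective M.subtype_injective]
    exact P.not_dvd_index
  have hP'1 : P' ≠ ⊥ := fun e => hP'rel (by rwa [e, relIndex_bot_left])
  obtain ⟨z, hzP, hzo, hzc⟩ := exists_central_order hP'p le_rfl le_normalizer hP'1
  have hzA : z ∈ A := mem_of_commute hA hmax (by rw [← hzo, pow_orderOf_eq_one]) fun a ha => (hzc a (hAP ha)).eq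
  have huniqz : ∀ a ∈ A, (∀ h ∈ P', Commute h a) → a ∈ zpowers z := by
    intro a ha hac
    by_contra hne
    refine hnc ?_
    have hle : A ≤ centralizer ({h₀} : Set G) := by
      rw [← line_sup hA2 (zpowers_le.2 hzA) (by rw [Nat.card_zpowers, hzo]) ha hne]
      exact sup_le (zpowers_le.2 (mem_centralizer_singleton_iff.2 (hzc h₀ hh₀).eq.symm))
        (zpowers_le.2 (mem_centralizer_singleton_iff.2 (hac h₀ hh₀).eq.symm))
    exact (mem_centralizer_singleton_iff.1 (hle ha₀)).symm
  obtain ⟨Ps, hPs⟩ := hP'p.exists_le_sylow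
  obtain ⟨zs, hzsP, hzso, hzsc⟩ := exists_central_order Ps.2 le_rfl le_normalizer
    (fun e => hP'1 (le_bot_iff.1 (hPs.trans e.le)))
  have hzsA : zs ∈ A := mem_of_commute hA hmax (by rw [← hzso, pow_orderOf_eq_one]) fun a ha =>
    (hzsc a (hPs (hAP ha))).eq
  have hzzs : zpowers zs = zpowers z := eq_of_le_of_card_ge
    (zpowers_le.2 (huniqz zs hzsA fun h hh => hzsc h (hPs hh))) (by rw [Nat.card_zpowers, Nat.card_zpowers, hzo, hzso])
  have hnz : ∀ (R : Subgroup G), P' ≤ R → (∀ h ∈ R, Commute h z) →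
      normalizer (R : Set G) ≤ normalizer (zpowers z : Set G) := by
    intro R hPR hRz n hn
    refine Uniq.mem_normalizer_of_map_le ?_
    rw [MonoidHom.map_zpowers, zpowers_le]
    have hc : ∀ h ∈ R, Commute h (n * z * n⁻¹) := fun h hh => by
      have h1 : n⁻¹ * h * n ∈ R := (mem_normalizer_iff''.1 hn h).1 hh
      calc h * (n * z * n⁻¹) = n * ((n⁻¹ * h * n) * z) * n⁻¹ := by group
        _ = n * (z * (n⁻¹ * h * n)) * n⁻¹ := by rw [(hRz _ h1).eq]
        _ = (n * z * n⁻¹) * h := by group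
    exact huniqz _ (mem_of_commute hA hmax
      (by rw [← map_pow, hA.2 z hzA, map_one]) fun a ha => (hc a (hPR (hAP ha))).eq)
      fun h hh => hc h (hPR hh)
  have hPsz : ∀ h ∈ (Ps : Subgroup G), Commute h z := fun h hh => by
    obtain ⟨i, hi⟩ := mem_zpowers_iff.1 (hzzs.ge (mem_zpowers z))
    rw [← hi]; exact (hzsc h hh).zpow_right i
  have hz1 : zpowers z ≠ ⊥ := fun e => hp.out.ne_one (by
    rw [← hzo, ← Nat.card_zpowers, e, card_bot])
  obtain ⟨K, hK, hNK⟩ := (eq_top_or_exists_le_coatom (normalizer (zpowers z : Set G))).resolve_left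
    (CfsgLib.CN.MinSimple.normalizer_ne_top hG (CfsgLib.CN.nilpotent_zpowers z) hz1)
  have hPsK : (Ps : Subgroup G) ≤ K := (le_normalizer.trans (hnz _ hPs hPsz)).trans hNK
  have hpσK : p ∈ Cfsg.sigma K := mem_sigma_of_sylow Ps hPsK ((hnz _ hPs hPsz).trans hNK)
    ((isPGroup_ne_bot_dvd Ps.2 (fun e => hP'1 (le_bot_iff.1 (hPs.trans e.le)))).trans (card_dvd_of_le hPsK))
  have hKM : K ≠ M := by
    intro e
    refine hpσ ⟨hp.out, hpM, P, ?_⟩
    calc normalizer (P' : Set G) ≤ K := (hnz P' le_rfl hzc).trans hNK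
      _ = M := e
  -- `z` lies in the Fitting subgroup of `M`
  have hnab : ⁅P', P'⁆ ≠ ⊥ := fun e => hnc (commutatorElement_eq_one_iff_mul_comm.1
    (mem_bot.1 (e ▸ commutator_mem_commutator hh₀ (hAP ha₀))))
  obtain ⟨y, hy, hyo, hyc⟩ := exists_central_order hP'p (commutator_le_self P')
    (le_trans (le_inf (normalizer_commutator_ge_left P' P') le_rfl) inf_le_left) hnab
  have hyz : zpowers y = zpowers z := eq_of_le_of_card_ge
    (zpowers_le.2 (huniqz y (mem_of_commute hA hmax (by rw [← hyo, pow_orderOf_eq_one])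
      fun a ha => (hyc a (hAP ha)).eq) hyc)) (by rw [Nat.card_zpowers, Nat.card_zpowers, hzo, hyo])
  have hM'F := derived_le_fitting hG hM hαM
  have hzF : z ∈ Cfsg.fittingOf M :=
    hM'F (commutator_mono hP'M hP'M (zpowers_le.2 hy (hyz.ge (mem_zpowers z))))
  haveI hFnil := Bender.nilpotent_fitting M
  have hTz : ∀ (r : ℕ) [Fact r.Prime], r ≠ p → Bender.qc r M ≤ centralizer (zpowers z : Set G) := by
    intro r _ hrp x hx
    refine FixedLine.le_centralizer_zpowers (K := Bender.qc r M) (fun w hw => ?_) hx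
    refine mem_centralizer_singleton_iff.2 ?_
    have hc := CfsgLib.FGSA.commute_of_coprime_orderOf (⟨w, Bender.qc_le_fitting M hw⟩ : Cfsg.fittingOf M) ⟨z, hzF⟩ (by
      rw [← orderOf_coe, ← orderOf_coe]
      show (orderOf w).Coprime (orderOf z)
      rw [hzo]
      exact ((coprime_of_pgroup (Bender.isPGroup_qc M) fun h =>
        hrp ((Nat.prime_dvd_prime_iff_eq Fact.out hp.out).1 h))).coprime_dvd_left ((Bender.qc r M).orderOf_dvd_natCard hw))
    exact congrArg Subtype.val hc.eq
  set N := Cfsg.fittingOf M ⊔ P' with hN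
  have hNM : N ≤ M := sup_le (Bender.fitting_le M) hP'M
  have hMN : M ≤ normalizer (N : Set G) := by
    haveI : (N.subgroupOf M).Normal := by
      refine Subgroup.Normal.of_commutator_le M fun x hx => ?_
      refine mem_subgroupOf.2 (le_sup_left (b := P') (hM'F ?_))
      rw [← map_subtype_commutator M]
      exact mem_map_of_mem _ hx
    exact (normal_subgroupOf_iff_le_normalizer hNM).1 inferInstance
  have hPN : P' ≤ N := le_sup_right
  have hPNd : ¬ p ∣ P'.relIndex N := fun h => hP'rel (h.trans (by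
    rw [← relIndex_mul_relIndex P' N M hPN hNM]; exact dvd_mul_right _ _))
  obtain ⟨r, hr, hrp, hrne⟩ : ∃ r, r.Prime ∧ r ≠ p ∧ ⁅Bender.qc r M, P'⁆ ≠ ⊥ := by
    by_contra hall
    push Not at hall
    refine hpσ ⟨hp.out, hpM, P, ?_⟩
    have hFP : Cfsg.fittingOf M ≤ normalizer (P' : Set G) := Bender.fitting_le_of_qc fun r hr => by
      by_cases hrp : r = p
      · subst hrp
        refine le_trans ?_ le_normalizer
        refine le_trans ?_ (le_of_eq (sup_eq_left.2 ?_) : P' ⊔ Bender.qc r M ≤ P')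
        · exact le_sup_right
        · have hle : P' ⊔ Bender.qc r M ≤ M := sup_le hP'M (Bender.qc_le r M)
          have hpg : IsPGroup r ↥(P' ⊔ Bender.qc r M : Subgroup G) :=
            IsPGroup.to_sup_of_normal_right' hP'p (Bender.isPGroup_qc M)
              (hP'M.trans (Bender.le_normalizer_qc r M))
          refine le_of_le_of_eq le_sup_right (eq_of_le_of_card_ge le_sup_left ?_).symm
          refine Nat.le_of_dvd Nat.card_pos ((Nat.Coprime.dvd_mul_right
            (coprime_of_pgroup hpg hP'rel)).1 ?_)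
          rw [CfsgLib.InvariantHall.relIndex_mul_card hP'M]
          exact card_dvd_of_le hle
      · exact (commutator_eq_bot_iff_le_centralizer.1 (hall r hr.out hrp)).trans (centralizer_le_normalizer _)
    have hMP : M ≤ normalizer (P' : Set G) := fun m hm => by
      refine Uniq.mem_normalizer_of_map_le ?_
      refine le_of_hall hPN (sup_le hFP le_normalizer)
        ((map_mono hPN).trans (mem_normalizer_iff_map_conj_eq.1 (hMN hm)).le) ?_
      rw [card_map_of_injective (MulAut.conj m).injective]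
      exact coprime_of_pgroup hP'p hPNd
    exact (Uniq.coatom_normalizer_eq hG hM hP'M hMP hP'1).le
  haveI := Fact.mk hr
  set T := Bender.qc r M with hT
  have hTK : T ≤ K := (hTz r hrp).trans ((centralizer_le_normalizer _).trans hNK)
  have hPT : P' ≤ normalizer (T : Set G) := hP'M.trans (Bender.le_normalizer_qc r M)
  have hrα := alpha_of_sigma hG hrp hK hpσK hP'p (hPs.trans hPsK) (Bender.isPGroup_qc M) hTK hPT hrne
  obtain ⟨q, Q, hq, hqd, hmaxq, hqσ, hQM, hQp, hQn, hQd, hQ1, hNQ, hQle⟩ :=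
    exists_top_prime (p := p) hG hM hαM ⟨hp.out, hpM⟩
  haveI := Fact.mk hq
  have hQK : Q ≤ K := by
    refine le_trans ?_ ((hTz q fun e => hpσ (e ▸ hqσ)).trans ((centralizer_le_normalizer _).trans hNK))
    intro x hx
    obtain ⟨k, hk⟩ := hQp ⟨x, hx⟩
    obtain ⟨j, -, hj⟩ := (Nat.dvd_prime_pow hq).1 (orderOf_dvd_of_pow_eq_one (congrArg Subtype.val hk))
    exact Bender.mem_qc (Bender.le_fitting hQM hQn hQp.isNilpotent hx) hj
  have hT1n : M ≤ normalizer ((⁅T, P'⁆ : Subgroup G) : Set G) := by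
    refine (frattini_le hNM hMN hPN hP'p hPNd).trans ?_
    refine sup_le (sup_le ?_ (normalizer_commutator_ge_right _ _)) ?_
    · refine Bender.fitting_le_of_qc fun s hs => ?_
      refine le_trans ?_ (normalizes_commutator hPT)
      by_cases hsr : s = r
      · subst hsr; exact le_sup_left.trans le_sup_left
      · refine le_trans ?_ (le_sup_right.trans le_sup_left)
        intro x hx
        refine mem_centralizer_iff.2 fun w hw => ?_
        exact congrArg Subtype.val (CfsgLib.FGSA.commute_of_coprime_orderOf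
          (⟨w, Bender.qc_le_fitting M hw⟩ : Cfsg.fittingOf M) ⟨x, Bender.qc_le_fitting M hx⟩ (by
            rw [← orderOf_coe, ← orderOf_coe]
            exact ((IsPGroup.coprime_card_of_ne r s (Ne.symm hsr) _ _ (Bender.isPGroup_qc M)
              (Bender.isPGroup_qc M)).coprime_dvd_left (T.orderOf_dvd_natCard hw)).coprime_dvd_right
              ((Bender.qc s M).orderOf_dvd_natCard hx))).eq
    · exact le_trans (inf_le_inf_right _ (Bender.le_normalizer_qc r M))
        (le_sup_right.trans (normalizes_commutator hPT))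
  have hT1T : ⁅T, P'⁆ ≤ T := le_normalizer_iff_commutator_le_left.1 hPT
  have hrq : r ≠ q := fun e => not_alpha_of_sigma hG hM hqσ (hαM q) K (e ▸ hrα)
  exact no_alpha_below hG hA hA2 hmax hq hM hαM hqσ hmaxq hQp hQn hNQ hK hKM ((Bender.isPGroup_qc M).to_le hT1T)
    hrne (hT1T.trans (Bender.qc_le r M)) hT1n (hT1T.trans hTK) hrq hQK hrα

end CfsgLib.OddLocal.Excep
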