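import Cfsg.Agent.OddLocal.FixedLineOrbit

/-!
A `p`-group and an element of prime order with at most `p` fixed points on a module: the commutator
centralizes every invariant `s`-group.
-/

set_option autoImplicit false
set_option linter.style.haveILetI false
set_option linter.unusedSectionVars false
set_option maxHeartbeats 1600000

namespace CfsgLib.OddLocal.FixedLine

open Subgroup Cfsg CfsgLib.OddLocal
open scoped commutatorElement Pointwise

universe u

variable {X : Type u} [Group X] [Finite X]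

/-- Commutators of operators fixing a hyperplane act trivially on the factor. -/
theorem hyper_commutator {s : ℕ} [Fact s.Prime] {A K M : Subgroup X} (hA : Cfsg.IsElementaryAbelian s A)
    (hK : IsHyper s A K) (hMA : M ≤ normalizer (A : Set X)) (hMK : M ≤ normalizer (K : Set X)) {c : X}
    (hc : c ∈ ⁅M, M⁆) {a : X} (ha : a ∈ A) : c * a * c⁻¹ * a⁻¹ ∈ K := by
  haveI : (K.subgroupOf A).Normal := (normal_subgroupOf_iff_le_normalizer hK.1).2
    ((CfsgLib.Signalizer.le_centralizer_of_le hA hK.1).trans (centralizer_le_normalizer _))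
  let f : A →* A ⧸ K.subgroupOf A := QuotientGroup.mk' _
  haveI : Fact (Nat.card (A ⧸ K.subgroupOf A)).Prime := ⟨by
    show ((K.subgroupOf A).index).Prime
    rw [show (K.subgroupOf A).index = s from hK.2]; exact Fact.out⟩
  haveI : IsCyclic (A ⧸ K.subgroupOf A) := isCyclic_of_prime_card (p := Nat.card (A ⧸ K.subgroupOf A)) rfl
  let σ : M →* MulAut (A ⧸ K.subgroupOf A) := MonoidHom.mk' (fun g =>
    QuotientGroup.congr _ _ (normalizerMonoidHom A ⟨g, hMA g.2⟩) (by
      refine eq_of_le_of_card_ge ?_ (card_map_of_injective (MulEquiv.injective _)).ge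
      rintro _ ⟨k, hk, rfl⟩
      exact (mem_normalizer_iff.1 (hMK g.2) _).1 hk)) (fun g h => by
      ext q
      induction q using QuotientGroup.induction_on with
      | _ y =>
        show ((normalizerMonoidHom A ⟨(g : X) * h, _⟩ y : A) : A ⧸ K.subgroupOf A) = _
        rw [show (⟨(g : X) * h, hMA (g * h).2⟩ : normalizer (A : Set X)) = ⟨g, hMA g.2⟩ * ⟨h, hMA h.2⟩ from rfl,
          map_mul]
        rfl)
  have hker : ⁅(⊤ : Subgroup M), ⊤⁆ ≤ σ.ker := by
    rw [commutator_le]
    intro g _ h _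
    rw [MonoidHom.mem_ker, map_commutatorElement, commutatorElement_eq_one_iff_mul_comm]
    exact (IsCyclic.mulAutMulEquiv (A ⧸ K.subgroupOf A)).injective (by rw [map_mul, map_mul]; exact mul_comm _ _)
  have hMM : (⊤ : Subgroup M).map M.subtype = M := by rw [← MonoidHom.range_eq_map, range_subtype]
  rw [← hMM, ← map_commutator] at hc
  obtain ⟨g, hg, rfl⟩ := hc
  have h : f (normalizerMonoidHom A ⟨g, hMA g.2⟩ ⟨a, ha⟩) = f ⟨a, ha⟩ := DFunLike.congr_fun (hker hg) (f ⟨a, ha⟩)
  rw [← div_eq_one, ← map_div, div_eq_mul_inv] at h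
  exact mem_subgroupOf.1 ((QuotientGroup.eq_one_iff (N := K.subgroupOf A) _).1 h)

theorem eq_bot_of_commutator_cyclic {p s r : ℕ} [Fact p.Prime] [Fact s.Prime] [Fact r.Prime] {V A : Subgroup X}
    {x : X} (C : Cfg p s r V A x) {K M : Subgroup X} (hK : IsHyper s A K) (hcard : Nat.card (moved V A K) = p)
    (hMV : M ≤ normalizer (V : Set X)) (hMA : M ≤ normalizer (A : Set X)) (hMK : M ≤ normalizer (K : Set X))
    (hA : A ≤ ⁅M, M⁆) : moved V A K = ⊥ := by
  have h := UTool.commutator_le_centralizer_cyclic (N := moved V A K) (M := M)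
    (fun g hg => moved_normalizes (hMV hg) (hMA hg) (hMK hg)) (isCyclic_of_prime_card hcard)
  exact le_bot_iff.1 ((le_inf le_rfl (le_centralizer_iff.1 (hA.trans h))).trans (C.moved_inf_centralizer hK.1).le)

/-- `[P, x]` centralizes every invariant `s`-group with cyclic fixed points. -/
theorem commutator_centralizes {p s r : ℕ} [Fact p.Prime] [Fact s.Prime] [Fact r.Prime]
    (hp : p ≠ 2) (hs : s ≠ 2) (hr : r ≠ 2) (hsp : s ≠ p) (hrp : r ≠ p) (hsr : r ≠ s)
    {V : Subgroup X} (hV : Cfsg.IsElementaryAbelian p V) {x : X} (hx : orderOf x = r)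
    (hxV : x ∈ normalizer (V : Set X)) (hfix : Nat.card ↥(V ⊓ centralizer ({x} : Set X)) ≤ p)
    {P : Subgroup X} (hP : IsPGroup p P) (hPV : P ≤ normalizer (V : Set X)) (hxP : x ∈ normalizer (P : Set X))
    (hPfix : ∀ u ∈ P, u ≠ 1 → Commute u x → V ⊓ centralizer ({x} : Set X) = ⊥)
    {Q : Subgroup X} (hQ : IsPGroup s Q) (hQV : Q ≤ normalizer (V : Set X))
    (hfaith : Q ⊓ centralizer (V : Set X) = ⊥) (hPQ : P ≤ normalizer (Q : Set X))
    (hxQ : x ∈ normalizer (Q : Set X)) (hcyc : IsCyclic ↥(Q ⊓ centralizer ({x} : Set X))) :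
    ⁅P, zpowers x⁆ ≤ centralizer (Q : Set X) := by
  classical
  suffices ∀ n (Q : Subgroup X), Nat.card Q = n → IsPGroup s Q → Q ≤ normalizer (V : Set X) →
      Q ⊓ centralizer (V : Set X) = ⊥ → P ≤ normalizer (Q : Set X) → x ∈ normalizer (Q : Set X) →
      IsCyclic ↥(Q ⊓ centralizer ({x} : Set X)) → ⁅P, zpowers x⁆ ≤ centralizer (Q : Set X) from
    this _ Q rfl hQ hQV hfaith hPQ hxQ hcyc
  clear hQ hQV hfaith hPQ hxQ hcyc Q
  intro n
  induction n using Nat.strongRecOn with | ind n ih => ?_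
  rintro Q rfl hQ hQV hfaith hPQ hxQ hcyc
  set R := zpowers x with hR
  have hRcard : Nat.card R = r := by rw [hR, Nat.card_zpowers, hx]
  have hRP : R ≤ normalizer (P : Set X) := zpowers_le.2 hxP
  have hRQ : R ≤ normalizer (Q : Set X) := zpowers_le.2 hxQ
  by_cases hV0 : V ⊓ centralizer ({x} : Set X) = ⊥
  · have h1 : ⁅Q, R⁆ = ⊥ := commutator_eq_bot_iff_le_centralizer.2
      (le_centralizer_zpowers (fpf_centralizes hs hr hsp hrp hsr hV hx hxV hV0 hQ hQV hfaith hxQ))
    refine commutator_eq_bot_iff_le_centralizer.1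
      (commutator_commutator_eq_bot_of_rotate (H₁ := P) (H₂ := R) (H₃ := Q) ?_ ?_)
    · rw [commutator_comm R Q, h1, commutator_bot_left]
    · refine le_bot_iff.1 ((commutator_mono ?_ le_rfl).trans h1.le)
      exact le_normalizer_iff_commutator_le_left.1 hPQ
  have hPx : P ⊓ centralizer ({x} : Set X) = ⊥ := (eq_bot_iff_forall _).2 fun u hu => by_contra fun hu1 =>
    hV0 (hPfix u hu.1 hu1 (mem_centralizer_singleton_iff.1 hu.2))
  have hPxR : P ⊓ centralizer (R : Set X) = ⊥ :=
    le_bot_iff.1 (hPx ▸ inf_le_inf_left _ (centralizer_zpowers_le x))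
  have hRPc : (Nat.card R).Coprime (Nat.card P) :=
    IsPGroup.coprime_card_of_ne r p hrp _ _ (IsPGroup.of_card (n := 1) (by rw [hRcard, pow_one])) hP
  have hRQc : (Nat.card R).Coprime (Nat.card Q) :=
    IsPGroup.coprime_card_of_ne r s hsr _ _ (IsPGroup.of_card (n := 1) (by rw [hRcard, pow_one])) hQ
  have hPPR : ⁅P, R⁆ = P := by
    haveI := hP.isNilpotent
    have h := CfsgLib.CoprimeAct.commutator_sup_centralizer hRP hRPc (Or.inr inferInstance)
    rwa [hPxR, sup_bot_eq] at h
  rw [hPPR]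
  by_contra hcon
  set B₀ := P ⊔ R with hB₀
  have hPB : P ≤ B₀ := le_sup_left
  have hRB : R ≤ B₀ := le_sup_right
  have hB₀P : B₀ ≤ normalizer (P : Set X) := sup_le le_normalizer hRP
  have hnt : ⁅Q, P⁆ ≠ ⊥ := fun h => hcon (le_centralizer_iff.1 (commutator_eq_bot_iff_le_centralizer.1 h))
  have hQp : (Nat.card P).Coprime s := by
    obtain ⟨k, hk⟩ := IsPGroup.iff_card.1 hP
    rw [hk]; exact ((Nat.coprime_primes Fact.out Fact.out).2 hsp.symm).pow_left k
  have hPQc : (Nat.card P).Coprime (Nat.card Q) := IsPGroup.coprime_card_of_ne p s hsp.symm _ _ hP hQ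
  have hproper : ∀ U : Subgroup X, U < Q → B₀ ≤ normalizer (U : Set X) → P ≤ centralizer (U : Set X) := by
    intro U hU hBU
    have h := ih _ (CfsgLib.Solvable.card_lt_of_lt hU) U rfl (hQ.to_le hU.le) (hU.le.trans hQV)
      (le_bot_iff.1 (hfaith ▸ inf_le_inf_right _ hU.le)) (hPB.trans hBU) (hRB.trans hBU (mem_zpowers x))
      (haveI := hcyc; isCyclic_of_injective (inclusion (inf_le_inf_right _ hU.le)) (inclusion_injective _))
    rwa [hPPR] at h
  obtain ⟨hQP, hshape, hirr, hexp⟩ := Cfsg.Agent.S3736.result B₀ P Q hQ (sup_le hPQ hRQ) hPB hB₀P hQp hnt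
    fun U hU hBU => commutator_eq_bot_iff_le_centralizer.2 (le_centralizer_iff.1 (hproper U hU hBU))
  have hQbot : Q ≠ ⊥ := fun h => hnt (by rw [h, commutator_bot_left])
  haveI : Group.IsNilpotent Q := hQ.isNilpotent
  rcases hshape with hel | hspec
  · -- the abelian case
    haveI := hel.1
    have hQQ : Q ≤ centralizer (Q : Set X) := le_centralizer_iff_isMulCommutative.2 inferInstance
    have C : Cfg p s r V Q x := ⟨hV, hel, hQV, hxV, hxQ, hx, hfix, hsp⟩
    obtain ⟨K, hK, hK1⟩ := C.exists_moved fun h =>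
      hQbot (le_bot_iff.1 (hfaith ▸ le_inf le_rfl (le_centralizer_iff.1 h)))
    have hPK : P ≤ normalizer (K : Set X) := by
      refine C.orbit_trivial hp hr hrp.symm hP hPQ hPV hxP hK hK1 fun u hu v hv hu' hv' => ?_
      -- two conjugates fixed by `x` agree
      set K₁ := K.map (MulAut.conj u).toMonoidHom with hK₁
      set K₂ := K.map (MulAut.conj v).toMonoidHom with hK₂
      set w := v * u⁻¹ with hw
      have hwK : K₁.map (MulAut.conj w).toMonoidHom = K₂ := by
        rw [hK₁, hK₂, TH.map_conj_map_conj, hw, inv_mul_cancel_right]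
      suffices hwn : w ∈ normalizer (K₁ : Set X) by
        rw [← hwK]; exact (mem_normalizer_iff_map_conj_eq.1 hwn).symm
      have hwP : w ∈ P := mul_mem hv (inv_mem hu)
      set S := P ⊓ normalizer (K₁ : Set X)
      have hRS : R ≤ normalizer (S : Set X) := by
        rw [hR, zpowers_le]
        refine Uniq.mem_normalizer_of_map_le ?_
        rintro _ ⟨y, hy, rfl⟩
        exact mem_inf.2 ⟨(mem_normalizer_iff.1 hxP y).1 hy.1, mul_mem (mul_mem hu' (mem_inf.1 hy).2) (inv_mem hu')⟩
      obtain ⟨c, hc, hwc⟩ := CfsgLib.CoprimeAct.exists_centralizing_mem_coset hRP hRPc (inf_le_left : S ≤ P) hRS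
        (Or.inr (by haveI := (hP.to_le (inf_le_left : S ≤ P)).isNilpotent; infer_instance)) hwP fun a ha => by
          have ha1 : a ∈ normalizer (K₁ : Set X) := zpowers_le.2 hu' ha
          have ha2 : a ∈ normalizer (K₂ : Set X) := zpowers_le.2 hv' ha
          refine mem_inf.2 ⟨mul_mem (inv_mem hwP) ((mem_normalizer_iff.1 (hRP ha) w).1 hwP), ?_⟩
          refine mem_normalizer_iff_map_conj_eq.2 ?_
          show K₁.map (MulAut.conj (w⁻¹ * (a * w * a⁻¹))).toMonoidHom = K₁
          have e1 : K₁.map (MulAut.conj a⁻¹).toMonoidHom = K₁ := mem_normalizer_iff_map_conj_eq.1 (inv_mem ha1)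
          have e2 : K₂.map (MulAut.conj a).toMonoidHom = K₂ := mem_normalizer_iff_map_conj_eq.1 ha2
          rw [← TH.map_conj_map_conj, ← TH.map_conj_map_conj, ← TH.map_conj_map_conj, e1, hwK, e2, ← hwK,
            Uniq.map_conj_inv]
      rw [hPxR, mem_bot] at hc
      rw [hc, mul_one] at hwc
      simpa using inv_mem (mem_inf.1 hwc).2
    have hMA : P ⊔ Q ≤ normalizer (Q : Set X) := sup_le hPQ le_normalizer
    have hMK : P ⊔ Q ≤ normalizer (K : Set X) :=
      sup_le hPK ((CfsgLib.Signalizer.le_centralizer_of_le hel hK.1).trans (centralizer_le_normalizer _))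
    have hQM : Q ≤ ⁅P ⊔ Q, P ⊔ Q⁆ := hQP.ge.trans (commutator_mono le_sup_right le_sup_left)
    by_cases hKx : K.map (MulAut.conj x).toMonoidHom = K
    · have hxK : x ∈ normalizer (K : Set X) := mem_normalizer_iff_map_conj_eq.2 hKx
      have hBK : B₀ ≤ normalizer (K : Set X) := sup_le hPK (zpowers_le.2 hxK)
      have hQK : Q ≤ K := by
        rw [← hQP, commutator_le]
        intro q hq u hu
        have huc : u ∈ ⁅B₀, B₀⁆ := commutator_mono hPB hRB (hPPR.symm ▸ hu)
        have h := hyper_commutator hel hK (sup_le hPQ hRQ) hBK huc (inv_mem hq)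
        rw [inv_inv] at h
        have hq' : u * q⁻¹ * u⁻¹ ∈ Q := (mem_normalizer_iff.1 (hPQ hu) _).1 (inv_mem hq)
        have e : ⁅q, u⁆ = u * q⁻¹ * u⁻¹ * q := by
          rw [CfsgLib.Signalizer.commute hel hq' hq, commutatorElement_def]
          group
        rwa [e]
      have h := hK.2
      rw [relIndex_eq_one.2 hQK] at h
      exact (Fact.out : s.Prime).one_lt.ne h
    · exact hK1 (eq_bot_of_commutator_cyclic C hK (C.card_moved hK hKx hK1).1
        (sup_le hPV hQV) hMA hMK hQM)
  -- the special case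
  obtain ⟨-, hZΦ, hZc⟩ := hspec
  set Z := (center Q).map Q.subtype with hZdef
  haveI : Nontrivial Q := (nontrivial_iff_ne_bot Q).2 hQbot
  have hmaptop : ∀ K : Subgroup Q, K.map Q.subtype = Q → K = ⊤ := fun K h =>
    map_injective Q.subtype_injective (h.trans (by rw [← MonoidHom.range_eq_map, range_subtype]))
  have hZQ : Z < Q := lt_of_le_of_ne (map_subtype_le _) fun h => bot_ne_top (α := Subgroup Q)
    (frattini_nongenerating (by rw [bot_sup_eq, hZΦ, hmaptop _ h]))
  have hBZ : B₀ ≤ normalizer (Z : Set X) :=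
    (sup_le hPQ hRQ).trans (UTool.normalizer_le_normalizer_map Q (center Q) inferInstance)
  have hPZ : P ≤ centralizer (Z : Set X) := hproper Z hZQ hBZ
  have hZQc : Z ≤ centralizer (Q : Set X) := by
    rintro _ ⟨z, hz, rfl⟩
    exact mem_centralizer_iff.2 fun q hq => congrArg Subtype.val (mem_center_iff.1 hz ⟨q, hq⟩)
  have hQQZ : ⁅Q, Q⁆ = Z := by
    rw [hZdef, ← hZc, _root_.commutator_def, map_commutator, ← MonoidHom.range_eq_map, range_subtype]
  have hZel : Cfsg.IsElementaryAbelian s Z := by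
    refine ⟨⟨⟨fun a b => Subtype.ext ?_⟩⟩, fun a ha => hexp hs a (hZQ.le ha)⟩
    exact mem_centralizer_iff.1 (hZQc b.2) a (hZQ.le a.2)
  have hZbot : Z ≠ ⊥ := fun h => by
    haveI : Nontrivial (center Q) := IsPGroup.center_nontrivial hQ
    exact (nontrivial_iff_ne_bot _).1 this ((map_eq_bot_iff_of_injective _ Q.subtype_injective).1 h)
  have C : Cfg p s r V Z x := ⟨hV, hZel, hZQ.le.trans hQV, hxV, hRB.trans hBZ (mem_zpowers x), hx, hfix, hsp⟩
  have hZfaith : ∀ T : Subgroup X, T ≤ Q → V ≤ centralizer (T : Set X) → T = ⊥ := fun T hT h =>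
    le_bot_iff.1 (hfaith ▸ le_inf hT (le_centralizer_iff.1 h))
  obtain ⟨K, hK, hK1⟩ := C.exists_moved fun h => hZbot (hZfaith Z hZQ.le h)
  have hQK : Q ≤ normalizer (K : Set X) :=
    (le_centralizer_iff.1 (hK.1.trans hZQc)).trans (centralizer_le_normalizer _)
  have hQZn : Q ≤ normalizer (Z : Set X) := (le_centralizer_iff.1 hZQc).trans (centralizer_le_normalizer _)
  have hKx : x ∈ normalizer (K : Set X) := by
    by_contra hKx
    refine hK1 (eq_bot_of_commutator_cyclic C hK (C.card_moved hK (fun h => hKx (mem_normalizer_iff_map_conj_eq.2 h)) hK1).1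
      hQV hQZn hQK hQQZ.ge)
  have hRK : R ≤ normalizer (K : Set X) := zpowers_le.2 hKx
  have hPK : P ≤ normalizer (K : Set X) :=
    (hPZ.trans (centralizer_le hK.1)).trans (centralizer_le_normalizer _)
  -- a fixed element outside the centre
  obtain ⟨c, hc, hcZ⟩ : ∃ c ∈ Q ⊓ centralizer ({x} : Set X), c ∉ Z := by
    by_contra hno
    push Not at hno
    refine hZQ.not_ge (le_of_frobenius hsr hQ hx hPQ hPQc hxP hxQ hPx ?_ fun v hv => ?_)
    · set U := (Q ⊓ centralizer (P : Set X)) ⊔ Z
      have hBC : B₀ ≤ normalizer ((Q ⊓ centralizer (P : Set X) : Subgroup X) : Set X) := by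
        intro g hg
        refine mem_normalizer_iff_map_conj_eq.2 ?_
        show (Q ⊓ centralizer (P : Set X)).map (MulAut.conj g).toMonoidHom = _
        rw [map_inf_eq _ _ _ (MulAut.conj g).injective, map_centralizer_conj,
          show Q.map (MulAut.conj g).toMonoidHom = Q from mem_normalizer_iff_map_conj_eq.1 (sup_le hPQ hRQ hg),
          show P.map (MulAut.conj g).toMonoidHom = P from mem_normalizer_iff_map_conj_eq.1 (hB₀P hg)]
      have hUB : B₀ ≤ normalizer (U : Set X) :=
        (le_inf hBC hBZ).trans (normalizer_inf_normalizer_le_normalizer_sup _ _)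
      rcases hirr U ((map_mono hZΦ.le).trans le_sup_right) (sup_le inf_le_left hZQ.le) hUB with h | h
      · exact (le_sup_left : _ ≤ U).trans (h.le.trans (map_mono hZΦ.le))
      · refine absurd ?_ hcon
        exact le_centralizer_iff.1 (h.ge.trans (sup_le inf_le_right (le_centralizer_iff.1 hPZ)))
    · intro y hy
      have h1 : v⁻¹ * y * v ∈ Q ⊓ centralizer ({x} : Set X) := by
        refine ⟨by simpa using (mem_normalizer_iff.1 (hPQ (inv_mem hv)) y).1 hy.1, mem_centralizer_singleton_iff.2 ?_⟩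
        have h2 := mem_centralizer_singleton_iff.1 hy.2
        calc v⁻¹ * y * v * x = v⁻¹ * (y * (v * x * v⁻¹)) * v := by group
          _ = v⁻¹ * (v * x * v⁻¹ * y) * v := by rw [h2]
          _ = x * (v⁻¹ * y * v) := by group
      have h3 := hno _ h1
      have h4 := (mem_normalizer_iff.1 (hBZ (hPB hv)) _).1 h3
      simpa [mul_assoc] using h4
  have hc1 : c ≠ 1 := fun h => hcZ (h ▸ one_mem Z)
  have hcs : orderOf c = s := orderOf_eq_prime (hexp hs c hc.1) hc1
  have hZx : Z ⊓ centralizer (R : Set X) = ⊥ := by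
    refine (eq_bot_iff_forall _).2 fun z hz => by_contra fun hz1 => hcZ ?_
    have e := UTool.zpowers_eq_of_cyclic hcyc (u := z) (v := c)
      ⟨hZQ.le hz.1, centralizer_zpowers_le x hz.2⟩ hc (orderOf_eq_prime (hexp hs z (hZQ.le hz.1)) hz1) hcs
    exact zpowers_le.2 hz.1 (e.ge (mem_zpowers c))
  set T := zpowers c with hT
  have hTQ : T ≤ Q := zpowers_le.2 hc.1
  have hTZ : T ≤ centralizer (Z : Set X) := le_centralizer_iff.1 (hZQc.trans (centralizer_le hTQ))
  set A := T ⊔ Z with hAdef
  have hAQ : A ≤ Q := sup_le hTQ hZQ.le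
  have hTc : T ≤ centralizer (T : Set X) := le_centralizer_iff_isMulCommutative.2 inferInstance
  have hAA : A ≤ centralizer (A : Set X) := by
    refine sup_le (le_centralizer_iff.1 (sup_le hTc ?_)) (le_centralizer_iff.1 (hAQ.trans (le_centralizer_iff.1 hZQc)))
    exact le_centralizer_iff.1 hTZ
  have hAel : Cfsg.IsElementaryAbelian s A :=
    ⟨le_centralizer_iff_isMulCommutative.1 hAA, fun a ha => hexp hs a (hAQ ha)⟩
  have hxT : x ∈ normalizer (T : Set X) := by
    refine Uniq.mem_normalizer_of_map_le ?_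
    rw [hT, MonoidHom.map_zpowers]
    show zpowers (x * c * x⁻¹) ≤ _
    rw [← mem_centralizer_singleton_iff.1 hc.2, mul_inv_cancel_right]
  have hxA : x ∈ normalizer (A : Set X) :=
    normalizer_inf_normalizer_le_normalizer_sup T Z ⟨hxT, hRB.trans hBZ (mem_zpowers x)⟩
  have hQA : Q ≤ normalizer (A : Set X) := by
    rw [le_normalizer_iff_commutator_le_left]
    exact (commutator_mono hAQ le_rfl).trans (hQQZ.le.trans le_sup_right)
  have C₂ : Cfg p s r V A x := ⟨hV, hAel, hAQ.trans hQV, hxV, hxA, hx, hfix, hsp⟩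
  have hcardA : Nat.card A = s * Nat.card Z := CfsgLib.Signalizer.card_sup_zpowers hAel le_sup_right
    (mem_sup_left (mem_zpowers c)) hcZ
  -- a hyperplane of `A` with moved fixed points meeting `Z` in `K`
  set W := moved V Z K
  have hWle : W ≤ V ⊓ centralizer (K : Set X) := C.moved_le K hK.1
  have hAW : A ≤ normalizer (W : Set X) := fun a ha =>
    moved_normalizes (hQV (hAQ ha)) (hQZn (hAQ ha)) (hQK (hAQ ha))
  obtain ⟨B, hB, hBZK, hB1⟩ : ∃ B, IsHyper s A B ∧ B ⊓ Z = K ∧ moved V A B ≠ ⊥ := by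
    obtain ⟨B, hBA, hBi, hBW⟩ : ∃ B, B ≤ A ∧ B.relIndex A ≤ s ∧ W ⊓ centralizer (B : Set X) ≠ ⊥ := by
      by_contra hno
      push Not at hno
      exact hK1 (le_bot_iff.1 (CfsgLib.Signalizer.le_of_forall_hyperplane hAel hAW
        (fun h => C.not_dvd (h.trans (card_dvd_of_le (hWle.trans inf_le_left)))) fun B hB hi => (hno B hB hi).le))
    have hBK : B ⊓ Z ≤ K := by
      intro z hz
      by_contra hzK
      apply hBW
      refine le_bot_iff.1 ((le_inf inf_le_left ?_).trans (C.moved_inf_centralizer hK.1).le)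
      have hZeq : Z = zpowers z ⊔ K := by
        refine (eq_of_le_of_card_ge (sup_le (zpowers_le.2 hz.2) hK.1) ?_).symm
        rw [CfsgLib.Signalizer.card_sup_zpowers hZel hK.1 hz.2 hzK, ← hK.2, ← relIndex_bot_left, ← relIndex_bot_left,
          mul_comm, relIndex_mul_relIndex _ _ _ bot_le hK.1]
      intro w hw
      refine le_centralizer_iff.1 ?_ (mem_zpowers w)
      rw [hZeq]
      refine sup_le (zpowers_le.2 ?_) ?_
      · exact mem_centralizer_iff.2 fun i hi => by
          obtain ⟨j, rfl⟩ := mem_zpowers_iff.1 hi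
          exact ((show Commute z w from mem_centralizer_iff.1 hw.2 z hz.1).zpow_right j).eq.symm
      · exact le_centralizer_iff.1 ((zpowers_le.2 (hWle hw.1).2))
    have hcardB : Nat.card B * B.relIndex A = Nat.card A := by
      rw [← relIndex_bot_left, ← relIndex_bot_left]
      exact relIndex_mul_relIndex _ _ _ bot_le hBA
    have hcardK : Nat.card K * s = Nat.card Z := by
      rw [← hK.2, ← relIndex_bot_left, ← relIndex_bot_left]
      exact relIndex_mul_relIndex _ _ _ bot_le hK.1
    have hcardBZ : Nat.card ↥(B ⊓ Z) * (B.relIndex Z) = Nat.card Z := by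
      rw [← inf_relIndex_right B Z, ← relIndex_bot_left, ← relIndex_bot_left]
      exact relIndex_mul_relIndex _ _ _ bot_le inf_le_right
    have hsub : B.relIndex Z ≤ B.relIndex A := relIndex_le_of_le_right le_sup_right
      (Nat.pos_of_dvd_of_pos (relIndex_dvd_card B A) Nat.card_pos).ne'
    have hBeq : B ⊓ Z = K := by
      refine eq_of_le_of_card_ge hBK (Nat.le_of_mul_le_mul_right ?_ (Fact.out : s.Prime).pos)
      rw [hcardK, ← hcardBZ]
      exact Nat.mul_le_mul_left _ (hsub.trans hBi)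
    have hBrel : B.relIndex A = s := by
      refine le_antisymm hBi ?_
      have h0 : B.relIndex Z = s := by
        rw [hBeq, ← hcardK] at hcardBZ
        exact Nat.eq_of_mul_eq_mul_left Nat.card_pos hcardBZ
      omega
    refine ⟨B, ⟨hBA, hBrel⟩, hBeq, fun h => hBW (le_bot_iff.1 ?_)⟩
    refine (le_inf inf_le_left ?_).trans (C.moved_inf_centralizer hK.1).le
    exact (le_inf (inf_le_left.trans (hWle.trans inf_le_left)) inf_le_right).trans
      ((C₂.centralizes_of_moved_eq_bot h).trans (centralizer_le (SetLike.coe_subset_coe.2 (le_sup_right : Z ≤ A))))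
  -- the conjugates fixed by `x`
  have hunique : ∀ q ∈ Q, x ∈ normalizer ((B.map (MulAut.conj q).toMonoidHom : Subgroup X) : Set X) →
      B.map (MulAut.conj q).toMonoidHom = T ⊔ K := by
    intro q hq hxB
    set B' := B.map (MulAut.conj q).toMonoidHom
    have hB' : IsHyper s A B' := hyper_map hB (hQA hq)
    have hB'Z : B' ⊓ Z = K := by
      have hZ' : Z.map (MulAut.conj q).toMonoidHom = Z := mem_normalizer_iff_map_conj_eq.1 (hQZn hq)
      have hK' : K.map (MulAut.conj q).toMonoidHom = K := mem_normalizer_iff_map_conj_eq.1 (hQK hq)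
      rw [← hZ', ← map_inf_eq _ _ _ (MulAut.conj q).injective, hBZK, hK']
    have hB'card : Nat.card B' = Nat.card Z := by
      have h : Nat.card B' * s = Nat.card A := by
        rw [← hB'.2, ← relIndex_bot_left, ← relIndex_bot_left]
        exact relIndex_mul_relIndex _ _ _ bot_le hB'.1
      rw [hcardA, mul_comm] at h
      exact Nat.eq_of_mul_eq_mul_left (Fact.out : s.Prime).pos h
    obtain ⟨e, he, heZ⟩ : ∃ e ∈ B', e ∉ Z := by
      by_contra hall
      push Not at hall
      have h1 : B' = K := hB'Z ▸ (inf_eq_left.2 hall).symm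
      have h2 : Nat.card K * s = Nat.card Z := by
        rw [← hK.2, ← relIndex_bot_left, ← relIndex_bot_left]
        exact relIndex_mul_relIndex _ _ _ bot_le hK.1
      rw [← h2, h1] at hB'card
      have := Nat.eq_of_mul_eq_mul_left Nat.card_pos (hB'card.symm.trans (mul_one _).symm)
      exact (Fact.out : s.Prime).one_lt.ne' this
    have hTn : T ≤ normalizer (Z : Set X) := hTZ.trans (centralizer_le_normalizer _)
    obtain ⟨t, ht, z, hz, rfl⟩ := (CfsgLib.Solvable.mem_sup_of_le_normalizer hTn).1 (hB'.1 he)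
    have hzK : z ∈ K := by
      have hfixz : ∀ a ∈ R, z⁻¹ * (a * z * a⁻¹) ∈ K := by
        intro a ha
        rw [← hB'Z]
        refine mem_inf.2 ⟨?_, mul_mem (inv_mem hz) ((mem_normalizer_iff.1 (hRB.trans hBZ ha) z).1 hz)⟩
        have h := mul_mem (inv_mem he) ((mem_normalizer_iff.1 (zpowers_le.2 hxB ha) _).1 he)
        have hat : a * t * a⁻¹ = t := by
          obtain ⟨j, rfl⟩ := mem_zpowers_iff.1 ha
          obtain ⟨i, rfl⟩ := mem_zpowers_iff.1 ht
          have : Commute x c := (mem_centralizer_singleton_iff.1 hc.2).symm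
          rw [((this.zpow_left j).zpow_right i).eq, mul_inv_cancel_right]
        have e : z⁻¹ * (a * z * a⁻¹) = (t * z)⁻¹ * (a * (t * z) * a⁻¹) := calc
          z⁻¹ * (a * z * a⁻¹) = (t * z)⁻¹ * ((a * t * a⁻¹) * (a * z * a⁻¹)) := by rw [hat]; group
          _ = (t * z)⁻¹ * (a * (t * z) * a⁻¹) := by group
        exact e ▸ h
      obtain ⟨d, hd, hzd⟩ := CfsgLib.CoprimeAct.exists_centralizing_mem_coset (hRB.trans hBZ)
        (hRQc.coprime_dvd_right (card_dvd_of_le hZQ.le)) hK.1 hRK
        (Or.inl (inferInstance : Group.IsSolvable R)) hz hfixz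
      rw [hZx, mem_bot] at hd
      rw [hd, mul_one] at hzd
      simpa using inv_mem hzd
    have htB : t ∈ B' := by
      have := mul_mem he (inv_mem ((hB'Z.ge hzK).1))
      rwa [mul_inv_cancel_right] at this
    have htZ : t ∉ Z := fun h => heZ (mul_mem h hz)
    have hTt : T = zpowers t := by
      refine (eq_of_le_of_card_ge (zpowers_le.2 ht) ?_).symm
      rw [hT, Nat.card_zpowers, Nat.card_zpowers, hcs,
        orderOf_eq_prime (hexp hs t (hTQ ht)) fun h => htZ (h ▸ one_mem Z)]
    symm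
    refine eq_of_le_of_card_ge (sup_le (hTt ▸ zpowers_le.2 htB) (hB'Z.ge.trans inf_le_left)) ?_
    rw [hB'card, hTt, CfsgLib.Signalizer.card_sup_zpowers hAel (hK.1.trans le_sup_right)
      (mem_sup_left ht) (fun h => htZ (hK.1 h)), ← hK.2, ← relIndex_bot_left, ← relIndex_bot_left, mul_comm,
      relIndex_mul_relIndex _ _ _ bot_le hK.1]
  have hQB : Q ≤ normalizer (B : Set X) := C₂.orbit_trivial hs hr hsr.symm hQ hQA hQV hxQ hB hB1
    fun u hu v hv hu' hv' => (hunique u hu hu').trans (hunique v hv hv').symm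
  -- the radical of the form modulo `K`
  let RK : Subgroup X :=
    { carrier := {g | g ∈ Q ∧ ∀ q ∈ Q, ⁅g, q⁆ ∈ K}
      one_mem' := ⟨one_mem Q, fun q _ => by rw [commutatorElement_one_left]; exact one_mem K⟩
      mul_mem' := fun {a b} ha hb => ⟨mul_mem ha.1 hb.1, fun q hq => by
        rw [commutatorElement_mul_left_eq_conj_mul]
        exact mul_mem ((mem_normalizer_iff.1 (hQK ha.1) _).1 (hb.2 q hq)) (ha.2 q hq)⟩
      inv_mem' := fun {a} ha => ⟨inv_mem ha.1, fun q hq => by
        have h := (mem_normalizer_iff.1 (hQK (inv_mem ha.1)) _).1 (inv_mem (ha.2 q hq))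
        rwa [show a⁻¹ * ⁅a, q⁆⁻¹ * a⁻¹⁻¹ = ⁅a⁻¹, q⁆ by simp [commutatorElement_def, mul_assoc]] at h⟩ }
  have hRKB : B₀ ≤ normalizer (RK : Set X) := fun g hg => Uniq.mem_normalizer_of_map_le (by
    rintro _ ⟨a, ha, rfl⟩
    refine ⟨(mem_normalizer_iff.1 (sup_le hPQ hRQ hg) a).1 ha.1, fun q hq => ?_⟩
    obtain ⟨q', hq', rfl⟩ : ∃ q' ∈ Q, g * q' * g⁻¹ = q :=
      ⟨g⁻¹ * q * g, by simpa using (mem_normalizer_iff.1 (inv_mem (sup_le hPQ hRQ hg)) q).1 hq, by group⟩
    show ⁅g * a * g⁻¹, g * q' * g⁻¹⁆ ∈ K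
    rw [← conjugate_commutatorElement]
    exact (mem_normalizer_iff.1 (sup_le hPK hRK hg) _).1 (ha.2 q' hq'))
  have hRKZ : Z ≤ RK := fun z hz => ⟨hZQ.le hz, fun q hq => by
    rw [commutatorElement_eq_one_iff_mul_comm.2 (mem_centralizer_iff.1 (hZQc hz) q hq).symm]
    exact one_mem K⟩
  obtain ⟨e, he, heZ⟩ : ∃ e ∈ B, e ∉ Z := by
    by_contra hall
    push Not at hall
    have h1 : B = K := hBZK ▸ (inf_eq_left.2 hall).symm
    have h2 : Nat.card K * s * s = Nat.card K * s := by
      have e1 : Nat.card B * s = Nat.card A := by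
        rw [← hB.2, ← relIndex_bot_left, ← relIndex_bot_left]
        exact relIndex_mul_relIndex _ _ _ bot_le hB.1
      have e2 : Nat.card K * s = Nat.card Z := by
        rw [← hK.2, ← relIndex_bot_left, ← relIndex_bot_left]
        exact relIndex_mul_relIndex _ _ _ bot_le hK.1
      rw [h1, hcardA, ← e2] at e1
      rw [mul_comm s, mul_comm] at e1
      linarith
    have := Nat.eq_of_mul_eq_mul_left (Nat.mul_pos Nat.card_pos (Fact.out : s.Prime).pos) (h2.trans (mul_one _).symm)
    exact (Fact.out : s.Prime).one_lt.ne' this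
  have heR : e ∈ RK := ⟨hAQ (hB.1 he), fun q hq => by
    rw [← hBZK]
    refine ⟨le_normalizer_iff_commutator_le_left.1 hQB (commutator_mem_commutator he hq), ?_⟩
    rw [← hQQZ]
    exact commutator_mem_commutator (hAQ (hB.1 he)) hq⟩
  rcases hirr RK ((map_mono hZΦ.le).trans hRKZ) (fun g hg => hg.1) hRKB with h | h
  · exact heZ (map_mono hZΦ.le (h.le heR))
  · have hle : Z ≤ K := by
      rw [← hQQZ, commutator_le]
      intro a ha b hb
      exact (h.ge ha).2 b hb
    have h := hK.2
    rw [relIndex_eq_one.2 hle] at h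
    exact (Fact.out : s.Prime).one_lt.ne h

end CfsgLib.OddLocal.FixedLine
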