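import Cfsg.Agent.OddLocal.FixedLineBasic
import Cfsg.Agent.Signalizer.Basic

/-!
Hyperplanes of an elementary abelian group acting on a module, and their orbits under an element of
prime order with at most one line of fixed points.
-/

set_option autoImplicit false
set_option linter.style.haveILetI false
set_option linter.unusedSectionVars false

namespace CfsgLib.OddLocal.FixedLine

open Subgroup Cfsg CfsgLib.OddLocal
open scoped commutatorElement Pointwise

universe u

variable {X : Type u} [Group X] [Finite X]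

/-- A point of a `p₀`-orbit on which an element of order `r` has at most one fixed point and one
regular orbit is fixed by the whole group. -/
theorem orbit_fixed {G α : Type*} [Group G] [Finite G] [Finite α] [MulAction G α] {p₀ r : ℕ}
    [Fact p₀.Prime] [Fact r.Prime] (hp₀ : p₀ ≠ 2) (hr : r ≠ 2) (hne : p₀ ≠ r) {U : Subgroup G}
    (hU : IsPGroup p₀ U) {x : G} (hx : orderOf x = r) (hxU : x ∈ normalizer (U : Set G)) (P : α → Prop)
    (hPU : ∀ u ∈ U, ∀ a, P a → P (u • a))
    (hone : ∀ a b, P a → P b → x • a ≠ a → x • b ≠ b → ∃ i : ℕ, x ^ i • a = b) {K : α} (hK : P K)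
    (hfix : ∀ u ∈ U, ∀ v ∈ U, x • u • K = u • K → x • v • K = v • K → u • K = v • K) :
    ∀ u ∈ U, u • K = K := by
  classical
  set O := MulAction.orbit U K with hO
  have hmem : ∀ b, b ∈ O ↔ ∃ u ∈ U, u • K = b := fun b =>
    ⟨fun ⟨⟨u, hu⟩, h⟩ => ⟨u, hu, h⟩, fun ⟨u, hu, h⟩ => ⟨⟨u, hu⟩, h⟩⟩
  obtain ⟨n, hn⟩ := hU.card_orbit K
  rw [← hO] at hn
  have hKO : K ∈ O := (hmem K).2 ⟨1, one_mem U, one_smul _ _⟩
  by_contra hcon
  push Not at hcon
  obtain ⟨u₀, hu₀, hne₀⟩ := hcon
  have hu₀O : u₀ • K ∈ O := (hmem _).2 ⟨u₀, hu₀, rfl⟩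
  have hn0 : n ≠ 0 := fun h => hne₀ (by
    rw [h, pow_zero] at hn
    exact congrArg Subtype.val ((Nat.card_eq_one_iff_unique.1 hn).1.elim (⟨u₀ • K, hu₀O⟩ : O) ⟨K, hKO⟩))
  have hPO : ∀ b ∈ O, P b := fun b hb => by
    obtain ⟨u, hu, rfl⟩ := (hmem b).1 hb
    exact hPU u hu K hK
  have hstab : ∀ g ∈ normalizer (U : Set G), ∀ a ∈ O, g • a ∈ O → ∀ b ∈ O, g • b ∈ O := by
    intro g hg a ha hga b hb
    obtain ⟨u, hu, rfl⟩ := (hmem a).1 ha
    obtain ⟨w, hw, hwa⟩ := (hmem _).1 hga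
    obtain ⟨v, hv, rfl⟩ := (hmem b).1 hb
    refine (hmem _).2 ⟨g * (v * u⁻¹) * g⁻¹ * w, mul_mem ((mem_normalizer_iff.1 hg _).1 (mul_mem hv (inv_mem hu))) hw, ?_⟩
    rw [mul_smul, hwa, ← mul_smul, ← mul_smul, ← mul_smul]
    congr 1
    group
  have hstable : ∀ b ∈ O, x • b ∈ O := by
    by_cases hex : ∃ a ∈ O, x • a = a
    · obtain ⟨a, ha, hxa⟩ := hex
      exact hstab x hxU a ha (hxa.symm ▸ ha)
    push Not at hex
    obtain ⟨i, hi⟩ := hone K (u₀ • K) hK (hPO _ hu₀O) (hex K hKO) (hex _ hu₀O)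
    have hxi := hstab (x ^ i) (pow_mem hxU i) K hKO (hi.symm ▸ hu₀O)
    have hri : ¬ r ∣ i := fun h => hne₀ (by
      rw [← hi, orderOf_dvd_iff_pow_eq_one.1 (hx ▸ h), one_smul])
    obtain ⟨m, hm⟩ := exists_pow_eq_self_of_coprime (x := x) (n := i)
      (by rw [hx]; exact ((Fact.out : r.Prime).coprime_iff_not_dvd.2 hri).symm)
    have key : ∀ m : ℕ, ∀ b ∈ O, (x ^ i) ^ m • b ∈ O := fun m => by
      induction m with
      | zero => simp
      | succ m ih => intro b hb; rw [pow_succ', mul_smul]; exact hxi _ (ih b hb)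
    intro b hb
    rw [← hm]
    exact key m b hb
  set S := {b | b ∈ O ∧ x • b ≠ b} with hS
  set F := {b | b ∈ O ∧ x • b = b} with hF
  have hFsub : F.Subsingleton := by
    rintro a ⟨ha, hxa⟩ b ⟨hb, hxb⟩
    obtain ⟨u, hu, rfl⟩ := (hmem a).1 ha
    obtain ⟨v, hv, rfl⟩ := (hmem b).1 hb
    exact hfix u hu v hv hxa hxb
  obtain ⟨a, haO, hxa⟩ : S.Nonempty := by
    by_contra hS0
    have hall : ∀ b ∈ O, b ∈ F := fun b hb => ⟨hb, by_contra fun h => hS0 ⟨b, hb, h⟩⟩
    exact hne₀ (hFsub (hall _ hu₀O) (hall _ hKO))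
  have hSorb : S = MulAction.orbit (zpowers x) a := by
    have hpow : ∀ i : ℕ, ∀ b ∈ S, x ^ i • b ∈ S := fun i => by
      induction i with
      | zero => simp
      | succ i ih =>
        intro b hb
        rw [pow_succ', mul_smul]
        refine ⟨hstable _ (ih b hb).1, fun h => (ih b hb).2 ?_⟩
        exact MulAction.injective x h
    refine Set.Subset.antisymm (fun b hb => ?_) ?_
    · obtain ⟨i, hi⟩ := hone a b (hPO a haO) (hPO b hb.1) hxa hb.2
      exact ⟨⟨x ^ i, pow_mem (mem_zpowers x) i⟩, hi⟩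
    · rintro _ ⟨⟨g, hg⟩, rfl⟩
      obtain ⟨i, rfl⟩ := (mem_zpowers_iff_mem_range_orderOf.1 hg |> Finset.mem_image.1).imp fun _ h => h.2.symm
      exact hpow i a ⟨haO, hxa⟩
  have hScard : Nat.card S = r := by
    rw [hSorb, Nat.card_coe_set_eq, ← MulAction.index_stabilizer]
    have hd := (MulAction.stabilizer (zpowers x) a).index_dvd_card
    rw [Nat.card_zpowers, hx] at hd
    refine ((Nat.dvd_prime (Fact.out : r.Prime)).1 hd).resolve_left fun h => hxa ?_
    have : (⟨x, mem_zpowers x⟩ : zpowers x) ∈ MulAction.stabilizer (zpowers x) a := by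
      rw [index_eq_one.1 h]; exact mem_top _
    exact this
  have hOcard : Nat.card O = Nat.card S + Nat.card F := by
    rw [Nat.card_coe_set_eq, Nat.card_coe_set_eq, Nat.card_coe_set_eq, ← Set.ncard_union_eq
      (Set.disjoint_left.2 fun b hb hb' => hb.2 hb'.2) (Set.toFinite _) (Set.toFinite _)]
    congr 1
    ext b
    exact ⟨fun hb => (em (x • b = b)).elim (fun h => Or.inr ⟨hb, h⟩) (fun h => Or.inl ⟨hb, h⟩),
      fun hb => hb.elim And.left And.left⟩
  have hFcard : Nat.card F ≤ 1 := by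
    haveI := hFsub.coe_sort
    exact Finite.card_le_one_iff_subsingleton.2 inferInstance
  rw [hn, hScard] at hOcard
  have hp : p₀.Prime := Fact.out
  rcases Nat.le_one_iff_eq_zero_or_eq_one.1 hFcard with h0 | h1
  · rw [h0, add_zero] at hOcard
    exact hne ((Nat.prime_dvd_prime_iff_eq hp Fact.out).1 (hOcard ▸ dvd_pow_self p₀ hn0))
  · rw [h1] at hOcard
    have hodd : Odd (p₀ ^ n) := (hp.odd_of_ne_two hp₀).pow
    rw [hOcard] at hodd
    exact (Nat.not_even_iff_odd.2 hodd) ((Fact.out : r.Prime).odd_of_ne_two hr).add_one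

theorem map_centralizer_conj (K : Subgroup X) (g : X) :
    (centralizer (K : Set X)).map (MulAut.conj g).toMonoidHom =
      centralizer ((K.map (MulAut.conj g).toMonoidHom : Subgroup X) : Set X) := by
  ext y
  refine ⟨?_, fun hy => ⟨g⁻¹ * y * g, mem_centralizer_iff.2 fun k hk => ?_, by simp [mul_assoc]⟩⟩
  · rintro ⟨z, hz, rfl⟩
    refine mem_centralizer_iff.2 ?_
    rintro _ ⟨k, hk, rfl⟩
    rw [← map_mul, ← map_mul, mem_centralizer_iff.1 hz k hk]
  · have h := mem_centralizer_iff.1 hy _ ⟨k, hk, rfl⟩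
    change g * k * g⁻¹ * y = y * (g * k * g⁻¹) at h
    calc k * (g⁻¹ * y * g) = g⁻¹ * (g * k * g⁻¹ * y) * g := by group
      _ = g⁻¹ * (y * (g * k * g⁻¹)) * g := by rw [h]
      _ = g⁻¹ * y * g * k := by group

/-- An elementary abelian `s`-group `A` and an element `x` of order `r` act on an elementary abelian
`p`-group `V`, and `x` has at most `p` fixed points. -/
structure Cfg (p s r : ℕ) (V A : Subgroup X) (x : X) : Prop where
  hV : Cfsg.IsElementaryAbelian p V
  hA : Cfsg.IsElementaryAbelian s A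
  hAV : A ≤ normalizer (V : Set X)
  hxV : x ∈ normalizer (V : Set X)
  hxA : x ∈ normalizer (A : Set X)
  hx : orderOf x = r
  hfix : Nat.card ↥(V ⊓ centralizer ({x} : Set X)) ≤ p
  hsp : s ≠ p

/-- A hyperplane. -/
def IsHyper (s : ℕ) (A K : Subgroup X) : Prop := K ≤ A ∧ K.relIndex A = s

/-- The part of the fixed points of `K` moved by `A`. -/
def moved (V A K : Subgroup X) : Subgroup X := ⁅V ⊓ centralizer (K : Set X), A⁆

theorem eq_of_hyper_le {s : ℕ} [Fact s.Prime] {A K L : Subgroup X} (hK : IsHyper s A K) (hL : IsHyper s A L)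
    (h : K ≤ L) : K = L := by
  refine eq_of_le_of_card_ge h ?_
  have e : ∀ M : Subgroup X, IsHyper s A M → Nat.card M * s = Nat.card A := fun M hM => by
    rw [← hM.2, ← relIndex_bot_left, ← relIndex_bot_left]
    exact relIndex_mul_relIndex _ _ _ bot_le hM.1
  have := (e K hK).trans (e L hL).symm
  exact (Nat.eq_of_mul_eq_mul_right (Fact.out : s.Prime).pos this).ge

theorem hyper_map {s : ℕ} {A K : Subgroup X} (hK : IsHyper s A K) {g : X} (hg : g ∈ normalizer (A : Set X)) :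
    IsHyper s A (K.map (MulAut.conj g).toMonoidHom) := by
  have hA : A.map (MulAut.conj g).toMonoidHom = A := mem_normalizer_iff_map_conj_eq.1 hg
  refine ⟨(map_mono hK.1).trans hA.le, ?_⟩
  conv_lhs => arg 2; rw [← hA]
  rw [relIndex_map_map_of_injective _ _ (MulAut.conj g).injective]
  exact hK.2

theorem moved_map {V A K : Subgroup X} {g : X} (hgV : g ∈ normalizer (V : Set X))
    (hgA : g ∈ normalizer (A : Set X)) :
    (moved V A K).map (MulAut.conj g).toMonoidHom = moved V A (K.map (MulAut.conj g).toMonoidHom) := by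
  have hV : V.map (MulAut.conj g).toMonoidHom = V := mem_normalizer_iff_map_conj_eq.1 hgV
  have hA : A.map (MulAut.conj g).toMonoidHom = A := mem_normalizer_iff_map_conj_eq.1 hgA
  rw [moved, moved, map_commutator, map_inf_eq _ _ _ (MulAut.conj g).injective, map_centralizer_conj, hV, hA]

theorem moved_normalizes {V A K : Subgroup X} {g : X} (hgV : g ∈ normalizer (V : Set X))
    (hgA : g ∈ normalizer (A : Set X)) (hgK : g ∈ normalizer (K : Set X)) :
    g ∈ normalizer (moved V A K : Set X) := by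
  refine mem_normalizer_iff_map_conj_eq.2 ?_
  show (moved V A K).map (MulAut.conj g).toMonoidHom = _
  rw [moved_map hgV hgA, show K.map (MulAut.conj g).toMonoidHom = K from mem_normalizer_iff_map_conj_eq.1 hgK]

namespace Cfg

variable {p s r : ℕ} [Fact p.Prime] [Fact s.Prime] [Fact r.Prime] {V A : Subgroup X} {x : X}
variable (C : Cfg p s r V A x)

include C

theorem coprime {B : Subgroup X} (hB : B ≤ A) {T : Subgroup X} (hT : T ≤ V) : (Nat.card B).Coprime (Nat.card T) :=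
  IsPGroup.coprime_card_of_ne s p C.hsp _ _ ((CfsgLib.Signalizer.isPGroup C.hA).to_le hB)
    ((CfsgLib.Signalizer.isPGroup C.hV).to_le hT)

theorem not_dvd : ¬ s ∣ Nat.card V := fun h => by
  obtain ⟨k, hk⟩ := IsPGroup.iff_card.1 (CfsgLib.Signalizer.isPGroup C.hV)
  exact C.hsp ((Nat.prime_dvd_prime_iff_eq Fact.out Fact.out).1 ((Fact.out : s.Prime).dvd_of_dvd_pow (hk ▸ h)))

theorem moved_le (K : Subgroup X) (hK : K ≤ A) : moved V A K ≤ V ⊓ centralizer (K : Set X) :=
  le_normalizer_iff_commutator_le_left.1 (CfsgLib.Signalizer.le_normalizer_inf_centralizer C.hA C.hAV hK)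

theorem moved_inf_centralizer {K : Subgroup X} (hK : K ≤ A) : moved V A K ⊓ centralizer (A : Set X) = ⊥ := by
  haveI : IsMulCommutative ↥(V ⊓ centralizer (K : Set X)) :=
    (CfsgLib.Signalizer.of_le C.hV inf_le_left).1
  refine le_bot_iff.1 ((le_inf ?_ inf_le_left).trans (CfsgLib.CoprimeAct.fixed_inf_commutator_abelian
    (CfsgLib.Signalizer.le_normalizer_inf_centralizer C.hA C.hAV hK) (C.coprime le_rfl inf_le_left)).le)
  exact inf_le_inf_right _ (C.moved_le K hK)

theorem centralizes_of_moved_eq_bot {K : Subgroup X} (h : moved V A K = ⊥) :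
    V ⊓ centralizer (K : Set X) ≤ centralizer (A : Set X) := commutator_eq_bot_iff_le_centralizer.1 h

theorem exists_moved (h : ¬ V ≤ centralizer (A : Set X)) : ∃ K, IsHyper s A K ∧ moved V A K ≠ ⊥ := by
  by_contra hno
  push Not at hno
  refine h (CfsgLib.Signalizer.le_of_forall_hyperplane C.hA C.hAV C.not_dvd fun B hB hi => ?_)
  obtain ⟨n, hn⟩ := IsPGroup.iff_card.1 (CfsgLib.Signalizer.isPGroup C.hA)
  obtain ⟨i, -, he⟩ := (Nat.dvd_prime_pow Fact.out).1 (hn ▸ relIndex_dvd_card B A : B.relIndex A ∣ s ^ n)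
  rcases Nat.lt_or_ge i 1 with hi0 | hi1
  · have h1 : B.relIndex A = 1 := by rw [he, Nat.lt_one_iff.1 hi0, pow_zero]
    exact inf_le_right.trans (centralizer_le (relIndex_eq_one.1 h1))
  · have h1 : i = 1 := le_antisymm
      ((Nat.pow_le_pow_iff_right (Fact.out : s.Prime).one_lt).1 (by rwa [pow_one, ← he])) hi1
    exact C.centralizes_of_moved_eq_bot (hno B ⟨hB, by rw [he, h1, pow_one]⟩)

theorem moved_le_commutator {K L : Subgroup X} (hK : IsHyper s A K) (hL : IsHyper s A L) (hne : L ≠ K) :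
    moved V A L ≤ ⁅V, K⁆ := by
  have hsup : L ⊔ K = A := by
    by_contra hlt
    have hle : L ⊔ K ≤ A := sup_le hL.1 hK.1
    have hmul := relIndex_mul_relIndex K (L ⊔ K) A le_sup_right hle
    rw [hK.2] at hmul
    rcases (Nat.dvd_prime (Fact.out : s.Prime)).1 (Dvd.intro _ hmul) with h1 | h1
    · exact hne (eq_of_hyper_le hL hK (le_sup_left.trans (relIndex_eq_one.1 h1)))
    · have h2 : (L ⊔ K).relIndex A = 1 := by
        rw [h1] at hmul
        exact Nat.eq_of_mul_eq_mul_left (Fact.out : s.Prime).pos (hmul.trans (mul_one s).symm)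
      exact hlt (le_antisymm hle (relIndex_eq_one.1 h2))
  have hn : L ≤ normalizer (K : Set X) := (hL.1.trans (CfsgLib.Signalizer.le_centralizer_of_le C.hA hK.1)).trans
    (centralizer_le_normalizer _)
  rw [moved, commutator_le]
  intro c hc a ha
  rw [← hsup] at ha
  obtain ⟨l, hl, k, hk, rfl⟩ := (CfsgLib.Solvable.mem_sup_of_le_normalizer hn).1 ha
  have hcl : c * l = l * c := (mem_centralizer_iff.1 hc.2 l hl).symm
  have hlk : l * k = k * l := CfsgLib.Signalizer.commute C.hA (hL.1 hl) (hK.1 hk)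
  have e : ⁅c, l * k⁆ = ⁅c, k⁆ := by
    rw [hlk]
    simp only [commutatorElement_def, mul_inv_rev]
    calc c * (k * l) * c⁻¹ * (l⁻¹ * k⁻¹) = c * k * (l * c⁻¹ * l⁻¹) * k⁻¹ := by group
      _ = c * k * c⁻¹ * k⁻¹ := by
        rw [show l * c⁻¹ * l⁻¹ = c⁻¹ from by
          have : Commute l c⁻¹ := (Commute.inv_right (show Commute l c from hcl.symm))
          rw [this.eq, mul_inv_cancel_right]]
  rw [e]
  exact commutator_mem_commutator hc.1 hk

theorem commutator_inf_fixed {K : Subgroup X} (hK : K ≤ A) :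
    ⁅V, K⁆ ⊓ (V ⊓ centralizer (K : Set X)) = ⊥ := by
  haveI := C.hV.1
  rw [inf_comm]
  exact CfsgLib.CoprimeAct.fixed_inf_commutator_abelian (hK.trans C.hAV) (C.coprime hK le_rfl)

omit C in
theorem conj_pow_fixed {K : Subgroup X} (hx : orderOf x = r) (hK : K.map (MulAut.conj x).toMonoidHom ≠ K)
    {i : ℕ} (hi0 : 0 < i) (hir : i < r) : K.map (MulAut.conj (x ^ i)).toMonoidHom ≠ K := by
  intro h
  have h1 : x ^ i ∈ normalizer (K : Set X) := mem_normalizer_iff_map_conj_eq.2 h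
  obtain ⟨m, hm⟩ := exists_pow_eq_self_of_coprime (x := x) (n := i) (by
    rw [hx]
    exact ((Fact.out : r.Prime).coprime_iff_not_dvd.2 fun hd => absurd (Nat.le_of_dvd hi0 hd) (not_le.2 hir)).symm)
  have h2 := pow_mem h1 m
  rw [hm] at h2
  exact hK (mem_normalizer_iff_map_conj_eq.1 h2)

/-- The product over the powers of `x`. -/
theorem norm_spec {v : X} (hv : v ∈ V) :
    (v * x) ^ r ∈ V ⊓ centralizer ({x} : Set X) ∧
      ∀ M : Subgroup X, (∀ i : ℕ, 0 < i → i < r → x ^ i * v * (x ^ i)⁻¹ ∈ M) → v⁻¹ * (v * x) ^ r ∈ M := by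
  let P : ℕ → X := fun n => (v * x) ^ n * (x ^ n)⁻¹
  have hP : ∀ n, P (n + 1) = v * (x * P n * x⁻¹) := fun n => by
    simp only [P, pow_succ', mul_inv_rev]
    rw [show (x ^ n)⁻¹ * x⁻¹ = x⁻¹ * (x ^ n)⁻¹ by rw [← mul_inv_rev, ← mul_inv_rev, ← pow_succ, ← pow_succ']]
    simp only [mul_assoc]
    congr 2
    rw [← mul_inv_rev, ← mul_inv_rev, ← pow_succ, ← pow_succ']
  have hPV : ∀ n, P n ∈ V := fun n => by
    induction n with
    | zero => simp [P]
    | succ n ih => rw [hP]; exact mul_mem hv ((mem_normalizer_iff.1 C.hxV _).1 ih)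
  have hPr : P r = (v * x) ^ r := by
    show (v * x) ^ r * (x ^ r)⁻¹ = _
    rw [show x ^ r = 1 by rw [← C.hx, pow_orderOf_eq_one], inv_one, mul_one]
  refine ⟨⟨hPr ▸ hPV r, mem_centralizer_singleton_iff.2 ?_⟩, fun M hM => ?_⟩
  · have h1 : Commute ((v * x) ^ r) (v * x) := (Commute.refl (v * x)).pow_left r
    have h2 : Commute ((v * x) ^ r) v := CfsgLib.Signalizer.commute C.hV (hPr ▸ hPV r) hv
    have h3 := h2.inv_right.mul_right h1
    rwa [inv_mul_cancel_left] at h3
  · have key : ∀ n j, 0 < j → j + n ≤ r → x ^ j * P n * (x ^ j)⁻¹ ∈ M := fun n => by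
      induction n with
      | zero => intro j _ _; simp [P]
      | succ n ih =>
        intro j hj hjn
        have h := mul_mem (hM j hj (by omega)) (ih (j + 1) (Nat.succ_pos j) (by omega))
        have e : x ^ j * P (n + 1) * (x ^ j)⁻¹ =
            x ^ j * v * (x ^ j)⁻¹ * (x ^ (j + 1) * P n * (x ^ (j + 1))⁻¹) := by
          rw [hP, pow_succ]
          group
        rwa [e]
    obtain ⟨r', hr'⟩ : ∃ r', r = r' + 1 := ⟨r - 1, (Nat.succ_pred_eq_of_pos (Fact.out : r.Prime).pos).symm⟩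
    have h := key r' 1 Nat.one_pos (by omega)
    rw [← hPr, hr', hP, inv_mul_cancel_left]
    simpa using h

theorem norm_mem_commutator {K L : Subgroup X} (hK : IsHyper s A K) (hL : IsHyper s A L)
    (hne : ∀ i : ℕ, 0 < i → i < r → L.map (MulAut.conj (x ^ i)).toMonoidHom ≠ K) {v : X}
    (hv : v ∈ moved V A L) : v⁻¹ * (v * x) ^ r ∈ ⁅V, K⁆ := by
  refine (C.norm_spec (C.moved_le L hL.1 hv).1).2 _ fun i hi0 hir => ?_
  have hxA := pow_mem C.hxA i
  have hxV := pow_mem C.hxV i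
  exact C.moved_le_commutator hK (hyper_map hL hxA) (hne i hi0 hir)
    (moved_map hxV hxA ▸ mem_map_of_mem (MulAut.conj (x ^ i)).toMonoidHom hv)

theorem norm_inj {K : Subgroup X} (hK : IsHyper s A K) (hKx : K.map (MulAut.conj x).toMonoidHom ≠ K)
    {v w : X} (hv : v ∈ moved V A K) (hw : w ∈ moved V A K) (h : (v * x) ^ r = (w * x) ^ r) : v = w := by
  have hne : ∀ i : ℕ, 0 < i → i < r → K.map (MulAut.conj (x ^ i)).toMonoidHom ≠ K :=
    fun i => conj_pow_fixed C.hx hKx
  have h1 := mul_mem (C.norm_mem_commutator hK hK hne hv) (inv_mem (C.norm_mem_commutator hK hK hne hw))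
  rw [h, show v⁻¹ * (w * x) ^ r * (w⁻¹ * (w * x) ^ r)⁻¹ = v⁻¹ * w by group] at h1
  have h2 : v⁻¹ * w ∈ V ⊓ centralizer (K : Set X) :=
    mul_mem (inv_mem (C.moved_le K hK.1 hv)) (C.moved_le K hK.1 hw)
  exact inv_mul_eq_one.1 ((eq_bot_iff_forall _).1 (C.commutator_inf_fixed hK.1) _ ⟨h1, h2⟩)

theorem card_moved {K : Subgroup X} (hK : IsHyper s A K) (hKx : K.map (MulAut.conj x).toMonoidHom ≠ K)
    (h1 : moved V A K ≠ ⊥) :
    Nat.card (moved V A K) = p ∧
      ∀ t ∈ V ⊓ centralizer ({x} : Set X), ∃ v ∈ moved V A K, (v * x) ^ r = t := by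
  let φ : moved V A K → ↥(V ⊓ centralizer ({x} : Set X)) := fun v =>
    ⟨((v : X) * x) ^ r, (C.norm_spec (C.moved_le K hK.1 v.2).1).1⟩
  have hφ : Function.Injective φ := fun v w h =>
    Subtype.ext (C.norm_inj hK hKx v.2 w.2 (congrArg Subtype.val h))
  obtain ⟨n, hn⟩ := IsPGroup.iff_card.1 ((CfsgLib.Signalizer.isPGroup C.hV).to_le
    ((C.moved_le K hK.1).trans inf_le_left))
  have hle := (Nat.card_le_card_of_injective φ hφ).trans C.hfix
  have hn1 : n = 1 := by
    have h2 : n ≠ 0 := fun h => h1 (eq_bot_of_card_eq _ (by rw [hn, h, pow_zero]))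
    have h3 : n ≤ 1 := (Nat.pow_le_pow_iff_right (Fact.out : p.Prime).one_lt).1 (by rw [pow_one, ← hn]; exact hle)
    omega
  rw [hn1, pow_one] at hn
  refine ⟨hn, fun t ht => ?_⟩
  obtain ⟨v, hv⟩ := (hφ.bijective_of_nat_card_le (hn ▸ C.hfix)).2 ⟨t, ht⟩
  exact ⟨v, v.2, congrArg Subtype.val hv⟩

/-- All moved hyperplanes with moved fixed points form one orbit. -/
theorem one_orbit {K L : Subgroup X} (hK : IsHyper s A K) (hL : IsHyper s A L) (hK1 : moved V A K ≠ ⊥)
    (hL1 : moved V A L ≠ ⊥) (hKx : K.map (MulAut.conj x).toMonoidHom ≠ K)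
    (hLx : L.map (MulAut.conj x).toMonoidHom ≠ L) :
    ∃ i : ℕ, K.map (MulAut.conj (x ^ i)).toMonoidHom = L := by
  by_contra hno
  push Not at hno
  have hne : ∀ i : ℕ, i < r → L.map (MulAut.conj (x ^ i)).toMonoidHom ≠ K := fun i hi h => by
    refine hno (r - i) ?_
    rw [← h, TH.map_conj_map_conj, ← pow_add, Nat.sub_add_cancel hi.le,
      show x ^ r = 1 by rw [← C.hx, pow_orderOf_eq_one]]
    exact (congrArg (fun f => L.map f) (show (MulAut.conj (1 : X)).toMonoidHom = MonoidHom.id X from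
      MonoidHom.ext fun y => by simp)).trans (map_id L)
  obtain ⟨v, hv, hv1⟩ := (bot_or_exists_ne_one (moved V A K)).resolve_left hK1
  obtain ⟨w, hw, hwt⟩ := (C.card_moved hL hLx hL1).2 _ (C.norm_spec (C.moved_le K hK.1 hv).1).1
  have hLK : L ≠ K := fun h => hno 0 (by
    rw [h, pow_zero]
    exact (congrArg (fun f => K.map f) (show (MulAut.conj (1 : X)).toMonoidHom = MonoidHom.id X from
      MonoidHom.ext fun y => by simp)).trans (map_id K))
  have h1 : (w * x) ^ r ∈ ⁅V, K⁆ := by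
    have h := mul_mem (C.moved_le_commutator hK hL hLK hw)
      (C.norm_mem_commutator hK hL (fun i _ hi => hne i hi) hw)
    rwa [mul_inv_cancel_left] at h
  have h2 := mul_mem h1 (inv_mem (C.norm_mem_commutator hK hK (fun i => conj_pow_fixed C.hx hKx) hv))
  rw [hwt, mul_inv_rev, inv_inv, mul_inv_cancel_left] at h2
  exact hv1 ((eq_bot_iff_forall _).1 (C.commutator_inf_fixed hK.1) _ ⟨h2, C.moved_le K hK.1 hv⟩)

/-- A group normalized by `x` normalizes a hyperplane with moved fixed points, if at most one of the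
conjugates is fixed by `x`. -/
theorem orbit_trivial {p₀ : ℕ} [Fact p₀.Prime] (hp₀ : p₀ ≠ 2) (hr : r ≠ 2) (hne : p₀ ≠ r) {U : Subgroup X}
    (hU : IsPGroup p₀ U) (hUA : U ≤ normalizer (A : Set X)) (hUV : U ≤ normalizer (V : Set X))
    (hxU : x ∈ normalizer (U : Set X)) {K : Subgroup X} (hK : IsHyper s A K) (hK1 : moved V A K ≠ ⊥)
    (hfix : ∀ u ∈ U, ∀ v ∈ U,
      x ∈ normalizer ((K.map (MulAut.conj u).toMonoidHom : Subgroup X) : Set X) →
      x ∈ normalizer ((K.map (MulAut.conj v).toMonoidHom : Subgroup X) : Set X) →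
      K.map (MulAut.conj u).toMonoidHom = K.map (MulAut.conj v).toMonoidHom) :
    U ≤ normalizer (K : Set X) := by
  letI : MulAction X (Subgroup X) := MulAction.compHom (Subgroup X) (MulAut.conj : X →* MulAut X)
  have hsm : ∀ (g : X) (L : Subgroup X), g • L = L.map (MulAut.conj g).toMonoidHom := fun g L => rfl
  have h := orbit_fixed hp₀ hr hne hU C.hx hxU (fun L => IsHyper s A L ∧ moved V A L ≠ ⊥) ?_ ?_ ⟨hK, hK1⟩ ?_
  · intro u hu
    exact mem_normalizer_iff_map_conj_eq.2 ((hsm u K).symm.trans (h u hu))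
  · rintro u hu L ⟨hL, hL1⟩
    refine ⟨hyper_map hL (hUA hu), fun h0 => hL1 ?_⟩
    rw [hsm, ← moved_map (hUV hu) (hUA hu)] at h0
    exact (map_eq_bot_iff_of_injective _ (MulAut.conj u).injective).1 h0
  · rintro L M ⟨hL, hL1⟩ ⟨hM, hM1⟩ hLx hMx
    exact C.one_orbit hL hM hL1 hM1 hLx hMx
  · intro u hu v hv h1 h2
    exact hfix u hu v hv (mem_normalizer_iff_map_conj_eq.2 h1) (mem_normalizer_iff_map_conj_eq.2 h2)

end Cfg

end CfsgLib.OddLocal.FixedLine
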