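import Cfsg.Agent.OddLocal.SigmaCommon

/-!
The fixed points in `M_σ` of an element of order `p`, `p ∈ τ₁(M)`, are centralized by its centralizer in a
complement.
-/

set_option autoImplicit false
set_option linter.style.haveILetI false
set_option linter.unusedSectionVars false

namespace CfsgLib.OddLocal.Tau

open Subgroup Cfsg CfsgLib.OddLocal
open scoped commutatorElement Pointwise

universe u

variable {G : Type u} [Group G] [Finite G] {p q r : ℕ} [hp : Fact p.Prime] [hq : Fact q.Prime] [hr : Fact r.Prime]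
variable (hG : Cfsg.IsMinSimpleOddOrder G)
include hG

/-- A maximal subgroup over the normalizer of a `σ(M)`-subgroup treats `τ₁(M)`-primes like `M`. -/
theorem over_normalizer {M L X : Subgroup G} (hM : IsCoatom M) (hqσ : q ∈ Cfsg.sigma M) (hL : IsCoatom L)
    (hne : L ≠ M) (hX : IsPGroup q X) (hX1 : X ≠ ⊥) (hXM : X ≤ M) (hNL : normalizer (X : Set G) ≤ L)
    (hpσ : p ∉ Cfsg.sigma M) (hpd : ¬ p ∣ Nat.card ↥⁅M, M⁆) {a : G} (hao : orderOf a = p) (haM : a ∈ M)
    (haL : a ∈ L) :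
    p ∉ Cfsg.sigma L ∧ ¬ p ∣ Nat.card ↥⁅L, L⁆ ∧
      ∀ B : Subgroup G, IsPGroup p B → B ≤ L → ∃ c : G, B.map (MulAut.conj c).toMonoidHom ≤ M := by
  obtain ⟨N, hNσ, hNL', hNn, hLe, hcase, -⟩ := exists_product_over hG hM hqσ hL hne hX hX1 hXM hNL
  have hpM : p ∣ Nat.card M := by rw [← hao, ← orderOf_mk a haM]; exact orderOf_dvd_natCard _
  have haP : IsPGroup p (zpowers a) := IsPGroup.of_card (n := 1) (by rw [Nat.card_zpowers, hao, pow_one])
  have hpL : p ∉ Cfsg.sigma L := fun h => by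
    rcases hcase with hqL | hbot
    · refine not_dvd_derived_of_common hG hM hL hqσ hqL hpM hpσ hpd ?_
      have h1 := Sig.le_derived hG hL h haP (zpowers_le.2 haL) (mem_zpowers a)
      rw [← hao, ← orderOf_mk a h1]
      exact orderOf_dvd_natCard _
    · have h1 : a ∈ Cfsg.sigmaCore L ⊓ M :=
        ⟨Excep.le_sigmaCore hG hL (zpowers_le.2 haL) (Excep.primes_of_pgroup haP h) (mem_zpowers a), haM⟩
      rw [hbot, mem_bot] at h1
      exact hp.out.ne_one (by rw [← hao, h1, orderOf_one])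
  have hpN : ¬ p ∣ Nat.card N := fun h => hpL ((Sig.sigma_core hG hL).1.2.1 p hp.out (h.trans (card_dvd_of_le hNσ)))
  refine ⟨hpL, not_dvd_derived hp.out hNL' inf_le_right hNn hLe hpN
    (fun h => hpd (h.trans (card_dvd_of_le (commutator_mono inf_le_left inf_le_left)))), fun B hB hBL => ?_⟩
  obtain ⟨c, -, hc⟩ := conj_into_of_product (π := {p}) (hG.2.2.2 L hL.1) (inf_le_right : M ⊓ L ≤ L) hNL' hNn hLe
    (fun s hs hsp => by rw [Set.mem_singleton_iff.1 hsp]; exact hpN) hBL (Excep.primes_of_pgroup hB rfl)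
  exact ⟨c, hc.trans inf_le_left⟩

/-- An element moving a `q`-group in a complement of `H_σ` has rank one. -/
theorem rank_one_of_moving {H Q : Subgroup G} (hH : IsCoatom H) (hqH : q ∉ Cfsg.sigma H) (hrH : r ∉ Cfsg.sigma H)
    (hrq : r ≠ q) (hQ : IsPGroup q Q) (hQH : Q ≤ H) (hQ1 : Q ≠ ⊥) {h : G} (hho : orderOf h = r) (hhH : h ∈ H)
    (hhQ : h ∈ normalizer (Q : Set G)) (hQe : ⁅Q, zpowers h⁆ = Q) : Cfsg.PRankLE r 1 H := by
  by_contra h1
  have h2 : Cfsg.PRankLE r 2 H := by_contra fun h => hrH (Sig.alpha_subset_sigma hG hH ⟨hr.out, h⟩)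
  obtain ⟨B, hBH, hB, hB2⟩ : ∃ B : Subgroup G, B ≤ H ∧ Cfsg.IsElementaryAbelian r B ∧ Nat.card B = r ^ 2 :=
    Uniq.exists_elementary h1
  have hR : IsPGroup r (zpowers h) := IsPGroup.of_card (n := 1) (by rw [Nat.card_zpowers, hho, pow_one])
  have hπ : ∀ s : ℕ, s.Prime → s ∣ Nat.card ↥(zpowers h ⊔ Q) → s ∉ Cfsg.sigma H := fun s hs hd => by
    have h3 : s ∣ Nat.card (zpowers h) * Nat.card Q :=
      CfsgLib.Solvable.card_sup_mul_card_inf (zpowers_le.2 hhQ) ▸ hd.trans (dvd_mul_right _ _)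
    rcases hs.dvd_mul.1 h3 with h' | h'
    · rw [Excep.primes_of_pgroup (π := {r}) hR rfl s hs h']; exact hrH
    · rw [Excep.primes_of_pgroup (π := {q}) hQ rfl s hs h']; exact hqH
  obtain ⟨E, hE, hQRE⟩ := exists_complement_of hG hH (sup_le (zpowers_le.2 hhH) hQH) hπ
  obtain ⟨g, -, hg⟩ := conj_into_of_product (π := {r}) (hG.2.2.2 H hH.1) hE.1 (map_subtype_le _)
    (TH.le_normalizer_core H) (fun m hm => by
      obtain ⟨x, hx, y, hy, rfl⟩ := hE.2.2.2 m hm
      exact mul_mem (mem_sup_right hx) (mem_sup_left hy))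
    (fun s hs hsr h => hrH (Set.mem_singleton_iff.1 hsr ▸ (Sig.sigma_core hG hH).1.2.1 s hs h))
    hBH (Excep.primes_of_pgroup (IsPGroup.of_card hB2) rfl)
  set A := B.map (MulAut.conj g).toMonoidHom with hAdef
  have hA : Cfsg.IsElementaryAbelian r A := elementary_map hB _
  have hA2 : Nat.card A = r ^ 2 := by
    rw [hAdef, card_map_of_injective (f := (MulAut.conj g).toMonoidHom) (MulAut.conj g).injective, hB2]
  have hAH : A ≤ H := hg.trans hE.1
  have hEA := complement_normalizes hG hA hA2 hH hAH hrH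
    ((Cfsg.Agent.S1408.result hG H hH r hrH h2 h1).2 A hAH hA hA2) hE hg
  have hhE : h ∈ E := hQRE (mem_sup_left (mem_zpowers h))
  have hS : IsPGroup r (zpowers h ⊔ A : Subgroup G) :=
    IsPGroup.to_sup_of_normal_right' hR (CfsgLib.Signalizer.isPGroup hA) (zpowers_le.2 (hEA hhE))
  have hSH : zpowers h ⊔ A ≤ H := sup_le (zpowers_le.2 hhH) hAH
  haveI := commutative_of_not_sigma hG hH hrH hS hSH
  have hhA : h ∈ A := mem_of_commute_rank (Uniq.rankLE_mono hSH h2) le_sup_right hA hA2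
    (mem_sup_left (mem_zpowers h)) (by rw [← hho, pow_orderOf_eq_one]) fun e he =>
      congrArg Subtype.val (mul_comm' (⟨e, mem_sup_right he⟩ : ↥(zpowers h ⊔ A)) ⟨h, mem_sup_left (mem_zpowers h)⟩)
  have hQA : Q ≤ A := hQe.ge.trans ((commutator_mono le_rfl (zpowers_le.2 hhA)).trans
    (le_normalizer_iff_commutator_le_right.1 ((le_sup_right.trans hQRE).trans hEA)))
  exact hQ1 (le_bot_iff.1 ((le_inf le_rfl hQA).trans (disjoint_iff.1 (disjoint_of_coprime_natCard
    (IsPGroup.coprime_card_of_ne q r (Ne.symm hrq) _ _ hQ (CfsgLib.Signalizer.isPGroup hA)))).le))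

/-- No `q`-subgroup of `C_{M_σ}(a)` is moved by an element of order `r` of the centralizer of `a` in a complement. -/
theorem not_moved {M Q : Subgroup G} (hM : IsCoatom M) (hpσ : p ∉ Cfsg.sigma M) (hpd : ¬ p ∣ Nat.card ↥⁅M, M⁆)
    (hr1 : Cfsg.PRankLE p 1 M) (hqσ : q ∈ Cfsg.sigma M) (hrσ : r ∉ Cfsg.sigma M) (hrp : r ≠ p)
    {a h : G} (hao : orderOf a = p) (haM : a ∈ M) (hho : orderOf h = r) (hhM : h ∈ M) (hah : Commute h a)
    (hQ : IsPGroup q Q) (hQK : Q ≤ Cfsg.sigmaCore M) (hQa : Q ≤ centralizer ({a} : Set G))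
    (hhQ : h ∈ normalizer (Q : Set G)) : ⁅Q, zpowers h⁆ = ⊥ := by
  classical
  by_contra hQ'1
  have hQM : Q ≤ M := hQK.trans (map_subtype_le _)
  have hqp : q ≠ p := fun e => hpσ (e ▸ hqσ)
  have hrq : r ≠ q := fun e => hrσ (e ▸ hqσ)
  have hp2 : p ≠ 2 := CfsgLib.CN.MinSimple.p_ne_two hG
    (show p ∣ Nat.card G by rw [← hao]; exact orderOf_dvd_natCard a)
  have hR : IsPGroup r (zpowers h) := IsPGroup.of_card (n := 1) (by rw [Nat.card_zpowers, hho, pow_one])
  have hPc : Nat.card (zpowers a) = p := by rw [Nat.card_zpowers, hao]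
  have hP : IsPGroup p (zpowers a) := IsPGroup.of_card (n := 1) (by rw [hPc, pow_one])
  have hhn : zpowers h ≤ normalizer (Q : Set G) := zpowers_le.2 hhQ
  set Q' := ⁅Q, zpowers h⁆ with hQ'def
  have hQ'Q : Q' ≤ Q := le_normalizer_iff_commutator_le_left.1 hhn
  have hQ'e : ⁅Q', zpowers h⁆ = Q' := CfsgLib.CoprimeAct.commutator_commutator hhn
    (IsPGroup.coprime_card_of_ne r q hrq _ Q hR hQ) (Or.inl (hG.2.2.2 _ (ne_top_of_le_ne_top hM.1 (zpowers_le.2 hhM))))
  have hQ'p : IsPGroup q Q' := hQ.to_le hQ'Q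
  have hQ'M : Q' ≤ M := hQ'Q.trans hQM
  have hhQ' : h ∈ normalizer (Q' : Set G) := normalizer_commutator_ge_right Q (zpowers h) (mem_zpowers h)
  have haQ' : a ∈ centralizer (Q' : Set G) := mem_centralizer_iff.2 fun x hx =>
    mem_centralizer_singleton_iff.1 (hQa (hQ'Q hx))
  have hrank : ∀ B : Subgroup G, Cfsg.IsElementaryAbelian p B → Nat.card B = p ^ 2 → ∀ c : G,
      ¬ B.map (MulAut.conj c).toMonoidHom ≤ M := fun B hB hB2 c hc => by
    have h1 := Uniq.rankLE_elementary hr1 hc (elementary_map hB _)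
    rw [card_map_of_injective (f := (MulAut.conj c).toMonoidHom) (MulAut.conj c).injective, hB2] at h1
    exact absurd h1 (not_le.2 (Nat.pow_lt_pow_right hp.out.one_lt one_lt_two))
  -- a maximal subgroup over the normalizer of `⟨a⟩`
  obtain ⟨H, hH, hNH⟩ := (eq_top_or_exists_le_coatom (normalizer (zpowers a : Set G))).resolve_left
    (Excep.normalizer_line_ne_top hG hPc)
  have hCH : centralizer ({a} : Set G) ≤ H :=
    (FixedLine.le_centralizer_zpowers le_rfl).trans ((centralizer_le_normalizer _).trans hNH)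
  have haH : a ∈ H := hCH (mem_centralizer_singleton_iff.2 rfl)
  have hpH : p ∣ Nat.card H := hPc ▸ card_dvd_of_le (zpowers_le.2 haH)
  have hHM : H ≠ M := by
    rintro rfl
    obtain ⟨T, hT⟩ := (hP.comap_subtype (K := H)).exists_le_sylow
    set T' := (T : Subgroup H).map H.subtype
    have haT : a ∈ T' := ⟨⟨a, haH⟩, hT (mem_zpowers a : a ∈ zpowers a), rfl⟩
    have hTc : IsCyclic T' := by
      by_contra hc
      obtain ⟨B, hBT, hB, hB2⟩ := Uniq.exists_sq hp2 (T.2.map _) hc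
      have h1 := Uniq.rankLE_elementary hr1 (hBT.trans (map_subtype_le _)) hB
      rw [hB2] at h1
      exact absurd h1 (not_le.2 (Nat.pow_lt_pow_right hp.out.one_lt one_lt_two))
    exact hpσ ⟨hp.out, hpH, T, (UTool.normalizer_le_normalizer_zpowers hTc haT).trans hNH⟩
  have hhH : h ∈ H := hCH (mem_centralizer_singleton_iff.2 hah.eq)
  have hQH : Q ≤ H := hQa.trans hCH
  have hQ'H : Q' ≤ H := hQ'Q.trans hQH
  have hrH : r ∉ Cfsg.sigma H := fun hσ =>
    hQ'1 (centralizes_cross hG hM hH hHM hqσ hσ (Ne.symm hrq) hQ hQM hQH hR (zpowers_le.2 hhH) hhn)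
  -- a maximal subgroup over the normalizer of `[Q, h]`
  obtain ⟨L, hL, hNL⟩ := (eq_top_or_exists_le_coatom (normalizer (Q' : Set G))).resolve_left
    (CfsgLib.CN.MinSimple.normalizer_ne_top hG hQ'p.isNilpotent hQ'1)
  have haL : a ∈ L := hNL (centralizer_le_normalizer _ haQ')
  by_cases hpH' : p ∈ Cfsg.sigma H
  swap
  · -- `H` has rank two at `p`
    obtain ⟨⟨hr2, hnr1⟩, -⟩ := Cfsg.Agent.S1409.result hG H hH p hpH' _ hPc hNH
    obtain ⟨B₀, hB₀H, hB₀, hB₀2⟩ : ∃ B : Subgroup G, B ≤ H ∧ Cfsg.IsElementaryAbelian p B ∧ Nat.card B = p ^ 2 :=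
      Uniq.exists_elementary hnr1
    have hqH : q ∉ Cfsg.sigma H := fun hσ => by
      obtain ⟨g, hg⟩ := conj_into_of_common hG hH hqσ hσ hpH' (IsPGroup.of_card hB₀2 : IsPGroup p B₀) hB₀H
      exact hrank B₀ hB₀ hB₀2 g hg
    have hπ : ∀ s : ℕ, s.Prime → s ∣ Nat.card ↥(zpowers h ⊔ Q) → s ∉ Cfsg.sigma H := fun s hs hd => by
      have h2 : s ∣ Nat.card (zpowers h) * Nat.card Q :=
        CfsgLib.Solvable.card_sup_mul_card_inf hhn ▸ hd.trans (dvd_mul_right _ _)
      rcases hs.dvd_mul.1 h2 with h' | h'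
      · rw [Excep.primes_of_pgroup (π := {r}) hR rfl s hs h']; exact hrH
      · rw [Excep.primes_of_pgroup (π := {q}) hQ rfl s hs h']; exact hqH
    obtain ⟨E, hE, hQRE⟩ := exists_complement_of hG hH (sup_le (zpowers_le.2 hhH) hQH) hπ
    obtain ⟨g, -, hg⟩ := conj_into_of_product (π := {p}) (hG.2.2.2 H hH.1) hE.1 (map_subtype_le _)
      (TH.le_normalizer_core H) (fun m hm => by
        obtain ⟨x, hx, y, hy, rfl⟩ := hE.2.2.2 m hm
        exact mul_mem (mem_sup_right hx) (mem_sup_left hy))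
      (fun s hs hsp h => hpH' (Set.mem_singleton_iff.1 hsp ▸ (Sig.sigma_core hG hH).1.2.1 s hs h))
      hB₀H (Excep.primes_of_pgroup (IsPGroup.of_card hB₀2) rfl)
    set B := B₀.map (MulAut.conj g).toMonoidHom with hBdef
    have hB : Cfsg.IsElementaryAbelian p B := elementary_map hB₀ _
    have hB2 : Nat.card B = p ^ 2 := by
      rw [hBdef, card_map_of_injective (f := (MulAut.conj g).toMonoidHom) (MulAut.conj g).injective, hB₀2]
    have hBH : B ≤ H := hg.trans hE.1
    set D := ⁅E, E⁆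
    have hQ'D : Q' ≤ Bender.qc q D := by
      intro x hx
      obtain ⟨k, hk⟩ := hQ'p ⟨x, hx⟩
      obtain ⟨j, -, hj⟩ := (Nat.dvd_prime_pow hq.out).1 (orderOf_dvd_of_pow_eq_one (congrArg Subtype.val hk))
      refine Bender.mem_qc (Bender.le_fitting le_rfl le_normalizer (Compl.nilpotent_derived hG hH hE) ?_) hj
      exact commutator_mono (le_sup_right.trans hQRE) (le_sup_left.trans hQRE) hx
    have hEN : E ≤ normalizer (Bender.qc q D : Set G) :=
      (normalizer_commutator_ge_left E E).trans (UTool.normalizer_le_normalizer_map D _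
        (Subgroup.characteristic_iff_map_le.2 fun φ => CfsgLib.Solvable.le_pCore q
          (Subgroup.Normal.map (CfsgLib.Solvable.pCore_normal q) _ φ.surjective)
          ((CfsgLib.Solvable.isPGroup_pCore q).map _)))
    have h1 := centralizes_invariant hG hB hB2 hH hBH hpH'
      ((Cfsg.Agent.S1408.result hG H hH p hpH' hr2 hnr1).2 B hBH hB hB2) hqH hqp (Bender.isPGroup_qc D)
      (((Bender.qc_le q D).trans (commutator_le_self E)).trans hE.1) (hg.trans hEN)
    have hBL : B ≤ L := ((le_centralizer_iff.1 (hQ'D.trans h1)).trans (centralizer_le_normalizer _)).trans hNL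
    have hLM : L ≠ M := fun e => hrank B₀ hB₀ hB₀2 g (e ▸ hBL)
    obtain ⟨c, hc⟩ := (over_normalizer hG hM hqσ hL hLM hQ'p hQ'1 hQ'M hNL hpσ hpd hao haM haL).2.2 B
      (IsPGroup.of_card hB2) hBL
    exact hrank B hB hB2 c hc
  -- `p ∈ σ(H)`
  have hpHd : p ∣ Nat.card ↥⁅H, H⁆ := by
    have h1 := Sig.le_derived hG hH hpH' hP (zpowers_le.2 haH) (mem_zpowers a)
    rw [← hao, ← orderOf_mk a h1]
    exact orderOf_dvd_natCard _
  have hpM : p ∣ Nat.card M := hPc ▸ card_dvd_of_le (zpowers_le.2 haM)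
  have hqH : q ∉ Cfsg.sigma H := fun hσ => not_dvd_derived_of_common hG hM hH hqσ hσ hpM hpσ hpd hpHd
  haveI hQ'ab : IsMulCommutative Q' := commutative_of_not_sigma hG hH hqH hQ'p hQ'H
  -- no line of `Q'` has its normalizer in `H`
  have hnotH : ∀ (X : Subgroup G), IsPGroup q X → X ≠ ⊥ → X ≤ M → normalizer (X : Set G) ≤ H → False :=
    fun X hX hX1 hXM hNX => (over_normalizer hG hM hqσ hH hHM hX hX1 hXM hNX hpσ hpd hao haM haH).1 hpH'
  by_cases hpα : p ∈ Cfsg.alpha H
  · have hrank1 := rank_one_of_moving hG hH hqH hrH hrq hQ'p hQ'H hQ'1 hho hhH hhQ' hQ'e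
    set Γ := Q' ⊔ zpowers h with hΓ
    have hΓH : Γ ≤ H := sup_le hQ'H (zpowers_le.2 hhH)
    have hΓc : (Nat.card Γ).Coprime (Nat.card (Cfsg.alphaCore H)) := by
      refine Nat.coprime_of_dvd fun s hs h1 h2 => ?_
      have h3 := CfsgLib.Solvable.card_sup_mul_card_inf (zpowers_le.2 hhQ' : zpowers h ≤ normalizer (Q' : Set G))
      have h4 : s ∣ Nat.card (zpowers h) * Nat.card Q' :=
        h3 ▸ ((h1.trans (card_dvd_of_le (sup_comm Q' (zpowers h)).le)).trans (dvd_mul_right _ _))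
      have hsσ := Sig.alpha_subset_sigma hG hH ((Sig.alpha_core hG hH).1.2.1 s hs h2)
      rcases hs.dvd_mul.1 h4 with h' | h'
      · exact hrH ((Excep.primes_of_pgroup (π := {r}) hR rfl s hs h' : s = r) ▸ hsσ)
      · exact hqH ((Excep.primes_of_pgroup (π := {q}) hQ'p rfl s hs h' : s = q) ▸ hsσ)
    have haα : zpowers a ≤ Cfsg.alphaCore H :=
      Excep.le_alphaCore hG hH (zpowers_le.2 haH) (Excep.primes_of_pgroup hP hpα)
    have hQ'C : Q' ≤ centralizer (zpowers a : Set G) :=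
      (hQ'Q.trans hQa).trans (FixedLine.le_centralizer_zpowers le_rfl)
    have hhC : zpowers h ≤ centralizer (zpowers a : Set G) := zpowers_le.2
      (FixedLine.le_centralizer_zpowers (le_refl _) (mem_centralizer_singleton_iff.2 hah.eq))
    obtain ⟨T, haT, hTK, hT, hΓT, hTd⟩ := Excep.exists_inv_sylow (t := p) (hΓH.trans (TH.le_normalizer_core H)) hΓc
      (Or.inl (hG.2.2.2 Γ (ne_top_of_le_ne_top hH.1 hΓH))) haα hP
      ((sup_le hQ'C hhC).trans (centralizer_le_normalizer _))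
    have hTi : ¬ p ∣ T.index := Excep.index_not_dvd hTK hTd ((Sig.alpha_hall hG hH).2 p hp.out hpα)
    by_cases hQT : Q' ≤ centralizer (T : Set G)
    · have hu := UThm.rank_three_unique hG hT (Excep.rank_of_full hT hTi hpα)
      have hLH : L = H := Uniq.eq_of hu hL
        (((le_centralizer_iff.1 hQT).trans (centralizer_le_normalizer _)).trans hNL) hH (hTK.trans (map_subtype_le _))
      exact hnotH Q' hQ'p hQ'1 hQ'M (hLH ▸ hNL)
    · have hnc : Q' ⊓ centralizer ({h} : Set G) = ⊥ := by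
        refine le_bot_iff.1 (le_trans ?_ (CfsgLib.CoprimeAct.fixed_inf_commutator_abelian (zpowers_le.2 hhQ')
          (IsPGroup.coprime_card_of_ne r q hrq _ Q' hR hQ'p)).le)
        rw [hQ'e]
        exact le_inf (le_inf inf_le_left (inf_le_right.trans (FixedLine.le_centralizer_zpowers le_rfl))) inf_le_left
      obtain ⟨v, hv, B, hB, hBe, hB2⟩ := exists_rank_two_fixed hp2 hrp hT hho (le_sup_left.trans hΓT)
        (IsPGroup.coprime_card_of_ne q p hqp _ _ hQ'p hT) hhQ' (hΓT (mem_sup_right (mem_zpowers h))) hnc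
        (haT (mem_zpowers a)) hao (hQ'Q.trans hQa) hah hQT
      exact rank_two_of_fixed hG hH (n := v * h * v⁻¹) (((MulAut.conj v).orderOf_eq h).trans hho)
        (mul_mem (mul_mem (hQ'H hv) hhH) (inv_mem (hQ'H hv))) hrH hBe hB2
        (hB.trans (inf_le_inf_right _ hTK)) hrank1
  -- `p ∉ α(H)`: a Sylow `q`-subgroup of `O_{p'}(H')`
  have hD : ⁅H, H⁆ ≤ H := commutator_le_self H
  obtain ⟨k, hk⟩ := Beta.npc_index (Beta.structure_of_not_beta hG hH hpH fun h => hpα h.1).2.2
  set O := Excep.opc p ⁅H, H⁆ with hO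
  have hOH : O ≤ H := (Excep.opc_le p _).trans hD
  have hOn : H ≤ normalizer (O : Set G) :=
    (normalizer_commutator_ge_left H H).trans (Excep.normalizer_le_normalizer_opc p _)
  have hQ'O : Q' ≤ O := Excep.pgroup_le_opc hQ'p (commutator_mono hQH (zpowers_le.2 hhH)) (by
    rw [hk]; exact fun h => hqp ((Nat.prime_dvd_prime_iff_eq hq.out hp.out).1 (hq.out.dvd_of_dvd_pow h)))
  obtain ⟨W₀, hW₀⟩ := (hQ'p.comap_subtype (K := O)).exists_le_sylow
  set W := (W₀ : Subgroup O).map O.subtype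
  have hQ'W : Q' ≤ W := by rw [← map_subgroupOf_eq_of_le hQ'O]; exact map_mono hW₀
  have hW : IsPGroup q W := W₀.2.map _
  have hWH : W ≤ H := (map_subtype_le _).trans hOH
  have hfr := Excep.frattini_le hOH hOn (map_subtype_le _ : W ≤ O) hW (by
    rw [relIndex, ← comap_subtype, comap_map_eq_self_of_injective O.subtype_injective]
    exact W₀.not_dvd_index)
  have hpN : p ∣ Nat.card ↥⁅H ⊓ normalizer (W : Set G), H ⊓ normalizer (W : Set G)⁆ := by
    by_contra h1
    exact not_dvd_derived hp.out hOH inf_le_left hOn hfr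
      (hp.out.coprime_iff_not_dvd.1 (Excep.opc_coprime p _).symm) h1 hpHd
  have hWc : IsCyclic W := by
    by_contra hc
    obtain ⟨A, hAW, hA, hA2⟩ := Uniq.exists_sq (CfsgLib.CN.MinSimple.p_ne_two hG
      (hqσ.2.1.trans M.card_subgroup_dvd_card)) hW hc
    have hτ : q ∈ Cfsg.tau2 H := ⟨hq.out, hqH,
      by_contra fun h => hqH (Sig.alpha_subset_sigma hG hH ⟨hq.out, h⟩), fun h => by
        have h1 := Uniq.rankLE_elementary h (hAW.trans hWH) hA
        rw [hA2] at h1
        exact absurd h1 (not_le.2 (Nat.pow_lt_pow_right hq.out.one_lt one_lt_two))⟩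
    obtain ⟨u, hu⟩ := exists_prime_orderOf_dvd_card' q (Excep.isPGroup_ne_bot_dvd hQ'p hQ'1)
    have huo : orderOf (u : G) = q := by rw [orderOf_coe, hu]
    have hu1 : (u : G) ≠ 1 := fun e => hq.out.ne_one (by rw [← huo, e, orderOf_one])
    have haσ : a ∈ Cfsg.sigmaCore H :=
      Excep.le_sigmaCore hG hH (zpowers_le.2 haH) (Excep.primes_of_pgroup hP hpH') (mem_zpowers a)
    obtain ⟨-, huniq⟩ := tau_element_centralizer hG hH (hQ'H u.2) hu1
      (fun s hs hd => by rw [huo] at hd; rw [(Nat.prime_dvd_prime_iff_eq hs hq.out).1 hd]; exact hτ) haσ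
      (fun e => hp.out.ne_one (by rw [← hao, e, orderOf_one])) (mem_centralizer_iff.1 haQ' u u.2)
    have hXc : Nat.card (zpowers (u : G)) = q := by rw [Nat.card_zpowers, huo]
    obtain ⟨L', hL', hNL'⟩ := (eq_top_or_exists_le_coatom (normalizer (zpowers (u : G) : Set G))).resolve_left
      (Excep.normalizer_line_ne_top hG hXc)
    have e := huniq L' hL' ((FixedLine.le_centralizer_zpowers le_rfl).trans ((centralizer_le_normalizer _).trans hNL'))
    exact hnotH _ (IsPGroup.of_card (n := 1) (by rw [hXc, pow_one]))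
      (fun e' => hu1 (zpowers_eq_bot.1 e')) (zpowers_le.2 (hQ'M u.2)) (e ▸ hNL')
  have hNW : normalizer (W : Set G) ≤ L := by
    haveI := hWc
    haveI : IsCyclic Q' := Subgroup.isCyclic_of_le hQ'W
    obtain ⟨u, hu⟩ := (Subgroup.isCyclic_iff_exists_zpowers_eq_top Q').1 inferInstance
    exact ((UTool.normalizer_le_normalizer_zpowers hWc (hQ'W (hu ▸ mem_zpowers u))).trans
      (le_of_eq (by rw [hu]))).trans hNL
  have hpL : p ∣ Nat.card ↥⁅L, L⁆ :=
    hpN.trans (card_dvd_of_le (commutator_mono (inf_le_right.trans hNW) (inf_le_right.trans hNW)))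
  by_cases hLM : L = M
  · exact hpd (hLM ▸ hpL)
  · exact (over_normalizer hG hM hqσ hL hLM hQ'p hQ'1 hQ'M hNL hpσ hpd hao haM haL).2.1 hpL

omit hq in
/-- The fixed points in `M_σ` of `a` are centralized by `h`. -/
theorem tau_one_fixed {M E : Subgroup G} (hM : IsCoatom M) (hE : Cfsg.IsComplIn E (Cfsg.sigmaCore M) M)
    (hpσ : p ∉ Cfsg.sigma M) (hpd : ¬ p ∣ Nat.card ↥⁅M, M⁆) (hr1 : Cfsg.PRankLE p 1 M) {a h : G}
    (hao : orderOf a = p) (haE : a ∈ E) (hho : orderOf h = r) (hhE : h ∈ E) (hah : Commute h a) :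
    Cfsg.sigmaCore M ⊓ centralizer ({a} : Set G) ≤ centralizer ({h} : Set G) := by
  classical
  have haM : a ∈ M := hE.1 haE
  have hhM : h ∈ M := hE.1 hhE
  by_cases hrp : r = p
  · subst hrp
    have hB : Cfsg.IsElementaryAbelian r (zpowers a ⊔ zpowers h : Subgroup G) := by
      refine CfsgLib.Thompson.elab_sup (CfsgLib.Thompson.elab_zpowers (by rw [← hao, pow_orderOf_eq_one]))
        (CfsgLib.Thompson.elab_zpowers (by rw [← hho, pow_orderOf_eq_one])) fun x hx => ?_
      refine mem_centralizer_iff.2 fun y hy => ?_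
      obtain ⟨i, rfl⟩ := mem_zpowers_iff.1 hx
      obtain ⟨j, rfl⟩ := mem_zpowers_iff.1 hy
      exact (hah.zpow_zpow j i).eq
    have h1 := Uniq.rankLE_elementary hr1 (sup_le (zpowers_le.2 haM) (zpowers_le.2 hhM)) hB
    have e : zpowers a ⊔ zpowers h = zpowers a :=
      (eq_of_le_of_card_ge le_sup_left (by rw [Nat.card_zpowers, hao]; exact h1.trans (pow_one r).le)).symm
    obtain ⟨i, hi⟩ := mem_zpowers_iff.1 (e.le (mem_sup_right (mem_zpowers h)) : h ∈ zpowers a)
    intro x hx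
    rw [← hi]
    exact mem_centralizer_singleton_iff.2
      ((show Commute x a from mem_centralizer_singleton_iff.1 hx.2).zpow_right i).eq
  obtain ⟨-, -, hEσ⟩ := Compl.card_eq hG hM hE
  have hrσ : r ∉ Cfsg.sigma M := hEσ r hr.out (by rw [← hho, ← orderOf_mk h hhE]; exact orderOf_dvd_natCard _)
  have hR : IsPGroup r (zpowers h) := IsPGroup.of_card (n := 1) (by rw [Nat.card_zpowers, hho, pow_one])
  set C := Cfsg.sigmaCore M ⊓ centralizer ({a} : Set G)
  refine le_trans ?_ (centralizer_le (Set.singleton_subset_iff.2 (mem_zpowers h)))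
  have hhC : zpowers h ≤ normalizer (C : Set G) :=
    (le_inf ((zpowers_le.2 hhM).trans (TH.le_normalizer_core M))
      ((zpowers_le.2 (mem_centralizer_singleton_iff.2 hah.eq) : zpowers h ≤ centralizer ({a} : Set G)).trans
        le_normalizer)).trans inf_normalizer_le_normalizer_inf
  refine Excep.le_of_sylows fun s hs hsd => ?_
  haveI := Fact.mk hs
  obtain ⟨Q, -, hQC, hQ, hhQ, hQd⟩ := Excep.exists_inv_sylow (t := s) hhC
    (Excep.coprime_of_pgroup hR fun h' =>
      hrσ ((Sig.sigma_core hG hM).1.2.1 r hr.out (h'.trans (card_dvd_of_le inf_le_left))))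
    (Or.inl (hG.2.2.2 _ (ne_top_of_le_ne_top hM.1 (zpowers_le.2 hhM)))) bot_le IsPGroup.of_bot
    le_normalizer_of_normal
  have hsσ : s ∈ Cfsg.sigma M := (Sig.sigma_core hG hM).1.2.1 s hs (hsd.trans (card_dvd_of_le inf_le_left))
  exact ⟨Q, le_inf hQC (commutator_eq_bot_iff_le_centralizer.1 (not_moved (q := s) hG hM hpσ hpd hr1 hsσ hrσ hrp
    hao haM hho hhM hah hQ (hQC.trans inf_le_left) (hQC.trans inf_le_right) (hhQ (mem_zpowers h)))), hQd⟩

end CfsgLib.OddLocal.Tau
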