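import Cfsg.Agent.OddLocal.TauTwoIrreducible
import Cfsg.Agent.OddLocal.TauOneFixed
import Cfsg.Agent.OddLocal.CyclicSylowAction
import Cfsg.Agent.Solvable.CoprimeAbelian
import Cfsg.Agent.S1409
import Cfsg.Agent.S1459

/-!
General tools for the analysis of the primes of `τ₁(M) ∪ τ₃(M)` with fixed points in `M_σ`.
-/

set_option autoImplicit false
set_option linter.style.haveILetI false
set_option linter.unusedSectionVars false

namespace CfsgLib.OddLocal.Kap

open Subgroup Cfsg CfsgLib.OddLocal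
open scoped commutatorElement Pointwise

universe u

variable {G : Type u} [Group G] [Finite G]

theorem sigma_map {M : Subgroup G} (g : G) {p : ℕ} (hp : p ∈ Cfsg.sigma M) :
    p ∈ Cfsg.sigma (M.map (MulAut.conj g).toMonoidHom) := by
  haveI := Fact.mk hp.1
  obtain ⟨S, hSM, hN⟩ := Sig.exists_sylow hp
  set φ := (MulAut.conj g).toMonoidHom
  have hle : ((g • S : Sylow p G) : Subgroup G) ≤ M.map φ := by
    rw [Sylow.coe_subgroup_smul]; exact map_mono hSM
  refine ⟨hp.1, ?_, (g • S).subtype hle, ?_⟩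
  · rw [card_map_of_injective (f := φ) (MulAut.conj g).injective]; exact hp.2.1
  · rw [Sylow.coe_subtype, map_subgroupOf_eq_of_le hle, Sylow.coe_subgroup_smul]
    show normalizer ((S : Subgroup G).map φ : Set G) ≤ M.map φ
    rw [← map_equiv_normalizer_eq]
    exact map_mono hN

theorem sigma_map_iff {M : Subgroup G} (g : G) {p : ℕ} :
    p ∈ Cfsg.sigma (M.map (MulAut.conj g).toMonoidHom) ↔ p ∈ Cfsg.sigma M := by
  refine ⟨fun h => ?_, sigma_map g⟩
  have h' := sigma_map g⁻¹ h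
  rwa [Uniq.map_conj_inv] at h'

theorem rank_map {M : Subgroup G} (g : G) {p k : ℕ} [Fact p.Prime] (h : Cfsg.PRankLE p k M) :
    Cfsg.PRankLE p k ↥(M.map (MulAut.conj g).toMonoidHom) := by
  by_contra hne
  obtain ⟨B, hBM, hB, hBc⟩ := Uniq.exists_elementary hne
  set φ := (MulAut.conj g⁻¹).toMonoidHom
  have hle : B.map φ ≤ M := (map_mono hBM).trans (le_of_eq (Uniq.map_conj_inv M g))
  have h1 := Uniq.rankLE_elementary h hle (Tau.elementary_map hB φ)
  rw [card_map_of_injective (f := φ) (MulAut.conj g⁻¹).injective, hBc] at h1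
  exact absurd ((Nat.pow_le_pow_iff_right (Fact.out : p.Prime).one_lt).1 h1) (by omega)

/-- An element with prime order commuting with `a` can be found in any complement containing `a`. -/
theorem exists_in_complement {M E : Subgroup G} (hE : Cfsg.IsComplIn E (Cfsg.sigmaCore M) M) {l : ℕ}
    (hl : l.Prime) (hlK : ¬ l ∣ Nat.card (Cfsg.sigmaCore M)) {a m : G} (ha : a ∈ E) (hm : m ∈ M)
    (hmo : orderOf m = l) (hma : Commute m a) : ∃ e ∈ E, orderOf e = l ∧ Commute e a := by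
  haveI := Fact.mk hl
  set C := centralizer ({a} : Set G)
  set K := Cfsg.sigmaCore M
  have hn : E ⊓ C ≤ normalizer ((K ⊓ C : Subgroup G) : Set G) :=
    le_trans (le_inf (inf_le_left.trans (hE.1.trans (TH.le_normalizer_core M)))
      (inf_le_right.trans le_normalizer)) inf_normalizer_le_normalizer_inf
  have hmem : m ∈ (E ⊓ C) ⊔ (K ⊓ C) := by
    obtain ⟨e, he, k, hk, rfl⟩ := hE.2.2.2 m hm
    have haK : a * k * a⁻¹ ∈ K := (mem_normalizer_iff.1 (TH.le_normalizer_core M (hE.1 ha)) k).1 hk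
    have haE : a * e * a⁻¹ ∈ E := mul_mem (mul_mem ha he) (inv_mem ha)
    have h1 : (a * e * a⁻¹) * (a * k * a⁻¹) = e * k := by
      rw [show (a * e * a⁻¹) * (a * k * a⁻¹) = a * (e * k) * a⁻¹ by group, ← hma.eq, mul_inv_cancel_right]
    have h2 : e⁻¹ * (a * e * a⁻¹) ∈ E ⊓ K := ⟨E.mul_mem (E.inv_mem he) haE, by
      rw [show e⁻¹ * (a * e * a⁻¹) = k * (a * k * a⁻¹)⁻¹ by
        rw [eq_mul_inv_iff_mul_eq, mul_assoc, h1]; group]
      exact K.mul_mem hk (K.inv_mem haK)⟩
    rw [hE.2.2.1, mem_bot, inv_mul_eq_one] at h2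
    have hec : e ∈ C := mem_centralizer_singleton_iff.2 (mul_inv_eq_iff_eq_mul.1 h2.symm).symm
    rw [← h2] at h1
    have hkc : k ∈ C := mem_centralizer_singleton_iff.2 (mul_inv_eq_iff_eq_mul.1 (mul_left_cancel h1)).symm
    exact mul_mem (mem_sup_left ⟨he, hec⟩) (mem_sup_right ⟨hk, hkc⟩)
  have hd : l ∣ Nat.card ↥(E ⊓ C) * Nat.card ↥(K ⊓ C) :=
    (hmo ▸ (by rw [← Nat.card_zpowers]; exact card_dvd_of_le (zpowers_le.2 hmem) :
      orderOf m ∣ Nat.card ↥((E ⊓ C) ⊔ (K ⊓ C)))).trans (CfsgLib.Solvable.card_sup_dvd hn)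
  rcases hl.dvd_mul.1 hd with h | h
  · obtain ⟨e, he⟩ := exists_prime_orderOf_dvd_card' (G := ↥(E ⊓ C)) l h
    exact ⟨e, e.2.1, by rw [orderOf_coe, he], mem_centralizer_singleton_iff.1 e.2.2⟩
  · exact absurd (h.trans (card_dvd_of_le inf_le_left)) hlK

/-- A Frobenius group whose complement's fixed points centralize the kernel: the kernel acts trivially. -/
theorem frobenius_kills {K U : Subgroup G} {l : ℕ} [Fact l.Prime] {h : G} (hs : Group.IsSolvable K)
    (hsU : Group.IsSolvable ↥(U ⊔ zpowers h)) (hho : orderOf h = l) (hlK : ¬ l ∣ Nat.card K)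
    (hUK : (Nat.card U).Coprime (Nat.card K)) (hUn : U ≤ normalizer (K : Set G))
    (hhn : h ∈ normalizer (K : Set G)) (hhU : h ∈ normalizer (U : Set G))
    (hnc : U ⊓ centralizer ({h} : Set G) = ⊥) (hfix : K ⊓ centralizer ({h} : Set G) ≤ centralizer (U : Set G)) :
    K ≤ centralizer (U : Set G) := by
  have hlp : l.Prime := Fact.out
  have hcop : (Nat.card ↥(U ⊔ zpowers h)).Coprime (Nat.card K) := by
    rw [sup_comm]
    refine Nat.Coprime.coprime_dvd_left (CfsgLib.Solvable.card_sup_dvd (zpowers_le.2 hhU)) (Nat.Coprime.mul_left ?_ hUK)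
    rw [Nat.card_zpowers, hho]
    exact hlp.coprime_iff_not_dvd.2 hlK
  refine Excep.le_of_sylows fun t ht _ => ?_
  haveI := Fact.mk ht
  obtain ⟨R, -, hRK, hRp, hRn, hRd⟩ := Excep.exists_inv_sylow (t := t) (sup_le hUn (zpowers_le.2 hhn)) hcop
    (Or.inl hsU) bot_le IsPGroup.of_bot (Excep.le_normalizer_bot _)
  refine ⟨R, le_inf hRK ?_, hRd⟩
  by_cases hR1 : R = ⊥
  · rw [hR1]; exact bot_le
  have hlt : l ≠ t := fun e => hlK (e ▸ (Excep.isPGroup_ne_bot_dvd hRp hR1).trans (card_dvd_of_le hRK))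
  refine FixedLine.le_of_frobenius hlt hRp hho (le_sup_left.trans hRn)
    (hUK.coprime_dvd_right (card_dvd_of_le hRK)) hhU (hRn (mem_sup_right (mem_zpowers h))) hnc inf_le_right ?_
  rintro v hv c ⟨hc, hcv⟩
  have h1 : v⁻¹ * c * v ∈ K ⊓ centralizer ({h} : Set G) := by
    refine ⟨(mem_normalizer_iff''.1 (hUn hv) c).1 (hRK hc), mem_centralizer_singleton_iff.2 ?_⟩
    have := mem_centralizer_singleton_iff.1 hcv
    calc v⁻¹ * c * v * h = v⁻¹ * (c * (v * h * v⁻¹)) * v := by group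
      _ = v⁻¹ * ((v * h * v⁻¹) * c) * v := by rw [this]
      _ = h * (v⁻¹ * c * v) := by group
  have h2 := hfix h1
  have h3 : v * (v⁻¹ * c * v) = (v⁻¹ * c * v) * v := mem_centralizer_iff.1 h2 v hv
  have h4 : v⁻¹ * c * v = c := by
    have h5 : c * v = v⁻¹ * c * v * v := by rw [← h3]; group
    have h6 := mul_right_cancel h5
    exact h6.symm
  rwa [h4] at h2

variable (hG : Cfsg.IsMinSimpleOddOrder G)
include hG

theorem solvable_le {M X : Subgroup G} (hM : IsCoatom M) (hX : X ≤ M) : Group.IsSolvable X :=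
  hG.2.2.2 X (ne_top_of_le_ne_top hM.1 hX)

theorem not_dvd_core {M : Subgroup G} (hM : IsCoatom M) {p : ℕ} (hp : p.Prime) (h : p ∉ Cfsg.sigma M) :
    ¬ p ∣ Nat.card (Cfsg.sigmaCore M) := fun hd => h ((Sig.sigma_core hG hM).1.2.1 p hp hd)

/-- A Sylow subgroup of `G` inside `M_σ`. -/
theorem exists_sylow_core {M : Subgroup G} (hM : IsCoatom M) {s : ℕ} [Fact s.Prime] (hs : s ∈ Cfsg.sigma M) :
    ∃ S : Sylow s G, (S : Subgroup G) ≤ Cfsg.sigmaCore M ∧ normalizer ((S : Subgroup G) : Set G) ≤ M := by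
  obtain ⟨S, hSM, hN⟩ := Sig.exists_sylow hs
  exact ⟨S, Excep.le_sigmaCore hG hM hSM (Excep.primes_of_pgroup S.2 hs), hN⟩

omit hG in
theorem eq_conj_of_unique {M L : Subgroup G} (hM : IsCoatom M) (hL : IsCoatom L) {s : ℕ} [Fact s.Prime]
    (hsL : s ∈ Cfsg.sigma L) {R : Sylow s G} (hRM : (R : Subgroup G) ≤ M)
    (hu : Cfsg.InUniqueMaximal (R : Subgroup G)) : ∃ g : G, L = M.map (MulAut.conj g).toMonoidHom := by
  obtain ⟨S, hSL, -⟩ := Sig.exists_sylow hsL
  obtain ⟨g, hg⟩ := MulAction.exists_smul_eq G R S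
  refine ⟨g, Uniq.eq_of (Uniq.conj hu g) hL ?_ (Uniq.coatom_conj hM g) (map_mono hRM)⟩
  rw [← hg, Sylow.coe_subgroup_smul] at hSL
  exact hSL

/-- A nilpotent `L_σ` meeting `σ(M)` forces conjugacy. -/
theorem conj_of_common_nilpotent {M L : Subgroup G} (hM : IsCoatom M) (hL : IsCoatom L)
    (hnil : Group.IsNilpotent (Cfsg.sigmaCore L)) {s : ℕ} [Fact s.Prime] (hsL : s ∈ Cfsg.sigma L)
    (hsM : s ∈ Cfsg.sigma M) : ∃ g : G, L = M.map (MulAut.conj g).toMonoidHom := by
  obtain ⟨S, hSK, hSN⟩ := exists_sylow_core hG hL hsL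
  obtain ⟨T, hTM, hTN⟩ := Sig.exists_sylow hsM
  set P : Sylow s (Cfsg.sigmaCore L) := S.subtype hSK
  haveI := hnil
  haveI : (P : Subgroup (Cfsg.sigmaCore L)).Normal := inferInstance
  haveI : (P : Subgroup (Cfsg.sigmaCore L)).Characteristic := P.characteristic_of_normal inferInstance
  have hLN : L ≤ normalizer ((S : Subgroup G) : Set G) := by
    intro x hx
    have h := UTool.normalizer_le_normalizer_map _ (P : Subgroup (Cfsg.sigmaCore L)) inferInstance
      (TH.le_normalizer_core L hx)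
    rwa [Sylow.coe_subtype, map_subgroupOf_eq_of_le hSK] at h
  obtain ⟨g, hg⟩ := MulAction.exists_smul_eq G T S
  refine ⟨g, ?_⟩
  have hle : L ≤ M.map (MulAut.conj g).toMonoidHom := by
    refine hLN.trans ?_
    rw [← hg, Sylow.coe_subgroup_smul]
    show normalizer ((T : Subgroup G).map (MulAut.conj g).toMonoidHom : Set G) ≤ _
    rw [← map_equiv_normalizer_eq]
    exact map_mono hTN
  rcases eq_or_lt_of_le hle with e | hlt
  · exact e
  · exact absurd (hL.2 _ hlt) (Uniq.coatom_conj hM g).1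

/-- An element of prime order without fixed points makes `M_σ` nilpotent. -/
theorem nilpotent_of_fpf {M : Subgroup G} (hM : IsCoatom M) {q : ℕ} [hq : Fact q.Prime] {a : G} (haM : a ∈ M)
    (hao : orderOf a = q) (hfix : Cfsg.sigmaCore M ⊓ centralizer ({a} : Set G) = ⊥) :
    Group.IsNilpotent (Cfsg.sigmaCore M) := by
  set K := Cfsg.sigmaCore M with hK
  have haN : a ∈ normalizer (K : Set G) := TH.le_normalizer_core M haM
  refine CfsgLib.FPFPrime.isNilpotent (solvable_le hG hM (map_subtype_le _)) hq.out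
    (K.normalizerMonoidHom ⟨a, haN⟩) ?_ fun x hx => ?_
  · rw [← map_pow, show (⟨a, haN⟩ : normalizer (K : Set G)) ^ q = 1 from Subtype.ext (by
      rw [SubmonoidClass.coe_pow, ← hao, pow_orderOf_eq_one]; rfl), map_one]
  · have h1 : a * (x : G) * a⁻¹ = x := congrArg Subtype.val hx
    have hmem : (x : G) ∈ K ⊓ centralizer ({a} : Set G) :=
      ⟨x.2, mem_centralizer_singleton_iff.2 (mul_inv_eq_iff_eq_mul.1 h1).symm⟩
    rw [hfix, mem_bot] at hmem
    exact Subtype.ext hmem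

/-- The fixed points of the element of order `q` in a cyclic `q`-group. -/
theorem fixed_le_zpowers {M E : Subgroup G} (hM : IsCoatom M) (hE : Cfsg.IsComplIn E (Cfsg.sigmaCore M) M)
    {q : ℕ} [hq : Fact q.Prime] (hr : Cfsg.PRankLE q 1 M) {g : G} (hg : g ∈ E) {k : ℕ}
    (hgo : orderOf g = q ^ (k + 1)) :
    Cfsg.sigmaCore M ⊓ centralizer ({g ^ q ^ k} : Set G) ≤ centralizer ({g} : Set G) := by
  obtain ⟨S₀, hS₀⟩ := ((IsPGroup.of_card (n := k + 1) (by rw [Nat.card_zpowers, hgo]) :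
    IsPGroup q (zpowers g)).comap_subtype (K := E)).exists_le_sylow
  set S := (S₀ : Subgroup E).map E.subtype
  have hqE : q ∣ Nat.card E := (dvd_pow_self q (Nat.succ_ne_zero k)).trans
    (hgo ▸ (by rw [← Nat.card_zpowers]; exact card_dvd_of_le (zpowers_le.2 hg)))
  haveI : IsCyclic (S₀ : Subgroup E) := Compl.cyclic_sylow hG hE hqE hr S₀.2
  haveI : IsCyclic S :=
    isCyclic_of_surjective _ (E.subtype.subgroupMap_surjective (S₀ : Subgroup E))
  have hgS : g ∈ S := ⟨⟨g, hg⟩, hS₀ (show (⟨g, hg⟩ : E) ∈ (zpowers g).comap E.subtype from mem_zpowers g), rfl⟩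
  have ho : orderOf (g ^ q ^ k) = q := by
    rw [orderOf_pow' _ (pow_ne_zero _ hq.out.ne_zero), hgo, Nat.gcd_eq_right (pow_dvd_pow q (Nat.le_succ k)),
      pow_succ, Nat.mul_div_cancel_left _ (pow_pos hq.out.pos _)]
  refine (Tau.cyclic_action hG hM hE (S₀.2.map _) (map_subtype_le _) ?_ inferInstance (pow_mem hgS _) ho).trans
    (centralizer_le (Set.singleton_subset_iff.2 hgS))
  rw [relIndex, ← comap_subtype, comap_map_eq_self_of_injective E.subtype_injective]
  exact S₀.not_dvd_index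

variable {M E : Subgroup G} (hM : IsCoatom M) (hE : Cfsg.IsComplIn E (Cfsg.sigmaCore M) M)
include hM hE

/-- A line of a prime in `τ₃(M)` is normal in the complement. -/
theorem normalizes_line {r : ℕ} [Fact r.Prime] (hr : r ∈ Cfsg.tau3 M) {u : G} (hu : u ∈ E)
    (huo : orderOf u = r) : E ≤ normalizer (zpowers u : Set G) := fun e he => by
  refine Uniq.mem_normalizer_of_map_le ?_
  rw [MonoidHom.map_zpowers, zpowers_le]
  have h : zpowers (e * u * e⁻¹) = zpowers u := Tau.tau_three_line hG hM hE hr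
    (mul_mem (mul_mem he hu) (inv_mem he)) hu (((MulAut.conj e).orderOf_eq u).trans huo) huo
  exact h ▸ mem_zpowers (e * u * e⁻¹)

/-- With fixed points for a prime of `τ₃(M)` there are no primes in `τ₂(M)`. -/
theorem tau_two_empty {r : ℕ} [Fact r.Prime] (hr : r ∈ Cfsg.tau3 M) {u : G} (hu : u ∈ E) (huo : orderOf u = r)
    (hfix : Cfsg.sigmaCore M ⊓ centralizer ({u} : Set G) ≠ ⊥) : ∀ p : ℕ, p ∉ Cfsg.tau2 M := by
  intro p hp
  haveI := Fact.mk hp.1
  obtain ⟨A, T, hA, hA2, -, hAT, -, hTE, -⟩ :=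
    Tau.exists_sylow_data hG hM hE hp (IsPGroup.of_bot : IsPGroup p (⊥ : Subgroup G)) bot_le
  have hX : Nat.card (zpowers u) = r := by rw [Nat.card_zpowers, huo]
  obtain ⟨L, hL, hNL⟩ := (eq_top_or_exists_le_coatom (normalizer (zpowers u : Set G))).resolve_left
    (Excep.normalizer_line_ne_top hG hX)
  have hLM : L ≠ M := fun e => (Cfsg.Agent.S1409.result hG M hM r hr.2.1 _ hX (e ▸ hNL)).1.2 hr.2.2.2
  have hAM : A ≤ M := (hAT.trans hTE).trans hE.1
  have hmax := (Cfsg.Agent.S1408.result hG M hM p hp.2.1 hp.2.2.1 hp.2.2.2).2 A hAM hA hA2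
  refine hfix (le_bot_iff.1 (le_trans (inf_le_inf_left _ ?_) (le_of_eq (Tau.inter_eq_bot hG hA hA2 hM hAM hp.2.1 hmax
    hL hLM (((hAT.trans hTE).trans (normalizes_line hG hM hE hr hu huo)).trans hNL)))))
  exact ((FixedLine.le_centralizer_zpowers le_rfl).trans (centralizer_le_normalizer _)).trans hNL

/-- Nontrivial elements of prime order of `τ₃(M)` are moved in the complement. -/
theorem tau_three_moved {r : ℕ} [hr' : Fact r.Prime] (hr : r ∈ Cfsg.tau3 M) {u : G} (hu : u ∈ E)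
    (huo : orderOf u = r) :
    ∃ g ∈ E, ∃ t : ℕ, t.Prime ∧ (∃ j : ℕ, orderOf g = t ^ j) ∧ ¬ Commute g u := by
  by_contra hall
  push Not at hall
  have hc : E ≤ centralizer ({u} : Set G) := PrimeFit.le_of_prime_power fun t ht b hb hbj =>
    mem_centralizer_singleton_iff.2 (hall b hb t ht hbj).eq
  haveI : Group.IsSolvable E := solvable_le hG hM hE.1
  obtain ⟨E₃, h3⟩ := CfsgLib.InvariantHall.exists_isPiHallOf (π := Cfsg.tau3 M) (G := E) inferInstance
  obtain ⟨hcyc, hder, hn⟩ := (Compl.tau_structure hG hM hE).2 E₃ h3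
  have hu3 : u ∈ E₃ := Excep.le_of_hall h3.1 hn (zpowers_le.2 hu) (by
    rw [Nat.card_zpowers, huo]
    exact hr'.out.coprime_iff_not_dvd.2 (h3.2.2 r hr'.out hr)) (mem_zpowers u)
  set H := E₃.subgroupOf E with hH
  haveI : H.Normal := (normal_subgroupOf_iff_le_normalizer h3.1).2 hn
  have hcop : (Nat.card H).Coprime H.index := by
    rw [Nat.card_congr (subgroupOfEquivOfLe h3.1).toEquiv]
    exact CfsgLib.InvariantHall.coprime_of_isPiHallOf h3
  obtain ⟨W, hW⟩ := exists_right_complement'_of_coprime (N := H) hcop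
  have hHd : H ≤ commutator E := by
    intro x hx
    have h := hder hx
    rw [← map_subtype_commutator] at h
    obtain ⟨y, hy, e⟩ := h
    exact (E.subtype_injective e) ▸ hy
  have hmem : (⟨u, hu⟩ : E) ∈ H ⊓ centralizer (W : Set E) := ⟨hu3, mem_centralizer_iff.2 fun w _ =>
    Subtype.ext (mem_centralizer_singleton_iff.1 (hc w.2))⟩
  have h := ((Cfsg.Agent.S1459.result (G := E)).1 H W inferInstance hcop hW hHd).2 hmem
  haveI := hcyc
  haveI : IsCyclic H := (subgroupOfEquivOfLe h3.1).isCyclic.2 hcyc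
  have hHab : ⁅H, H⁆ = ⊥ := commutator_eq_bot_iff_le_centralizer.2
    (le_centralizer_iff_isMulCommutative.2 inferInstance)
  rw [hHab, mem_bot] at h
  exact hr'.out.ne_one (by rw [← huo, orderOf_eq_one_iff]; exact congrArg Subtype.val h)

end CfsgLib.OddLocal.Kap
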