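import Cfsg.Agent.OddLocal.KappaMeet

/-!
With fixed points for a prime of `τ₃(M)`: elements of prime order of `τ₁(M)` centralize its line, and the
elements moving it have their primes in `σ` of the maximal subgroups over the normalizer of the line.
-/

set_option autoImplicit false
set_option linter.style.haveILetI false
set_option linter.unusedSectionVars false

namespace CfsgLib.OddLocal.Kap

open Subgroup Cfsg CfsgLib.OddLocal
open scoped commutatorElement Pointwise

universe u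

variable {G : Type u} [Group G] [Finite G]

theorem exists_pow_succ {t j : ℕ} {g x : G} (hgo : orderOf g = t ^ j) (hne : ¬ Commute g x) :
    ∃ i, j = i + 1 := by
  rcases j with - | i
  · rw [pow_zero, orderOf_eq_one_iff] at hgo
    exact absurd (hgo ▸ Commute.one_left x) hne
  · exact ⟨i, rfl⟩

variable (hG : Cfsg.IsMinSimpleOddOrder G)
include hG

/-- A group prime to `σ(L)` moved by an element of prime order has an invariant piece in `L'` without fixed
points. -/
theorem exists_moved {L D : Subgroup G} (hL : IsCoatom L) (hDL : D ≤ L)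
    (hσ : ∀ s : ℕ, s.Prime → s ∣ Nat.card D → s ∉ Cfsg.sigma L) {q : ℕ} [hq : Fact q.Prime] {a : G} (haL : a ∈ L)
    (hao : orderOf a = q) (hqD : ¬ q ∣ Nat.card D) (haD : a ∈ normalizer (D : Set G))
    (hmove : ¬ D ≤ centralizer ({a} : Set G)) :
    ∃ W : Subgroup G, W ≤ D ∧ W ≠ ⊥ ∧ W ≤ ⁅L, L⁆ ∧ a ∈ normalizer (W : Set G) ∧
      W ⊓ centralizer ({a} : Set G) = ⊥ := by
  by_contra hne
  refine hmove (Excep.le_of_sylows fun t ht _ => ?_)
  haveI := Fact.mk ht
  have hcop : (Nat.card (zpowers a)).Coprime (Nat.card D) := by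
    rw [Nat.card_zpowers, hao]; exact hq.out.coprime_iff_not_dvd.2 hqD
  obtain ⟨P, -, hPD, hPp, haP, hPd⟩ := Excep.exists_inv_sylow (t := t) (zpowers_le.2 haD) hcop
    (Or.inl (solvable_le hG hL (zpowers_le.2 haL))) bot_le IsPGroup.of_bot (Excep.le_normalizer_bot _)
  refine ⟨P, le_inf hPD ?_, hPd⟩
  haveI : IsMulCommutative P := Tau.commutative_of_nilpotent hG hL (hPD.trans hDL) hPp.isNilpotent
    fun s hs hd => hσ s hs (hd.trans (card_dvd_of_le hPD))
  have hW : ⁅P, zpowers a⁆ = ⊥ := by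
    by_contra hW1
    refine hne ⟨⁅P, zpowers a⁆, (le_normalizer_iff_commutator_le_left.1 haP).trans hPD, hW1,
      commutator_mono (hPD.trans hDL) (zpowers_le.2 haL),
      normalizer_commutator_ge_right P (zpowers a) (mem_zpowers a), le_bot_iff.1 (le_trans ?_
        (CfsgLib.CoprimeAct.fixed_inf_commutator_abelian haP (hcop.coprime_dvd_right (card_dvd_of_le hPD))).le)⟩
    exact le_inf (le_inf (inf_le_left.trans (le_normalizer_iff_commutator_le_left.1 haP))
      (inf_le_right.trans (FixedLine.le_centralizer_zpowers le_rfl))) inf_le_left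
  exact (commutator_eq_bot_iff_le_centralizer.1 hW).trans (FixedLine.centralizer_zpowers_le a)

/-- A `σ(M)`-element of `L'` prime to `σ(L)` cannot centralize `L_σ`. -/
theorem derived_absurd {M L : Subgroup G} (hM : IsCoatom M) (hL : IsCoatom L) (hne : L ≠ M) {w : G}
    (hw : w ∈ Cfsg.sigmaCore L) (hw1 : w ≠ 1) (hYw : Cfsg.sigmaCore M ⊓ L ≤ centralizer ({w} : Set G)) {s : ℕ}
    [hs : Fact s.Prime] {y : G} (hyK : y ∈ Cfsg.sigmaCore M) (hyL' : y ∈ ⁅L, L⁆) (hyo : orderOf y = s)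
    (hsσ : s ∉ Cfsg.sigma L) (hcen : Cfsg.sigmaCore L ≤ centralizer ({y} : Set G)) : False := by
  have hyL : y ∈ L := commutator_le_self L hyL'
  obtain ⟨F, hF, hyF⟩ := Tau.exists_complement_of hG hL (zpowers_le.2 hyL) fun v hv hd => by
    rw [Nat.card_zpowers, hyo] at hd
    exact (Nat.prime_dvd_prime_iff_eq hv hs.out).1 hd ▸ hsσ
  rw [zpowers_le] at hyF
  rcases Tau.tau_cases hG hL hF hs.out (dvd_of_mem hyF hyo) with h1 | h2 | h3
  · exact h1.2.2.2.1 (dvd_of_mem hyL' hyo)
  · obtain ⟨-, A, hA, hAe, hA2⟩ := exists_plane_meet hG hM hL hne h2 hyK hyL hyo hw hw1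
      (mem_centralizer_singleton_iff.1 (hcen hw)).symm
    have hAL : A ≤ L := hA.trans inf_le_right
    have hmax := (Cfsg.Agent.S1408.result hG L hL s h2.2.1 h2.2.2.1 h2.2.2.2).2 A hAL hAe hA2
    refine hw1 (mem_bot.1 ((Tau.inf_centralizer_eq_bot hG hAe hA2 hL hAL h2.2.1 hmax).le
      ⟨hw, mem_centralizer_iff.2 fun b hb => ?_⟩))
    exact mem_centralizer_singleton_iff.1 (hYw (hA hb))
  · have hle : L ≤ normalizer (zpowers y : Set G) := (Compl.card_eq hG hL hF).2.1.ge.trans (sup_le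
      (normalizes_line hG hL hF h3 hyF hyo)
      ((hcen.trans (FixedLine.le_centralizer_zpowers le_rfl)).trans (centralizer_le_normalizer _)))
    have hyc : Nat.card (zpowers y) = s := by rw [Nat.card_zpowers, hyo]
    have e : normalizer (zpowers y : Set G) ≤ L := by
      rcases eq_or_lt_of_le hle with e | hlt
      · exact e.ge
      · exact absurd (hL.2 _ hlt) (Excep.normalizer_line_ne_top hG hyc)
    exact (Cfsg.Agent.S1409.result hG L hL s h3.2.1 _ hyc e).1.2 h3.2.2.2

/-- The elements moving a line of `τ₃(M)` with fixed points have order a power of a prime in `τ₁(M)`. -/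
theorem mover_tau_one {M E : Subgroup G} (hM : IsCoatom M) (hE : Cfsg.IsComplIn E (Cfsg.sigmaCore M) M) {r : ℕ}
    [hr' : Fact r.Prime] (hr3 : r ∈ Cfsg.tau3 M) {u : G} (hu : u ∈ E) (huo : orderOf u = r)
    (hY : Cfsg.sigmaCore M ⊓ centralizer ({u} : Set G) ≠ ⊥) {g : G} (hg : g ∈ E) {t j : ℕ} [ht : Fact t.Prime]
    (hgo : orderOf g = t ^ j) (hmove : ¬ Commute g u) : t ∈ Cfsg.tau1 M := by
  obtain ⟨i, rfl⟩ := exists_pow_succ hgo hmove
  rcases Tau.tau_cases hG hM hE ht.out ((dvd_pow_self t (Nat.succ_ne_zero i)).trans (dvd_of_mem hg hgo)) with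
    h1 | h2 | h3
  · exact h1
  · exact absurd h2 (tau_two_empty hG hM hE hr3 hu huo hY t)
  · exfalso
    obtain ⟨E₃, hE₃, hgE₃⟩ := exists_hall_over (π := Cfsg.tau3 M) (solvable_le hG hM hE.1) (zpowers_le.2 hg)
      fun v hv hd => by
        rw [Nat.card_zpowers, hgo] at hd
        exact (Nat.prime_dvd_prime_iff_eq hv ht.out).1 (hv.dvd_of_dvd_pow hd) ▸ h3
    obtain ⟨hc, -, hn⟩ := (Compl.tau_structure hG hM hE).2 E₃ hE₃
    have huE₃ : u ∈ E₃ := Excep.le_of_hall hE₃.1 hn (zpowers_le.2 hu) (by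
      rw [Nat.card_zpowers, huo]
      exact hr'.out.coprime_iff_not_dvd.2 (hE₃.2.2 r hr'.out hr3)) (mem_zpowers u)
    rw [zpowers_le] at hgE₃
    haveI := hc
    letI := IsCyclic.commGroup (α := E₃)
    exact hmove (congrArg Subtype.val (mul_comm (⟨g, hgE₃⟩ : E₃) ⟨u, huE₃⟩))

/-- A Sylow subgroup of the complement centralized by a `τ₁`-element. -/
theorem exists_sylow_centralized {M E L : Subgroup G} (hM : IsCoatom M)
    (hE : Cfsg.IsComplIn E (Cfsg.sigmaCore M) M) (hEL : E ≤ L) {q : ℕ} [hq : Fact q.Prime] (hq1 : q ∈ Cfsg.tau1 M)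
    {a : G} (ha : a ∈ E) (hao : orderOf a = q) {t : ℕ} [ht : Fact t.Prime]
    (htτ : t ∈ Cfsg.tau1 M ∨ t ∈ Cfsg.tau3 M) (htL : ¬ t ∣ Nat.card ↥⁅L, L⁆) :
    ∃ T : Subgroup G, T ≤ E ∧ IsPGroup t T ∧ ¬ t ∣ T.relIndex E ∧ T ≤ centralizer ({a} : Set G) := by
  have hEs := solvable_le hG hM hE.1
  rcases htτ with h1 | h3
  · obtain ⟨E₁, hE₁, haE₁⟩ := exists_hall_over (π := Cfsg.tau1 M) hEs (zpowers_le.2 ha) fun v hv hd => by
      rw [Nat.card_zpowers, hao] at hd
      exact (Nat.prime_dvd_prime_iff_eq hv hq.out).1 hd ▸ hq1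
    rw [zpowers_le] at haE₁
    haveI := (Compl.tau_structure hG hM hE).1 E₁ hE₁
    letI := IsCyclic.commGroup (α := E₁)
    obtain ⟨P⟩ : Nonempty (Sylow t E₁) := inferInstance
    refine ⟨(P : Subgroup E₁).map E₁.subtype, (map_subtype_le _).trans hE₁.1, P.2.map _, ?_, ?_⟩
    · rw [← relIndex_mul_relIndex _ E₁ E (map_subtype_le _) hE₁.1]
      intro hd
      rcases ht.out.dvd_mul.1 hd with h | h
      · rw [relIndex, ← comap_subtype, comap_map_eq_self_of_injective E₁.subtype_injective] at h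
        exact P.not_dvd_index h
      · exact hE₁.2.2 t ht.out h1 h
    · rintro _ ⟨⟨x, hx⟩, -, rfl⟩
      exact mem_centralizer_singleton_iff.2 (congrArg Subtype.val (mul_comm (⟨x, hx⟩ : E₁) ⟨a, haE₁⟩))
  · obtain ⟨E₃, hE₃⟩ := CfsgLib.InvariantHall.exists_isPiHallOf (π := Cfsg.tau3 M) (G := E) hEs
    obtain ⟨-, -, hn⟩ := (Compl.tau_structure hG hM hE).2 E₃ hE₃
    have hqE₃ : ¬ q ∣ Nat.card E₃ := fun h => hq1.2.2.2.1 (hE₃.2.1 q hq.out h).2.2.1
    obtain ⟨T, -, hTE₃, hTp, haT, hTd⟩ := Excep.exists_inv_sylow (t := t) (line_le_normalizer ha hn)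
      (by rw [Nat.card_zpowers, hao]; exact hq.out.coprime_iff_not_dvd.2 hqE₃)
      (Or.inr (solvable_le hG hM (hE₃.1.trans hE.1))) bot_le IsPGroup.of_bot (Excep.le_normalizer_bot _)
    refine ⟨T, hTE₃.trans hE₃.1, hTp, ?_, ?_⟩
    · rw [← relIndex_mul_relIndex T E₃ E hTE₃ hE₃.1]
      exact fun hd => (ht.out.dvd_mul.1 hd).elim hTd (hE₃.2.2 t ht.out h3)
    · refine (commutator_eq_bot_iff_le_centralizer.1 (by_contra fun h1 => htL ?_)).trans
        (FixedLine.centralizer_zpowers_le a)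
      exact (Excep.isPGroup_ne_bot_dvd (hTp.to_le (le_normalizer_iff_commutator_le_left.1 haT)) h1).trans
        (card_dvd_of_le (commutator_mono ((hTE₃.trans hE₃.1).trans hEL) (zpowers_le.2 (hEL ha))))

section Fixed

variable {M E : Subgroup G} (hM : IsCoatom M) (hE : Cfsg.IsComplIn E (Cfsg.sigmaCore M) M) {r : ℕ}
  [hr' : Fact r.Prime] (hr3 : r ∈ Cfsg.tau3 M) {u : G} (hu : u ∈ E) (huo : orderOf u = r)
  (hY : Cfsg.sigmaCore M ⊓ centralizer ({u} : Set G) ≠ ⊥)
include hM hE hr3 hu huo hY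

/-- The elements of prime order of `τ₁(M)` centralize such a line. -/
theorem tau_one_centralizes {q : ℕ} [hq : Fact q.Prime] (hq1 : q ∈ Cfsg.tau1 M) {a : G} (ha : a ∈ E)
    (hao : orderOf a = q) : Commute a u := by
  classical
  by_contra hmove
  set K := Cfsg.sigmaCore M with hK
  obtain ⟨-, hrσ, -, hr1⟩ := id hr3
  obtain ⟨-, hqσ, -, hqd, hqr⟩ := id hq1
  have hKM : K ≤ M := map_subtype_le _
  have haM : a ∈ M := hE.1 ha
  have huM : u ∈ M := hE.1 hu
  have hU : Nat.card (zpowers u) = r := by rw [Nat.card_zpowers, huo]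
  obtain ⟨L, hL, hNL⟩ := (eq_top_or_exists_le_coatom (normalizer (zpowers u : Set G))).resolve_left
    (Excep.normalizer_line_ne_top hG hU)
  have hrL := sigma_or_tau_two hG hM hL hrσ hr1 huo hNL
  have hne : L ≠ M := line_ne hG hM hL hrσ hr1 huo hNL
  have hnc := line_not_conj hG hM hL hrσ hr1 huo hNL
  have hEN : E ≤ normalizer (zpowers u : Set G) := normalizes_line hG hM hE hr3 hu huo
  have hEL : E ≤ L := hEN.trans hNL
  have haL : a ∈ L := hEL ha
  have huL : u ∈ L := hEL hu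
  have hCuL : centralizer ({u} : Set G) ≤ L := centralizer_le_over hG hNL
  have hcent : K ⊓ L ≤ centralizer ({u} : Set G) := inter_le_centralizer hG hM hL hne hrσ hr1 huM huL huo
    (hrL.imp_right Or.inl)
  have hfix : ¬ K ⊓ centralizer ({a} : Set G) ≤ centralizer (zpowers u : Set G) := by
    intro hle
    have hqr' : q ≠ r := fun e => hqd (e ▸ hr3.2.2.1)
    have hnc' : zpowers u ⊓ centralizer ({a} : Set G) = ⊥ := (eq_bot_iff_forall _).2 fun c hc => by_contra fun hc1 => by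
      have e : zpowers c = zpowers u := eq_of_le_of_card_ge (zpowers_le.2 hc.1) (by
        rw [hU, Nat.card_zpowers, ← (Nat.dvd_prime hr'.out).1 (hU ▸ Nat.card_zpowers c ▸ card_dvd_of_le
          (zpowers_le.2 hc.1)) |>.resolve_left fun e => hc1 (orderOf_eq_one_iff.1 e)])
      obtain ⟨i, hi⟩ := mem_zpowers_iff.1 (e.ge (mem_zpowers u))
      exact hmove (hi ▸ ((show Commute c a from mem_centralizer_singleton_iff.1 hc.2).symm.zpow_right i))
    have h := frobenius_kills (l := q) (solvable_le hG hM hKM)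
      (solvable_le hG hM (sup_le (zpowers_le.2 huM) (zpowers_le.2 haM))) hao (not_dvd_core hG hM hq.out hqσ)
      (by rw [hU]; exact hr'.out.coprime_iff_not_dvd.2 (not_dvd_core hG hM hr'.out hrσ))
      (line_le_normalizer huM (TH.le_normalizer_core M)) (TH.le_normalizer_core M haM) (hEN ha) hnc' hle
    have hMN : M ≤ normalizer (zpowers u : Set G) :=
      (Compl.card_eq hG hM hE).2.1.ge.trans (sup_le hEN (h.trans (centralizer_le_normalizer _)))
    rcases eq_or_lt_of_le (hMN.trans hNL) with e | hlt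
    · exact hne e.symm
    · exact hL.1 (hM.2 _ hlt)
  have hout : ¬ centralizer ({a} : Set G) ≤ L := fun h => hfix (le_trans
    (le_trans (inf_le_inf_left K h) hcent) (FixedLine.le_centralizer_zpowers le_rfl))
  have huniq : ∀ {y : G} {s : ℕ}, s.Prime → y ∈ K → orderOf y = s → Commute y a →
      centralizer ({y} : Set G) ≤ M ∧ ∀ L' : Subgroup G, IsCoatom L' → centralizer ({y} : Set G) ≤ L' → L' = M :=
    fun hs hy hyo hya => by
      haveI := Fact.mk hs
      exact (fixed_unique hG hM hq1 haM hao hy hyo hya).1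
  set Y := K ⊓ L with hYdef
  have hYL : Y ≤ L := inf_le_right
  have hY1 : Y ≠ ⊥ := fun e => hY (le_bot_iff.1 ((inf_le_inf_left K hCuL).trans e.le))
  have hYσM : ∀ {s : ℕ}, s.Prime → s ∣ Nat.card Y → s ∈ Cfsg.sigma M := fun hs hd =>
    (Sig.sigma_core hG hM).1.2.1 _ hs (hd.trans (card_dvd_of_le inf_le_left))
  have hqY : ¬ q ∣ Nat.card Y := fun h => hqσ (hYσM hq.out h)
  have haY : a ∈ normalizer (Y : Set G) :=
    inf_normalizer_le_normalizer_inf ⟨TH.le_normalizer_core M haM, le_normalizer haL⟩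
  have hacore : q ∈ Cfsg.sigma L → a ∈ Cfsg.sigmaCore L := fun h =>
    mem_core_of_order hG hL (j := 1) haL (by rw [hao, pow_one]) h
  by_cases hqL : q ∈ Cfsg.sigma L
  · -- `q ∈ σ(L)`
    have hdis : ∀ {s : ℕ}, s ∈ Cfsg.sigma M → s ∉ Cfsg.sigma L := fun hs =>
      sigma_disjoint_of_tau_one hG hM hL hqL hq1 hs
    have hYa : Y ≤ centralizer ({a} : Set G) := inter_le_centralizer hG hM hL hne hqσ hqr haM haL hao (Or.inl hqL)
    obtain ⟨s, hs, y, hy, hyo⟩ := exists_order_prime hY1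
    haveI := Fact.mk hs
    have hsσ := hdis (hYσM hs (dvd_of_mem hy hyo))
    have hya : Commute y a := mem_centralizer_singleton_iff.1 (hYa hy)
    have hCy := huniq hs hy.1 hyo hya
    obtain ⟨F, hF, hyF⟩ := Tau.exists_complement_of hG hL (zpowers_le.2 (hYL hy)) fun v hv hd => by
      rw [Nat.card_zpowers, hyo] at hd
      exact (Nat.prime_dvd_prime_iff_eq hv hs).1 hd ▸ hsσ
    rw [zpowers_le] at hyF
    have ha1 : a ≠ 1 := fun e => hq.out.ne_one (by rw [← hao, e, orderOf_one])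
    suffices h : ∃ t : ℕ, t ∈ Cfsg.tau1 L ∧ ∃ z ∈ L, orderOf z = t ∧ Commute a z by
      obtain ⟨t, ht, z, hzL, hzo, hza⟩ := h
      haveI := Fact.mk ht.1
      exact hout (fixed_unique hG hL ht hzL hzo (hacore hqL) hao hza).1.1
    rcases Tau.tau_cases hG hL hF hs (dvd_of_mem hyF hyo) with h1 | h2 | h3
    · exact ⟨s, h1, y, hYL hy, hyo, hya.symm⟩
    · exfalso
      exact hne (hCy.2 L hL (Tau.tau_element_centralizer hG hL (hYL hy)
        (fun e => hs.ne_one (by rw [← hyo, e, orderOf_one]))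
        (fun v hv hvd => (Nat.prime_dvd_prime_iff_eq hv hs).1 (hyo ▸ hvd) ▸ h2) (hacore hqL) ha1 hya.eq).1)
    · have hfixy : Cfsg.sigmaCore L ⊓ centralizer ({y} : Set G) ≠ ⊥ := fun e => ha1 (mem_bot.1
        (e.le ⟨hacore hqL, mem_centralizer_singleton_iff.2 hya.symm.eq⟩))
      have hFM : F ≤ M := (normalizes_line hG hL hF h3 hyF hyo).trans (line_normalizer_le hG hyo hCy.2)
      obtain ⟨g, hg, t, ht, ⟨j, hgo⟩, hgy⟩ := tau_three_moved hG hL hF h3 hyF hyo
      haveI := Fact.mk ht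
      have ht1 := mover_tau_one hG hL hF h3 hyF hyo hfixy hg hgo hgy
      obtain ⟨i, rfl⟩ := exists_pow_succ hgo hgy
      refine ⟨t, ht1, ?_⟩
      by_cases htM : t ∈ Cfsg.sigma M
      · have hgK : g ∈ K := mem_core_of_order hG hM (hFM hg) hgo htM
        exact ⟨g ^ t ^ i, pow_mem (hF.1 hg) _, orderOf_pow_bottom hgo, (show Commute (g ^ t ^ i) a from
          mem_centralizer_singleton_iff.1 (hYa ⟨pow_mem hgK _, pow_mem (hF.1 hg) _⟩)).symm⟩
      · have htE : t ∣ Nat.card E := by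
          have h := (dvd_pow_self t (Nat.succ_ne_zero i)).trans (dvd_of_mem (hFM hg) hgo)
          rw [← CfsgLib.InvariantHall.relIndex_mul_card hKM, ← (Compl.card_eq hG hM hE).1] at h
          exact (ht.dvd_mul.1 h).resolve_left (not_dvd_core hG hM ht htM)
        have htτ : t ∈ Cfsg.tau1 M ∨ t ∈ Cfsg.tau3 M := by
          rcases Tau.tau_cases hG hM hE ht htE with h | h | h
          · exact Or.inl h
          · exact absurd h (tau_two_empty hG hM hE hr3 hu huo hY t)
          · exact Or.inr h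
        obtain ⟨T, hTE, -, hTd, hTa⟩ := exists_sylow_centralized hG hM hE hEL hq1 ha hao htτ ht1.2.2.2.1
        have htT : t ∣ Nat.card T := by
          rw [← CfsgLib.InvariantHall.relIndex_mul_card hTE] at htE
          exact (ht.dvd_mul.1 htE).resolve_right hTd
        obtain ⟨z, hz⟩ := exists_prime_orderOf_dvd_card' (G := T) t htT
        exact ⟨(z : G), hEL (hTE z.2), by rw [orderOf_coe, hz],
          (show Commute (z : G) a from mem_centralizer_singleton_iff.1 (hTa z.2)).symm⟩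
  -- `q ∉ σ(L)`
  have hqdL : q ∣ Nat.card L := dvd_of_mem haL hao
  have hqdis : q ∉ Cfsg.tau1 L → ∀ {s : ℕ}, s ∈ Cfsg.sigma M → s ∉ Cfsg.sigma L := fun h _ hsM hsL =>
    h (tau_one_of_common hG hM hL hqL hqdL hq1 hsM hsL)
  have hqτ1 : q ∈ Cfsg.tau1 L := by
    by_contra hnot
    have hdis : ∀ {s : ℕ}, s ∈ Cfsg.sigma M → s ∉ Cfsg.sigma L := fun hs => hqdis hnot hs
    have hτ : q ∈ Cfsg.tau2 L ∨ q ∈ Cfsg.tau3 L := by
      obtain ⟨F, hF, haF⟩ := Tau.exists_complement_of hG hL (zpowers_le.2 haL) fun v hv hd => by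
        rw [Nat.card_zpowers, hao] at hd
        exact (Nat.prime_dvd_prime_iff_eq hv hq.out).1 hd ▸ hqL
      exact (Tau.tau_cases hG hL hF hq.out (dvd_of_mem (haF (mem_zpowers a)) hao)).resolve_left hnot
    by_cases hrσL : r ∈ Cfsg.sigma L
    swap
    · obtain ⟨F, hF, huF, haF⟩ := exists_complement_pair hG hL (zpowers_le.2 huL) (Excep.primes_of_pgroup
        (IsPGroup.of_card (n := 1) (by rw [hU, pow_one])) (π := {v | v ∉ Cfsg.sigma L}) hrσL) haL hao hqL (hEN ha)
      exact hmove (commute_of_normal hG hL hF (t := q) (t' := r) (fun e => hqd (e ▸ hr3.2.2.1)) hτ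
        (Or.inl (hrL.resolve_left hrσL)) haF hao (huF (mem_zpowers u)) huo)
    have hYa : Y ≤ centralizer ({a} : Set G) := inter_le_centralizer hG hM hL hne hqσ hqr haM haL hao
      (Or.inr (hτ.imp_right fun h => ⟨h, fun _ hs => hdis hs⟩))
    obtain ⟨s, hs, y, hy, hyo⟩ := exists_order_prime hY1
    haveI := Fact.mk hs
    have hsσ := hdis (hYσM hs (dvd_of_mem hy hyo))
    have hya : Commute y a := mem_centralizer_singleton_iff.1 (hYa hy)
    have hCy := huniq hs hy.1 hyo hya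
    have huσ : u ∈ Cfsg.sigmaCore L := mem_core_of_order hG hL (j := 1) huL (by rw [huo, pow_one]) hrσL
    have hu1 : u ≠ 1 := fun e => hr'.out.ne_one (by rw [← huo, e, orderOf_one])
    have hyu : Commute y u := mem_centralizer_singleton_iff.1 (hcent hy)
    have hfixy : Cfsg.sigmaCore L ⊓ centralizer ({y} : Set G) ≠ ⊥ := fun e => hu1 (mem_bot.1
      (e.le ⟨huσ, mem_centralizer_singleton_iff.2 hyu.symm.eq⟩))
    obtain ⟨F, hF, haF, hyF⟩ := exists_complement_pair hG hL (zpowers_le.2 haL) (Excep.primes_of_pgroup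
      (IsPGroup.of_card (n := 1) (by rw [Nat.card_zpowers, hao, pow_one])) (π := {v | v ∉ Cfsg.sigma L}) hqL)
      (hYL hy) hyo hsσ (centralizer_le_normalizer _ (FixedLine.le_centralizer_zpowers le_rfl
        (mem_centralizer_singleton_iff.2 hya.eq)))
    rw [zpowers_le] at haF
    rcases Tau.tau_cases hG hL hF hs (dvd_of_mem hyF hyo) with h1 | h2 | h3
    · rcases hτ with hq2 | hq3
      · obtain ⟨A, T, hA, hA2, -, hAT, haT, hTF, -⟩ := Tau.exists_sylow_data hG hL hF hq2
          (IsPGroup.of_card (n := 1) (by rw [Nat.card_zpowers, hao, pow_one])) (zpowers_le.2 haF)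
        have haA : a ∈ A := (Cfsg.Agent.S1418.result hG L hL F hF q hq2 A ⟨hAT.trans hTF, hA, hA2⟩).1.2 _
          (zpowers_le.2 haF) (by rw [Nat.card_zpowers, hao]) (mem_zpowers a)
        have h := (tau_two_fixed hG hL hF hq2 hA hA2 (hAT.trans hTF) h1 hyF hyo hfixy).le
          ⟨haA, mem_centralizer_singleton_iff.2 hya.symm.eq⟩
        exact hq.out.ne_one (by rw [← hao, orderOf_eq_one_iff]; exact mem_bot.1 h)
      · exact hmove (mem_centralizer_singleton_iff.1 (Tau.tau_one_fixed hG hL hF h1.2.1 h1.2.2.2.1 h1.2.2.2.2 hyo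
          hyF hao haF hya.symm ⟨huσ, mem_centralizer_singleton_iff.2 hyu.symm.eq⟩)).symm
    · exact hne (hCy.2 L hL (Tau.tau_element_centralizer hG hL (hYL hy)
        (fun e => hs.ne_one (by rw [← hyo, e, orderOf_one]))
        (fun v hv hvd => (Nat.prime_dvd_prime_iff_eq hv hs).1 (hyo ▸ hvd) ▸ h2) huσ hu1 hyu.eq).1)
    · rcases hτ with hq2 | hq3
      · exact tau_two_empty hG hL hF h3 hyF hyo hfixy q hq2
      · have hFM : F ≤ M := (normalizes_line hG hL hF h3 hyF hyo).trans (line_normalizer_le hG hyo hCy.2)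
        exact hqd (((Compl.dvd_derived_iff hG hL hF hqL).1 hq3.2.2.1).trans
          (card_dvd_of_le (commutator_mono hFM hFM)))
  -- no fixed points of `a` on `L_σ`
  have hfpf : Cfsg.sigmaCore L ⊓ centralizer ({a} : Set G) = ⊥ := by
    by_contra hne'
    obtain ⟨y, ⟨hyK, hya⟩, hy1⟩ : ∃ y ∈ K ⊓ centralizer ({a} : Set G), y ≠ 1 :=
      (bot_or_exists_ne_one _).resolve_left fun e => hfix (e.le.trans bot_le)
    obtain ⟨l, hl, w, hw, hwo⟩ := exists_order_prime hne'
    haveI := Fact.mk hl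
    obtain ⟨s, hs, y', hy', hy'o⟩ := exists_order_prime (fun e => hy1 (mem_bot.1 (e.le ⟨hyK, hya⟩)) :
      K ⊓ centralizer ({a} : Set G) ≠ ⊥)
    haveI := Fact.mk hs
    obtain ⟨t, htL, m, hm, hmo, hma⟩ := junction hG hM hL hq1 hqτ1 haM haL hao hy'.1 hy'o
      (mem_centralizer_singleton_iff.1 hy'.2) hw.1 hwo (mem_centralizer_singleton_iff.1 hw.2)
    haveI := Fact.mk htL.1
    by_cases htM : t ∈ Cfsg.sigma M
    · exact fixed_not_sigma hG hM hL hnc hq1 haM hao (mem_core_of_order hG hM (j := 1) hm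
        (by rw [hmo, pow_one]) htM) hmo hma htL
    · obtain ⟨e, he, heo, hea⟩ := exists_in_complement hE htL.1 (not_dvd_core hG hM htL.1 htM) ha hm hmo hma
      have heσ : e ∈ Cfsg.sigmaCore L := mem_core_of_order hG hL (j := 1) (hEL he) (by rw [heo, pow_one]) htL
      have hCe := (fixed_unique hG hL hqτ1 haL hao heσ heo hea).1.1
      refine hfix (le_trans (le_trans (le_inf inf_le_left ?_) hcent) (FixedLine.le_centralizer_zpowers le_rfl))
      exact (Tau.tau_one_fixed hG hM hE hqσ hqd hqr hao ha heo he hea).trans hCe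
  have hdis : ∀ {s : ℕ}, s ∈ Cfsg.sigma M → s ∉ Cfsg.sigma L := fun {s} hsM hsL => by
    haveI := Fact.mk hsM.1
    rcases hrL with h | h
    · obtain ⟨g, hg⟩ := conj_of_common_nilpotent hG hM hL (nilpotent_of_fpf hG hL haL hao hfpf) hsL hsM
      exact hnc g hg
    · exact sigma_disjoint_of_tau_two hG hL h hr1 hsM hsL
  have hYσ : ∀ s : ℕ, s.Prime → s ∣ Nat.card Y → s ∉ Cfsg.sigma L := fun s hs hd => hdis (hYσM hs hd)
  have hYn : Y ≤ normalizer (Cfsg.sigmaCore L : Set G) := hYL.trans (TH.le_normalizer_core L)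
  have hcop : ∀ {D : Subgroup G}, D ≤ Y → (Nat.card D).Coprime (Nat.card (Cfsg.sigmaCore L)) := fun hD =>
    Nat.coprime_of_dvd fun s hs h1 h2 =>
      hYσ s hs (h1.trans (card_dvd_of_le hD)) ((Sig.sigma_core hG hL).1.2.1 s hs h2)
  have hkill : ∀ {D : Subgroup G}, D ≤ Y → a ∈ normalizer (D : Set G) → D ⊓ centralizer ({a} : Set G) = ⊥ →
      Cfsg.sigmaCore L ≤ centralizer (D : Set G) := fun {D} hD haD hDa =>
    frobenius_kills (l := q) (solvable_le hG hL (map_subtype_le _))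
      (solvable_le hG hL (sup_le (hD.trans hYL) (zpowers_le.2 haL))) hao (not_dvd_core hG hL hq.out hqL) (hcop hD)
      (hD.trans hYn) (TH.le_normalizer_core L haL) haD hDa (hfpf.le.trans bot_le)
  rcases hrL with hrσL | hr2L
  · have huσ : u ∈ Cfsg.sigmaCore L := mem_core_of_order hG hL (j := 1) huL (by rw [huo, pow_one]) hrσL
    have hu1 : u ≠ 1 := fun e => hr'.out.ne_one (by rw [← huo, e, orderOf_one])
    by_cases hYa : Y ≤ centralizer ({a} : Set G)
    swap
    · obtain ⟨W, hWY, hW1, hWL', haW, hWa⟩ := exists_moved hG hL hYL hYσ haL hao hqY haY hYa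
      obtain ⟨s, hs, y, hy, hyo⟩ := exists_order_prime hW1
      haveI := Fact.mk hs
      exact derived_absurd hG hM hL hne huσ hu1 hcent (hWY hy).1 (hWL' hy) hyo (hYσ s hs (dvd_of_mem (hWY hy) hyo))
        ((hkill hWY haW hWa).trans (centralizer_le (Set.singleton_subset_iff.2 hy)))
    obtain ⟨s, hs, y, hy, hyo⟩ := exists_order_prime hY1
    haveI := Fact.mk hs
    have hsσ := hYσ s hs (dvd_of_mem hy hyo)
    have hya : Commute y a := mem_centralizer_singleton_iff.1 (hYa hy)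
    have hCy := huniq hs hy.1 hyo hya
    have hyu : Commute y u := mem_centralizer_singleton_iff.1 (hcent hy)
    obtain ⟨F, hF, haF, hyF⟩ := exists_complement_pair hG hL (zpowers_le.2 haL) (Excep.primes_of_pgroup
      (IsPGroup.of_card (n := 1) (by rw [Nat.card_zpowers, hao, pow_one])) (π := {v | v ∉ Cfsg.sigma L}) hqL)
      (hYL hy) hyo hsσ (centralizer_le_normalizer _ (FixedLine.le_centralizer_zpowers le_rfl
        (mem_centralizer_singleton_iff.2 hya.eq)))
    rw [zpowers_le] at haF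
    rcases Tau.tau_cases hG hL hF hs (dvd_of_mem hyF hyo) with h1 | h2 | h3
    · exact hmove (mem_centralizer_singleton_iff.1 (Tau.tau_one_fixed hG hL hF h1.2.1 h1.2.2.2.1 h1.2.2.2.2 hyo
        hyF hao haF hya.symm ⟨huσ, mem_centralizer_singleton_iff.2 hyu.symm.eq⟩)).symm
    · exact hne (hCy.2 L hL (Tau.tau_element_centralizer hG hL (hYL hy)
        (fun e => hs.ne_one (by rw [← hyo, e, orderOf_one]))
        (fun v hv hvd => (Nat.prime_dvd_prime_iff_eq hv hs).1 (hyo ▸ hvd) ▸ h2) huσ hu1 hyu.eq).1)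
    have hfixy : Cfsg.sigmaCore L ⊓ centralizer ({y} : Set G) ≠ ⊥ := fun e => hu1 (mem_bot.1
      (e.le ⟨huσ, mem_centralizer_singleton_iff.2 hyu.symm.eq⟩))
    have hFy := normalizes_line hG hL hF h3 hyF hyo
    have hFM : F ≤ M := hFy.trans (line_normalizer_le hG hyo hCy.2)
    obtain ⟨g, hg, t, ht, ⟨j, hgo⟩, hgy⟩ := tau_three_moved hG hL hF h3 hyF hyo
    haveI := Fact.mk ht
    have ht1 := mover_tau_one hG hL hF h3 hyF hyo hfixy hg hgo hgy
    obtain ⟨i, rfl⟩ := exists_pow_succ hgo hgy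
    by_cases htM : t ∈ Cfsg.sigma M
    · have hg0 : g ^ t ^ i ∈ Y := ⟨pow_mem (mem_core_of_order hG hM (hFM hg) hgo htM) _, pow_mem (hF.1 hg) _⟩
      have hga : Commute a (g ^ t ^ i) := (show Commute (g ^ t ^ i) a from
        mem_centralizer_singleton_iff.1 (hYa hg0)).symm
      exact hmove (mem_centralizer_singleton_iff.1 (Tau.tau_one_fixed hG hL hF ht1.2.1 ht1.2.2.2.1 ht1.2.2.2.2
        (orderOf_pow_bottom hgo) (pow_mem hg _) hao haF hga
        ⟨huσ, mem_centralizer_singleton_iff.2 (mem_centralizer_singleton_iff.1 (hcent hg0)).symm⟩)).symm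
    have htE : t ∣ Nat.card E := by
      have h := (dvd_pow_self t (Nat.succ_ne_zero i)).trans (dvd_of_mem (hFM hg) hgo)
      rw [← CfsgLib.InvariantHall.relIndex_mul_card hKM, ← (Compl.card_eq hG hM hE).1] at h
      exact (ht.dvd_mul.1 h).resolve_left (not_dvd_core hG hM ht htM)
    have hr1t : Cfsg.PRankLE t 1 M ∧ (t ∈ Cfsg.tau1 M ∨ t ∈ Cfsg.tau3 M) := by
      rcases Tau.tau_cases hG hM hE ht htE with h | h | h
      · exact ⟨h.2.2.2.2, Or.inl h⟩
      · exact absurd h (tau_two_empty hG hM hE hr3 hu huo hY t)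
      · exact ⟨h.2.2.2, Or.inr h⟩
    obtain ⟨T, hTE, hTp, hTd, hTa⟩ := exists_sylow_centralized hG hM hE hEL hq1 ha hao hr1t.2 ht1.2.2.2.1
    have hEML : E ≤ M ⊓ L := le_inf hE.1 hEL
    have hTd' : ¬ t ∣ T.relIndex (M ⊓ L) := by
      rw [← relIndex_mul_relIndex T E _ hTE hEML]
      intro hd
      rcases ht.dvd_mul.1 hd with h | h
      · exact hTd h
      · refine not_dvd_core hG hM ht htM (h.trans ?_)
        have h2 : E.relIndex M = Nat.card K := by
          have h3 := CfsgLib.InvariantHall.relIndex_mul_card hE.1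
          rw [← CfsgLib.InvariantHall.relIndex_mul_card hKM, ← (Compl.card_eq hG hM hE).1, mul_comm (Nat.card K)] at h3
          exact Nat.eq_of_mul_eq_mul_left Nat.card_pos h3
        exact h2 ▸ Dvd.intro _ (relIndex_mul_relIndex E (M ⊓ L) M hEML inf_le_left)
    obtain ⟨x, hx, hxg⟩ := Tau.exists_conj_mem (hTE.trans hEML) hTd' ⟨hFM hg, hF.1 hg⟩ hgo
    obtain ⟨n, hn⟩ := hTp ⟨_, hxg⟩
    obtain ⟨k, -, hk⟩ := (Nat.dvd_prime_pow ht).1 (orderOf_dvd_of_pow_eq_one hn)
    rw [← orderOf_coe] at hk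
    have hb : Commute y (x * g * x⁻¹) := mem_centralizer_singleton_iff.1
      (fixed_le_prime_power hG hM hE hq1 ha hao hr1t.1 (hTE hxg) hk
        (mem_centralizer_singleton_iff.1 (hTa hxg)) ⟨hy.1, mem_centralizer_singleton_iff.2 hya.eq⟩)
    have hxN : x ∈ normalizer (zpowers y : Set G) := by
      obtain ⟨f, hf, k', hk', e⟩ := hF.2.2.2 x hx.2
      have hk'M : k' ∈ M := by
        rw [show k' = f⁻¹ * x by rw [e]; group]
        exact M.mul_mem (M.inv_mem (hFM hf)) hx.1
      have h1 : Cfsg.sigmaCore L ⊓ M ≤ centralizer (Y : Set G) :=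
        centralizes_of_disjoint
          ((le_inf (hYL.trans (TH.le_normalizer_core L)) ((inf_le_left.trans hKM).trans le_normalizer)).trans
            inf_normalizer_le_normalizer_inf)
          ((le_inf (inf_le_right.trans (TH.le_normalizer_core M))
            ((inf_le_left.trans (map_subtype_le _)).trans le_normalizer)).trans inf_normalizer_le_normalizer_inf)
          ((hcop le_rfl).coprime_dvd_right (card_dvd_of_le inf_le_left)).symm
      rw [e]
      refine mul_mem (hFy hf) (centralizer_le_normalizer _ (FixedLine.le_centralizer_zpowers le_rfl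
        (mem_centralizer_singleton_iff.2 ?_)))
      exact (mem_centralizer_iff.1 (h1 ⟨hk', hk'M⟩) y hy).symm
    have hyc : x⁻¹ * y * x ∈ zpowers y := (mem_normalizer_iff''.1 hxN y).1 (mem_zpowers y)
    have e : zpowers (x⁻¹ * y * x) = zpowers y := eq_of_le_of_card_ge (zpowers_le.2 hyc) (by
      rw [Nat.card_zpowers, Nat.card_zpowers, show x⁻¹ * y * x = MulAut.conj x⁻¹ y by simp, MulEquiv.orderOf_eq])
    have h4 : Commute (x⁻¹ * y * x) g := by
      have := hb.map (MulAut.conj x⁻¹).toMonoidHom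
      simp only [MulEquiv.toMonoidHom_eq_coe, MonoidHom.coe_coe, MulAut.conj_apply, inv_inv] at this
      rwa [show x⁻¹ * (x * g * x⁻¹) * x = g by group] at this
    obtain ⟨i', hi'⟩ := mem_zpowers_iff.1 (e.ge (mem_zpowers y))
    exact hgy (hi' ▸ h4.symm.zpow_right i')
  · -- `r ∈ τ₂(L)`
    have hYa : Y ⊓ centralizer ({a} : Set G) = ⊥ := by
      by_contra hne'
      obtain ⟨s, hs, y, hy, hyo⟩ := exists_order_prime hne'
      haveI := Fact.mk hs
      have hsM := hYσM hs (dvd_of_mem hy.1 hyo)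
      exact tau_two_absurd hG hL hne hr2L hr1 huo hNL hyo (fun e => hrσ (e ▸ hsM))
        (show Commute y u from mem_centralizer_singleton_iff.1 (hcent hy.1)).symm (hdis hsM)
        (huniq hs hy.1.1 hyo (mem_centralizer_singleton_iff.1 hy.2))
    have hLY := hkill le_rfl haY hYa
    obtain ⟨w, hw, hw1⟩ := (bot_or_exists_ne_one (Cfsg.sigmaCore L)).resolve_left
      (Tau.sigmaCore_ne_bot hG hL (Nat.lt_of_lt_of_le hq.out.one_lt (Nat.le_of_dvd Nat.card_pos hqdL)))
    obtain ⟨W, hWY, hW1, hWL', -, -⟩ := exists_moved hG hL hYL hYσ haL hao hqY haY fun h => hY1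
      (le_bot_iff.1 ((le_inf le_rfl h).trans hYa.le))
    obtain ⟨s, hs, y, hy, hyo⟩ := exists_order_prime hW1
    haveI := Fact.mk hs
    exact derived_absurd hG hM hL hne hw hw1 (fun z hz => mem_centralizer_singleton_iff.2
      (mem_centralizer_iff.1 (hLY hw) z hz)) (hWY hy).1 (hWL' hy) hyo (hYσ s hs (dvd_of_mem (hWY hy) hyo))
      (hLY.trans (centralizer_le (Set.singleton_subset_iff.2 (hWY hy))))

end Fixed

end CfsgLib.OddLocal.Kap
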