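import Cfsg.Agent.OddLocal.KappaNonNilpotentMain

/-!
BG 15.2: the complement of `Q` acts on `Q` as an abelian group.
-/

set_option autoImplicit false
set_option linter.style.haveILetI false
set_option linter.unusedSectionVars false

namespace CfsgLib.OddLocal.Kap

open Subgroup Cfsg CfsgLib.OddLocal
open scoped commutatorElement Pointwise

universe u

variable {G : Type u} [Group G] [Finite G]

/-- The endomorphisms commuting with a commutative set having a cyclic vector commute with one another. -/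
theorem commutant_comm {V : Type*} [CommGroup V] {ι : Type*} (f : ι → V →* V) (hf : ∀ i j x, f i (f j x) = f j (f i x))
    (v : V) (hv : closure (Set.range fun i => f i v) = ⊤) {A B : V →* V} (hA : ∀ i x, A (f i x) = f i (A x))
    (hB : ∀ i x, B (f i x) = f i (B x)) (x : V) : A (B x) = B (A x) := by
  have key : ∀ w : V, ∃ φ : V →* V, φ v = w ∧
      ∀ C : V →* V, (∀ i x, C (f i x) = f i (C x)) → ∀ x, φ (C x) = C (φ x) := by
    intro w
    have hw : w ∈ closure (Set.range fun i => f i v) := hv ▸ mem_top w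
    induction hw using closure_induction with
    | mem y hy => obtain ⟨i, rfl⟩ := hy; exact ⟨f i, rfl, fun C hC x => (hC i x).symm⟩
    | one => exact ⟨1, rfl, fun C _ x => (map_one C).symm⟩
    | mul y z _ _ hy hz =>
      obtain ⟨φ, hφ, hφc⟩ := hy
      obtain ⟨ψ, hψ, hψc⟩ := hz
      exact ⟨φ * ψ, by rw [MonoidHom.mul_apply, hφ, hψ],
        fun C hC x => by rw [MonoidHom.mul_apply, MonoidHom.mul_apply, hφc C hC, hψc C hC, map_mul]⟩
    | inv y _ hy =>
      obtain ⟨φ, hφ, hφc⟩ := hy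
      exact ⟨φ⁻¹, by rw [MonoidHom.inv_apply, hφ],
        fun C hC x => by rw [MonoidHom.inv_apply, MonoidHom.inv_apply, hφc C hC, map_inv]⟩
  obtain ⟨φA, hφA, hAc⟩ := key (A v)
  obtain ⟨φB, hφB, hBc⟩ := key (B v)
  have hφBf : ∀ i x, φB (f i x) = f i (φB x) := fun i x => hBc (f i) (fun j y => hf i j y) x
  have hvAB : A (B v) = B (A v) := by
    calc A (B v) = φB (φA v) := by rw [← hφB, ← hBc A hA, hφA]
      _ = φA (φB v) := (hAc φB hφBf v).symm
      _ = B (A v) := by rw [← hφA, ← hAc B hB, hφB]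
  have hx : x ∈ closure (Set.range fun i => f i v) := hv ▸ mem_top x
  induction hx using closure_induction with
  | mem y hy => obtain ⟨i, rfl⟩ := hy; simp only [hA, hB, hvAB]
  | one => simp
  | mul y z _ _ hy hz => simp [hy, hz]
  | inv y _ hy => simp [hy]

theorem normalizer_le_lowerCentral (D : Subgroup G) (n : ℕ) :
    normalizer (D : Set G) ≤ normalizer (D.lowerCentralSeries n : Set G) := by
  induction n with
  | zero => rw [Subgroup.lowerCentralSeries_zero]
  | succ n ih =>
    intro g hg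
    refine Uniq.mem_normalizer_of_map_le ?_
    rw [Subgroup.lowerCentralSeries_succ, map_commutator]
    exact commutator_mono (mem_normalizer_iff_map_conj_eq.1 (ih hg)).le (mem_normalizer_iff_map_conj_eq.1 hg).le

theorem lowerCentral_le (D : Subgroup G) (n : ℕ) : D.lowerCentralSeries n ≤ D :=
  ((Subgroup.lowerCentralSeries_antitone (S := D)) (Nat.zero_le n)).trans (Subgroup.lowerCentralSeries_zero D).le

theorem exists_lowerCentral_bot (D : Subgroup G) (hD : Group.IsNilpotent D) :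
    ∃ n, D.lowerCentralSeries n = ⊥ :=
  (Subgroup.isNilpotent_iff_lowerCentralSeries D).1 hD

variable (hG : Cfsg.IsMinSimpleOddOrder G)
include hG

section Abelian

variable {M H : Subgroup G} (hM : IsCoatom M) (hH : Cfsg.IsPiHallOf (Cfsg.kappa M) H M)
  (hnn : ¬ Group.IsNilpotent (Cfsg.sigmaCore M)) {q : ℕ} [hq : Fact q.Prime] (hqs : Nat.card ↥(star M H) = q)
  {D : Subgroup G} (hD : Cfsg.IsComplIn (Bender.qc q (Cfsg.sigmaCore M)) D (Cfsg.sigmaCore M))
  (hHD : H ≤ normalizer (D : Set G))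
  (hqD : ¬ q ∣ Nat.card D) (hfpf : ∀ k ∈ H, k ≠ 1 → D ⊓ centralizer ({k} : Set G) = ⊥)
  (hDn : Group.IsNilpotent D)
include hM hH hnn hqs hD hHD hqD hfpf hDn

theorem deficient_derived_centralizes : ⁅D, D⁆ ≤ centralizer (Bender.qc q (Cfsg.sigmaCore M) : Set G) := by
  classical
  set S := Cfsg.sigmaCore M
  set Q := Bender.qc q S with hQdef
  set Q₀ := Q ⊓ centralizer (D : Set G) with hQ₀
  have hH1 := deficient_kappa hG hM hH hnn
  have hQn := deficient_q_normal hG hM hH hnn hqs
  have hDM := deficient_d_le hG hM hH hnn hqs hD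
  have hQ₀n := deficient_fixed_normal hG hM hH hnn hqs hD hHD hqD hfpf hDn
  have hDQn : D ≤ normalizer (Q : Set G) := hDM.trans hQn
  -- a term of the lower central series moving `Q`, central modulo `C(Q)`
  have hex : ∃ n, D.lowerCentralSeries n ≤ centralizer (Q : Set G) :=
    (exists_lowerCentral_bot D hDn).imp fun n hn => hn.le.trans bot_le
  obtain ⟨n, hn⟩ : ∃ n, Nat.find hex = n + 1 := by
    cases h : Nat.find hex with
    | zero =>
      exfalso
      have h0 := Nat.find_spec hex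
      rw [h, Subgroup.lowerCentralSeries_zero] at h0
      exact deficient_not_central hG hM hH hnn hqs hD hDn (le_centralizer_iff.1 h0)
    | succ n => exact ⟨n, rfl⟩
  set U := D.lowerCentralSeries n with hU
  have hUQ : ¬ U ≤ centralizer (Q : Set G) := Nat.find_min hex (by omega)
  have hUD : ⁅U, D⁆ ≤ centralizer (Q : Set G) := by
    have h := Nat.find_spec hex
    rwa [hn, Subgroup.lowerCentralSeries_succ] at h
  have hUle : U ≤ D := lowerCentral_le D n
  have hHU : H ≤ normalizer (U : Set G) := hHD.trans (normalizer_le_lowerCentral D n)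
  have hDU : D ≤ normalizer (U : Set G) := le_normalizer.trans (normalizer_le_lowerCentral D n)
  have hdis : U ⊓ H = ⊥ := by
    have hc : (Nat.card ↥S).Coprime (Nat.card H) := Nat.coprime_of_dvd fun r hr h1 h2 =>
      (hH.2.1 r hr h2).2.2.1 ((Sig.sigma_core hG hM).1.2.1 r hr h1)
    exact le_bot_iff.1 (fun y hy => (inf_eq_bot_of_coprime hc).le ⟨hD.2.1 (hUle hy.1), hy.2⟩)
  -- normal subgroups of `M` between `Q₀` and `Q`
  have hbetween : ∀ W : Subgroup G, Q₀ ≤ W → W ≤ Q → D ≤ normalizer (W : Set G) → H ≤ normalizer (W : Set G) →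
      M ≤ normalizer (W : Set G) := by
    intro W hW hWQ hDW hHW
    have hQW : Q ≤ normalizer (W : Set G) := fun a ha => Uniq.mem_normalizer_of_map_le (by
      rintro _ ⟨c, hc, rfl⟩
      show a * c * a⁻¹ ∈ W
      rw [show a * c * a⁻¹ = (a * c * a⁻¹ * c⁻¹) * c by group]
      exact W.mul_mem (hW (deficient_frattini hG hM hH hnn hqs hD hHD hqD hfpf hDn ha (hWQ hc)).2) hc)
    intro m hm
    obtain ⟨u, hu, v, hv, rfl⟩ := (deficient_decomp hG hM hH hnn).compl.2.2.2 m hm
    rw [Subgroup.mem_bot.1 hu, one_mul]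
    obtain ⟨k, hk, w, hw, rfl⟩ := (CfsgLib.Solvable.mem_sup_of_le_normalizer
      (hH.1.trans (TH.le_normalizer_core M))).1 hv
    obtain ⟨a, ha, d, hd, rfl⟩ := hD.2.2.2 w hw
    exact (normalizer (W : Set G)).mul_mem (hHW hk) ((normalizer (W : Set G)).mul_mem (hQW ha) (hDW hd))
  have hQ₀U : Q₀ ≤ Q ⊓ centralizer (U : Set G) := inf_le_inf_left Q (centralizer_le hUle)
  have hCU : Q ⊓ centralizer (U : Set G) = Q₀ := by
    refine le_antisymm (le_inf inf_le_left ?_) hQ₀U
    have hnorm : ∀ y : G, y ∈ normalizer (Q : Set G) → y ∈ normalizer (U : Set G) →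
        y ∈ normalizer ((Q ⊓ centralizer (U : Set G) : Subgroup G) : Set G) := fun y h1 h2 =>
      inf_normalizer_le_normalizer_inf ⟨h1, TH.normalizer_le_normalizer_centralizer _ h2⟩
    refine (deficient_cover hG hM hH hnn hqs hD hHD hqD hfpf hDn inf_le_left (hbetween _ hQ₀U inf_le_left
      (fun y hy => hnorm y (hDQn hy) (hDU hy)) (fun y hy => hnorm y (hQn (hH.1 hy)) (hHU hy)))).resolve_right
      fun h => hUQ (le_centralizer_iff.1 (h.trans (sup_le inf_le_right (hQ₀U.trans inf_le_right))))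
  -- the cyclic vector
  obtain ⟨v, hv, hv1⟩ := (bot_or_exists_ne_one (star M H)).resolve_left (fixed_ne_bot hG hM hH hH1)
  have hvQ : v ∈ Q := deficient_star_qc hG hM hH hnn hqs hv
  set W := closure ((Q₀ : Set G) ∪ {y | ∃ u ∈ U, u * v * u⁻¹ = y}) with hW
  have hWQ : W ≤ Q := by
    rw [hW, closure_le]
    rintro y (hy | ⟨u, hu, rfl⟩)
    · exact hy.1
    · exact (mem_normalizer_iff.1 (hDQn (hUle hu)) v).1 hvQ
  have hvW : v ∈ W := subset_closure (Or.inr ⟨1, one_mem _, by group⟩)
  have hQ₀W : Q₀ ≤ W := fun y hy => subset_closure (Or.inl hy)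
  have hWn : ∀ g : G, g ∈ M → (∀ u ∈ U, ∃ u' ∈ U, g * (u * v * u⁻¹) * g⁻¹ = u' * v * u'⁻¹) →
      g ∈ normalizer (W : Set G) := fun g hgM hg => by
    refine Uniq.mem_normalizer_of_map_le ?_
    rw [hW, MonoidHom.map_closure, closure_le]
    rintro _ ⟨y, hy | ⟨u, hu, rfl⟩, rfl⟩
    · exact subset_closure (Or.inl ((mem_normalizer_iff.1 (hQ₀n hgM) y).1 hy))
    · obtain ⟨u', hu', e⟩ := hg u hu
      exact subset_closure (Or.inr ⟨u', hu', e.symm⟩)
  have hUW : U ≤ normalizer (W : Set G) := fun a ha =>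
    hWn a (hDM (hUle ha)) fun u hu => ⟨a * u, U.mul_mem ha hu, by group⟩
  have hHW : H ≤ normalizer (W : Set G) := fun k hk => hWn k (hH.1 hk) fun u hu => by
    refine ⟨k * u * k⁻¹, (mem_normalizer_iff.1 (hHU hk) u).1 hu, ?_⟩
    have hkv : k * v * k⁻¹ = v := by
      rw [show k * v = v * k from mem_centralizer_iff.1 hv.2 k hk, mul_inv_cancel_right]
    conv_rhs => rw [← hkv]
    group
  have hcard : Nat.card W = Nat.card Q := by
    have hfix : W ⊓ centralizer (H : Set G) = star M H := by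
      refine le_antisymm (fun y hy => ?_) (le_inf (fun y hy => ?_) inf_le_right)
      · exact ⟨Bender.qc_le q S (hWQ hy.1), hy.2⟩
      · have he : zpowers v = star M H := eq_of_le_of_card_ge (zpowers_le.2 hv) (by
          rw [hqs, Nat.card_zpowers, ((Nat.dvd_prime hq.out).1 (hqs ▸ (star M H).orderOf_dvd_natCard hv)).resolve_left
            fun e => hv1 (orderOf_eq_one_iff.1 e)])
        exact zpowers_le.2 hvW (he.ge hy)
    have hfixU : W ⊓ centralizer (U : Set G) = Q₀ :=
      le_antisymm ((inf_le_inf_right _ hWQ).trans hCU.le) (le_inf hQ₀W (hQ₀U.trans inf_le_right))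
    have hfixA : W ⊓ centralizer ((U ⊔ H : Subgroup G) : Set G) = ⊥ := le_bot_iff.1 fun y hy => by
      rw [← deficient_star_moved hG hM hH hnn hqs hD hHD hqD hfpf hDn]
      exact ⟨hfix.le ⟨hy.1, centralizer_le (le_sup_right : H ≤ U ⊔ H) hy.2⟩,
        (hfixU.le ⟨hy.1, centralizer_le (le_sup_left : U ≤ U ⊔ H) hy.2⟩).2⟩
    have h := formula_sub (solvable_le hG hM (hWQ.trans ((Bender.qc_le q S).trans (map_subtype_le _)))) hUW hHW hHU
      hdis (fun k hk hk1 => le_bot_iff.1 ((inf_le_inf_right _ hUle).trans (hfpf k hk hk1).le))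
      (Nat.Coprime.coprime_dvd_right (card_dvd_of_le hWQ) (Nat.Coprime.coprime_dvd_left
        (mul_dvd_mul_right (card_dvd_of_le hUle) _) (Excep.coprime_of_pgroup (Bender.isPGroup_qc _) fun h =>
          (hq.out.dvd_mul.1 h).elim hqD fun h => (hH.2.1 q hq.out h).2.2.1
            (deficient_mem_sigma hG hM hH hnn hqs)).symm))
    rw [hfixA, hfixU, hfix, card_bot, one_pow, one_mul, hqs, mul_comm] at h
    rw [h, deficient_index hG hM hH hnn hqs hD hHD hqD hfpf hDn]
  have hWeq : W = Q := eq_of_le_of_card_ge hWQ hcard.ge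
  -- the quotient module
  haveI hN : (Q₀.subgroupOf Q).Normal := (normal_subgroupOf_iff_le_normalizer inf_le_left).2
    (((Bender.qc_le q S).trans (map_subtype_le _)).trans hQ₀n)
  letI : CommGroup (Q ⧸ Q₀.subgroupOf Q) :=
    { (inferInstance : Group (Q ⧸ Q₀.subgroupOf Q)) with
      mul_comm := fun a b => by
        obtain ⟨a, rfl⟩ := QuotientGroup.mk'_surjective _ a
        obtain ⟨b, rfl⟩ := QuotientGroup.mk'_surjective _ b
        rw [← map_mul, ← map_mul]
        refine QuotientGroup.eq.2 ?_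
        show ((a : G) * (b : G))⁻¹ * ((b : G) * (a : G)) ∈ Q₀
        rw [show ((a : G) * (b : G))⁻¹ * ((b : G) * (a : G)) = (b : G)⁻¹ * (a : G)⁻¹ * (b : G)⁻¹⁻¹ * (a : G)⁻¹⁻¹ by group]
        exact (deficient_frattini hG hM hH hnn hqs hD hHD hqD hfpf hDn (Q.inv_mem b.2) (Q.inv_mem a.2)).2 }
  let cj : D → Q →* Q := fun d =>
    { toFun := fun y => ⟨(d : G) * y * (d : G)⁻¹, (mem_normalizer_iff.1 (hDQn d.2) y).1 y.2⟩
      map_one' := Subtype.ext (by simp)
      map_mul' := fun y z => Subtype.ext (by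
        show (d : G) * (y * z) * (d : G)⁻¹ = (d : G) * y * (d : G)⁻¹ * ((d : G) * z * (d : G)⁻¹)
        group) }
  let act : D → (Q ⧸ Q₀.subgroupOf Q) →* (Q ⧸ Q₀.subgroupOf Q) := fun d =>
    QuotientGroup.map _ _ (cj d) (fun y hy => (mem_normalizer_iff.1 (hQ₀n (hDM d.2)) y).1 hy)
  have hact : ∀ (d : D) (y : Q), act d (QuotientGroup.mk' _ y) = QuotientGroup.mk' _ (cj d y) := fun d y => rfl
  have hmul : ∀ (a b : D) x, act (a * b) x = act a (act b x) := fun a b x => by
    obtain ⟨y, rfl⟩ := QuotientGroup.mk'_surjective _ x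
    rw [hact, hact, hact]
    refine congrArg _ (Subtype.ext ?_)
    show ((a : G) * b) * y * ((a : G) * b)⁻¹ = (a : G) * ((b : G) * y * (b : G)⁻¹) * (a : G)⁻¹
    group
  have htriv : ∀ (c : D), (c : G) ∈ centralizer (Q : Set G) → ∀ x, act c x = x := fun c hc x => by
    obtain ⟨y, rfl⟩ := QuotientGroup.mk'_surjective _ x
    rw [hact]
    refine congrArg _ (Subtype.ext ?_)
    show (c : G) * y * (c : G)⁻¹ = y
    rw [← mem_centralizer_iff.1 hc y y.2, mul_inv_cancel_right]
  have hcom : ∀ (u : U) (d : D) x, act ⟨u, hUle u.2⟩ (act d x) = act d (act ⟨u, hUle u.2⟩ x) := fun u d x => by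
    rw [← hmul, ← hmul, show (⟨u, hUle u.2⟩ : D) * d = (⟨(⁅(u : G), (d : G)⁆), D.mul_mem (D.mul_mem (D.mul_mem
      (hUle u.2) d.2) (D.inv_mem (hUle u.2))) (D.inv_mem d.2)⟩ : D) * (d * ⟨u, hUle u.2⟩) from Subtype.ext (by
        show (u : G) * d = ⁅(u : G), (d : G)⁆ * (d * u); rw [commutatorElement_def]; group), hmul]
    exact htriv ⟨_, _⟩ (hUD (commutator_mem_commutator u.2 d.2)) _
  have hcyc : closure (Set.range fun u : U => act ⟨u, hUle u.2⟩ (QuotientGroup.mk' _ ⟨v, hvQ⟩)) = ⊤ := by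
    refine eq_top_iff.2 fun x _ => ?_
    obtain ⟨⟨y, hyQ⟩, rfl⟩ := QuotientGroup.mk'_surjective _ x
    have hy : y ∈ W := hWeq.ge hyQ
    suffices h : ∀ h' : y ∈ Q, QuotientGroup.mk' (Q₀.subgroupOf Q) ⟨y, h'⟩ ∈ closure (Set.range fun u : U => act ⟨u, hUle u.2⟩ (QuotientGroup.mk' _ ⟨v, hvQ⟩)) from h hyQ
    clear * - hy hWQ
    induction hy using closure_induction with
    | mem z hz =>
      intro h'
      rcases hz with hz | ⟨u, hu, rfl⟩
      · rw [show QuotientGroup.mk' (Q₀.subgroupOf Q) ⟨z, h'⟩ = 1 from (QuotientGroup.eq_one_iff _).2 hz]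
        exact one_mem _
      · exact subset_closure ⟨⟨u, hu⟩, rfl⟩
    | one => intro h'; exact (map_one (QuotientGroup.mk' (Q₀.subgroupOf Q))).symm ▸ one_mem _
    | mul a b ha hb iha ihb =>
      intro h'
      rw [show (⟨a * b, h'⟩ : Q) = ⟨a, hWQ ha⟩ * ⟨b, hWQ hb⟩ from rfl, map_mul]
      exact mul_mem (iha _) (ihb _)
    | inv a ha iha =>
      intro h'
      rw [show (⟨a⁻¹, h'⟩ : Q) = (⟨a, hWQ ha⟩ : Q)⁻¹ from rfl, map_inv]
      exact inv_mem (iha _)
  rw [commutator_le]
  intro a ha b hb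
  set c : D := ⁅(⟨a, ha⟩ : D), ⟨b, hb⟩⁆ with hc
  have hcval : (c : G) = ⁅a, b⁆ := by rw [hc]; rfl
  have hctriv : ∀ x, act c x = x := fun x => by
    rw [hc, commutatorElement_def, hmul, hmul, hmul,
      commutant_comm (fun u : U => act ⟨u, hUle u.2⟩) (fun i j x => hcom i ⟨j, hUle j.2⟩ x) _ hcyc
        (fun u x => (hcom u _ x).symm) (fun u x => (hcom u _ x).symm),
      ← hmul, ← hmul, ← hmul]
    refine htriv _ ?_ x
    simp
  have hcd : (c : G) ∈ centralizer (Q : Set G) := by
    refine mem_centralizer_iff.2 fun y hy => ?_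
    obtain ⟨z, hz, hzy⟩ := CfsgLib.CoprimeAct.exists_centralizing_mem_coset (A := zpowers (c : G)) (K := Q) (N := Q₀)
      (zpowers_le.2 (hDQn c.2)) (by
        rw [Nat.card_zpowers]
        exact (Nat.Coprime.coprime_dvd_left (D.orderOf_dvd_natCard c.2)
          (Excep.coprime_of_pgroup (Bender.isPGroup_qc _) hqD).symm))
      inf_le_left (zpowers_le.2 (hQ₀n (hDM c.2))) (Or.inl inferInstance) hy (fun e he => by
        obtain ⟨i, rfl⟩ := mem_zpowers_iff.1 he
        have hfixset : ∀ i : ℤ, ∀ x, act (c ^ i) x = x := by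
          intro i x
          have hone : ∀ x, act (1 : D) x = x := fun x => htriv 1 (one_mem _) x
          have hinv : ∀ x, act c⁻¹ x = x := fun x => by
            conv_lhs => rw [← hctriv x]
            rw [← hmul, inv_mul_cancel, hone]
          induction i using Int.induction_on generalizing x with
          | zero => rw [zpow_zero, hone]
          | succ k ih => rw [zpow_add_one, hmul, hctriv, ih]
          | pred k ih => rw [zpow_sub_one, hmul, hinv, ih]
        have h := hfixset i (QuotientGroup.mk' _ ⟨y, hy⟩)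
        rw [hact] at h
        have h1 := QuotientGroup.eq.1 h.symm
        have h2 : y⁻¹ * (((c ^ i : D) : G) * y * ((c ^ i : D) : G)⁻¹) ∈ Q₀ := h1
        rwa [SubgroupClass.coe_zpow] at h2)
    have hzQ₀ : (y⁻¹ * z) ∈ centralizer (zpowers (c : G) : Set G) :=
      centralizer_le (zpowers_le.2 c.2) hzy.2
    have hyc : y ∈ centralizer (zpowers (c : G) : Set G) := by
      rw [show y = z * (y⁻¹ * z)⁻¹ by group]
      exact Subgroup.mul_mem _ hz.2 (Subgroup.inv_mem _ hzQ₀)
    exact (mem_centralizer_iff.1 hyc (c : G) (mem_zpowers _)).symm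
  exact hcval ▸ hcd

end Abelian

end CfsgLib.OddLocal.Kap
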