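import Cfsg.Agent.OddLocal.KappaSylow
import Cfsg.Agent.OddLocal.TauTwoNonabelian
import Cfsg.Agent.OddLocal.TauTwoFrobenius
import Cfsg.Agent.S1446
import Cfsg.Agent.S1418

/-!
An element of prime order of `τ₁(M)` with fixed points in `M_σ` has no fixed points on the rank-two
subgroups of primes in `τ₂(M)`.
-/

set_option autoImplicit false
set_option linter.style.haveILetI false
set_option linter.unusedSectionVars false

namespace CfsgLib.OddLocal.Kap

open Subgroup Cfsg CfsgLib.OddLocal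
open scoped commutatorElement Pointwise

universe u

variable {G : Type u} [Group G] [Finite G]

theorem orderOf_pow_bottom {q : ℕ} [hq : Fact q.Prime] {g : G} {k : ℕ} (hgo : orderOf g = q ^ (k + 1)) :
    orderOf (g ^ q ^ k) = q := by
  rw [orderOf_pow' _ (pow_ne_zero _ hq.out.ne_zero), hgo, Nat.gcd_eq_right (pow_dvd_pow q (Nat.le_succ k)),
    pow_succ, Nat.mul_div_cancel_left _ (pow_pos hq.out.pos _)]

variable (hG : Cfsg.IsMinSimpleOddOrder G)
include hG

/-- The fixed points of a `τ₁`-element of prime order are centralized by its centralizing elements of prime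
power order, for primes of rank one. -/
theorem fixed_le_prime_power {M E : Subgroup G} (hM : IsCoatom M) (hE : Cfsg.IsComplIn E (Cfsg.sigmaCore M) M)
    {q : ℕ} [Fact q.Prime] (hq1 : q ∈ Cfsg.tau1 M) {a : G} (ha : a ∈ E) (hao : orderOf a = q) {t j : ℕ}
    [ht : Fact t.Prime] (hr : Cfsg.PRankLE t 1 M) {b : G} (hb : b ∈ E) (hbo : orderOf b = t ^ j)
    (hab : Commute b a) :
    Cfsg.sigmaCore M ⊓ centralizer ({a} : Set G) ≤ centralizer ({b} : Set G) := by
  rcases j with - | j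
  · rw [pow_zero, orderOf_eq_one_iff] at hbo
    subst hbo
    exact fun x _ => mem_centralizer_singleton_iff.2 (Commute.one_right x).eq
  · exact le_trans (le_inf inf_le_left (Tau.tau_one_fixed hG hM hE hq1.2.1 hq1.2.2.2.1 hq1.2.2.2.2 hao ha
      (orderOf_pow_bottom hbo) (pow_mem hb _) (hab.pow_left _))) (fixed_le_zpowers hG hM hE hr hb hbo)

/-- A `τ₁`-element of prime order with fixed points in `M_σ` has none on the plane of a prime in `τ₂(M)`. -/
theorem tau_two_fixed {M E A : Subgroup G} (hM : IsCoatom M) (hE : Cfsg.IsComplIn E (Cfsg.sigmaCore M) M)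
    {p : ℕ} [hp : Fact p.Prime] (hpτ : p ∈ Cfsg.tau2 M) (hA : Cfsg.IsElementaryAbelian p A)
    (hA2 : Nat.card A = p ^ 2) (hAE : A ≤ E) {q : ℕ} [hq : Fact q.Prime] (hq1 : q ∈ Cfsg.tau1 M) {a : G}
    (ha : a ∈ E) (hao : orderOf a = q) (hY : Cfsg.sigmaCore M ⊓ centralizer ({a} : Set G) ≠ ⊥) :
    A ⊓ centralizer ({a} : Set G) = ⊥ := by
  classical
  by_contra hne
  obtain ⟨h, ⟨hhA, hha⟩, hh1⟩ := (bot_or_exists_ne_one _).resolve_left hne
  obtain ⟨-, hpσ, hr2, hr1⟩ := id hpτ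
  obtain ⟨-, hqσ, hqM, hqd, hqr⟩ := id hq1
  have hqp : q ≠ p := fun e => hr1 (e ▸ hqr)
  have hp2 : p ≠ 2 := CfsgLib.CN.MinSimple.p_ne_two hG
    ((dvd_pow_self p two_ne_zero).trans (hA2 ▸ A.card_subgroup_dvd_card))
  set K := Cfsg.sigmaCore M with hK
  have hKM : K ≤ M := map_subtype_le _
  have hEM : E ≤ M := hE.1
  have hAM : A ≤ M := hAE.trans hEM
  have haM : a ∈ M := hEM ha
  have hmax := (Cfsg.Agent.S1408.result hG M hM p hpσ hr2 hr1).2 A hAM hA hA2
  obtain ⟨⟨hEA, hlines⟩, -, -⟩ := Cfsg.Agent.S1418.result hG M hM E hE p hpτ A ⟨hAE, hA, hA2⟩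
  obtain ⟨hhle, hhc⟩ := Excep.line_of_mem hA hhA hh1
  have hho : orderOf h = p := by rw [← Nat.card_zpowers, hhc]
  have hhac : Commute h a := mem_centralizer_singleton_iff.1 hha
  obtain ⟨y, ⟨hyK, hya⟩, hy1⟩ := (bot_or_exists_ne_one _).resolve_left hY
  have hfixh : K ⊓ centralizer ({a} : Set G) ≤ centralizer ({h} : Set G) :=
    Tau.tau_one_fixed hG hM hE hqσ hqd hqr hao ha hho (hAE hhA) hhac
  have hgood : K ⊓ centralizer (zpowers h : Set G) ≠ ⊥ := fun e => hy1 (mem_bot.1 (e.le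
    ⟨hyK, FixedLine.le_centralizer_zpowers le_rfl (hfixh ⟨hyK, hya⟩)⟩))
  have hNM : normalizer (zpowers h : Set G) ≤ M :=
    Tau.good_normalizer_le hG hA hA2 hM hAM hpσ hmax hhle hhc hgood
  have hmove : a ∉ centralizer (A : Set G) := by
    intro haA
    refine hy1 (mem_bot.1 ((Tau.inf_centralizer_eq_bot hG hA hA2 hM hAM hpσ hmax).le ⟨hyK, ?_⟩))
    refine mem_centralizer_iff.2 fun b hb => ?_
    by_cases hb1 : b = 1
    · subst hb1; simp
    · exact (mem_centralizer_singleton_iff.1 (Tau.tau_one_fixed hG hM hE hqσ hqd hqr hao ha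
        (orderOf_eq_prime (hA.2 b hb) hb1) (hAE hb) (mem_centralizer_iff.1 haA b hb) ⟨hyK, hya⟩)).symm
  have hCA : A ⊓ centralizer ({a} : Set G) = zpowers h := by
    refine (eq_of_le_of_card_ge (le_inf hhle (zpowers_le.2 hha)) ?_).symm
    obtain ⟨k, hk2, hk⟩ := (Nat.dvd_prime_pow hp.out).1
      (hA2 ▸ card_dvd_of_le (inf_le_left : A ⊓ centralizer ({a} : Set G) ≤ A))
    rw [hk, hhc]
    have hk' : k ≠ 2 := fun e => by
      have h := eq_of_le_of_card_ge (inf_le_left : A ⊓ centralizer ({a} : Set G) ≤ A) (by rw [hk, hA2, e])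
      exact hmove (mem_centralizer_iff.2 fun b hb => mem_centralizer_singleton_iff.1 (h.ge hb).2)
    calc p ^ k ≤ p ^ 1 := Nat.pow_le_pow_right hp.out.pos (by omega)
      _ = p := pow_one p
  obtain ⟨A', T, hA', hA'2, hT, -, hAT, hTE, hTd⟩ :=
    Tau.exists_sylow_data hG hM hE hpτ (IsPGroup.of_card hA2) hAE
  by_cases hab : ∀ S : Sylow p G, IsMulCommutative (S : Subgroup G)
  · have hder := (Tau.normalizer_derived hG hM hE hpτ hA hA2 hT hAT hTE hTd hab).1
    refine Tau.not_normalizer_le hG hA hA2 hM hAM hpσ hmax fun n hn => hNM (Uniq.mem_normalizer_of_map_le ?_)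
    rw [MonoidHom.map_zpowers, zpowers_le, ← hCA]
    refine ⟨(mem_normalizer_iff.1 hn h).1 hhA, mem_centralizer_singleton_iff.2 ?_⟩
    have hz : n⁻¹ * a * n * a⁻¹ ∈ centralizer (A : Set G) := by
      have h := hder (commutator_mem_commutator (inv_mem hn) (hEA ha))
      rwa [commutatorElement_def, inv_inv] at h
    have h1 : Commute (n⁻¹ * a * n * a⁻¹) h := (mem_centralizer_iff.1 hz h hhA).symm
    have h2 : Commute (n⁻¹ * a * n) h := by
      have := h1.mul_left hhac.symm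
      rwa [inv_mul_cancel_right] at this
    calc n * h * n⁻¹ * a = n * (h * (n⁻¹ * a * n)) * n⁻¹ := by group
      _ = n * ((n⁻¹ * a * n) * h) * n⁻¹ := by rw [h2.eq]
      _ = a * (n * h * n⁻¹) := by group
  -- nonabelian Sylow subgroups: `h` centralizes `M_σ`
  push Not at hab
  obtain ⟨S₀, hS₀⟩ := hab
  have hS : ∀ S : Sylow p G, ¬ IsMulCommutative (S : Subgroup G) := fun S hc => hS₀ (by
    haveI := hc
    exact ⟨⟨fun x y => (S₀.equiv S).injective (by rw [map_mul, map_mul]; exact mul_comm' _ _)⟩⟩)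
  obtain ⟨B, hBA, hB, hBeq, hMB, hrest⟩ := Tau.unique_good hA hA2 hG hM hAM hpσ hmax hr2 hS
  have hhB : zpowers h = B := by_contra fun e => hgood (hrest _ hhle hhc e).1
  have hKh : K ≤ centralizer ({h} : Set G) := fun x hx => mem_centralizer_singleton_iff.2
    (mem_centralizer_iff.1 ((hBeq.ge (hhB.le (mem_zpowers h))).2) x hx)
  obtain ⟨hTc, hTA, hTMd⟩ := Tau.tau_two_sylow hG hM hE hpτ hA hA2 hT hAT hTE hTd
  obtain ⟨Ps, hPs⟩ := hT.exists_le_sylow
  have hfull : ∀ {U : Subgroup G}, IsPGroup p U → T ≤ U → U ≤ M → U = T := fun hU hTU hUM =>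
    (eq_of_le_of_card_ge hTU (Nat.le_of_dvd Nat.card_pos
      ((Nat.Coprime.dvd_mul_right (Excep.coprime_of_pgroup hU hTMd)).1 (by
        rw [CfsgLib.InvariantHall.relIndex_mul_card (hTE.trans hEM)]
        exact card_dvd_of_le hUM)))).symm
  obtain ⟨z, hzA, hzo, hPz, hNz, hNAz⟩ : ∃ z ∈ A, orderOf z = p ∧
      (Ps : Subgroup G) ≤ centralizer ({z} : Set G) ∧
      normalizer ((Ps : Subgroup G) : Set G) ≤ normalizer (zpowers z : Set G) ∧
      normalizer (A : Set G) ≤ normalizer (zpowers z : Set G) := by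
    rcases Tau.dichotomy hA hA2 hmax hG.1 Ps.2 (hAT.trans hPs) with ⟨hc, -⟩ | ⟨z, h1, h2, h3, h4, h5, -⟩
    · exact absurd (hfull Ps.2 hPs (hc.trans (Tau.centralizer_le_coatom hG hA hA2 hM hAM)) ▸ hTc) (hS Ps)
    · exact ⟨z, h1, h2, h3, h4, h5⟩
  have hzc : Nat.card (zpowers z) = p := by rw [Nat.card_zpowers, hzo]
  obtain ⟨H, hH, hNH⟩ := (eq_top_or_exists_le_coatom (normalizer (zpowers z : Set G))).resolve_left
    (Excep.normalizer_line_ne_top hG hzc)
  have hPH : (Ps : Subgroup G) ≤ H := (le_normalizer.trans hNz).trans hNH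
  have hAH : A ≤ H := (hAT.trans hPs).trans hPH
  have hpH : p ∈ Cfsg.sigma H := Excep.mem_sigma_of_sylow Ps hPH (hNz.trans hNH)
    ((dvd_pow_self p two_ne_zero).trans (hA2 ▸ card_dvd_of_le hAH))
  have hHM : H ≠ M := fun e => hpσ (e ▸ hpH)
  have haH : a ∈ H := hNH (hNAz (hEA ha))
  have hKz : K ⊓ centralizer ({z} : Set G) = ⊥ := le_bot_iff.1 (le_trans (inf_le_inf_left _
    (((FixedLine.le_centralizer_zpowers le_rfl).trans (centralizer_le_normalizer _)).trans hNH))
    (Tau.inter_sigma_eq_bot hG hA hA2 hM hAM hpσ hmax hH hAH hpH).le)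
  -- the Hall `τ₁`-subgroup over `a` has order `q`
  have hEs : Group.IsSolvable E := solvable_le hG hM hEM
  obtain ⟨E₁, h1, haE₁⟩ := exists_hall_over (π := Cfsg.tau1 M) hEs (zpowers_le.2 ha) fun r hr hd => by
    rw [Nat.card_zpowers, hao] at hd
    exact (Nat.prime_dvd_prime_iff_eq hr hq.out).1 hd ▸ hq1
  rw [zpowers_le] at haE₁
  haveI := (Compl.tau_structure hG hM hE).1 E₁ h1
  letI := IsCyclic.commGroup (α := E₁)
  have hcomm : ∀ {x w : G}, x ∈ E₁ → w ∈ E₁ → Commute x w := fun hx hw =>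
    congrArg Subtype.val (mul_comm (⟨_, hx⟩ : E₁) ⟨_, hw⟩)
  have hdvd : ∀ {x : G}, x ∈ E₁ → orderOf x ∣ Nat.card E₁ := fun hx => by
    rw [← Nat.card_zpowers]; exact card_dvd_of_le (zpowers_le.2 hx)
  have haC : K ⊓ centralizer ({a} : Set G) ≤ centralizer (E₁ : Set G) := le_centralizer_iff.1
    (PrimeFit.le_of_prime_power fun t ht b hb ⟨j, hbo⟩ => by
      haveI := Fact.mk ht
      rcases Nat.eq_zero_or_pos j with hj | hj
      · rw [hj, pow_zero, orderOf_eq_one_iff] at hbo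
        exact hbo ▸ one_mem _
      have ht1 := h1.2.1 t ht ((dvd_pow_self t hj.ne').trans (hbo ▸ hdvd hb))
      exact mem_centralizer_iff.2 fun x hx => mem_centralizer_singleton_iff.1
        (fixed_le_prime_power hG hM hE hq1 ha hao ht1.2.2.2.2 (h1.1 hb) hbo (hcomm hb haE₁) hx))
  have hbase : ∀ x ∈ E₁, x ≠ 1 → ∀ i : ℕ, orderOf (x ^ i) = (orderOf x).minFac →
      K ⊓ centralizer ({x ^ i} : Set G) ≤ centralizer ({a} : Set G) ∧
        K ⊓ centralizer ({a} : Set G) ≤ centralizer ({x ^ i} : Set G) := by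
    intro x hx hx1 i hi
    haveI := Fact.mk (Nat.minFac_prime (fun e => hx1 (orderOf_eq_one_iff.1 e)))
    have ht1 := h1.2.1 _ (Fact.out (p := (orderOf x).minFac.Prime)) ((Nat.minFac_dvd _).trans (hdvd hx))
    exact ⟨Tau.tau_one_fixed hG hM hE ht1.2.1 ht1.2.2.2.1 ht1.2.2.2.2 hi (pow_mem (h1.1 hx) i) hao ha
        ((hcomm haE₁ hx).pow_right i),
      Tau.tau_one_fixed hG hM hE hqσ hqd hqr hao ha hi (pow_mem (h1.1 hx) i) ((hcomm hx haE₁).pow_left i)⟩
  have hpow : ∀ x : G, x ≠ 1 → ∃ i : ℕ, orderOf (x ^ i) = (orderOf x).minFac := fun x hx1 =>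
    ⟨orderOf x / (orderOf x).minFac, orderOf_pow_orderOf_div (orderOf_pos x).ne' (Nat.minFac_dvd _)⟩
  have hE₁z : E₁ ≤ normalizer (zpowers z : Set G) := (h1.1.trans hEA).trans hNAz
  have hfrob : ∀ x ∈ E₁, x ≠ 1 → zpowers z ⊓ centralizer ({x} : Set G) = ⊥ := by
    intro x hx hx1
    refine (eq_bot_iff_forall _).2 fun c ⟨hc, hcx⟩ => by_contra fun hc1 => ?_
    obtain ⟨i, hi⟩ := hpow x hx1
    haveI := Fact.mk (Nat.minFac_prime (fun e => hx1 (orderOf_eq_one_iff.1 e)))
    have ht1 := h1.2.1 _ (Fact.out (p := (orderOf x).minFac.Prime)) ((Nat.minFac_dvd _).trans (hdvd hx))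
    have hzc' : zpowers c = zpowers z := eq_of_le_of_card_ge (zpowers_le.2 hc) (by
      rw [Nat.card_zpowers c, orderOf_eq_prime (hA.2 c ((zpowers_le.2 hzA) hc)) hc1, hzc])
    have hzx : Commute z (x ^ i) := by
      obtain ⟨j, hj⟩ := mem_zpowers_iff.1 (hzc'.ge (mem_zpowers z))
      rw [← hj]
      exact ((show Commute c x from mem_centralizer_singleton_iff.1 hcx).pow_right i).zpow_left j
    have hle := (hbase x hx hx1 i hi).2
    refine hy1 (mem_bot.1 (hKz.le ⟨hyK, ?_⟩))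
    exact Tau.tau_one_fixed hG hM hE ht1.2.1 ht1.2.2.2.1 ht1.2.2.2.2 hi (pow_mem (h1.1 hx) i) hzo (hAE hzA) hzx
      ⟨hyK, hle ⟨hyK, hya⟩⟩
  have hpr : ∀ x ∈ E₁, x ≠ 1 → K ⊓ centralizer ({x} : Set G) = K ⊓ centralizer (E₁ : Set G) := by
    intro x hx hx1
    refine le_antisymm (le_inf inf_le_left fun c hc => haC ⟨hc.1, ?_⟩)
      (inf_le_inf_left _ (centralizer_le (Set.singleton_subset_iff.2 hx)))
    obtain ⟨i, hi⟩ := hpow x hx1
    exact (hbase x hx hx1 i hi).1 ⟨hc.1, mem_centralizer_singleton_iff.2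
      ((show Commute c x from mem_centralizer_singleton_iff.1 hc.2).pow_right i).eq⟩
  have hKnil : Group.IsNilpotent K := Tau.nilpotent hG hA hA2 hM hAM hpσ hmax
  have hzE : zpowers z ⊔ E₁ ≤ E := sup_le (zpowers_le.2 (hAE hzA)) h1.1
  have hE₁c : Nat.card E₁ = q := by
    have hEK : (Nat.card E).Coprime (Nat.card K) := by
      rw [(Compl.card_eq hG hM hE).1]
      exact (CfsgLib.InvariantHall.coprime_of_isPiHallOf (Sig.sigma_core hG hM).1).symm
    have hdis : zpowers z ⊓ E₁ = ⊥ := disjoint_iff.1 (disjoint_of_coprime_natCard (by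
      rw [hzc]
      exact (Nat.Prime.coprime_iff_not_dvd hp.out).2 fun hd => hr1 (h1.2.1 p hp.out hd).2.2.2.2))
    obtain ⟨hpr', -, -⟩ := Cfsg.Agent.S1446.result (zpowers z) E₁ K
      (fun e => hp.out.ne_one (by rw [← hzc, e, card_bot]))
      (fun e => hq.out.ne_one (by rw [← hao, orderOf_eq_one_iff]; exact mem_bot.1 (e ▸ haE₁))) hdis hE₁z hfrob
      (solvable_le hG hM (hzE.trans hEM)) (hG.1.of_dvd_nat (card_subgroup_dvd_card _))
      (fun e => hY (by rw [e, bot_inf_eq])) hKnil ((zpowers_le.2 (hAM hzA)).trans (TH.le_normalizer_core M))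
      ((h1.1.trans hEM).trans (TH.le_normalizer_core M)) (hEK.coprime_dvd_left (card_dvd_of_le hzE))
      (le_bot_iff.1 ((inf_le_inf_left _ (FixedLine.centralizer_zpowers_le z)).trans hKz.le)) hpr
    exact ((Nat.prime_dvd_prime_iff_eq hq.out hpr').1 (hao ▸ hdvd haE₁)).symm
  have hE₁a : E₁ = zpowers a :=
    (eq_of_le_of_card_ge (zpowers_le.2 haE₁) (by rw [hE₁c, Nat.card_zpowers, hao])).symm
  have hNAz' : E ≤ normalizer (zpowers h : Set G) := hhB ▸ hEM.trans hMB
  have hlineB : ∀ x ∈ E, x⁻¹ * h * x ∈ zpowers h := fun x hx =>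
    (mem_normalizer_iff''.1 (hNAz' hx) h).1 (mem_zpowers h)
  -- `h` is central in `M`
  have hEh : E ≤ centralizer ({h} : Set G) := PrimeFit.le_of_prime_power fun t ht b hb ⟨j, hbo⟩ => by
    haveI := Fact.mk ht
    rcases Nat.eq_zero_or_pos j with hj | hj
    · rw [hj, pow_zero, orderOf_eq_one_iff] at hbo
      exact hbo ▸ one_mem _
    have htE : t ∣ Nat.card E := (dvd_pow_self t hj.ne').trans
      (hbo ▸ (by rw [← Nat.card_zpowers]; exact card_dvd_of_le (zpowers_le.2 hb)))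
    rcases Tau.tau_cases hG hM hE ht htE with ht1 | ht2 | ht3
    · obtain ⟨x, hx, hxb⟩ := Tau.exists_conj_mem h1.1 (h1.2.2 t ht ht1) hb hbo
      rw [hE₁a] at hxb
      obtain ⟨i, hi⟩ := mem_zpowers_iff.1 hxb
      obtain ⟨j', hj'⟩ := mem_zpowers_iff.1 (hlineB x hx)
      have h2 : Commute (x * b * x⁻¹) (h ^ j') := hi ▸ ((hhac.symm.zpow_right j').zpow_left i)
      have h3 : Commute b (x⁻¹ * (h ^ j') * x) := by
        have := (h2.map (MulAut.conj x⁻¹).toMonoidHom)
        simp only [MulEquiv.toMonoidHom_eq_coe, MonoidHom.coe_coe, MulAut.conj_apply, inv_inv] at this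
        rwa [show x⁻¹ * (x * b * x⁻¹) * x = b by group] at this
      refine mem_centralizer_singleton_iff.2 ?_
      have h4 : zpowers (x⁻¹ * h ^ j' * x) = zpowers h := by
        have hmem : x⁻¹ * h ^ j' * x ∈ zpowers h := (mem_normalizer_iff''.1
          (hNAz' hx) _).1 (zpow_mem (mem_zpowers h) j')
        refine eq_of_le_of_card_ge (zpowers_le.2 hmem) ?_
        rw [Nat.card_zpowers, Nat.card_zpowers, hho, show orderOf (x⁻¹ * h ^ j' * x) = p from ?_]
        rw [show x⁻¹ * h ^ j' * x = MulAut.conj x⁻¹ (h ^ j') by simp, MulEquiv.orderOf_eq, hj',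
          show x⁻¹ * h * x = MulAut.conj x⁻¹ h by simp, MulEquiv.orderOf_eq, hho]
      obtain ⟨k, hk⟩ := mem_zpowers_iff.1 (h4.ge (mem_zpowers h))
      exact (hk ▸ h3.zpow_right k).eq
    · have htp : t = p := by
        rwa [Tau.tau_singleton hA hA2 hG hM hAM hpσ hmax hr2 hS hpτ, Set.mem_singleton_iff] at ht2
      subst htp
      obtain ⟨A'', T'', hA'', hA''2, hT'', hA''T, hbT, hT''E, hT''d⟩ := Tau.exists_sylow_data hG hM hE hpτ
        (IsPGroup.of_card (n := j) (by rw [Nat.card_zpowers, hbo])) (zpowers_le.2 hb)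
      have hle : A'' ≤ A := fun x hx => by
        by_cases hx1 : x = 1
        · exact hx1 ▸ one_mem _
        · exact hlines _ (zpowers_le.2 (hT''E (hA''T hx))) (Excep.line_of_mem hA'' hx hx1).2 (mem_zpowers x)
      have he : A'' = A := eq_of_le_of_card_ge hle (by rw [hA''2, hA2])
      haveI := (Tau.tau_two_sylow hG hM hE hpτ hA'' hA''2 hT'' hA''T hT''E hT''d).1
      exact mem_centralizer_singleton_iff.2 (congrArg Subtype.val (mul_comm'
        (⟨b, hbT (mem_zpowers b)⟩ : T'') ⟨h, hA''T (he.ge hhA)⟩))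
    · obtain ⟨E₃, h3, hbE₃⟩ := exists_hall_over (π := Cfsg.tau3 M) hEs (zpowers_le.2 hb) fun r hr hd => by
        rw [Nat.card_zpowers, hbo] at hd
        exact (Nat.prime_dvd_prime_iff_eq hr ht).1 (hr.dvd_of_dvd_pow hd) ▸ ht3
      have h3n := ((Compl.tau_structure hG hM hE).2 E₃ h3).2.2
      have hdis : zpowers h ⊓ E₃ = ⊥ := disjoint_iff.1 (disjoint_of_coprime_natCard (by
        rw [hhc]
        exact (Nat.Prime.coprime_iff_not_dvd hp.out).2 fun hd => hr1 (h3.2.1 p hp.out hd).2.2.2))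
      have hc1 : ⁅zpowers h, E₃⁆ ≤ zpowers h :=
        le_normalizer_iff_commutator_le_left.1 (h3.1.trans hNAz')
      have hc2 : ⁅zpowers h, E₃⁆ ≤ E₃ := by
        rw [commutator_comm]
        exact le_normalizer_iff_commutator_le_left.1 ((zpowers_le.2 (hAE hhA)).trans h3n)
      have hc : ⁅zpowers h, E₃⁆ = ⊥ := le_bot_iff.1 ((le_inf hc1 hc2).trans hdis.le)
      exact mem_centralizer_singleton_iff.2 (mem_centralizer_iff.1 (commutator_eq_bot_iff_le_centralizer.1 hc
        (mem_zpowers h)) b (hbE₃ (mem_zpowers b)))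
  have hMh : M ≤ centralizer ({h} : Set G) := (Compl.card_eq hG hM hE).2.1.ge.trans (sup_le hEh hKh)
  have hChM : centralizer ({h} : Set G) ≤ M :=
    ((FixedLine.le_centralizer_zpowers le_rfl).trans (centralizer_le_normalizer _)).trans hNM
  -- `q` is not in `σ(H)`
  have hqH : q ∉ Cfsg.sigma H := by
    intro hqH
    have hac : Nat.card (zpowers a) = q := by rw [Nat.card_zpowers, hao]
    obtain ⟨L, hL, hNL⟩ := (eq_top_or_exists_le_coatom (normalizer (zpowers a : Set G))).resolve_left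
      (Excep.normalizer_line_ne_top hG hac)
    have hLM : L ≠ M := fun e => (Cfsg.Agent.S1409.result hG M hM q hqσ _ hac (e ▸ hNL)).1.2 hqr
    have hCaL : centralizer ({a} : Set G) ≤ L :=
      ((FixedLine.le_centralizer_zpowers le_rfl).trans (centralizer_le_normalizer _)).trans hNL
    have haL : a ∈ L := hCaL (mem_centralizer_singleton_iff.2 rfl)
    have hhL : h ∈ L := hCaL hha
    have hyL : y ∈ L := hCaL hya
    have hrL : Cfsg.PRankLE p 1 L := by
      by_contra hr
      obtain ⟨P₀, hP₀⟩ := ((IsPGroup.of_card (n := 1) (by rw [hhc, pow_one]) :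
        IsPGroup p (zpowers h)).comap_subtype (K := L)).exists_le_sylow
      set P := (P₀ : Subgroup L).map L.subtype
      have hhP : h ∈ P := ⟨⟨h, hhL⟩, hP₀ (show (⟨h, hhL⟩ : L) ∈ (zpowers h).comap L.subtype from mem_zpowers h), rfl⟩
      obtain ⟨D, hDL, hD, hD2⟩ : ∃ D : Subgroup G, D ≤ L ∧ Cfsg.IsElementaryAbelian p D ∧ Nat.card D = p ^ 2 :=
        Uniq.exists_elementary hr
      obtain ⟨D', hD'P, hD', hD'2⟩ := Tau.exists_elementary_in_full (P₀.2.map _) (map_subtype_le _) (by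
        rw [relIndex, ← comap_subtype, comap_map_eq_self_of_injective L.subtype_injective]
        exact P₀.not_dvd_index) hD hD2 hDL
      obtain ⟨c, hc, hco, hcP⟩ := Excep.exists_central_order (P₀.2.map _ : IsPGroup p P) le_rfl le_normalizer
        (fun e => hh1 (mem_bot.1 (e ▸ hhP)))
      have hB : ∃ D₁ : Subgroup G, D₁ ≤ P ⊓ centralizer ({h} : Set G) ∧ Cfsg.IsElementaryAbelian p D₁ ∧
          Nat.card D₁ = p ^ 2 := by
        by_cases hch : c ∈ zpowers h
        · refine ⟨D', le_inf hD'P fun d hd => mem_centralizer_singleton_iff.2 ?_, hD', hD'2⟩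
          have hzc : zpowers c = zpowers h := eq_of_le_of_card_ge (zpowers_le.2 hch)
            (by rw [Nat.card_zpowers c, hco, hhc])
          obtain ⟨i, hi⟩ := mem_zpowers_iff.1 (hzc.ge (mem_zpowers h))
          exact (hi ▸ (hcP d (hD'P hd)).zpow_right i).eq
        · have hhc' : Commute h c := hcP h hhP
          have hec : Cfsg.IsElementaryAbelian p (zpowers h ⊔ zpowers c : Subgroup G) :=
            CfsgLib.Thompson.elab_sup (CfsgLib.Thompson.elab_zpowers (hA.2 h hhA))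
              (CfsgLib.Thompson.elab_zpowers (by rw [← hco, pow_orderOf_eq_one])) fun e he => by
                obtain ⟨i, rfl⟩ := mem_zpowers_iff.1 he
                exact mem_centralizer_iff.2 fun d hd => by
                  obtain ⟨j, rfl⟩ := mem_zpowers_iff.1 hd
                  exact ((hhc'.zpow_left i).zpow_right j).symm.eq
          refine ⟨_, le_inf (sup_le (zpowers_le.2 hhP) (zpowers_le.2 hc)) (sup_le
            (zpowers_le.2 (mem_centralizer_singleton_iff.2 rfl))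
            (zpowers_le.2 (mem_centralizer_singleton_iff.2 hhc'.symm.eq))), hec, ?_⟩
          have hdis : zpowers c ⊓ zpowers h = ⊥ := (eq_bot_iff_forall _).2 fun d hd => by_contra fun hd1 => hch (by
            have e : zpowers d = zpowers c := eq_of_le_of_card_ge (zpowers_le.2 hd.1) (by
              rw [Nat.card_zpowers, Nat.card_zpowers, hco,
                orderOf_eq_prime (hA.2 d (hhle hd.2)) hd1])
            exact zpowers_le.2 hd.2 (e.ge (mem_zpowers c)))
          have hn : zpowers c ≤ normalizer (zpowers h : Set G) := (zpowers_le.2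
            (FixedLine.le_centralizer_zpowers le_rfl (mem_centralizer_singleton_iff.2 hhc'.symm.eq))).trans
            (centralizer_le_normalizer _)
          rw [sup_comm, CfsgLib.Solvable.card_sup_of_disjoint hn hdis, Nat.card_zpowers, Nat.card_zpowers, hco, hho,
            pow_two]
      obtain ⟨D₁, hD₁, hD₁e, hD₁2⟩ := hB
      have hD₁M : D₁ ≤ M := (hD₁.trans inf_le_right).trans hChM
      have hD₁max := (Cfsg.Agent.S1408.result hG M hM p hpσ hr2 hr1).2 D₁ hD₁M hD₁e hD₁2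
      exact hy1 (mem_bot.1 ((Tau.inter_eq_bot hG hD₁e hD₁2 hM hD₁M hpσ hD₁max hL hLM
        ((hD₁.trans inf_le_left).trans (map_subtype_le _))).le ⟨hyK, hyL⟩))
    have hpσL : p ∉ Cfsg.sigma L := by
      intro hpL
      obtain ⟨S, hSL, -⟩ := Sig.exists_sylow hpL
      obtain ⟨c, hc⟩ := MulAction.exists_smul_eq G Ps S
      have hle : A.map (MulAut.conj c).toMonoidHom ≤ L := (map_mono (hAT.trans hPs)).trans (le_of_eq_of_le (by
        rw [← hc, Sylow.coe_subgroup_smul]; rfl) hSL)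
      have := Uniq.rankLE_elementary hrL hle (Tau.elementary_map hA _)
      rw [card_map_of_injective (MulAut.conj c).injective, hA2, pow_one] at this
      exact absurd this (by nlinarith [hp.out.two_le])
    have hpL : p ∣ Nat.card L := hhc ▸ card_dvd_of_le (zpowers_le.2 hhL)
    have hXπ : ∀ r : ℕ, r.Prime → r ∣ Nat.card (zpowers h) → r ∉ Cfsg.sigma L := fun r hr hd =>
      (Nat.prime_dvd_prime_iff_eq hr hp.out).1 (hhc ▸ hd) ▸ hpσL
    have htau3 : p ∉ Cfsg.tau3 L := by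
      intro h3
      obtain ⟨F, hF, hhF⟩ := Tau.exists_complement_of hG hL (zpowers_le.2 hhL) hXπ
      rw [zpowers_le] at hhF
      obtain ⟨g, hg, -, -, -, hgh⟩ := tau_three_moved hG hL hF h3 hhF hho
      have hgM : g ∈ M := hNM (normalizes_line hG hL hF h3 hhF hho hg)
      exact hgh (mem_centralizer_singleton_iff.1 (hMh hgM))
    have hp1 : p ∈ Cfsg.tau1 L := ⟨hp.out, hpσL, hpL, fun hd => htau3 ⟨hp.out, hpσL, hd, hrL⟩, hrL⟩
    by_cases hqL : q ∈ Cfsg.sigma L
    · exact Tau.not_dvd_derived_of_common hG hL hH hqL hqH hpL hpσL hp1.2.2.2.1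
        ((Excep.isPGroup_ne_bot_dvd Ps.2 (Sig.sylow_ne_bot hpH Ps)).trans
          (card_dvd_of_le (Sig.le_derived hG hH hpH Ps.2 hPH)))
    obtain ⟨⟨hq2, hq1'⟩, -, -⟩ := Cfsg.Agent.S1409.result hG L hL q hqL _ hac hNL
    have hqτ : q ∈ Cfsg.tau2 L := ⟨hq.out, hqL, hq2, hq1'⟩
    have hha' : Commute h a := hhac
    obtain ⟨F, hF, hXF⟩ := Tau.exists_complement_of hG hL (sup_le (zpowers_le.2 haL) (zpowers_le.2 hhL))
      fun r hr hd => by
        have hn : zpowers a ≤ normalizer (zpowers h : Set G) := (zpowers_le.2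
          (FixedLine.le_centralizer_zpowers le_rfl (mem_centralizer_singleton_iff.2 hha'.symm.eq))).trans
          (centralizer_le_normalizer _)
        rcases hr.dvd_mul.1 (hd.trans (CfsgLib.Solvable.card_sup_dvd hn)) with h' | h'
        · exact (Nat.prime_dvd_prime_iff_eq hr hq.out).1 (hac ▸ h') ▸ hqL
        · exact hXπ r hr h'
    obtain ⟨haF, hhF⟩ := sup_le_iff.1 hXF
    rw [zpowers_le] at hhF haF
    obtain ⟨Aq, Tq, hAq, hAq2, -, hAqT, -, hTqF, -⟩ := Tau.exists_sylow_data hG hL hF hqτ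
      (IsPGroup.of_bot : IsPGroup q (⊥ : Subgroup G)) bot_le
    have hAqF : Aq ≤ F := hAqT.trans hTqF
    have haAq : a ∈ Aq := (Cfsg.Agent.S1418.result hG L hL F hF q hqτ Aq ⟨hAqF, hAq, hAq2⟩).1.2 _
      (zpowers_le.2 haF) hac (mem_zpowers a)
    have hmoveq : h ∉ centralizer (Aq : Set G) := fun hc => by
      have hle : Aq ≤ M := fun x hx => hChM (mem_centralizer_singleton_iff.2 (mem_centralizer_iff.1 hc x hx))
      have := Uniq.rankLE_elementary hqr hle hAq
      rw [hAq2, pow_one] at this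
      exact absurd this (by nlinarith [hq.out.two_le])
    have hfixL : Cfsg.sigmaCore L ⊓ centralizer ({h} : Set G) = ⊥ := by
      by_contra hne'
      obtain ⟨l, hl, hld⟩ := Nat.exists_prime_and_dvd (n := Nat.card
        ↥(Cfsg.sigmaCore L ⊓ centralizer ({h} : Set G))) (fun e => hne' (eq_bot_of_card_eq _ e))
      haveI := Fact.mk hl
      obtain ⟨w, hwo⟩ := exists_prime_orderOf_dvd_card' (G := ↥(Cfsg.sigmaCore L ⊓ centralizer ({h} : Set G))) l hld
      have hlL : l ∈ Cfsg.sigma L := (Sig.sigma_core hG hL).1.2.1 l hl (hld.trans (card_dvd_of_le inf_le_left))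
      have hwa : Commute (w : G) a := mem_centralizer_singleton_iff.1
        (Tau.tau_one_fixed hG hL hF hp1.2.1 hp1.2.2.2.1 hp1.2.2.2.2 hho hhF hao haF hha'.symm w.2)
      have hwM : (w : G) ∈ M := hChM w.2.2
      by_cases hlM : l ∈ Cfsg.sigma M
      · refine Tau.not_dvd_derived_of_common hG hL hM hlL hlM hpL hpσL hp1.2.2.2.1 ?_
        have h2 : ⁅A, zpowers a⁆ ≠ ⊥ := fun e => hmove
          (le_centralizer_iff.1 (commutator_eq_bot_iff_le_centralizer.1 e) (mem_zpowers a))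
        exact (Excep.isPGroup_ne_bot_dvd ((IsPGroup.of_card hA2 : IsPGroup p A).to_le
          (le_normalizer_iff_commutator_le_left.1 (zpowers_le.2 (hEA ha)))) h2).trans
          (card_dvd_of_le (commutator_mono hAM (zpowers_le.2 haM)))
      obtain ⟨e, he, heo, hea⟩ := exists_in_complement hE hl (not_dvd_core hG hM hl hlM) ha hwM
        (by rw [orderOf_coe, hwo]) hwa
      have hlE : l ∣ Nat.card E := heo ▸ (by rw [← Nat.card_zpowers]; exact card_dvd_of_le (zpowers_le.2 he))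
      rcases Tau.tau_cases hG hM hE hl hlE with ht1 | ht2 | ht3
      · have : l ∣ Nat.card E₁ := by
          refine ((Nat.Prime.coprime_iff_not_dvd hl).2 (h1.2.2 l hl ht1)).dvd_of_dvd_mul_right ?_
          rw [CfsgLib.InvariantHall.relIndex_mul_card h1.1]
          exact hlE
        rw [hE₁c, Nat.prime_dvd_prime_iff_eq hl hq.out] at this
        exact hqL (this ▸ hlL)
      · rw [Tau.tau_singleton hA hA2 hG hM hAM hpσ hmax hr2 hS hpτ, Set.mem_singleton_iff] at ht2
        exact hpσL (ht2 ▸ hlL)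
      · exact tau_two_empty hG hM hE ht3 he heo (fun e' => hy1 (mem_bot.1 (e'.le
          ⟨hyK, Tau.tau_one_fixed hG hM hE hqσ hqd hqr hao ha heo he hea ⟨hyK, hya⟩⟩))) p hpτ
    exact hmoveq (fpf_centralizes_plane hG hL hF hqτ hAq hAq2 hAqF haAq hao hNL hhF hho (Ne.symm hqp)
      hha'.symm hfixL)
  -- an invariant Sylow subgroup over `A`
  have hσH : Cfsg.sigmaCore H ≤ H := map_subtype_le _
  obtain ⟨R₀, hAR, hRσ, hRp, haR, hRd⟩ := Excep.exists_inv_sylow (t := p) (T := zpowers a)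
    (zpowers_le.2 (TH.le_normalizer_core H haH))
    (Excep.coprime_of_pgroup (IsPGroup.of_card (n := 1) (by rw [Nat.card_zpowers, hao, pow_one]) :
      IsPGroup q (zpowers a)) (not_dvd_core hG hH hq.out hqH))
    (Or.inl (solvable_le hG hM (zpowers_le.2 haM)))
    (Excep.le_sigmaCore hG hH hAH (Excep.primes_of_pgroup (IsPGroup.of_card hA2) hpH))
    (IsPGroup.of_card hA2) (zpowers_le.2 (hEA ha))
  have hRi : ¬ p ∣ R₀.index := by
    rw [← relIndex_mul_index hRσ]
    exact fun hd => (hp.out.dvd_mul.1 hd).elim hRd ((Sig.sigma_core hG hH).2.1.2 p hp.out hpH)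
  let R : Sylow p G := hRp.toSylow hRi
  have hRdef : (R : Subgroup G) = R₀ := rfl
  rw [zpowers_le] at haR
  have hRM : ∀ {U : Subgroup G}, U ≤ R₀ → U ≤ M → IsMulCommutative U := fun h1' h2' =>
    Tau.commutative_of_le hA hA2 hG hM hAM hpσ hmax hr2 (hRp.to_le h1') h2'
  haveI hRMc := hRM (U := R₀ ⊓ M) inf_le_left inf_le_right
  have hmemA : ∀ c ∈ R₀ ⊓ M, c ^ p = 1 → c ∈ A := fun c hc hcp => Excep.mem_of_commute hA hmax hcp fun b hb =>
    congrArg Subtype.val (mul_comm' (⟨b, hAR hb, hAM hb⟩ : ↥(R₀ ⊓ M)) ⟨c, hc⟩)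
  set W := R₀ ⊓ centralizer ({a} : Set G) with hW
  have hhW : h ∈ W := ⟨hAR hhA, hha⟩
  obtain ⟨c, hc, hco, hcW⟩ := Excep.exists_central_order (hRp.to_le inf_le_left : IsPGroup p W) le_rfl le_normalizer
    (fun e => hh1 (mem_bot.1 (e ▸ hhW)))
  have hWM : W ≤ M := by
    have hcM : c ∈ M := hChM (mem_centralizer_singleton_iff.2 (hcW h hhW).symm.eq)
    have hch : c ∈ zpowers h := hCA.le ⟨hmemA c ⟨hc.1, hcM⟩ (by rw [← hco, pow_orderOf_eq_one]), hc.2⟩
    have hzc : zpowers c = zpowers h := eq_of_le_of_card_ge (zpowers_le.2 hch) (by rw [Nat.card_zpowers c, hco, hhc])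
    obtain ⟨i, hi⟩ := mem_zpowers_iff.1 (hzc.ge (mem_zpowers h))
    exact fun w hw => hChM (mem_centralizer_singleton_iff.2 (hi ▸ (hcW w hw).zpow_right i).eq)
  have hR1 : (R : Subgroup G) ≠ ⊥ := Sig.sylow_ne_bot hpH R
  obtain ⟨V, hVN, haV, hpV, -, hVfix⟩ := exists_normalizer_complement hG R hR1 (X := zpowers a)
    (zpowers_le.2 haR) (by
      rw [Nat.card_zpowers, hao]
      intro hd
      exact hqp ((Nat.prime_dvd_prime_iff_eq hp.out hq.out).1 hd).symm)
  rw [zpowers_le] at haV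
  have hnarrow : Cfsg.IsNarrow p R₀ := by
    refine Beta.narrow_of_maxE hp2 hRp (A.subgroupOf R₀) ⟨?_, fun x hx => Subtype.ext (hA.2 _ hx)⟩
      (by rw [Nat.card_congr (subgroupOfEquivOfLe hAR).toEquiv, hA2]) fun B' hB' hle => ?_
    · haveI := hA.1
      exact ⟨⟨fun ⟨⟨x, hx⟩, hx'⟩ ⟨⟨w, hw⟩, hw'⟩ => Subtype.ext (Subtype.ext (show x * w = w * x from
        congrArg Subtype.val (mul_comm' (⟨x, hx'⟩ : A) ⟨w, hw'⟩)))⟩⟩
    · haveI := hB'.1
      have h2 := hmax (B'.map R₀.subtype) ⟨Subgroup.map_isMulCommutative _ _, by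
        rintro _ ⟨x, hx, rfl⟩; rw [← map_pow, hB'.2 x hx, map_one]⟩ (by
        rw [← map_subgroupOf_eq_of_le hAR]; exact map_mono hle)
      refine map_injective R₀.subtype_injective ?_
      rw [h2, map_subgroupOf_eq_of_le hAR]
  have hV' := derived_centralizes hp2 hRp hnarrow hVN (hG.1.of_dvd_nat (card_subgroup_dvd_card _)) hpV
  have hVh : ∀ v ∈ V, v ∈ centralizer ({h} : Set G) := by
    intro v hv
    have hvR : v * h * v⁻¹ ∈ R₀ := (mem_normalizer_iff.1 (hVN hv) h).1 (hAR hhA)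
    have hva : v * h * v⁻¹ ∈ centralizer ({a} : Set G) := mem_centralizer_singleton_iff.2 (by
      have hz : v⁻¹ * a * v * a⁻¹ ∈ centralizer (R₀ : Set G) := by
        have h := hV' (commutator_mem_commutator (inv_mem hv) haV)
        rwa [commutatorElement_def, inv_inv] at h
      have h1' : Commute (v⁻¹ * a * v * a⁻¹) h := (mem_centralizer_iff.1 hz h (hAR hhA)).symm
      have h2' : Commute (v⁻¹ * a * v) h := by
        have := h1'.mul_left hhac.symm
        rwa [inv_mul_cancel_right] at this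
      calc v * h * v⁻¹ * a = v * (h * (v⁻¹ * a * v)) * v⁻¹ := by group
        _ = v * ((v⁻¹ * a * v) * h) * v⁻¹ := by rw [h2'.eq]
        _ = a * (v * h * v⁻¹) := by group)
    have hmem : v * h * v⁻¹ ∈ zpowers h := hCA.le ⟨hmemA _ ⟨hvR, hWM ⟨hvR, hva⟩⟩
      (by rw [conj_pow, hA.2 h hhA, mul_one, mul_inv_cancel]), hva⟩
    exact hMh (hNM (Uniq.mem_normalizer_of_map_le (by rw [MonoidHom.map_zpowers, zpowers_le]; exact hmem)))
  have hhd : h ∈ ⁅(R : Subgroup G), (R : Subgroup G)⁆ :=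
    hVfix ⟨hAR hhA, mem_centralizer_iff.2 fun v hv => mem_centralizer_singleton_iff.1 (hVh v hv)⟩
  rw [hRdef] at hhd
  have hnc : ¬ IsCyclic R₀ := fun hc => hS R (by rw [hRdef]; haveI := hc; exact inferInstance)
  obtain ⟨W₂', -, hW₂n, ⟨hW₂c, hW₂e⟩, hW₂card⟩ := CfsgLib.OddPGroup.exists_normal_elementary hp2 hRp
    (⊤ : Subgroup R₀) inferInstance (fun hc => hnc (Subgroup.topEquiv.isCyclic.mp hc))
  set W₂ := W₂'.map R₀.subtype with hW₂
  have hW₂R : W₂ ≤ R₀ := map_subtype_le _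
  have hRW₂ : R₀ ≤ normalizer (W₂ : Set G) := by
    refine (normal_subgroupOf_iff_le_normalizer hW₂R).1 ?_
    rw [hW₂, ← comap_subtype, comap_map_eq_self_of_injective R₀.subtype_injective]
    exact hW₂n
  have hW₂2 : Nat.card W₂ = p ^ 2 := by rw [hW₂, card_map_of_injective R₀.subtype_injective, hW₂card]
  have hW₂1 : W₂ ≠ ⊥ := fun e => by
    rw [e, card_bot] at hW₂2
    exact (Nat.one_lt_pow two_ne_zero hp.out.one_lt).ne hW₂2
  obtain ⟨c₂, hc₂, hc₂o, hc₂R⟩ := Excep.exists_central_order hRp hW₂R hRW₂ hW₂1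
  have hc₂n : R₀ ≤ normalizer (zpowers c₂ : Set G) := le_trans (fun x hx => (FixedLine.le_centralizer_zpowers le_rfl
    (mem_centralizer_singleton_iff.2 (hc₂R x hx).eq))) (centralizer_le_normalizer _)
  have hW₂cen : ⁅⁅R₀, R₀⁆, W₂⁆ = ⊥ := by
    have h0 : ⁅⁅R₀, W₂⁆, R₀⁆ = ⊥ := by
      refine commutator_eq_bot_iff_le_centralizer.2 ((commutator_le.2 fun x hx w hw => ?_).trans
        (zpowers_le.2 (mem_centralizer_iff.2 fun x hx => (hc₂R x hx).eq)))
      exact Tau.commutator_mem_line hRp hW₂2 hRW₂ hW₂R (by rw [Nat.card_zpowers, hc₂o]) (zpowers_le.2 hc₂)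
        hc₂n hx hw
    refine commutator_commutator_eq_bot_of_rotate h0 ?_
    rw [commutator_comm W₂ R₀]
    exact h0
  have hW₂h : W₂ ≤ R₀ ⊓ M := le_inf hW₂R fun w hw => hChM (mem_centralizer_singleton_iff.2
    (mem_centralizer_iff.1 (commutator_eq_bot_iff_le_centralizer.1 hW₂cen hhd) w hw))
  have hW₂A : W₂ = A := eq_of_le_of_card_ge (fun w hw => hmemA w (hW₂h hw) (by
    obtain ⟨w', hw', rfl⟩ := hw
    rw [← map_pow, hW₂e w' hw', map_one])) (by rw [hA2, hW₂2])
  rw [hW₂A] at hRW₂ hc₂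
  -- rank two
  have hr2R : Cfsg.PRankLE p 2 (R : Subgroup G) := by
    rw [hRdef]
    by_contra hr
    obtain ⟨D, hDR, hD, hD3⟩ := Uniq.exists_elementary hr
    haveI := hD.1
    have hline : ∀ x ∈ R₀, ⁅x, h⁆ ∈ zpowers c₂ := fun x hx => Tau.commutator_mem_line hRp hA2 hRW₂ hAR
      (by rw [Nat.card_zpowers, hc₂o]) (zpowers_le.2 hc₂) hc₂n hx hhA
    let f : D →* zpowers c₂ := MonoidHom.mk' (fun x => ⟨⁅(x : G), h⁆, hline x (hDR x.2)⟩) fun x w => Subtype.ext (by
      show ⁅(x : G) * w, h⁆ = ⁅(x : G), h⁆ * ⁅(w : G), h⁆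
      rw [commutatorElement_mul_left_eq_conj_mul]
      obtain ⟨i, hi⟩ := mem_zpowers_iff.1 (hline w (hDR w.2))
      obtain ⟨j, hj⟩ := mem_zpowers_iff.1 (hline x (hDR x.2))
      rw [← hi, ← hj, ((hc₂R x (hDR x.2)).zpow_right i).eq, mul_inv_cancel_right, ← zpow_add, ← zpow_add, add_comm])
    have hker : f.ker.map D.subtype ≤ A := by
      rintro _ ⟨x, hx, rfl⟩
      have hxh : Commute (x : G) h := commutatorElement_eq_one_iff_mul_comm.1
        (congrArg Subtype.val (MonoidHom.mem_ker.1 hx))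
      exact hmemA x ⟨hDR x.2, hChM (mem_centralizer_singleton_iff.2 hxh.eq)⟩ (hD.2 x x.2)
    have hkc : Nat.card f.ker ∣ p ^ 2 := by
      rw [← card_map_of_injective D.subtype_injective, ← hA2]; exact card_dvd_of_le hker
    have h5 := (MonoidHom.ker f).card_mul_index
    rw [hD3, Subgroup.index_ker] at h5
    have hrange : Nat.card f.range ∣ p := by
      have := card_subgroup_dvd_card f.range
      rwa [Nat.card_zpowers, hc₂o] at this
    have hk2 : Nat.card f.ker = p ^ 2 := by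
      obtain ⟨k, hk2, hk⟩ := (Nat.dvd_prime_pow hp.out).1 hkc
      have hr' := Nat.le_of_dvd hp.out.pos hrange
      rw [hk] at h5 ⊢
      have h2' := hp.out.two_le
      interval_cases k
      · have := Nat.pow_lt_pow_right hp.out.one_lt (show 1 < 2 + 1 by omega)
        rw [pow_zero, one_mul] at h5
        rw [pow_one] at this
        omega
      · have := Nat.pow_lt_pow_right hp.out.one_lt (show 2 < 2 + 1 by omega)
        rw [pow_one] at h5
        nlinarith [Nat.mul_le_mul_left p hr']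
      · rfl
    have hDA : A ≤ D := by
      rw [← eq_of_le_of_card_ge hker (by rw [card_map_of_injective D.subtype_injective, hk2, hA2])]
      exact map_subtype_le _
    have := hmax D hD hDA
    rw [this, hA2] at hD3
    exact absurd (Nat.pow_right_injective hp.out.two_le hD3) (by omega)
  refine hS R ?_
  rw [hRdef]
  refine hRM le_rfl fun x hx => hChM (mem_centralizer_singleton_iff.2 ?_)
  exact (Tau.derived_central_rank_two hG R hr2R (hS R) (by rw [hRdef]; exact hhd) (by rw [hRdef]; exact hx)).eq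

end CfsgLib.OddLocal.Kap
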