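import Cfsg.Agent.OddLocal.SigmaOrderP

/-!
Maximal subgroups above the normalizers of `σ(M)`-subgroups of `M`.
-/

set_option autoImplicit false
set_option linter.style.haveILetI false
set_option linter.unusedSectionVars false

namespace CfsgLib.OddLocal.Tau

open Subgroup Cfsg CfsgLib.OddLocal
open scoped commutatorElement Pointwise

universe u

variable {G : Type u} [Group G] [Finite G] {q : ℕ} [hq : Fact q.Prime]
variable (hG : Cfsg.IsMinSimpleOddOrder G)
include hG

/-- A maximal subgroup over the centralizer of a nontrivial `q`-subgroup of `M`, conjugate to `M`, is `M`. -/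
theorem eq_of_conj {M L : Subgroup G} (hM : IsCoatom M) (hqσ : q ∈ Cfsg.sigma M) {X : Subgroup G}
    (hX : IsPGroup q X) (hXM : X ≤ M) (hXL : X ≤ L) (hCL : centralizer (X : Set G) ≤ L) {g : G}
    (hL : L = M.map (MulAut.conj g).toMonoidHom) : L = M := by
  have h : X.map (MulAut.conj g⁻¹).toMonoidHom ≤ M := by
    rintro _ ⟨x, hx, rfl⟩
    obtain ⟨m, hm, hmx⟩ := hL.le (hXL hx)
    show g⁻¹ * x * g⁻¹⁻¹ ∈ M
    have e : g * m * g⁻¹ = x := hmx
    rw [← e, inv_inv]
    simpa [mul_assoc] using hm
  obtain ⟨m, hm, c, hc, e⟩ := Sig.fusion_in hG hM hqσ hX hXM g⁻¹ h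
  have hcL : c ∈ L := hCL hc
  have hg : g = c⁻¹ * m⁻¹ := by rw [← mul_inv_rev, ← e, inv_inv]
  ext x
  constructor
  · intro hx
    obtain ⟨y, hy, hyx⟩ := hL.le (mul_mem (mul_mem (inv_mem hcL) hx) hcL)
    have e' : g * y * g⁻¹ = c⁻¹ * x * c := hyx
    have : x = m⁻¹ * y * m := by
      calc x = c * (c⁻¹ * x * c) * c⁻¹ := by group
        _ = _ := by rw [← e', hg]; group
    rw [this]
    exact mul_mem (mul_mem (inv_mem hm) hy) hm
  · intro hx
    have : c⁻¹ * x * c ∈ L := by
      refine hL.ge ⟨m * x * m⁻¹, mul_mem (mul_mem hm hx) (inv_mem hm), ?_⟩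
      show g * (m * x * m⁻¹) * g⁻¹ = _
      rw [hg]; group
    simpa [mul_assoc] using mul_mem (mul_mem hcL this) (inv_mem hcL)

/-- The largest `q`-subgroups of `M ⊓ L` over `X`, for `L` over the normalizer of `X`. -/
theorem meet_sylow {M L : Subgroup G} (hM : IsCoatom M) (hqσ : q ∈ Cfsg.sigma M) {X S : Subgroup G}
    (hXS : X ≤ S) (hNX : normalizer (X : Set G) ≤ L) (hS : IsPGroup q S) (hSle : S ≤ M ⊓ L)
    (hmax : ∀ T : Subgroup G, IsPGroup q T → S ≤ T → T ≤ M ⊓ L → T = S) :
    normalizer (S : Set G) ≤ M ∧ ¬ q ∣ S.relIndex L := by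
  have hN : normalizer (S : Set G) ≤ M := by
    by_cases hc : IsCyclic S
    · obtain ⟨T, hT⟩ := (hS.comap_subtype (K := M)).exists_le_sylow
      set Q := (T : Subgroup M).map M.subtype
      have hSQ : S ≤ Q := by
        rw [← map_subgroupOf_eq_of_le (hSle.trans inf_le_left)]
        exact map_mono hT
      have hNS : normalizer (S : Set G) ≤ L := by
        haveI := hc
        haveI : IsCyclic X := Subgroup.isCyclic_of_le hXS
        obtain ⟨u, hu⟩ := (Subgroup.isCyclic_iff_exists_zpowers_eq_top X).1 inferInstance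
        exact ((UTool.normalizer_le_normalizer_zpowers hc (hXS (hu ▸ mem_zpowers u))).trans
          (le_of_eq (by rw [hu]))).trans hNX
      have e : S = Q := by
        by_contra hne
        have hlt := CfsgLib.Fusion.lt_inf_normalizer (T.2.map _) (lt_of_le_of_ne hSQ hne)
        exact hlt.ne' (hmax _ ((T.2.map _).to_le inf_le_left) hlt.le
          (le_inf (inf_le_left.trans (map_subtype_le _)) (inf_le_right.trans hNS)))
      have hd : ¬ q ∣ S.index := Excep.index_not_dvd (hSle.trans inf_le_left) (by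
        rw [e, relIndex, ← comap_subtype, comap_map_eq_self_of_injective M.subtype_injective]
        exact T.not_dvd_index) (Sig.not_dvd_index hqσ)
      exact Sig.normalizer_sylow_le hqσ (hS.toSylow hd) (hSle.trans inf_le_left)
    · exact normalizer_le_of_noncyclic hG hM hqσ hS (hSle.trans inf_le_left) hc
  refine ⟨hN, ?_⟩
  obtain ⟨T, hT⟩ := (hS.comap_subtype (K := L)).exists_le_sylow
  have hST : S ≤ (T : Subgroup L).map L.subtype := by
    rw [← map_subgroupOf_eq_of_le (hSle.trans inf_le_right)]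
    exact map_mono hT
  have e : S = (T : Subgroup L).map L.subtype := by
    by_contra hne
    have hlt := CfsgLib.Fusion.lt_inf_normalizer (T.2.map _) (lt_of_le_of_ne hST hne)
    exact hlt.ne' (hmax _ ((T.2.map _).to_le inf_le_left) hlt.le
      (le_inf (inf_le_right.trans hN) (inf_le_left.trans (map_subtype_le _))))
  rw [e, relIndex, ← comap_subtype, comap_map_eq_self_of_injective L.subtype_injective]
  exact T.not_dvd_index

end CfsgLib.OddLocal.Tau
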