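import Cfsg.Agent.OddLocal.KappaUnique
import Cfsg.Agent.S1424

/-!
Two maximal subgroups meeting around a line of a prime outside `σ(M)` of rank one.
-/

set_option autoImplicit false
set_option linter.style.haveILetI false
set_option linter.unusedSectionVars false

namespace CfsgLib.OddLocal.Kap

open Subgroup Cfsg CfsgLib.OddLocal
open scoped commutatorElement Pointwise

universe u

variable {G : Type u} [Group G] [Finite G]

/-- Coprime subgroups normalizing each other centralize each other. -/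
theorem centralizes_of_disjoint {P Q : Subgroup G} (hP : Q ≤ normalizer (P : Set G))
    (hQ : P ≤ normalizer (Q : Set G)) (hcop : (Nat.card P).Coprime (Nat.card Q)) : P ≤ centralizer (Q : Set G) := by
  refine commutator_eq_bot_iff_le_centralizer.1 (le_bot_iff.1 (le_trans ?_
    (disjoint_iff.1 (disjoint_of_coprime_natCard hcop)).le))
  refine le_inf (le_normalizer_iff_commutator_le_left.1 hP) ?_
  rw [commutator_comm]
  exact le_normalizer_iff_commutator_le_left.1 hQ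

theorem line_le_normalizer {H : Subgroup G} {x : G} (hx : x ∈ H) {D : Subgroup G}
    (h : H ≤ normalizer (D : Set G)) : zpowers x ≤ normalizer (D : Set G) := (zpowers_le.2 hx).trans h

theorem plane_absurd {p : ℕ} [hp : Fact p.Prime] {H A : Subgroup G} (hr : Cfsg.PRankLE p 1 H)
    (hA : Cfsg.IsElementaryAbelian p A) (hA2 : Nat.card A = p ^ 2) (hAH : A ≤ H) : False := by
  have := Uniq.rankLE_elementary hr hAH hA
  rw [hA2, pow_one] at this
  exact absurd this (not_le.2 (lt_self_pow₀ hp.out.one_lt one_lt_two))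

theorem exists_order_prime {D : Subgroup G} (h : D ≠ ⊥) : ∃ s : ℕ, s.Prime ∧ ∃ x ∈ D, orderOf x = s := by
  obtain ⟨s, hs, hd⟩ := Nat.exists_prime_and_dvd (n := Nat.card D) (fun e => h (eq_bot_of_card_eq _ e))
  haveI := Fact.mk hs
  obtain ⟨x, hx⟩ := exists_prime_orderOf_dvd_card' (G := D) s hd
  exact ⟨s, hs, x, x.2, by rw [orderOf_coe, hx]⟩

theorem dvd_of_mem {D : Subgroup G} {x : G} {t : ℕ} (hx : x ∈ D) (hxo : orderOf x = t) : t ∣ Nat.card D := by
  rw [← hxo, ← Nat.card_zpowers]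
  exact card_dvd_of_le (zpowers_le.2 hx)

variable (hG : Cfsg.IsMinSimpleOddOrder G)
include hG

theorem mem_sigma_of_mem_core {M : Subgroup G} (hM : IsCoatom M) {x : G} {t : ℕ} (ht : t.Prime)
    (hx : x ∈ Cfsg.sigmaCore M) (hxo : orderOf x = t) : t ∈ Cfsg.sigma M :=
  (Sig.sigma_core hG hM).1.2.1 t ht (dvd_of_mem hx hxo)

theorem mem_core_of_order {M : Subgroup G} (hM : IsCoatom M) {x : G} {t j : ℕ} [Fact t.Prime]
    (hx : x ∈ M) (hxo : orderOf x = t ^ j) (ht : t ∈ Cfsg.sigma M) : x ∈ Cfsg.sigmaCore M :=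
  Excep.le_sigmaCore hG hM (zpowers_le.2 hx) (Excep.primes_of_pgroup
    (IsPGroup.of_card (n := j) (by rw [Nat.card_zpowers, hxo])) ht) (mem_zpowers x)

/-- A group and a normalizing element of prime order, both prime to `σ(L)`, lie in one complement. -/
theorem exists_complement_pair {L D : Subgroup G} (hL : IsCoatom L) (hDL : D ≤ L)
    (hD : ∀ s : ℕ, s.Prime → s ∣ Nat.card D → s ∉ Cfsg.sigma L) {x : G} {t : ℕ} [ht : Fact t.Prime] (hxL : x ∈ L)
    (hxo : orderOf x = t) (htσ : t ∉ Cfsg.sigma L) (hxD : x ∈ normalizer (D : Set G)) :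
    ∃ F : Subgroup G, Cfsg.IsComplIn F (Cfsg.sigmaCore L) L ∧ D ≤ F ∧ x ∈ F := by
  obtain ⟨F, hF, hle⟩ := Tau.exists_complement_of hG hL (sup_le (zpowers_le.2 hxL) hDL) fun s hs hd => by
    rcases hs.dvd_mul.1 (hd.trans (CfsgLib.Solvable.card_sup_dvd (zpowers_le.2 hxD))) with h | h
    · rw [Nat.card_zpowers, hxo] at h
      exact (Nat.prime_dvd_prime_iff_eq hs ht.out).1 h ▸ htσ
    · exact hD s hs h
  exact ⟨F, hF, le_sup_right.trans hle, (le_sup_left.trans hle) (mem_zpowers x)⟩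

/-- An element of prime order of a prime in `τ₂ ∪ τ₃` lies in a normal subgroup of prime power order. -/
theorem normal_over {L F : Subgroup G} (hL : IsCoatom L) (hF : Cfsg.IsComplIn F (Cfsg.sigmaCore L) L) {t : ℕ}
    [ht : Fact t.Prime] (hτ : t ∈ Cfsg.tau2 L ∨ t ∈ Cfsg.tau3 L) {x : G} (hx : x ∈ F) (hxo : orderOf x = t) :
    ∃ P : Subgroup G, x ∈ P ∧ P ≤ F ∧ IsPGroup t P ∧ F ≤ normalizer (P : Set G) := by
  have hp : IsPGroup t (zpowers x) := IsPGroup.of_card (n := 1) (by rw [Nat.card_zpowers, hxo, pow_one])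
  rcases hτ with h2 | h3
  · obtain ⟨A, T, hA, hA2, -, hAT, -, hTF, -⟩ := Tau.exists_sylow_data hG hL hF h2 hp (zpowers_le.2 hx)
    obtain ⟨hn, hlines⟩ := (Cfsg.Agent.S1418.result hG L hL F hF t h2 A ⟨hAT.trans hTF, hA, hA2⟩).1
    exact ⟨A, hlines _ (zpowers_le.2 hx) (by rw [Nat.card_zpowers, hxo]) (mem_zpowers x), hAT.trans hTF,
      IsPGroup.of_card hA2, hn⟩
  · exact ⟨zpowers x, mem_zpowers x, zpowers_le.2 hx, hp, normalizes_line hG hL hF h3 hx hxo⟩

/-- Such an element centralizes the coprime subgroups it normalizes in the complement. -/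
theorem centralizes_coprime {L F D : Subgroup G} (hL : IsCoatom L) (hF : Cfsg.IsComplIn F (Cfsg.sigmaCore L) L)
    {t : ℕ} [ht : Fact t.Prime] (hτ : t ∈ Cfsg.tau2 L ∨ t ∈ Cfsg.tau3 L) {x : G} (hx : x ∈ F) (hxo : orderOf x = t)
    (hDF : D ≤ F) (hxD : x ∈ normalizer (D : Set G)) (htD : ¬ t ∣ Nat.card D) :
    D ≤ centralizer ({x} : Set G) := by
  obtain ⟨P, hxP, -, hPp, hPn⟩ := normal_over hG hL hF hτ hx hxo
  refine (commutator_eq_bot_iff_le_centralizer.1 (le_bot_iff.1 (le_trans ?_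
    (disjoint_iff.1 (disjoint_of_coprime_natCard (Excep.coprime_of_pgroup hPp htD))).le))).trans
    (FixedLine.centralizer_zpowers_le x)
  refine le_inf ?_ (le_normalizer_iff_commutator_le_left.1 (zpowers_le.2 hxD))
  rw [commutator_comm]
  exact (commutator_mono (zpowers_le.2 hxP) le_rfl).trans
    (le_normalizer_iff_commutator_le_left.1 (hDF.trans hPn))

theorem commute_of_normal {L F : Subgroup G} (hL : IsCoatom L) (hF : Cfsg.IsComplIn F (Cfsg.sigmaCore L) L)
    {t t' : ℕ} [ht : Fact t.Prime] [ht' : Fact t'.Prime] (hne : t ≠ t') (hτ : t ∈ Cfsg.tau2 L ∨ t ∈ Cfsg.tau3 L)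
    (hτ' : t' ∈ Cfsg.tau2 L ∨ t' ∈ Cfsg.tau3 L) {x x' : G} (hx : x ∈ F) (hxo : orderOf x = t) (hx' : x' ∈ F)
    (hxo' : orderOf x' = t') : Commute x x' := by
  obtain ⟨P, hxP, hPF, hPp, hPn⟩ := normal_over hG hL hF hτ hx hxo
  obtain ⟨Q, hxQ, hQF, hQp, hQn⟩ := normal_over hG hL hF hτ' hx' hxo'
  exact (mem_centralizer_iff.1 (centralizes_of_disjoint (hQF.trans hPn) (hPF.trans hQn)
    (IsPGroup.coprime_card_of_ne t t' hne P Q hPp hQp) hxP) x' hxQ).symm

/-- A line whose centralizer lies in `M` only is normalized inside `M`. -/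
theorem line_normalizer_le {M : Subgroup G} {x : G} {s : ℕ} [Fact s.Prime] (hxo : orderOf x = s)
    (hC : ∀ L : Subgroup G, IsCoatom L → centralizer ({x} : Set G) ≤ L → L = M) :
    normalizer (zpowers x : Set G) ≤ M := by
  obtain ⟨L, hL, hNL⟩ := (eq_top_or_exists_le_coatom (normalizer (zpowers x : Set G))).resolve_left
    (Excep.normalizer_line_ne_top hG (by rw [Nat.card_zpowers, hxo]))
  exact hC L hL (((FixedLine.le_centralizer_zpowers le_rfl).trans (centralizer_le_normalizer _)).trans hNL) ▸ hNL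

theorem centralizer_le_over {L : Subgroup G} {x : G} (hNL : normalizer (zpowers x : Set G) ≤ L) :
    centralizer ({x} : Set G) ≤ L :=
  ((FixedLine.le_centralizer_zpowers le_rfl).trans (centralizer_le_normalizer _)).trans hNL

section Line

variable {M L : Subgroup G} (hM : IsCoatom M) (hL : IsCoatom L) {r : ℕ} [hr' : Fact r.Prime]
  (hrσ : r ∉ Cfsg.sigma M) (hr : Cfsg.PRankLE r 1 M) {x : G} (hxo : orderOf x = r)
  (hNL : normalizer (zpowers x : Set G) ≤ L)
include hM hL hrσ hr hxo hNL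

theorem sigma_or_tau_two : r ∈ Cfsg.sigma L ∨ r ∈ Cfsg.tau2 L := by
  by_cases h : r ∈ Cfsg.sigma L
  · exact Or.inl h
  · obtain ⟨h2, h1⟩ := (Cfsg.Agent.S1409.result hG L hL r h _ (by rw [Nat.card_zpowers, hxo]) hNL).1
    exact Or.inr ⟨hr'.out, h, h2, h1⟩

theorem line_not_conj : ∀ g : G, L ≠ M.map (MulAut.conj g).toMonoidHom := by
  intro g e
  rcases sigma_or_tau_two hG hM hL hrσ hr hxo hNL with h | h
  · exact hrσ ((sigma_map_iff g).1 (e ▸ h))
  · exact h.2.2.2 (e ▸ rank_map g hr)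

theorem line_ne : L ≠ M := by
  intro e
  rcases sigma_or_tau_two hG hM hL hrσ hr hxo hNL with h | h
  · exact hrσ (e ▸ h)
  · exact h.2.2.2 (e ▸ hr)

end Line

/-- `σ(L)` avoids `σ(M)` if some prime has rank one in `M` and is in `τ₂(L)`. -/
theorem sigma_disjoint_of_tau_two {M L : Subgroup G} (hL : IsCoatom L) {p : ℕ} [Fact p.Prime]
    (hp : p ∈ Cfsg.tau2 L) (hr : Cfsg.PRankLE p 1 M) {s : ℕ} (hsM : s ∈ Cfsg.sigma M) : s ∉ Cfsg.sigma L := by
  intro hsL
  haveI := Fact.mk hsM.1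
  obtain ⟨A, hAL, hA, hA2⟩ : ∃ A : Subgroup G, A ≤ L ∧ Cfsg.IsElementaryAbelian p A ∧ Nat.card A = p ^ 2 :=
    Uniq.exists_elementary hp.2.2.2
  obtain ⟨g, hg⟩ := Tau.conj_into_of_common hG hL hsM hsL hp.2.1 (IsPGroup.of_card hA2) hAL
  exact plane_absurd hr (Tau.elementary_map hA _)
    (by rw [card_map_of_injective (f := (MulAut.conj g).toMonoidHom) (MulAut.conj g).injective, hA2]) hg

/-- `σ(L)` avoids `σ(M)` if some prime of `σ(L)` is in `τ₁(M)`. -/
theorem sigma_disjoint_of_tau_one {M L : Subgroup G} (hM : IsCoatom M) (hL : IsCoatom L) {q : ℕ} [Fact q.Prime]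
    (hqL : q ∈ Cfsg.sigma L) (hq1 : q ∈ Cfsg.tau1 M) {s : ℕ} (hsM : s ∈ Cfsg.sigma M) : s ∉ Cfsg.sigma L := by
  intro hsL
  haveI := Fact.mk hsM.1
  obtain ⟨P, hP, -⟩ := Sig.exists_sylow hqL
  exact Tau.not_dvd_derived_of_common hG hM hL hsM hsL hq1.2.2.1 hq1.2.1 hq1.2.2.2.1
    ((Excep.isPGroup_ne_bot_dvd P.2 (Sig.sylow_ne_bot hqL P)).trans
      (card_dvd_of_le (Sig.le_derived hG hL hqL P.2 hP)))

/-- With a common prime of `σ(M)` and `σ(L)`, a prime of `τ₁(M)` outside `σ(L)` is in `τ₁(L)`. -/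
theorem tau_one_of_common {M L : Subgroup G} (hM : IsCoatom M) (hL : IsCoatom L) {q : ℕ} [hq : Fact q.Prime]
    (hqL : q ∉ Cfsg.sigma L) (hqd : q ∣ Nat.card L) (hq1 : q ∈ Cfsg.tau1 M) {s : ℕ} (hsM : s ∈ Cfsg.sigma M)
    (hsL : s ∈ Cfsg.sigma L) : q ∈ Cfsg.tau1 L := by
  haveI := Fact.mk hsM.1
  refine ⟨hq.out, hqL, hqd, Tau.not_dvd_derived_of_common hG hM hL hsM hsL hq1.2.2.1 hq1.2.1 hq1.2.2.2.1,
    by_contra fun h => ?_⟩
  refine sigma_disjoint_of_tau_two hG hL (p := q) ⟨hq.out, hqL, ?_, h⟩ hq1.2.2.2.2 hsM hsL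
  exact by_contra fun h2 => hqL (Sig.alpha_subset_sigma hG hL ⟨hq.out, h2⟩)

/-- A prime of `σ(M)` with fixed points for a `τ₁`-element is in `σ` of the conjugates of `M` only. -/
theorem fixed_not_sigma {M L : Subgroup G} (hM : IsCoatom M) (hL : IsCoatom L)
    (hnc : ∀ g : G, L ≠ M.map (MulAut.conj g).toMonoidHom) {q : ℕ} [Fact q.Prime] (hq1 : q ∈ Cfsg.tau1 M) {a : G}
    (haM : a ∈ M) (hao : orderOf a = q) {s : ℕ} [hs : Fact s.Prime] {y : G} (hyK : y ∈ Cfsg.sigmaCore M)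
    (hyo : orderOf y = s) (hya : Commute y a) : s ∉ Cfsg.sigma L := by
  intro hsL
  obtain ⟨S, hSK, -⟩ := exists_sylow_core hG hM (mem_sigma_of_mem_core hG hM hs.out hyK hyo)
  have hu := (fixed_unique hG hM hq1 haM hao hyK hyo hya).2 _ S.2 hSK fun h =>
    S.not_dvd_index (h.trans (Dvd.intro _ (relIndex_mul_index hSK)))
  obtain ⟨g, hg⟩ := eq_conj_of_unique hM hL hsL (hSK.trans (map_subtype_le _)) hu
  exact hnc g hg

/-- An element of rank-one prime order outside `σ(M)` centralizes what it sees of `M_σ` in `L`. -/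
theorem inter_le_centralizer {M L : Subgroup G} (hM : IsCoatom M) (hL : IsCoatom L) (hne : L ≠ M) {r : ℕ}
    [hr' : Fact r.Prime] (hrσ : r ∉ Cfsg.sigma M) (hr : Cfsg.PRankLE r 1 M) {x : G} (hxM : x ∈ M) (hxL : x ∈ L)
    (hxo : orderOf x = r) (hrL : r ∈ Cfsg.sigma L ∨ r ∈ Cfsg.tau2 L ∨
      r ∈ Cfsg.tau3 L ∧ ∀ s ∈ Cfsg.sigma M, s ∉ Cfsg.sigma L) :
    Cfsg.sigmaCore M ⊓ L ≤ centralizer ({x} : Set G) := by
  set K := Cfsg.sigmaCore M with hK
  have hp : IsPGroup r (zpowers x) := IsPGroup.of_card (n := 1) (by rw [Nat.card_zpowers, hxo, pow_one])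
  have hn : zpowers x ≤ normalizer ((K ⊓ L : Subgroup G) : Set G) := le_trans
    (le_inf (line_le_normalizer hxM (TH.le_normalizer_core M)) (line_le_normalizer hxL le_normalizer))
    inf_normalizer_le_normalizer_inf
  refine Excep.le_of_sylows fun t ht htd => ?_
  haveI := Fact.mk ht
  have htM : t ∈ Cfsg.sigma M := (Sig.sigma_core hG hM).1.2.1 t ht (htd.trans (card_dvd_of_le inf_le_left))
  obtain ⟨R, -, hRK, hRp, hRn, hRd⟩ := Excep.exists_inv_sylow (t := t) hn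
    (Excep.coprime_of_pgroup hp fun h => not_dvd_core hG hM hr'.out hrσ (h.trans (card_dvd_of_le inf_le_left)))
    (Or.inl (solvable_le hG hM (zpowers_le.2 hxM))) bot_le IsPGroup.of_bot (Excep.le_normalizer_bot _)
  refine ⟨R, le_inf hRK ?_, hRd⟩
  have htr : t ≠ r := fun e => hrσ (e ▸ htM)
  rw [zpowers_le] at hRn
  by_cases hrσL : r ∈ Cfsg.sigma L
  · have h := Tau.centralizes_cross hG hM hL hne htM hrσL htr hRp ((hRK.trans inf_le_left).trans (map_subtype_le _))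
      (hRK.trans inf_le_right) hp (zpowers_le.2 hxL) (zpowers_le.2 hRn)
    exact (commutator_eq_bot_iff_le_centralizer.1 h).trans (FixedLine.centralizer_zpowers_le x)
  have hdis : t ∉ Cfsg.sigma L := by
    rcases hrL with h | h | h
    · exact absurd h hrσL
    · exact sigma_disjoint_of_tau_two hG hL h hr htM
    · exact h.2 t htM
  obtain ⟨F, hF, hRF, hxF⟩ := exists_complement_pair hG hL (hRK.trans inf_le_right)
    (Excep.primes_of_pgroup hRp (π := {s | s ∉ Cfsg.sigma L}) hdis) hxL hxo hrσL hRn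
  refine centralizes_coprime hG hL hF ?_ hxF hxo hRF hRn fun h => ?_
  · rcases hrL with h | h | h
    · exact absurd h hrσL
    · exact Or.inl h
    · exact Or.inr h.1
  · exact htr ((Nat.prime_dvd_prime_iff_eq hr'.out ht).1 (by
      obtain ⟨k, hk⟩ := IsPGroup.iff_card.1 hRp
      exact hr'.out.dvd_of_dvd_pow (hk ▸ h))).symm

/-- A `τ₂(L)`-line, of rank one in `M`, is not centralized by an element with centralizer only in `M`. -/
theorem tau_two_absurd {M L : Subgroup G} (hL : IsCoatom L) (hne : L ≠ M) {r : ℕ} [hr' : Fact r.Prime]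
    (hrτ : r ∈ Cfsg.tau2 L) (hr : Cfsg.PRankLE r 1 M) {x : G} (hxo : orderOf x = r)
    (hNL : normalizer (zpowers x : Set G) ≤ L) {s : ℕ} [hs : Fact s.Prime] {y : G} (hyo : orderOf y = s)
    (hsr : s ≠ r) (hxy : Commute x y) (hsσ : s ∉ Cfsg.sigma L)
    (hC : centralizer ({y} : Set G) ≤ M ∧ ∀ L' : Subgroup G, IsCoatom L' → centralizer ({y} : Set G) ≤ L' → L' = M) :
    False := by
  have hxL : x ∈ L := hNL (le_normalizer (mem_zpowers x))
  have hyL : y ∈ L := centralizer_le_over hG hNL (mem_centralizer_singleton_iff.2 hxy.symm.eq)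
  have hcy : zpowers y ≤ normalizer (zpowers x : Set G) := (zpowers_le.2 (FixedLine.le_centralizer_zpowers le_rfl
    (mem_centralizer_singleton_iff.2 hxy.symm.eq))).trans (centralizer_le_normalizer _)
  rw [zpowers_le] at hcy
  obtain ⟨F, hF, hxF, hyF⟩ := exists_complement_pair hG hL (zpowers_le.2 hxL) (Excep.primes_of_pgroup
    (IsPGroup.of_card (n := 1) (by rw [Nat.card_zpowers, hxo, pow_one])) (π := {v | v ∉ Cfsg.sigma L}) hrτ.2.1)
    hyL hyo hsσ hcy
  rw [zpowers_le] at hxF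
  obtain ⟨A, T, hA, hA2, -, hAT, -, hTF, -⟩ :=
    Tau.exists_sylow_data hG hL hF hrτ (IsPGroup.of_bot : IsPGroup r (⊥ : Subgroup G)) bot_le
  have hxA : x ∈ A := (Cfsg.Agent.S1418.result hG L hL F hF r hrτ A ⟨hAT.trans hTF, hA, hA2⟩).1.2 _
    (zpowers_le.2 hxF) (by rw [Nat.card_zpowers, hxo]) (mem_zpowers x)
  by_cases hfix : Cfsg.sigmaCore L ⊓ centralizer ({y} : Set G) = ⊥
  · have h := fpf_centralizes_plane hG hL hF hrτ hA hA2 (hAT.trans hTF) hxA hxo hNL hyF hyo hsr hxy hfix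
    exact plane_absurd hr hA hA2 (le_trans (fun a ha => mem_centralizer_singleton_iff.2
      (mem_centralizer_iff.1 h a ha)) hC.1)
  · have hsF : s ∣ Nat.card F := dvd_of_mem hyF hyo
    rcases Tau.tau_cases hG hL hF hs.out hsF with h1 | h2 | h3
    · have h := (tau_two_fixed hG hL hF hrτ hA hA2 (hAT.trans hTF) h1 hyF hyo hfix).le
        ⟨hxA, mem_centralizer_singleton_iff.2 hxy.eq⟩
      rw [mem_bot, ← orderOf_eq_one_iff, hxo] at h
      exact hr'.out.ne_one h
    · obtain ⟨w, ⟨hwL, hwy⟩, hw1⟩ := (bot_or_exists_ne_one _).resolve_left hfix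
      have h := Tau.tau_element_centralizer hG hL (hF.1 hyF) (fun e => hs.out.ne_one (by rw [← hyo, e, orderOf_one]))
        (fun v hv hvd => (Nat.prime_dvd_prime_iff_eq hv hs.out).1 (hyo ▸ hvd) ▸ h2) hwL hw1
        (mem_centralizer_singleton_iff.1 hwy).symm
      exact hne (hC.2 L hL h.1)
    · exact tau_two_empty hG hL hF h3 hyF hyo hfix r hrτ

/-- BG 14.2(d): a line with a fixed element having unique centralizer lies in `σ` of the maximal subgroups
over its normalizer. -/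
theorem mem_sigma_over {M L : Subgroup G} (hM : IsCoatom M) (hL : IsCoatom L) {r : ℕ} [hr' : Fact r.Prime]
    (hrσ : r ∉ Cfsg.sigma M) (hr : Cfsg.PRankLE r 1 M) {x : G} (hxo : orderOf x = r)
    (hNL : normalizer (zpowers x : Set G) ≤ L) {s : ℕ} [hs : Fact s.Prime] {y : G} (hyK : y ∈ Cfsg.sigmaCore M)
    (hyo : orderOf y = s) (hxy : Commute x y)
    (hC : centralizer ({y} : Set G) ≤ M ∧ ∀ L' : Subgroup G, IsCoatom L' → centralizer ({y} : Set G) ≤ L' → L' = M) :
    r ∈ Cfsg.sigma L := by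
  rcases sigma_or_tau_two hG hM hL hrσ hr hxo hNL with h | h
  · exact h
  · have hsM := mem_sigma_of_mem_core hG hM hs.out hyK hyo
    exact (tau_two_absurd hG hL (line_ne hG hM hL hrσ hr hxo hNL) h hr hxo hNL hyo (fun e => hrσ (e ▸ hsM)) hxy
      (sigma_disjoint_of_tau_two hG hL h hr hsM) hC).elim

/-- An element of `M_σ` in `τ₂(L)` with fixed points in `L_σ` gives a plane in `M_σ ⊓ L`. -/
theorem exists_plane_meet {M L : Subgroup G} (hM : IsCoatom M) (hL : IsCoatom L) (hne : L ≠ M) {s : ℕ}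
    [hs : Fact s.Prime] (hsτ : s ∈ Cfsg.tau2 L) {y : G} (hyK : y ∈ Cfsg.sigmaCore M) (hyL : y ∈ L)
    (hyo : orderOf y = s) {w : G} (hw : w ∈ Cfsg.sigmaCore L) (hw1 : w ≠ 1) (hyw : Commute y w) :
    (centralizer ({y} : Set G) ≤ L ∧ ∀ L' : Subgroup G, IsCoatom L' → centralizer ({y} : Set G) ≤ L' → L' = L) ∧
      ∃ A : Subgroup G, A ≤ Cfsg.sigmaCore M ⊓ L ∧ Cfsg.IsElementaryAbelian s A ∧ Nat.card A = s ^ 2 := by
  have hsM := mem_sigma_of_mem_core hG hM hs.out hyK hyo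
  have h := Tau.tau_element_centralizer hG hL hyL (fun e => hs.out.ne_one (by rw [← hyo, e, orderOf_one]))
    (fun v hv hvd => (Nat.prime_dvd_prime_iff_eq hv hs.out).1 (hyo ▸ hvd) ▸ hsτ) hw hw1 hyw.eq
  refine ⟨h, ?_⟩
  have hp : IsPGroup s (zpowers y) := IsPGroup.of_card (n := 1) (by rw [Nat.card_zpowers, hyo, pow_one])
  have hle : zpowers y ≤ M ⊓ L := zpowers_le.2 ⟨map_subtype_le _ hyK, hyL⟩
  obtain ⟨S, hS⟩ := (hp.comap_subtype (K := M ⊓ L)).exists_le_sylow
  have hyS : zpowers y ≤ (S : Subgroup ↥(M ⊓ L)).map (M ⊓ L).subtype := by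
    rw [← map_subgroupOf_eq_of_le hle]
    exact map_mono hS
  obtain ⟨-, -, hd⟩ := Cfsg.Agent.S1424.result hG M hM s hsM (zpowers y) hp
    (fun e => hs.out.ne_one (by rw [← hyo, orderOf_eq_one_iff]; exact mem_bot.1 (e ▸ mem_zpowers y)))
    (hle.trans inf_le_left) L hL hne (line_normalizer_le hG hyo h.2) S hyS
  obtain ⟨B, hBL, hB, hB2⟩ : ∃ B : Subgroup G, B ≤ L ∧ Cfsg.IsElementaryAbelian s B ∧ Nat.card B = s ^ 2 :=
    Uniq.exists_elementary hsτ.2.2.2
  obtain ⟨A, hAS, hA, hA2⟩ := Tau.exists_elementary_in_full (S.2.map _) ((map_subtype_le _).trans inf_le_right)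
    hd hB hB2 hBL
  refine ⟨A, le_inf ?_ (hAS.trans ((map_subtype_le _).trans inf_le_right)), hA, hA2⟩
  exact Excep.le_sigmaCore hG hM (hAS.trans ((map_subtype_le _).trans inf_le_left))
    (Excep.primes_of_pgroup (IsPGroup.of_card hA2) hsM)

/-- Primes of `τ₁(M) ∩ τ₁(L)` with fixed points on both cores. -/
theorem junction {M L : Subgroup G} (hM : IsCoatom M) (hL : IsCoatom L) {q : ℕ} [hq : Fact q.Prime]
    (hqM : q ∈ Cfsg.tau1 M) (hqL : q ∈ Cfsg.tau1 L) {a : G} (haM : a ∈ M) (haL : a ∈ L) (hao : orderOf a = q)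
    {s : ℕ} [hs : Fact s.Prime] {y : G} (hyK : y ∈ Cfsg.sigmaCore M) (hyo : orderOf y = s) (hya : Commute y a)
    {l : ℕ} [hl : Fact l.Prime] {w : G} (hwK : w ∈ Cfsg.sigmaCore L) (hwo : orderOf w = l) (hwa : Commute w a) :
    ∃ t ∈ Cfsg.sigma L, ∃ m ∈ M, orderOf m = t ∧ Commute m a := by
  classical
  have hsM := mem_sigma_of_mem_core hG hM hs.out hyK hyo
  have hlL := mem_sigma_of_mem_core hG hL hl.out hwK hwo
  by_cases hsL : s ∈ Cfsg.sigma L
  · exact ⟨s, hsL, y, map_subtype_le _ hyK, hyo, hya⟩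
  obtain ⟨hCy, -⟩ := fixed_unique hG hM hqM haM hao hyK hyo hya
  obtain ⟨hCw, -⟩ := fixed_unique hG hL hqL haL hao hwK hwo hwa
  have hac : Nat.card (zpowers a) = q := by rw [Nat.card_zpowers, hao]
  obtain ⟨N, hN, hNa⟩ := (eq_top_or_exists_le_coatom (normalizer (zpowers a : Set G))).resolve_left
    (Excep.normalizer_line_ne_top hG hac)
  have hqN := mem_sigma_over hG hM hN hqM.2.1 hqM.2.2.2.2 hao hNa hyK hyo hya.symm hCy
  have hNM : N ≠ M := line_ne hG hM hN hqM.2.1 hqM.2.2.2.2 hao hNa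
  have hNL : N ≠ L := line_ne hG hL hN hqL.2.1 hqL.2.2.2.2 hao hNa
  have hsN := sigma_disjoint_of_tau_one hG hM hN hqN hqM hsM
  have hlN := sigma_disjoint_of_tau_one hG hL hN hqN hqL hlL
  set C := centralizer ({a} : Set G) with hC
  have hCN : C ≤ N := centralizer_le_over hG hNa
  have haN : a ∈ Cfsg.sigmaCore N := mem_core_of_order hG hN (j := 1)
    (hNa (le_normalizer (mem_zpowers a))) (by rw [hao, pow_one]) hqN
  have ha1 : a ≠ 1 := fun e => hq.out.ne_one (by rw [← hao, e, orderOf_one])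
  have hyC : y ∈ C := mem_centralizer_singleton_iff.2 hya.eq
  have hwC : w ∈ C := mem_centralizer_singleton_iff.2 hwa.eq
  obtain ⟨H, hH, hyH⟩ := exists_hall_over (π := {v | v ∉ Cfsg.sigma N}) (solvable_le hG hN hCN) (zpowers_le.2 hyC)
    fun v hv hd => by rw [Nat.card_zpowers, hyo] at hd; exact (Nat.prime_dvd_prime_iff_eq hv hs.out).1 hd ▸ hsN
  rw [zpowers_le] at hyH
  obtain ⟨c, hcC, hw'⟩ := Tau.exists_conj_mem hH.1 (hH.2.2 l hl.out hlN) hwC (k := 1) (by rw [hwo, pow_one])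
  set w' := c * w * c⁻¹ with hw'def
  have hca : Commute c a := mem_centralizer_singleton_iff.1 hcC
  have hw'o : orderOf w' = l := by rw [hw'def, ← MulAut.conj_apply, MulEquiv.orderOf_eq, hwo]
  have hw'a : Commute w' a := mem_centralizer_singleton_iff.1 (hH.1 hw')
  obtain ⟨F, hF, hHF⟩ := Tau.exists_complement_of hG hN (hH.1.trans hCN) hH.2.1
  have hfin : Commute w' y → ∃ t ∈ Cfsg.sigma L, ∃ m ∈ M, orderOf m = t ∧ Commute m a := fun h =>
    ⟨l, hlL, w', hCy.1 (mem_centralizer_singleton_iff.2 h.eq), hw'o, hw'a⟩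
  have hsF : s ∣ Nat.card F := dvd_of_mem (hHF hyH) hyo
  have hlF : l ∣ Nat.card F := dvd_of_mem (hHF hw') hw'o
  rcases Tau.tau_cases hG hN hF hs.out hsF with hs1 | hs2 | hs3
  rotate_left
  · exfalso
    have h := Tau.tau_element_centralizer hG hN (hCN hyC) (fun e => hs.out.ne_one (by rw [← hyo, e, orderOf_one]))
      (fun v hv hvd => (Nat.prime_dvd_prime_iff_eq hv hs.out).1 (hyo ▸ hvd) ▸ hs2) haN ha1 hya.eq
    exact hNM (hCy.2 N hN h.1)
  · exact ⟨l, hlL, w', line_normalizer_le hG hyo hCy.2 (normalizes_line hG hN hF hs3 (hHF hyH) hyo (hHF hw')),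
      hw'o, hw'a⟩
  rcases Tau.tau_cases hG hN hF hl.out hlF with hl1 | hl2 | hl3
  · obtain ⟨H₁, hH₁, hyH₁⟩ := exists_hall_over (π := Cfsg.tau1 N) (solvable_le hG hN (hH.1.trans hCN))
      (zpowers_le.2 hyH) fun v hv hd => by
        rw [Nat.card_zpowers, hyo] at hd; exact (Nat.prime_dvd_prime_iff_eq hv hs.out).1 hd ▸ hs1
    obtain ⟨F₁, hF₁, hle⟩ := exists_hall_over (solvable_le hG hN hF.1) (hH₁.1.trans hHF) hH₁.2.1
    haveI := (Compl.tau_structure hG hN hF).1 F₁ hF₁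
    letI := IsCyclic.commGroup (α := F₁)
    obtain ⟨d, hd, hdw⟩ := Tau.exists_conj_mem hH₁.1 (hH₁.2.2 l hl.out hl1) hw' (k := 1) (by rw [hw'o, pow_one])
    rw [zpowers_le] at hyH₁
    have hcomm : Commute (d * w' * d⁻¹) y :=
      congrArg Subtype.val (mul_comm (⟨_, hle hdw⟩ : F₁) ⟨_, hle hyH₁⟩)
    exact ⟨l, hlL, d * w' * d⁻¹, hCy.1 (mem_centralizer_singleton_iff.2 hcomm.eq),
      by rw [← MulAut.conj_apply, MulEquiv.orderOf_eq, hw'o],
      mem_centralizer_singleton_iff.1 (hH.1 (hH₁.1 hdw))⟩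
  · exfalso
    have h := Tau.tau_element_centralizer hG hN (hCN hwC) (fun e => hl.out.ne_one (by rw [← hwo, e, orderOf_one]))
      (fun v hv hvd => (Nat.prime_dvd_prime_iff_eq hv hl.out).1 (hwo ▸ hvd) ▸ hl2) haN ha1 hwa.eq
    exact hNL (hCw.2 N hN h.1)
  -- `y` normalizes the line of `w'`, so lies in a conjugate of `L`
  refine hfin ?_
  set y' := c⁻¹ * y * c with hy'
  have hy'N : y' ∈ normalizer (zpowers w : Set G) := by
    have h1 : y ∈ normalizer (zpowers w' : Set G) := normalizes_line hG hN hF hl3 (hHF hw') hw'o (hHF hyH)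
    have h2 : (zpowers w).map (MulAut.conj c).toMonoidHom = zpowers w' := MonoidHom.map_zpowers _ _
    rw [← h2, ← map_equiv_normalizer_eq] at h1
    obtain ⟨z, hz, e⟩ := h1
    have e' : c * z * c⁻¹ = y := e
    rw [hy', ← e', show c⁻¹ * (c * z * c⁻¹) * c = z by group]
    exact hz
  have hy'L : y' ∈ L := line_normalizer_le hG hwo hCw.2 hy'N
  have hy'a : Commute y' a := ((hca.inv_left).mul_left hya).mul_left hca
  have hy'o : orderOf y' = s := by
    rw [hy', show c⁻¹ * y * c = MulAut.conj c⁻¹ y by simp, MulEquiv.orderOf_eq, hyo]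
  obtain ⟨E, hE, haE, hy'E⟩ := exists_complement_pair hG hL (zpowers_le.2 haL) (Excep.primes_of_pgroup
    (IsPGroup.of_card (n := 1) (by rw [hac, pow_one])) (π := {v | v ∉ Cfsg.sigma L}) hqL.2.1) hy'L hy'o hsL
    (centralizer_le_normalizer _ (FixedLine.le_centralizer_zpowers le_rfl (mem_centralizer_singleton_iff.2 hy'a.eq)))
  rw [zpowers_le] at haE
  have h1 : Commute w y' := mem_centralizer_singleton_iff.1 (Tau.tau_one_fixed hG hL hE hqL.2.1 hqL.2.2.2.1
    hqL.2.2.2.2 hao haE hy'o hy'E hy'a ⟨hwK, mem_centralizer_singleton_iff.2 hwa.eq⟩)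
  have h2 := h1.map (MulAut.conj c).toMonoidHom
  simp only [MulEquiv.toMonoidHom_eq_coe, MonoidHom.coe_coe, MulAut.conj_apply] at h2
  rwa [hy', show c * (c⁻¹ * y * c) * c⁻¹ = y by group] at h2

end CfsgLib.OddLocal.Kap
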