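import Cfsg.Agent.OddLocal.KappaCentral

/-!
The primes of the elements moving a line of `τ₃(M)` with fixed points.
-/

set_option autoImplicit false
set_option linter.style.haveILetI false
set_option linter.unusedSectionVars false

namespace CfsgLib.OddLocal.Kap

open Subgroup Cfsg CfsgLib.OddLocal
open scoped commutatorElement Pointwise

universe u

variable {G : Type u} [Group G] [Finite G]
variable (hG : Cfsg.IsMinSimpleOddOrder G)
include hG

section Fixed

variable {M E : Subgroup G} (hM : IsCoatom M) (hE : Cfsg.IsComplIn E (Cfsg.sigmaCore M) M) {r : ℕ}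
  [hr' : Fact r.Prime] (hr3 : r ∈ Cfsg.tau3 M) {u : G} (hu : u ∈ E) (huo : orderOf u = r)
  (hY : Cfsg.sigmaCore M ⊓ centralizer ({u} : Set G) ≠ ⊥) {L : Subgroup G} (hL : IsCoatom L)
  (hNL : normalizer (zpowers u : Set G) ≤ L)
include hM hE hr3 hu huo hY hL hNL

theorem fixed_eq_meet : Cfsg.sigmaCore M ⊓ centralizer ({u} : Set G) = Cfsg.sigmaCore M ⊓ L := by
  refine le_antisymm (inf_le_inf_left _ (centralizer_le_over hG hNL)) (le_inf inf_le_left ?_)
  exact inter_le_centralizer hG hM hL (line_ne hG hM hL hr3.2.1 hr3.2.2.2 huo hNL) hr3.2.1 hr3.2.2.2 (hE.1 hu)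
    (hNL (le_normalizer (mem_zpowers u))) huo
    ((sigma_or_tau_two hG hM hL hr3.2.1 hr3.2.2.2 huo hNL).imp_right Or.inl)

/-- An element moving the line is of a prime in `σ(L)` and its bottom has the same fixed points. -/
theorem mover_sigma {g : G} (hg : g ∈ E) {t i : ℕ} [ht : Fact t.Prime] (hgo : orderOf g = t ^ (i + 1))
    (hmove : ¬ Commute g u) :
    t ∈ Cfsg.sigma L ∧ r ∈ Cfsg.sigma L ∧
      Cfsg.sigmaCore M ⊓ centralizer ({g ^ t ^ i} : Set G) = Cfsg.sigmaCore M ⊓ centralizer ({u} : Set G) := by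
  classical
  set K := Cfsg.sigmaCore M with hK
  obtain ⟨-, hrσ, -, hr1⟩ := id hr3
  have ht1 := mover_tau_one hG hM hE hr3 hu huo hY hg hgo hmove
  obtain ⟨-, htσ, -, htd, htr⟩ := id ht1
  set g₀ := g ^ t ^ i with hg₀
  have hg₀E : g₀ ∈ E := pow_mem hg _
  have hg₀o : orderOf g₀ = t := orderOf_pow_bottom hgo
  have hg₀u : Commute g₀ u := tau_one_centralizes hG hM hE hr3 hu huo hY ht1 hg₀E hg₀o
  have hle : K ⊓ centralizer ({g₀} : Set G) ≤ centralizer ({u} : Set G) :=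
    Tau.tau_one_fixed hG hM hE htσ htd htr hg₀o hg₀E huo hu hg₀u.symm
  have hne : L ≠ M := line_ne hG hM hL hrσ hr1 huo hNL
  have hrL := sigma_or_tau_two hG hM hL hrσ hr1 huo hNL
  have hEL : E ≤ L := (normalizes_line hG hM hE hr3 hu huo).trans hNL
  have hgL : g ∈ L := hEL hg
  have hg₀L : g₀ ∈ L := hEL hg₀E
  have huL : u ∈ L := hEL hu
  have hg₀M : g₀ ∈ M := hE.1 hg₀E
  have hu1 : u ≠ 1 := fun e => hr'.out.ne_one (by rw [← huo, e, orderOf_one])
  set Y := K ⊓ L with hYdef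
  have hYeq : K ⊓ centralizer ({u} : Set G) = Y := fixed_eq_meet hG hM hE hr3 hu huo hY hL hNL
  have hY1 : Y ≠ ⊥ := hYeq ▸ hY
  have hYu : Y ≤ centralizer ({u} : Set G) := hYeq ▸ inf_le_right
  have hYσM : ∀ {s : ℕ}, s.Prime → s ∣ Nat.card Y → s ∈ Cfsg.sigma M := fun hs hd =>
    (Sig.sigma_core hG hM).1.2.1 _ hs (hd.trans (card_dvd_of_le inf_le_left))
  have htL : t ∈ Cfsg.sigma L := by
    by_contra htL
    rcases hrL with hrσL | hr2L
    · have huσ : u ∈ Cfsg.sigmaCore L := mem_core_of_order hG hL (j := 1) huL (by rw [huo, pow_one]) hrσL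
      by_cases hrk : Cfsg.PRankLE t 1 L
      · obtain ⟨F, hF, hgF⟩ := Tau.exists_complement_of hG hL (zpowers_le.2 hgL) fun v hv hd => by
          rw [Nat.card_zpowers, hgo] at hd
          exact (Nat.prime_dvd_prime_iff_eq hv ht.out).1 (hv.dvd_of_dvd_pow hd) ▸ htL
        exact hmove (mem_centralizer_singleton_iff.1 (fixed_le_zpowers hG hL hF hrk (hgF (mem_zpowers g)) hgo
          ⟨huσ, mem_centralizer_singleton_iff.2 hg₀u.symm.eq⟩)).symm
      have ht2 : t ∈ Cfsg.tau2 L :=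
        ⟨ht.out, htL, by_contra fun h => htL (Sig.alpha_subset_sigma hG hL ⟨ht.out, h⟩), hrk⟩
      have hYg : Y ≤ centralizer ({g₀} : Set G) :=
        inter_le_centralizer hG hM hL hne htσ htr hg₀M hg₀L hg₀o (Or.inr (Or.inl ht2))
      obtain ⟨s, hs, y, hy, hyo⟩ := exists_order_prime hY1
      haveI := Fact.mk hs
      have hsσ : s ∉ Cfsg.sigma L := sigma_disjoint_of_tau_two hG hL ht2 htr (hYσM hs (dvd_of_mem hy hyo))
      have hyg : Commute y g₀ := mem_centralizer_singleton_iff.1 (hYg hy)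
      have hCy := (fixed_unique hG hM ht1 hg₀M hg₀o hy.1 hyo hyg).1
      have hyu : Commute y u := mem_centralizer_singleton_iff.1 (hYu hy)
      have hfixy : Cfsg.sigmaCore L ⊓ centralizer ({y} : Set G) ≠ ⊥ := fun e => hu1 (mem_bot.1
        (e.le ⟨huσ, mem_centralizer_singleton_iff.2 hyu.symm.eq⟩))
      obtain ⟨F, hF, hgF, hyF⟩ := exists_complement_pair hG hL (zpowers_le.2 hg₀L) (Excep.primes_of_pgroup
        (IsPGroup.of_card (n := 1) (by rw [Nat.card_zpowers, hg₀o, pow_one])) (π := {v | v ∉ Cfsg.sigma L}) htL)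
        hy.2 hyo hsσ (centralizer_le_normalizer _ (FixedLine.le_centralizer_zpowers le_rfl
          (mem_centralizer_singleton_iff.2 hyg.eq)))
      rw [zpowers_le] at hgF
      rcases Tau.tau_cases hG hL hF hs (dvd_of_mem hyF hyo) with h1 | h2 | h3
      · obtain ⟨A, T, hA, hA2, -, hAT, -, hTF, -⟩ := Tau.exists_sylow_data hG hL hF ht2
          (IsPGroup.of_bot : IsPGroup t (⊥ : Subgroup G)) bot_le
        have hgA : g₀ ∈ A := (Cfsg.Agent.S1418.result hG L hL F hF t ht2 A ⟨hAT.trans hTF, hA, hA2⟩).1.2 _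
          (zpowers_le.2 hgF) (by rw [Nat.card_zpowers, hg₀o]) (mem_zpowers _)
        have h := (tau_two_fixed hG hL hF ht2 hA hA2 (hAT.trans hTF) h1 hyF hyo hfixy).le
          ⟨hgA, mem_centralizer_singleton_iff.2 hyg.symm.eq⟩
        exact ht.out.ne_one (by rw [← hg₀o, orderOf_eq_one_iff]; exact mem_bot.1 h)
      · exact hne (hCy.2 L hL (Tau.tau_element_centralizer hG hL hy.2
          (fun e => hs.ne_one (by rw [← hyo, e, orderOf_one]))
          (fun v hv hvd => (Nat.prime_dvd_prime_iff_eq hv hs).1 (hyo ▸ hvd) ▸ h2) huσ hu1 hyu.eq).1)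
      · exact tau_two_empty hG hL hF h3 hyF hyo hfixy t ht2
    have hdis : ∀ {s : ℕ}, s ∈ Cfsg.sigma M → s ∉ Cfsg.sigma L := fun hs =>
      sigma_disjoint_of_tau_two hG hL hr2L hr1 hs
    have hYg : Y ⊓ centralizer ({g₀} : Set G) = ⊥ := by
      by_contra hne'
      obtain ⟨s, hs, y, hy, hyo⟩ := exists_order_prime hne'
      haveI := Fact.mk hs
      have hsM := hYσM hs (dvd_of_mem hy.1 hyo)
      exact tau_two_absurd hG hL hne hr2L hr1 huo hNL hyo (fun e => hrσ (e ▸ hsM))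
        (show Commute y u from mem_centralizer_singleton_iff.1 (hYu hy.1)).symm (hdis hsM)
        (fixed_unique hG hM ht1 hg₀M hg₀o hy.1.1 hyo (mem_centralizer_singleton_iff.1 hy.2)).1
    have hYmove : ¬ Y ≤ centralizer ({g₀} : Set G) := fun h => hY1 (le_bot_iff.1 ((le_inf le_rfl h).trans hYg.le))
    obtain ⟨F, hF, huF, hgF⟩ := exists_complement_pair hG hL (zpowers_le.2 huL) (Excep.primes_of_pgroup
      (IsPGroup.of_card (n := 1) (by rw [Nat.card_zpowers, huo, pow_one])) (π := {v | v ∉ Cfsg.sigma L}) hr2L.2.1)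
      hg₀L hg₀o htL (centralizer_le_normalizer _ (FixedLine.le_centralizer_zpowers le_rfl
        (mem_centralizer_singleton_iff.2 hg₀u.eq)))
    rw [zpowers_le] at huF
    have hτ1 : t ∈ Cfsg.tau1 L := by
      rcases Tau.tau_cases hG hL hF ht.out (dvd_of_mem hgF hg₀o) with h | h | h
      · exact h
      · exact absurd (inter_le_centralizer hG hM hL hne htσ htr hg₀M hg₀L hg₀o (Or.inr (Or.inl h))) hYmove
      · exact absurd (inter_le_centralizer hG hM hL hne htσ htr hg₀M hg₀L hg₀o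
          (Or.inr (Or.inr ⟨h, fun _ hs => hdis hs⟩))) hYmove
    have hfpf : Cfsg.sigmaCore L ⊓ centralizer ({g₀} : Set G) = ⊥ := by
      by_contra hne'
      obtain ⟨A, T, hA, hA2, -, hAT, -, hTF, -⟩ := Tau.exists_sylow_data hG hL hF hr2L
        (IsPGroup.of_bot : IsPGroup r (⊥ : Subgroup G)) bot_le
      have huA : u ∈ A := (Cfsg.Agent.S1418.result hG L hL F hF r hr2L A ⟨hAT.trans hTF, hA, hA2⟩).1.2 _
        (zpowers_le.2 huF) (by rw [Nat.card_zpowers, huo]) (mem_zpowers _)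
      have h := (tau_two_fixed hG hL hF hr2L hA hA2 (hAT.trans hTF) hτ1 hgF hg₀o hne').le
        ⟨huA, mem_centralizer_singleton_iff.2 hg₀u.symm.eq⟩
      exact hu1 (mem_bot.1 h)
    have hYσ : ∀ s : ℕ, s.Prime → s ∣ Nat.card Y → s ∉ Cfsg.sigma L := fun s hs hd => hdis (hYσM hs hd)
    have hg₀Y : g₀ ∈ normalizer (Y : Set G) :=
      inf_normalizer_le_normalizer_inf ⟨TH.le_normalizer_core M hg₀M, le_normalizer hg₀L⟩
    have htY : ¬ t ∣ Nat.card Y := fun h => htσ (hYσM ht.out h)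
    have hLY : Cfsg.sigmaCore L ≤ centralizer (Y : Set G) :=
      frobenius_kills (l := t) (solvable_le hG hL (map_subtype_le _))
        (solvable_le hG hL (sup_le inf_le_right (zpowers_le.2 hg₀L))) hg₀o (not_dvd_core hG hL ht.out htL)
        (Nat.coprime_of_dvd fun s hs h1 h2 => hYσ s hs h1 ((Sig.sigma_core hG hL).1.2.1 s hs h2))
        (inf_le_right.trans (TH.le_normalizer_core L)) (TH.le_normalizer_core L hg₀L) hg₀Y hYg
        (hfpf.le.trans bot_le)
    obtain ⟨w, hw, hw1⟩ := (bot_or_exists_ne_one (Cfsg.sigmaCore L)).resolve_left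
      (Tau.sigmaCore_ne_bot hG hL (Nat.lt_of_lt_of_le ht.out.one_lt
        (Nat.le_of_dvd Nat.card_pos (dvd_of_mem hg₀L hg₀o))))
    obtain ⟨W, hWY, hW1, hWL', -, -⟩ := exists_moved hG hL inf_le_right hYσ hg₀L hg₀o htY hg₀Y hYmove
    obtain ⟨s, hs, y, hy, hyo⟩ := exists_order_prime hW1
    haveI := Fact.mk hs
    exact derived_absurd hG hM hL hne hw hw1 (fun z hz => mem_centralizer_singleton_iff.2
      (mem_centralizer_iff.1 (hLY hw) z hz)) (hWY hy).1 (hWL' hy) hyo (hYσ s hs (dvd_of_mem (hWY hy) hyo))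
      (hLY.trans (centralizer_le (Set.singleton_subset_iff.2 (hWY hy))))
  have hYg : Y ≤ centralizer ({g₀} : Set G) :=
    inter_le_centralizer hG hM hL hne htσ htr hg₀M hg₀L hg₀o (Or.inl htL)
  refine ⟨htL, ?_, le_antisymm (le_inf inf_le_left hle) (hYeq ▸ le_inf inf_le_left hYg)⟩
  obtain ⟨s, hs, y, hy, hyo⟩ := exists_order_prime hY1
  haveI := Fact.mk hs
  exact mem_sigma_over hG hM hL hrσ hr1 huo hNL hy.1 hyo
    (show Commute y u from mem_centralizer_singleton_iff.1 (hYu hy)).symm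
    (fixed_unique hG hM ht1 hg₀M hg₀o hy.1 hyo (mem_centralizer_singleton_iff.1 (hYg hy))).1

end Fixed

/-- Fixed points of one line of `τ₃(M)` are fixed by all of them. -/
theorem fixed_le_tau_three {M E : Subgroup G} (hM : IsCoatom M) (hE : Cfsg.IsComplIn E (Cfsg.sigmaCore M) M)
    {r : ℕ} [hr' : Fact r.Prime] (hr3 : r ∈ Cfsg.tau3 M) {u : G} (hu : u ∈ E) (huo : orderOf u = r)
    (hY : Cfsg.sigmaCore M ⊓ centralizer ({u} : Set G) ≠ ⊥) {p : ℕ} [hp : Fact p.Prime] (hp3 : p ∈ Cfsg.tau3 M)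
    {x : G} (hx : x ∈ E) (hxo : orderOf x = p) :
    Cfsg.sigmaCore M ⊓ centralizer ({u} : Set G) ≤ centralizer ({x} : Set G) := by
  obtain ⟨L, hL, hNL⟩ := (eq_top_or_exists_le_coatom (normalizer (zpowers u : Set G))).resolve_left
    (Excep.normalizer_line_ne_top hG (by rw [Nat.card_zpowers, huo]))
  obtain ⟨g, hg, t, ht, ⟨j, hgo⟩, hmove⟩ := tau_three_moved hG hM hE hr3 hu huo
  haveI := Fact.mk ht
  obtain ⟨i, rfl⟩ := exists_pow_succ hgo hmove
  obtain ⟨htL, -, -⟩ := mover_sigma hG hM hE hr3 hu huo hY hL hNL hg hgo hmove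
  have ht1 := mover_tau_one hG hM hE hr3 hu huo hY hg hgo hmove
  have hne : L ≠ M := line_ne hG hM hL hr3.2.1 hr3.2.2.2 huo hNL
  have hEL : E ≤ L := (normalizes_line hG hM hE hr3 hu huo).trans hNL
  rw [fixed_eq_meet hG hM hE hr3 hu huo hY hL hNL]
  refine inter_le_centralizer hG hM hL hne hp3.2.1 hp3.2.2.2 (hE.1 hx) (hEL hx) hxo ?_
  by_cases hpL : p ∈ Cfsg.sigma L
  · exact Or.inl hpL
  obtain ⟨F, hF, hxF⟩ := Tau.exists_complement_of hG hL (zpowers_le.2 (hEL hx)) fun v hv hd => by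
    rw [Nat.card_zpowers, hxo] at hd
    exact (Nat.prime_dvd_prime_iff_eq hv hp.out).1 hd ▸ hpL
  rcases Tau.tau_cases hG hL hF hp.out (dvd_of_mem (hxF (mem_zpowers x)) hxo) with h | h | h
  · exact absurd (((Compl.dvd_derived_iff hG hM hE hp3.2.1).1 hp3.2.2.1).trans
      (card_dvd_of_le (commutator_mono hEL hEL))) h.2.2.2.1
  · exact Or.inr (Or.inl h)
  · exact Or.inr (Or.inr ⟨h, fun _ hs => sigma_disjoint_of_tau_one hG hM hL htL ht1 hs⟩)

end CfsgLib.OddLocal.Kap
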