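import Cfsg.Agent.OddLocal.KappaPairApps
import Cfsg.Agent.OddLocal.KappaBeta
import Cfsg.Agent.OddLocal.KappaTypeTwoSylow
import Cfsg.Agent.OddLocal.PrimeActionFitting
import Cfsg.Agent.Solvable.CoprimeAct
import Cfsg.Agent.Comp.Basic

/-!
BG 15.2: the maximal subgroups `M` with `M_σ` not nilpotent.
-/

set_option autoImplicit false
set_option linter.style.haveILetI false
set_option linter.unusedSectionVars false

namespace CfsgLib.OddLocal.Kap

open Subgroup Cfsg CfsgLib.OddLocal
open scoped commutatorElement Pointwise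

universe u

variable {G : Type u} [Group G] [Finite G]

/-- `PrimeFit.commutator_le_fitting` for subgroups. -/
theorem commutator_le_fittingOf {S : Subgroup G} {x : G} {r : ℕ} [Fact r.Prime] (hx : orderOf x = r)
    (hxS : x ∈ normalizer (S : Set G)) (hs : Group.IsSolvable ↥(S ⊔ zpowers x)) (hodd : Odd (Nat.card G))
    (hcop : (Nat.card S).Coprime r) (hfix : Cfsg.fittingOf S ⊓ centralizer ({x} : Set G) = ⊥) :
    ⁅S, zpowers x⁆ ≤ Cfsg.fittingOf S := by
  set T := S ⊔ zpowers x
  have hST : S ≤ T := le_sup_left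
  haveI := hs
  haveI hn : (S.subgroupOf T).Normal :=
    (normal_subgroupOf_iff_le_normalizer hST).2 (sup_le le_normalizer (zpowers_le.2 hxS))
  set S' := S.subgroupOf T with hS'
  have hmap : S'.map T.subtype = S := map_subgroupOf_eq_of_le hST
  have hFle : (Cfsg.fittingOf S').map T.subtype ≤ Cfsg.fittingOf S := by
    refine Bender.le_fitting ((map_mono (Bender.fitting_le S')).trans hmap.le) ?_
      (CfsgLib.CN.nilpotent_map (Bender.nilpotent_fitting S') _)
    rw [← hmap]
    exact (map_mono (Bender.le_normalizer_fitting S')).trans (le_normalizer_map _)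
  have hxT : x ∈ T := mem_sup_right (mem_zpowers x)
  have h := PrimeFit.commutator_le_fitting (G := T) (hodd.of_dvd_nat T.card_subgroup_dvd_card) (K := S')
    (x := ⟨x, hxT⟩) (r := r) (by rw [orderOf_mk, hx])
    (by rw [Nat.card_congr (subgroupOfEquivOfLe hST).toEquiv]; exact hcop)
    (by
      refine map_injective T.subtype_injective ?_
      rw [Subgroup.map_sup, hmap, MonoidHom.map_zpowers, ← MonoidHom.range_eq_map, T.range_subtype]
      rfl)
    (by
      refine (eq_bot_iff_forall _).2 fun f hf => ?_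
      have h1 : (f : G) ∈ Cfsg.fittingOf S ⊓ centralizer ({x} : Set G) :=
        ⟨hFle (mem_map_of_mem T.subtype hf.1),
          mem_centralizer_singleton_iff.2 (congrArg Subtype.val (mem_centralizer_singleton_iff.1 hf.2))⟩
      rw [hfix, Subgroup.mem_bot] at h1
      exact Subtype.ext h1)
  have h2 := map_mono (f := T.subtype) h
  rw [map_commutator, MonoidHom.map_zpowers, hmap] at h2
  exact h2.trans hFle

/-- A group generated modulo a normal subgroup by pairwise commuting elements has its derived subgroup inside. -/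
theorem derived_le_of_abelian_mod {M A F : Subgroup G} (hAc : ∀ a ∈ A, ∀ b ∈ A, Commute a b)
    (hAF : A ≤ normalizer (F : Set G)) (hM : M ≤ A ⊔ F) : ⁅M, M⁆ ≤ F := by
  rw [commutator_le]
  intro u hu v hv
  obtain ⟨a, ha, f, hf, rfl⟩ := (CfsgLib.Solvable.mem_sup_of_le_normalizer hAF).1 (hM hu)
  obtain ⟨b, hb, g, hg, rfl⟩ := (CfsgLib.Solvable.mem_sup_of_le_normalizer hAF).1 (hM hv)
  have hab : a * b = b * a := hAc a ha b hb
  have h : ⁅a * f, b * g⁆ =
      (a * f * a⁻¹) * ((a * b) * (g * f⁻¹) * (a * b)⁻¹) * (b * g⁻¹ * b⁻¹) := by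
    rw [commutatorElement_def, show (a * b)⁻¹ = a⁻¹ * b⁻¹ by rw [hab, mul_inv_rev]]
    group
  rw [h]
  exact F.mul_mem (F.mul_mem ((mem_normalizer_iff.1 (hAF ha) f).1 hf)
    ((mem_normalizer_iff.1 (hAF (A.mul_mem ha hb)) _).1 (F.mul_mem hg (F.inv_mem hf))))
    ((mem_normalizer_iff.1 (hAF hb) _).1 (F.inv_mem hg))

/-- An element of prime order with its fixed points in a normal `q`-subgroup fixing nothing modulo it: the
quotient is nilpotent, so the Sylow `q`-subgroups are normal. -/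
theorem sylow_normal_of_fixed_le {S Y : Subgroup G} {x : G} {r q : ℕ} [hr : Fact r.Prime] [hq : Fact q.Prime]
    (hs : Group.IsSolvable S) (hx : orderOf x = r) (hxS : x ∈ normalizer (S : Set G))
    (hcop : (Nat.card S).Coprime r) (hYS : Y ≤ S) (hY : IsPGroup q Y) (hYn : S ≤ normalizer (Y : Set G))
    (hxY : x ∈ normalizer (Y : Set G)) (hfix : S ⊓ centralizer ({x} : Set G) ≤ Y) (P : Sylow q S) :
    (P : Subgroup S).Normal := by
  haveI hYn' : (Y.subgroupOf S).Normal := (normal_subgroupOf_iff_le_normalizer hYS).2 hYn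
  haveI := hs
  set c : MulAut S := S.normalizerMonoidHom ⟨x, hxS⟩ with hc
  have hval : ∀ s : S, (c s : G) = x * s * x⁻¹ := fun s => rfl
  have hcpow : c ^ r = 1 := by
    rw [hc, ← map_pow, show (⟨x, hxS⟩ : normalizer (S : Set G)) ^ r = 1 from Subtype.ext (by
      rw [SubmonoidClass.coe_pow, ← hx, pow_orderOf_eq_one]; rfl), map_one]
  have hcY : (Y.subgroupOf S).map c.toMonoidHom = Y.subgroupOf S := by
    refine eq_of_le_of_card_ge ?_ (card_map_of_injective (f := c.toMonoidHom) c.injective).ge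
    rintro _ ⟨y, hy, rfl⟩
    show ((c y : S) : G) ∈ Y
    rw [hval]
    exact (mem_normalizer_iff.1 hxY _).1 hy
  set ψ : MulAut (S ⧸ Y.subgroupOf S) := QuotientGroup.congr _ _ c hcY with hψ
  have hψmk : ∀ s : S, ψ (QuotientGroup.mk' _ s) = QuotientGroup.mk' _ (c s) := fun s => rfl
  have hψpow : ∀ (n : ℕ) (s : S), (ψ ^ n) (QuotientGroup.mk' _ s) = QuotientGroup.mk' _ ((c ^ n) s) := by
    intro n
    induction n with
    | zero => intro s; rfl
    | succ n ih => intro s; rw [pow_succ, pow_succ]; show (ψ ^ n) (ψ _) = _; rw [hψmk, ih]; rfl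
  have hnil : Group.IsNilpotent (S ⧸ Y.subgroupOf S) := by
    refine CfsgLib.FPFPrime.isNilpotent (solvable_of_surjective (QuotientGroup.mk'_surjective _)) hr.out ψ ?_ ?_
    · refine MulEquiv.ext fun z => ?_
      obtain ⟨s, rfl⟩ := QuotientGroup.mk'_surjective _ z
      rw [hψpow, hcpow]; rfl
    · intro z hz
      obtain ⟨s, rfl⟩ := QuotientGroup.mk'_surjective _ z
      rw [hψmk] at hz
      obtain ⟨w, hw, hsw⟩ := CfsgLib.CoprimeAct.exists_centralizing_mem_coset (A := zpowers x) (K := S) (N := Y)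
        (zpowers_le.2 hxS) (by rw [Nat.card_zpowers, hx]; exact hcop.symm) hYS (zpowers_le.2 hxY)
        (Or.inl inferInstance) s.2 (fun a ha => by
          obtain ⟨i, rfl⟩ := mem_zpowers_iff.1 ha
          have h1 : (s : G)⁻¹ * (x * s * x⁻¹) ∈ Y := by
            have := (QuotientGroup.eq.1 hz.symm : s⁻¹ * c s ∈ Y.subgroupOf S)
            simpa [Subgroup.mem_subgroupOf, hval] using this
          let T : Subgroup G :=
            { carrier := {a | a ∈ normalizer (Y : Set G) ∧ (s : G)⁻¹ * (a * s * a⁻¹) ∈ Y}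
              one_mem' := ⟨one_mem _, by simp⟩
              mul_mem' := fun {a b} ha hb => ⟨(normalizer (Y : Set G)).mul_mem ha.1 hb.1, by
                rw [show (s : G)⁻¹ * (a * b * s * (a * b)⁻¹) = ((s : G)⁻¹ * (a * s * a⁻¹)) *
                  (a * ((s : G)⁻¹ * (b * s * b⁻¹)) * a⁻¹) by group]
                exact Y.mul_mem ha.2 ((mem_normalizer_iff.1 ha.1 _).1 hb.2)⟩
              inv_mem' := fun {a} ha => ⟨(normalizer (Y : Set G)).inv_mem ha.1, by
                rw [show (s : G)⁻¹ * (a⁻¹ * s * a⁻¹⁻¹) = (a⁻¹ * ((s : G)⁻¹ * (a * s * a⁻¹)) * a⁻¹⁻¹)⁻¹ by group]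
                exact Y.inv_mem ((mem_normalizer_iff.1 ((normalizer (Y : Set G)).inv_mem ha.1) _).1 ha.2)⟩ }
          exact ((zpowers_le.2 (show x ∈ T from ⟨hxY, h1⟩)) (mem_zpowers_iff.2 ⟨i, rfl⟩)).2)
      refine (QuotientGroup.eq_one_iff s).2 ?_
      show (s : G) ∈ Y
      have hwY : w ∈ Y := hfix ⟨hw.1, mem_centralizer_singleton_iff.2
        (mem_centralizer_iff.1 hw.2 x (mem_zpowers x)).symm⟩
      rw [show (s : G) = w * ((s : G)⁻¹ * w)⁻¹ by group]
      exact Y.mul_mem hwY (Y.inv_mem hsw)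
  have hall : ∀ (p : ℕ) (_ : Fact p.Prime) (T : Sylow p (S ⧸ Y.subgroupOf S)), (T : Subgroup (S ⧸ Y.subgroupOf S)).Normal :=
    ((Group.isNilpotent_of_finite_tfae (G := S ⧸ Y.subgroupOf S)).out 0 3).1 hnil
  have hn := hall q hq (P.mapSurjective (QuotientGroup.mk'_surjective _))
  haveI := hn
  have hle : Y.subgroupOf S ≤ (P : Subgroup S) := by
    have hYp : IsPGroup q (Y.subgroupOf S) := hY.comap_of_injective _ S.subtype_injective
    obtain ⟨Q, hQ⟩ := hYp.exists_le_sylow
    obtain ⟨s, rfl⟩ := MulAction.exists_smul_eq S Q P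
    intro y hy
    rw [Sylow.coe_subgroup_smul]
    exact ⟨s⁻¹ * y * s, hQ (by simpa using hYn'.conj_mem y hy s⁻¹), by simp [MulAut.smul_def, mul_assoc]⟩
  have h := Subgroup.Normal.comap hn (QuotientGroup.mk' (Y.subgroupOf S))
  rw [Sylow.coe_mapSurjective, comap_map_eq, QuotientGroup.ker_mk', sup_eq_left.2 hle] at h
  exact h

variable (hG : Cfsg.IsMinSimpleOddOrder G)
include hG

theorem dvd_star {T : Subgroup G} {y : G} (hy : y ∈ T) : orderOf y ∣ Nat.card T := by
  rw [← Nat.card_zpowers]; exact card_dvd_of_le (zpowers_le.2 hy)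

section Deficient

variable {M H : Subgroup G} (hM : IsCoatom M) (hH : Cfsg.IsPiHallOf (Cfsg.kappa M) H M)
  (hnn : ¬ Group.IsNilpotent (Cfsg.sigmaCore M))
include hM hH hnn

theorem deficient_no_outer : ¬ HasOuter M := fun h => hnn (nilpotent_of_outer hG hM h)

theorem deficient_kappa : H ≠ ⊥ := by
  intro e
  obtain ⟨E, hE, -⟩ := Tau.exists_complement_of hG hM (X := ⊥) bot_le fun q hq h => by
    rw [card_bot, Nat.dvd_one] at h; exact absurd h hq.ne_one
  have hall : ∀ t : ℕ, t.Prime → t ∣ Nat.card M → t ∈ Cfsg.sigma M := fun t ht htd => by_contra fun htσ => by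
    by_cases htκ : t ∈ Cfsg.kappa M
    · exact hH.2.2 t ht htκ (by rw [e, relIndex_bot_left]; exact htd)
    · exact deficient_no_outer hG hM hH hnn ⟨t, ht, htd, htσ, htκ⟩
  have hle : M ≤ Cfsg.sigmaCore M := Excep.le_sigmaCore hG hM le_rfl hall
  refine hnn ?_
  have hd : ⁅M, M⁆ = M := le_antisymm (commutator_le.2 fun a ha b hb => M.mul_mem (M.mul_mem (M.mul_mem ha hb)
    (M.inv_mem ha)) (M.inv_mem hb)) (hle.trans (Sig.sigma_core hG hM).2.2)
  haveI : Group.IsSolvable M := hG.2.2.2 M hM.1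
  haveI : Nontrivial M := Finite.one_lt_card_iff_nontrivial.1 (one_lt_card_coatom hG hM)
  refine absurd ?_ (Group.IsSolvable.commutator_lt_top_of_nontrivial M).ne
  exact map_injective M.subtype_injective (by rw [map_subtype_commutator, hd, ← MonoidHom.range_eq_map, M.range_subtype])

theorem deficient_decomp : Cfsg.IsSigmaDecomposition M H ⊥ := by
  obtain ⟨U, hKU⟩ := exists_decomp hG hM (kappa_cyclic hG hM hH) hH
  by_cases hU : U = ⊥
  · exact hU ▸ hKU
  · exact absurd (hasOuter_of_decomp hG hM hKU hU) (deficient_no_outer hG hM hH hnn)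

theorem deficient_derived : ⁅M, M⁆ = Cfsg.sigmaCore M := by
  rw [derived_eq hG hM (deficient_decomp hG hM hH hnn) (deficient_kappa hG hM hH hnn), bot_sup_eq]

/-- `q = |K*|` is a prime. -/
theorem deficient_star_prime : (Nat.card ↥(star M H)).Prime := by
  have hH1 := deficient_kappa hG hM hH hnn
  obtain ⟨P, hP, hPH, -, -, hout⟩ := exists_partner hG hM hH hH1
  obtain ⟨U, hKU⟩ := exists_decomp hG hP (kappa_cyclic hG hP hPH) hPH
  have hne : star M H ≠ ⊥ := fixed_ne_bot hG hM hH hH1
  have hU : U ≠ ⊥ := fun e => not_hasOuter_of_decomp_bot hG hP (e ▸ hKU)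
    (hout.resolve_left (deficient_no_outer hG hM hH hnn))
  exact decomp_prime hG hP hKU hne hU

/-- `K*` lies in `O_q(M_σ)`. -/
theorem deficient_star_le [Fact (Nat.card ↥(star M H)).Prime] :
    star M H ≤ Bender.qc (Nat.card ↥(star M H)) (Cfsg.sigmaCore M) := by
  have hH1 := deficient_kappa hG hM hH hnn
  set q := Nat.card ↥(star M H)
  set S := Cfsg.sigmaCore M
  have hKU := deficient_decomp hG hM hH hnn
  suffices h : star M H ≤ Cfsg.fittingOf S by
    intro y hy
    by_cases hy1 : y = 1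
    · exact hy1 ▸ one_mem _
    refine Bender.mem_qc (j := 1) (h hy) ?_
    rw [pow_one]
    exact ((Nat.dvd_prime Fact.out).1 (dvd_star hG hy)).resolve_left
      fun e => hy1 (orderOf_eq_one_iff.1 e)
  by_contra hle
  obtain ⟨l, hl, k, hk, hko⟩ := exists_order_prime hH1
  haveI := Fact.mk hl
  have hkM : k ∈ M := hH.1 hk
  have hk1 : k ≠ 1 := fun e => hl.ne_one (by rw [← hko, e, orderOf_one])
  have hlσ : l ∉ Cfsg.sigma M := (hH.2.1 l hl (dvd_of_mem hk hko)).2.2.1
  have hstar := star_fixed hG hM hH hH1 hk hk1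
  have hfix : Cfsg.fittingOf S ⊓ centralizer ({k} : Set G) = ⊥ := by
    refine (eq_bot_iff_forall _).2 fun f hf => by_contra fun hf1 => hle fun y hy => ?_
    have hfs : f ∈ star M H := hstar.le ⟨Bender.fitting_le S hf.1, hf.2⟩
    have he : zpowers f = star M H := eq_of_le_of_card_ge (zpowers_le.2 hfs) (by
      rw [Nat.card_zpowers, ((Nat.dvd_prime Fact.out).1 (dvd_star hG hfs)).resolve_left
        fun e => hf1 (orderOf_eq_one_iff.1 e)])
    exact zpowers_le.2 hf.1 (he.ge hy)
  have hn : k ∈ normalizer (S : Set G) := TH.le_normalizer_core M hkM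
  have hcom := commutator_le_fittingOf hko hn (solvable_le hG hM (sup_le (map_subtype_le _) (zpowers_le.2 hkM)))
    hG.1 ((Nat.Prime.coprime_iff_not_dvd hl).2 (not_dvd_core hG hM hl hlσ)).symm hfix
  have hFn : M ≤ normalizer (Cfsg.fittingOf S : Set G) :=
    (TH.le_normalizer_core M).trans ((UTool.normalizer_le_normalizer_map S _ inferInstance))
  have hSF : S ≤ star M H ⊔ Cfsg.fittingOf S := fun y hy => by
    obtain ⟨c, hc, hyc⟩ := CfsgLib.CoprimeAct.exists_centralizing_mem_coset (A := zpowers k) (K := S)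
      (N := Cfsg.fittingOf S) (zpowers_le.2 hn) (by
        rw [Nat.card_zpowers, hko]; exact (Nat.Prime.coprime_iff_not_dvd hl).2 (not_dvd_core hG hM hl hlσ))
      (Bender.fitting_le S) (zpowers_le.2 (hFn hkM)) (Or.inl inferInstance) hy fun a ha => by
        rw [show y⁻¹ * (a * y * a⁻¹) = ⁅y⁻¹, a⁆ by rw [commutatorElement_def]; group]
        exact hcom (commutator_mem_commutator (S.inv_mem hy) ha)
    rw [show y = c * (y⁻¹ * c)⁻¹ by group]
    exact mul_mem (mem_sup_left (hstar.le ⟨hc.1, mem_centralizer_singleton_iff.2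
      (mem_centralizer_iff.1 hc.2 k (mem_zpowers k)).symm⟩)) (mem_sup_right ((Cfsg.fittingOf S).inv_mem hyc))
  have hMA : M ≤ (H ⊔ star M H) ⊔ Cfsg.fittingOf S := fun m hm => by
    obtain ⟨a, ha, b, hb, rfl⟩ := hKU.compl.2.2.2 m hm
    rw [Subgroup.mem_bot.1 ha, one_mul]
    exact (sup_le (le_sup_left.trans le_sup_left) (hSF.trans (sup_le_sup_right le_sup_right _))) hb
  have hd := derived_le_of_abelian_mod (fun a ha b hb => commute_sup hG hM hH hH1 ha hb)
    ((sup_le hH.1 (inf_le_left.trans (map_subtype_le _))).trans hFn) hMA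
  rw [deficient_derived hG hM hH hnn] at hd
  exact hle (inf_le_left.trans hd)

/-- `O_q(M_σ)` is the Sylow `q`-subgroup of `M_σ`. -/
theorem deficient_sylow [Fact (Nat.card ↥(star M H)).Prime] :
    ¬ Nat.card ↥(star M H) ∣ (Bender.qc (Nat.card ↥(star M H)) (Cfsg.sigmaCore M)).relIndex (Cfsg.sigmaCore M) := by
  have hH1 := deficient_kappa hG hM hH hnn
  set q := Nat.card ↥(star M H)
  set S := Cfsg.sigmaCore M
  obtain ⟨l, hl, k, hk, hko⟩ := exists_order_prime hH1
  haveI := Fact.mk hl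
  have hkM : k ∈ M := hH.1 hk
  have hk1 : k ≠ 1 := fun e => hl.ne_one (by rw [← hko, e, orderOf_one])
  have hlσ : l ∉ Cfsg.sigma M := (hH.2.1 l hl (dvd_of_mem hk hko)).2.2.1
  obtain ⟨P⟩ : Nonempty (Sylow q S) := inferInstance
  have hPn := sylow_normal_of_fixed_le (solvable_le hG hM (map_subtype_le _)) hko (TH.le_normalizer_core M hkM)
    ((Nat.Prime.coprime_iff_not_dvd hl).2 (not_dvd_core hG hM hl hlσ)).symm (Bender.qc_le q S)
    (Bender.isPGroup_qc S) (Bender.le_normalizer_qc q S)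
    ((TH.le_normalizer_core M).trans (UTool.normalizer_le_normalizer_map _ _ (PLenZ.characteristic_pCore q)) hkM)
    ((star_fixed hG hM hH hH1 hk hk1).le.trans (deficient_star_le hG hM hH hnn)) P
  have hP : (P : Subgroup S) ≤ Cfsg.pCore q S := le_sSup ⟨hPn, P.2⟩
  intro h
  refine P.not_dvd_index (h.trans ?_)
  rw [relIndex, Bender.qc, ← comap_subtype, comap_map_eq_self_of_injective S.subtype_injective]
  exact index_dvd_of_le hP

end Deficient

end CfsgLib.OddLocal.Kap
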