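import Cfsg.Agent.OddLocal.KappaBasic
import Cfsg.Agent.S1417

/-!
Primes outside `σ(M) ∪ κ(M)`: the elements of prime order have no fixed points on `M_σ`.
-/

set_option autoImplicit false
set_option linter.style.haveILetI false
set_option linter.unusedSectionVars false

namespace CfsgLib.OddLocal.Kap

open Subgroup Cfsg CfsgLib.OddLocal
open scoped commutatorElement Pointwise

universe u

variable {G : Type u} [Group G] [Finite G] {p : ℕ} [hp : Fact p.Prime]

variable (hG : Cfsg.IsMinSimpleOddOrder G)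
include hG

theorem prime_ne_two {M : Subgroup G} (hpM : p ∣ Nat.card M) : p ≠ 2 :=
  CfsgLib.CN.MinSimple.p_ne_two hG (hpM.trans M.card_subgroup_dvd_card)

/-- A prime outside `σ(M) ∪ κ(M)` of rank one acts without fixed points. -/
theorem fpf_of_not_kappa {M : Subgroup G} (hM : IsCoatom M) (hpM : p ∣ Nat.card M) (hσ : p ∉ Cfsg.sigma M)
    (hκ : p ∉ Cfsg.kappa M) (hr : Cfsg.PRankLE p 1 M) (S : Sylow p M) {x : M} (hxS : x ∈ (S : Subgroup M))
    (hx1 : x ≠ 1) : Cfsg.sigmaCore M ⊓ centralizer ({(x : G)} : Set G) = ⊥ := by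
  refine (eq_bot_iff_forall _).2 fun y ⟨hy, hyc⟩ => by_contra fun hy1 => hκ ⟨hp.out, hpM, hσ, fun P => ⟨?_, ?_⟩⟩
  · refine Compl.cyclic_of_rank_one (prime_ne_two hG hpM) P.2 fun E hE hEp => ?_
    haveI := hE
    have := hr (E.map (P : Subgroup M).subtype) (Subgroup.map_isMulCommutative _ _) (by
      rintro _ ⟨a, ha, rfl⟩; rw [← map_pow, hEp a ha, map_one])
    rwa [card_map_of_injective (P : Subgroup M).subtype_injective] at this
  · obtain ⟨g, hg⟩ := MulAction.exists_smul_eq M S P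
    refine ⟨g * x * g⁻¹, ?_, fun h => hx1 (conj_eq_one_iff.1 h), (g : G) * y * (g : G)⁻¹,
      (mem_normalizer_iff.1 (TH.le_normalizer_core M g.2) y).1 hy, fun h => hy1 (conj_eq_one_iff.1 h), ?_⟩
    · rw [← hg, Sylow.coe_subgroup_smul]
      exact smul_mem_pointwise_smul _ _ _ hxS
    · have := mem_centralizer_singleton_iff.1 hyc
      simp only [Subgroup.coe_mul, InvMemClass.coe_inv]
      calc (g : G) * x * (g : G)⁻¹ * (g * y * (g : G)⁻¹) = g * ((x : G) * y) * (g : G)⁻¹ := by group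
        _ = g * (y * x) * (g : G)⁻¹ := by rw [this]
        _ = g * y * (g : G)⁻¹ * (g * x * (g : G)⁻¹) := by group

/-- BG Theorem 14.1 -/
theorem omega_fpf {M : Subgroup G} (hM : IsCoatom M) (hpM : p ∣ Nat.card M) (hσ : p ∉ Cfsg.sigma M)
    (hκ : p ∉ Cfsg.kappa M) (S : Sylow p M) :
    Nat.card ↥(closure {x : G | x ∈ (S : Subgroup M).map M.subtype ∧ x ^ p = 1}) ≤ p ^ 2 ∧
      Cfsg.sigmaCore M ⊓ centralizer ((closure {x : G | x ∈ (S : Subgroup M).map M.subtype ∧ x ^ p = 1} :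
        Subgroup G) : Set G) = ⊥ ∧
      Group.IsNilpotent (Cfsg.sigmaCore M) := by
  set P := (S : Subgroup M).map M.subtype with hP
  set Ω := closure {x : G | x ∈ P ∧ x ^ p = 1} with hΩ
  have hr2 : Cfsg.PRankLE p 2 M := by_contra fun h => hσ (Sig.alpha_subset_sigma hG hM ⟨hp.out, h⟩)
  by_cases hr : Cfsg.PRankLE p 1 M
  · have hS1 : (S : Subgroup M) ≠ ⊥ := fun e => S.not_dvd_index (by rw [e, index_bot]; exact hpM)
    obtain ⟨z, hz⟩ := exists_prime_orderOf_dvd_card' (G := (S : Subgroup M)) p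
      (Excep.isPGroup_ne_bot_dvd S.2 hS1)
    have hzo : orderOf ((z : M) : G) = p := by rw [orderOf_coe, orderOf_coe, hz]
    have hfix := fpf_of_not_kappa hG hM hpM hσ hκ hr S z.2 fun e => hp.out.ne_one (by
      rw [← hzo, e, OneMemClass.coe_one, orderOf_one])
    have hzΩ : ((z : M) : G) ∈ Ω := subset_closure ⟨mem_map_of_mem M.subtype z.2, orderOf_dvd_iff_pow_eq_one.1 hzo.dvd⟩
    haveI hSc : IsCyclic (S : Subgroup M) := Compl.cyclic_of_rank_one (prime_ne_two hG hpM) S.2 fun E hE hEp => by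
      haveI := hE
      have := hr (E.map (S : Subgroup M).subtype) (Subgroup.map_isMulCommutative _ _) (by
        rintro _ ⟨a, ha, rfl⟩; rw [← map_pow, hEp a ha, map_one])
      rwa [card_map_of_injective (S : Subgroup M).subtype_injective] at this
    haveI hPc : IsCyclic P := isCyclic_of_surjective _ (M.subtype.subgroupMap_surjective (S : Subgroup M))
    refine ⟨?_, le_bot_iff.1 (le_trans (inf_le_inf_left _ (centralizer_le (Set.singleton_subset_iff.2 hzΩ)))
      hfix.le), nilpotent_of_fpf hG hM (z : M).2 hzo hfix⟩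
    have hle : Ω ≤ zpowers ((z : M) : G) := (closure_le _).2 fun x ⟨hxP, hxp⟩ => by
      by_cases hx1 : x = 1
      · exact hx1 ▸ one_mem _
      · exact (UTool.zpowers_eq_of_cyclic hPc hxP (mem_map_of_mem M.subtype z.2)
          (orderOf_eq_prime hxp hx1) hzo).le (mem_zpowers x)
    refine (Nat.le_of_dvd Nat.card_pos (card_dvd_of_le hle)).trans ?_
    rw [Nat.card_zpowers, hzo]
    exact Nat.le_self_pow two_ne_zero p
  · obtain ⟨B, hBM, hB, hB2⟩ : ∃ B : Subgroup G, B ≤ M ∧ Cfsg.IsElementaryAbelian p B ∧ Nat.card B = p ^ 2 :=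
      Uniq.exists_elementary hr
    obtain ⟨A, hAP, hA, hA2⟩ := Tau.exists_elementary_in_full (S.2.map _ : IsPGroup p P) (map_subtype_le _) (by
      rw [relIndex, ← comap_subtype, comap_map_eq_self_of_injective M.subtype_injective]
      exact S.not_dvd_index) hB hB2 hBM
    obtain ⟨hnil, hsyl, -, hfix, -, -⟩ := Cfsg.Agent.S1417.result hG M hM p ⟨hp.out, hσ, hr2, hr⟩ A
      ⟨hAP.trans (map_subtype_le _), hA, hA2⟩
    have hΩA : Ω = A := by
      refine le_antisymm ((closure_le _).2 fun x ⟨hxP, hxp⟩ => (((hsyl S).2 hAP).1 x hxP).1 hxp) fun a ha => ?_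
      exact subset_closure ⟨hAP ha, hA.2 a ha⟩
    rw [hΩA]
    exact ⟨hA2.le, hfix, hnil⟩

end CfsgLib.OddLocal.Kap
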