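import Cfsg.Agent.OddLocal.KappaPairBase
import Cfsg.Agent.OddLocal.KappaCover

/-!
Pairs of maximal subgroups with `κ ≠ ∅` (BG 14.7).
-/

set_option autoImplicit false
set_option linter.style.haveILetI false
set_option linter.unusedSectionVars false

namespace CfsgLib.OddLocal.Kap

open Subgroup Cfsg CfsgLib.OddLocal
open scoped commutatorElement Pointwise

universe u

variable {G : Type u} [Group G] [Finite G]

/-- There is a prime of `M` outside `σ(M)` and `κ(M)`. -/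
abbrev HasOuter (M : Subgroup G) : Prop :=
  ∃ t : ℕ, t.Prime ∧ t ∣ Nat.card M ∧ t ∉ Cfsg.sigma M ∧ t ∉ Cfsg.kappa M

/-- The elements of `Z` lying in no component. -/
def mixed (Z : Subgroup G) : Set G := {z | z ∈ Z ∧ ∀ N L : Subgroup G, IsNode Z N L → z ∉ star N L}

variable {Z N L N' L' : Subgroup G}

theorem IsNode.star_le (h : IsNode Z N L) : star N L ≤ Z := h.sup_eq ▸ le_sup_right

theorem IsNode.le (h : IsNode Z N L) : L ≤ Z := h.sup_eq ▸ le_sup_left

theorem IsNode.le_coatom (h : IsNode Z N L) : Z ≤ N :=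
  h.sup_eq ▸ sup_le h.hall.1 (inf_le_left.trans (map_subtype_le _))

theorem IsNode.split (h : IsNode Z N L) {w : G} (hw : w ∈ Z) :
    ∃ b ∈ L, ∃ a ∈ star N L, Commute a b ∧ w = a * b :=
  mem_star_sup (by rw [h.sup_eq]; exact hw)

theorem IsNode.normalizes (h : IsNode Z N L) : Z ≤ normalizer (star N L : Set G) :=
  h.sup_eq ▸ sup_le ((le_centralizer_star N L).trans (centralizer_le_normalizer _)) le_normalizer

variable (hG : Cfsg.IsMinSimpleOddOrder G)
include hG

theorem IsNode.sigma_ne (h : IsNode Z N L) (h' : IsNode Z N' L') (hne : N ≠ N') {p : ℕ}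
    (hp : p ∈ Cfsg.sigma N) : p ∉ Cfsg.sigma N' := fun hp' => by
  haveI := Fact.mk hp.1
  obtain ⟨g, hg⟩ := conj_of_common hG h.coatom h'.coatom hp hp'
  have hgN : g ∈ N := by
    by_contra hgN
    exact fixed_ne_bot hG h.coatom h.hall h.ne_bot (le_bot_iff.1 ((le_inf le_rfl
      (hg ▸ h.star_le.trans h'.le_coatom)).trans (fixed_meet_conj hG h.coatom h.hall h.ne_bot hgN).le))
  exact hne (hg.trans (mem_normalizer_iff_map_conj_eq.1 (le_normalizer hgN))).symm

theorem IsNode.star_inf (h : IsNode Z N L) (h' : IsNode Z N' L') (hne : N ≠ N') :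
    star N L ⊓ star N' L' = ⊥ := by
  refine disjoint_iff.1 (disjoint_of_coprime_natCard (Nat.coprime_of_dvd fun p hp h1 h2 => ?_))
  exact h.sigma_ne hG h' hne (primes_star hG h.coatom p hp h1) (primes_star hG h'.coatom p hp h2)

theorem IsNode.unique (h : IsNode Z N L) (h' : IsNode Z N L') : L = L' :=
  le_antisymm (le_kappa_part hG h'.coatom h'.hall (h'.sup_eq.symm ▸ h.le) h.hall.2.1)
    (le_kappa_part hG h.coatom h.hall (h.sup_eq.symm ▸ h'.le) h'.hall.2.1)

theorem IsNode.card_eq (h : IsNode Z N L) : Nat.card Z = Nat.card L * Nat.card ↥(star N L) := by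
  rw [← card_star_sup hG h.coatom h.hall, h.sup_eq]

theorem IsNode.star_le_hall (h : IsNode Z N L) (h' : IsNode Z N' L') (hne : N' ≠ N) : star N' L' ≤ L := by
  refine le_kappa_part hG h.coatom h.hall (h.sup_eq.symm ▸ h'.star_le) fun p hp hd => ?_
  have hσ : p ∉ Cfsg.sigma N := h'.sigma_ne hG h hne (primes_star hG h'.coatom p hp hd)
  have hdZ : p ∣ Nat.card Z := hd.trans (card_dvd_of_le h'.star_le)
  rw [h.card_eq hG] at hdZ
  exact (hp.dvd_mul.1 hdZ).elim (h.hall.2.1 p hp) (fun h0 => absurd (primes_star hG h.coatom p hp h0) hσ)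

/-- Each prime of `Z` lies in some `σ(N)`. -/
theorem IsNode.exists_sigma (h : IsNode Z N L) {p : ℕ} (hp : p.Prime) (hd : p ∣ Nat.card Z) :
    ∃ N' L' : Subgroup G, IsNode Z N' L' ∧ p ∈ Cfsg.sigma N' := by
  haveI := Fact.mk hp
  rw [h.card_eq hG] at hd
  rcases hp.dvd_mul.1 hd with hd | hd
  swap
  · exact ⟨N, L, h, primes_star hG h.coatom p hp hd⟩
  obtain ⟨x₀, hx₀⟩ := exists_prime_orderOf_dvd_card' (G := L) p hd
  have hxo : orderOf (x₀ : G) = p := by rw [orderOf_coe, hx₀]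
  obtain ⟨N', hN', hNx⟩ := (eq_top_or_exists_le_coatom (normalizer (zpowers (x₀ : G) : Set G))).resolve_left
    (Excep.normalizer_line_ne_top hG (by rw [Nat.card_zpowers, hxo]))
  obtain ⟨L', hn, hxL, -⟩ := exists_node hG h.coatom h.hall h.ne_bot x₀.2 hxo hN' hNx
  exact ⟨N', L', h.sup_eq ▸ hn, mem_sigma_of_mem_core hG hN' hp hxL.1 hxo⟩

omit hG in
theorem mixed_invariant {c w : G} (hc : c ∈ Z) (hw : w ∈ mixed Z) : c * w * c⁻¹ ∈ mixed Z :=
  ⟨Z.mul_mem (Z.mul_mem hc hw.1) (Z.inv_mem hc), fun N L h hm =>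
    hw.2 N L h ((mem_normalizer_iff.1 (h.normalizes hc) w).2 hm)⟩

/-- An element outside the components has a part in one component and in its complement. -/
theorem IsNode.mixed_part (h : IsNode Z N L) {w : G} (hw : w ∈ mixed Z) :
    ∃ N' L' : Subgroup G, IsNode Z N' L' ∧ ∃ b ∈ L', ∃ a ∈ star N' L', Commute a b ∧ w = a * b ∧ a ≠ 1 ∧ b ≠ 1 := by
  have hw1 : w ≠ 1 := fun e => hw.2 N L h (e ▸ one_mem _)
  obtain ⟨p, hp, hpd⟩ := Nat.exists_prime_and_dvd (fun e => hw1 (orderOf_eq_one_iff.1 e))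
  obtain ⟨N', L', h', hpσ⟩ := h.exists_sigma hG hp (hpd.trans (Z.orderOf_dvd_natCard hw.1))
  obtain ⟨b, hb, a, ha, hc, e⟩ := h'.split hw.1
  refine ⟨N', L', h', b, hb, a, ha, hc, e, fun e1 => ?_, fun e1 => hw.2 N' L' h' (by rw [e, e1, mul_one]; exact ha)⟩
  rw [e, e1, one_mul] at hpd
  exact (h'.hall.2.1 p hp (hpd.trans (L'.orderOf_dvd_natCard hb))).2.2.1 hpσ

theorem IsNode.sigma_part (h : IsNode Z N L) {a b a' b' : G} (ha : a ∈ star N L) (hb : b ∈ L) (ha' : a' ∈ star N L)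
    (hb' : b' ∈ L) (hc : Commute a b) (hc' : Commute a' b') (g : G) (e : g * (a * b) * g⁻¹ = a' * b') :
    g * a * g⁻¹ = a' ∧ g * b * g⁻¹ = b' := by
  have hσ : ∀ c ∈ star N L, ∀ p : ℕ, p.Prime → p ∣ orderOf c → p ∈ Cfsg.sigma N := fun c hc p hp hd =>
    primes_star hG h.coatom p hp (hd.trans ((star N L).orderOf_dvd_natCard hc))
  have hκ : ∀ c ∈ L, ∀ p : ℕ, p.Prime → p ∣ orderOf c → p ∉ Cfsg.sigma N := fun c hc p hp hd =>
    (h.hall.2.1 p hp (hd.trans (L.orderOf_dvd_natCard hc))).2.2.1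
  have e' : g * a * g⁻¹ * (g * b * g⁻¹) = a' * b' := by rw [← e]; group
  have h1 : g * a * g⁻¹ = a' := part_unique (π := Cfsg.sigma N) (hc.map (MulAut.conj g).toMonoidHom) hc'
    (by rw [conj_orderOf]; exact hσ a ha) (hσ a' ha')
    (fun p hp hd => hκ b hb p hp (hd.trans (dvd_of_eq (conj_orderOf g b)))) (hκ b' hb') e'
  exact ⟨h1, mul_left_cancel (a := a') (by rw [← e', h1])⟩

theorem IsNode.mem_coatom_of_conj (h : IsNode Z N L) {a a' g : G} (ha : a ∈ star N L) (ha1 : a ≠ 1)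
    (ha' : a' ∈ N) (e : g * a * g⁻¹ = a') : g ∈ N := by
  by_contra hg
  have hg' : g⁻¹ ∉ N := fun hh => hg (inv_mem_iff.1 hh)
  exact ha1 (Subgroup.mem_bot.1 ((fixed_meet_conj hG h.coatom h.hall h.ne_bot hg').le
    ⟨ha, a', ha', by rw [← e]; show g⁻¹ * (g * a * g⁻¹) * g⁻¹⁻¹ = a; group⟩))

/-- The set outside the components is a TI-set with normalizer `Z`. -/
theorem IsNode.mixed_ti (h : IsNode Z N L) {w g : G} (hw : w ∈ mixed Z) (hg : g * w * g⁻¹ ∈ mixed Z) : g ∈ Z := by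
  obtain ⟨N', L', h', b, hb, a, ha, hc, e, ha1, hb1⟩ := h.mixed_part hG hw
  obtain ⟨b', hb', a', ha', hc', e'⟩ := h'.split hg.1
  obtain ⟨ea, eb⟩ := h'.sigma_part hG ha hb ha' hb' hc hc' g (by rw [← e]; exact e')
  have hgN : g ∈ N' := h'.mem_coatom_of_conj hG ha ha1 (map_subtype_le _ ha'.1) ea
  rw [← h'.sup_eq]
  by_contra hgZ
  have hbb : b' ∈ L' ⊓ L'.map (MulAut.conj g).toMonoidHom := ⟨hb', b, hb, eb⟩
  rw [kappa_meet_conj hG h'.coatom h'.hall h'.ne_bot hgN hgZ, Subgroup.mem_bot] at hbb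
  exact hb1 (by rw [show b = g⁻¹ * (g * b * g⁻¹) * g by group, eb, hbb]; group)

/-- A component element has trivial support. -/
theorem IsNode.centralizer_le (h : IsNode Z N L) {a : G} (ha : a ∈ star N L) (ha1 : a ≠ 1) :
    centralizer ({a} : Set G) ≤ N := by
  obtain ⟨s, hs, x, hx, hxo, hle⟩ := exists_prime_root (H := star N L) ha ha1
  haveI := Fact.mk hs
  exact hle.trans (fixed_centralizer hG h.coatom h.hall h.ne_bot hx hxo).1.1

/-- No element outside the components is in a cover. -/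
theorem IsNode.mixed_not_tilde (h : IsNode Z N L) {w : G} (hw : w ∈ mixed Z) (g : G) :
    g * w * g⁻¹ ∉ Cfsg.tildeOf N ((Cfsg.sigmaCore N : Set G) \ {1}) := by
  rintro ⟨c, ⟨hc, hc1⟩, r, hr, y, e⟩
  have hc1' : c ≠ 1 := fun e => hc1 e
  obtain ⟨b, hb, a, ha, hcm, ew⟩ := h.split hw.1
  obtain ⟨hcr, hrσ, -⟩ := supportR_spec hG h.coatom hc hc1' hr
  set k := y⁻¹ * g
  have e' : k * a * k⁻¹ * (k * b * k⁻¹) = c * r := by
    rw [show c * r = y⁻¹ * (y * (c * r) * y⁻¹) * y by group, ← e, ew]; simp only [k]; group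
  have hσb : ∀ p : ℕ, p.Prime → p ∣ orderOf b → p ∉ Cfsg.sigma N := fun p hp hd =>
    (h.hall.2.1 p hp (hd.trans (L.orderOf_dvd_natCard hb))).2.2.1
  have hσa : ∀ p : ℕ, p.Prime → p ∣ orderOf a → p ∈ Cfsg.sigma N := fun p hp hd =>
    primes_star hG h.coatom p hp (hd.trans ((star N L).orderOf_dvd_natCard ha))
  have ha' : k * a * k⁻¹ = c := part_unique (π := Cfsg.sigma N) (hcm.map (MulAut.conj k).toMonoidHom) hcr
    (by rw [conj_orderOf]; exact hσa) (sigma_of_order hG h.coatom hc)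
    (fun p hp hd => hσb p hp (hd.trans (dvd_of_eq (conj_orderOf k b)))) hrσ e'
  have ha1 : a ≠ 1 := fun e1 => hc1' (by rw [← ha', e1, mul_one, mul_inv_cancel])
  have hkN : k ∈ N := h.mem_coatom_of_conj hG ha ha1 (map_subtype_le _ hc) ha'
  have hC : centralizer ({c} : Set G) ≤ N := fun d hd => by
    rw [← ha'] at hd
    have h2 := h.centralizer_le hG ha ha1 (mem_conj_centralizer.1 hd)
    have h3 := N.mul_mem (N.mul_mem hkN h2) (N.inv_mem hkN)
    rwa [show k * (k⁻¹ * d * k) * k⁻¹ = d by group] at h3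
  rw [supportR_eq_bot hG hC, Subgroup.mem_bot] at hr
  rw [hr, mul_one, ← ha', mul_eq_left, conj_eq_one_iff] at e'
  exact hw.2 N L h (by rw [ew, e', mul_one]; exact ha)

theorem three_star_le {M H : Subgroup G} (hM : IsCoatom M) (hH : Cfsg.IsPiHallOf (Cfsg.kappa M) H M) (hH1 : H ≠ ⊥) :
    3 * Nat.card ↥(star M H) ≤ Nat.card (Cfsg.sigmaCore M) := by
  set S := Cfsg.sigmaCore M
  have hle : star M H ≤ S := inf_le_left
  rw [← CfsgLib.InvariantHall.relIndex_mul_card hle, mul_comm 3]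
  refine Nat.mul_le_mul_left _ ?_
  set j := (star M H).relIndex S with hj
  have hj0 : j ≠ 0 := fun e => by
    have := CfsgLib.InvariantHall.relIndex_mul_card hle
    rw [← hj, e, mul_zero] at this
    exact (Nat.card_pos (α := S)).ne this
  have hj2 : ¬ 2 ∣ j := fun h2 => by
    have h3 : 2 ∣ Nat.card G := h2.trans ((Dvd.intro_left _ (CfsgLib.InvariantHall.relIndex_mul_card hle)).trans
      (card_subgroup_dvd_card S))
    exact (Nat.not_even_iff_odd.2 hG.1) (even_iff_two_dvd.2 h3)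
  have hj1 : j ≠ 1 := fun e => by
    obtain ⟨p, hp, hd⟩ := Nat.exists_prime_and_dvd
      (fun h1 : Nat.card ↥(star M H) = 1 => fixed_ne_bot hG hM hH hH1 (eq_bot_of_card_eq _ h1))
    haveI := Fact.mk hp
    obtain ⟨R, hR, -⟩ := exists_sylow_core hG hM (primes_star hG hM p hp hd)
    exact sylow_not_le_fixed hG hM hH hH1 R.2 hR (fun h => R.not_dvd_index
      (h.trans (Dvd.intro _ (relIndex_mul_index hR)))) hd (hR.trans (relIndex_eq_one.1 e))
  omega

theorem card_of_no_outer {M H : Subgroup G} (hM : IsCoatom M) (hH : Cfsg.IsPiHallOf (Cfsg.kappa M) H M)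
    (hH1 : H ≠ ⊥) (hno : ¬ HasOuter M) : Nat.card M = Nat.card H * Nat.card (Cfsg.sigmaCore M) := by
  obtain ⟨E, U, hE, -, -, -, -, hUH, hU, -⟩ := kappa_data hG hM hH hH1
  rw [FittingHall.card_complIn hE, FittingHall.card_complIn hU, show Nat.card U = 1 from
    Nat.eq_one_iff_not_exists_prime_dvd.2 fun p hp hd => hno ⟨p, hp, hd.trans (card_dvd_of_le hUH.1),
      (hUH.2.1 p hp hd).2.2, (hUH.2.1 p hp hd).2.1⟩, one_mul]

/-- BG 14.7: some member has a prime outside `σ` and `κ`. -/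
theorem IsNode.exists_outer (h : IsNode Z N L) :
    ∃ N' L' : Subgroup G, IsNode Z N' L' ∧ HasOuter N' := by
  classical
  haveI := Fintype.ofFinite G
  haveI := Fintype.ofFinite (Subgroup G)
  by_contra hno
  push Not at hno
  set 𝒩 : Finset (Subgroup G) := Finset.univ.filter (fun N' => ∃ L', IsNode Z N' L') with h𝒩
  have hex : ∀ N' : Subgroup G, ∃ L' : Subgroup G, N' ∈ 𝒩 → IsNode Z N' L' := fun N' => by
    by_cases hN : N' ∈ 𝒩
    · obtain ⟨L', hL'⟩ := (Finset.mem_filter.1 hN).2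
      exact ⟨L', fun _ => hL'⟩
    · exact ⟨⊥, fun h => absurd h hN⟩
  choose ℓ hℓ using hex
  have hmem : ∀ {N' L' : Subgroup G}, IsNode Z N' L' → N' ∈ 𝒩 ∧ ℓ N' = L' := fun {N' L'} h' =>
    ⟨Finset.mem_filter.2 ⟨Finset.mem_univ _, L', h'⟩,
      (hℓ N' (Finset.mem_filter.2 ⟨Finset.mem_univ _, L', h'⟩)).unique hG h'⟩
  set K : Subgroup G → Finset G := fun N' => (Finset.univ.filter (· ∈ star N' (ℓ N'))).erase 1 with hK
  set Tf : Finset G := Finset.univ.filter (· ∈ mixed Z) with hTf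
  set Zf : Finset G := Finset.univ.filter (· ∈ Z) with hZf
  have hKk : ∀ N' : Subgroup G, (K N').card + 1 = Nat.card ↥(star N' (ℓ N')) := fun N' => by
    rw [hK, Finset.card_erase_add_one (by simp), Nat.card_eq_fintype_card, Fintype.card_subtype]
  have hKmem : ∀ (N' : Subgroup G) (w : G), w ∈ K N' ↔ w ≠ 1 ∧ w ∈ star N' (ℓ N') := fun N' w => by
    rw [hK, Finset.mem_erase, Finset.mem_filter, and_iff_right (Finset.mem_univ w)]
  -- the partition of `Z`
  have hpart : Tf.card + 1 + ∑ N' ∈ 𝒩, (K N').card = Nat.card Z := by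
    have hdis : Set.PairwiseDisjoint (↑𝒩 : Set (Subgroup G)) K := fun A hA B hB hne =>
      Finset.disjoint_left.2 fun w h1 h2 => ((hKmem A w).1 h1).1 (Subgroup.mem_bot.1
        (((hℓ A hA).star_inf hG (hℓ B hB) hne).le ⟨((hKmem A w).1 h1).2, ((hKmem B w).1 h2).2⟩))
    rw [← Finset.card_biUnion hdis]
    have h1 : insert 1 Tf ∪ 𝒩.biUnion K = Zf := by
      ext w
      simp only [Finset.mem_union, Finset.mem_insert, Finset.mem_biUnion, Tf, Zf, Finset.mem_filter, Finset.mem_univ,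
        true_and, hKmem]
      constructor
      · rintro ((rfl | hw) | ⟨N', hN', -, hw⟩)
        exacts [one_mem _, hw.1, (hℓ N' hN').star_le hw]
      · intro hw
        by_cases hw1 : w = 1
        · exact Or.inl (Or.inl hw1)
        by_cases hm : ∀ N' L' : Subgroup G, IsNode Z N' L' → w ∉ star N' L'
        · exact Or.inl (Or.inr ⟨hw, hm⟩)
        push Not at hm
        obtain ⟨N', L', h', hw'⟩ := hm
        exact Or.inr ⟨N', (hmem h').1, hw1, (hmem h').2.symm ▸ hw'⟩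
    have h2 : (1 : G) ∉ Tf := fun hh => (Finset.mem_filter.1 hh).2.2 N L h (one_mem _)
    have h3 : Disjoint (insert 1 Tf) (𝒩.biUnion K) := by
      refine Finset.disjoint_left.2 fun w h1 h2 => ?_
      obtain ⟨N', hN', hw⟩ := Finset.mem_biUnion.1 h2
      rcases Finset.mem_insert.1 h1 with rfl | h1
      · exact ((hKmem N' 1).1 hw).1 rfl
      · exact (Finset.mem_filter.1 h1).2.2 N' (ℓ N') (hℓ N' hN') ((hKmem N' w).1 hw).2
    rw [Nat.card_eq_fintype_card, Fintype.card_subtype, ← hZf, ← h1, Finset.card_union_of_disjoint h3,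
      Finset.card_insert_of_notMem h2]
  -- the covers
  set C : Subgroup G → Finset G := fun N' =>
    Finset.univ.filter (· ∈ Cfsg.tildeOf N' ((Cfsg.sigmaCore N' : Set G) \ {1})) with hC
  have hCc : ∀ N' ∈ 𝒩, Nat.card G * (3 * (K N').card + 2) ≤ 3 * Nat.card Z * (C N').card := by
    intro N' hN'
    have h' := hℓ N' hN'
    have hc : (C N').card = (Nat.card (Cfsg.sigmaCore N') - 1) * N'.index := by
      rw [← card_tilde hG h'.coatom, ← Set.ncard_coe_finset]
      congr 1; ext z; simp [C]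
    have hN : Nat.card N' = Nat.card (ℓ N') * Nat.card (Cfsg.sigmaCore N') :=
      card_of_no_outer hG h'.coatom h'.hall h'.ne_bot (fun ⟨t, ht, hd, hσ, hκ⟩ => hκ (hno N' (ℓ N') h' t ht hd hσ))
    have h3 := three_star_le hG h'.coatom h'.hall h'.ne_bot
    rw [hc, h'.card_eq hG, ← card_mul_index N', hN, ← hKk N']
    rw [← hKk N'] at h3
    set l := Nat.card (ℓ N')
    set m := Nat.card (Cfsg.sigmaCore N')
    set k := (K N').card
    obtain ⟨m', hm'⟩ : ∃ m', m = m' + 1 := ⟨m - 1, by omega⟩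
    rw [hm'] at h3
    rw [hm', Nat.add_sub_cancel]
    calc l * (m' + 1) * N'.index * (3 * k + 2) = l * N'.index * ((m' + 1) * (3 * k + 2)) := by ring
      _ ≤ l * N'.index * (3 * (k + 1) * m') := Nat.mul_le_mul_left _ (by
          have h5 : 3 * k + 2 ≤ m' := by omega
          rw [add_mul, one_mul]
          calc m' * (3 * k + 2) + (3 * k + 2) ≤ m' * (3 * k + 2) + m' := Nat.add_le_add_left h5 _
            _ = 3 * (k + 1) * m' := by ring)
      _ = 3 * (l * (k + 1)) * (m' * N'.index) := by ring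
  set TG : Finset G := Finset.univ.filter (· ∈ {a : G | ∃ g : G, ∃ w ∈ mixed Z, a = g * w * g⁻¹}) with hTG
  have hTGc : Nat.card Z * TG.card = Tf.card * Nat.card G := by
    have h0 := ti_count Z (mixed Z) (fun w hw g hg => h.mixed_ti hG hw hg) (fun c hc w hw => mixed_invariant hc hw)
    have e1 : Set.ncard (mixed Z) = Tf.card := by
      rw [← Set.ncard_coe_finset]; congr 1; ext; simp [Tf]
    have e2 : Set.ncard {a : G | ∃ g : G, ∃ w ∈ mixed Z, a = g * w * g⁻¹} = TG.card := by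
      rw [← Set.ncard_coe_finset]; congr 1; ext; simp [TG]
    rwa [e1, e2] at h0
  have hdisC : Set.PairwiseDisjoint (↑𝒩 : Set (Subgroup G)) C := fun A hA B hB hne =>
    Finset.disjoint_left.2 fun w h1 h2 => by
      have hA' := hℓ A hA
      have hB' := hℓ B hB
      refine Set.eq_empty_iff_forall_notMem.1 (tilde_disjoint hG hA'.coatom hB'.coatom fun g hg => ?_) w
        ⟨(Finset.mem_filter.1 h1).2, (Finset.mem_filter.1 h2).2⟩
      obtain ⟨q, hq, hqσ⟩ := Tau.sigma_nonempty hG hA'.coatom (one_lt_card_coatom hG hA'.coatom)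
      exact hA'.sigma_ne hG hB' hne hqσ (hg ▸ sigma_map g hqσ)
  have hdisT : Disjoint TG (𝒩.biUnion C) := Finset.disjoint_left.2 fun w h1 h2 => by
    obtain ⟨g, v, hv, rfl⟩ := (Finset.mem_filter.1 h1).2
    obtain ⟨N', hN', hw⟩ := Finset.mem_biUnion.1 h2
    exact (hℓ N' hN').mixed_not_tilde hG hv g (Finset.mem_filter.1 hw).2
  have htot : TG.card + ∑ N' ∈ 𝒩, (C N').card ≤ Nat.card G := by
    rw [← Finset.card_biUnion hdisC, ← Finset.card_union_of_disjoint hdisT, Nat.card_eq_fintype_card]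
    exact Finset.card_le_univ _
  -- two members
  have hn : 2 ≤ 𝒩.card := by
    obtain ⟨p, hp, hd⟩ := Nat.exists_prime_and_dvd (fun e : Nat.card L = 1 => h.ne_bot (eq_bot_of_card_eq _ e))
    obtain ⟨N', L', h', hpσ⟩ := h.exists_sigma hG hp (hd.trans (card_dvd_of_le h.le))
    exact Finset.one_lt_card.2 ⟨N, (hmem h).1, N', (hmem h').1, fun e => (h.hall.2.1 p hp hd).2.2.1 (e ▸ hpσ)⟩
  have hsum : Nat.card G * (3 * (∑ N' ∈ 𝒩, (K N').card) + 2 * 𝒩.card) ≤
      3 * Nat.card Z * ∑ N' ∈ 𝒩, (C N').card := by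
    rw [Finset.mul_sum _ _ (3 * Nat.card Z)]
    refine le_trans (le_of_eq ?_) (Finset.sum_le_sum hCc)
    simp only [mul_add, Finset.sum_add_distrib, Finset.sum_const, smul_eq_mul, Finset.mul_sum]
    ring
  set SK := ∑ N' ∈ 𝒩, (K N').card
  set SC := ∑ N' ∈ 𝒩, (C N').card
  have hG0 : 0 < Nat.card G := Nat.card_pos
  nlinarith

end CfsgLib.OddLocal.Kap
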