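import Cfsg.Agent.OddLocal.KappaPrime
import Cfsg.Agent.OddLocal.KappaSupport

/-!
The partners of a maximal subgroup with `κ(M) ≠ ∅` (BG 14.7, first part).
-/

set_option autoImplicit false
set_option linter.style.haveILetI false
set_option linter.unusedSectionVars false

namespace CfsgLib.OddLocal.Kap

open Subgroup Cfsg CfsgLib.OddLocal
open scoped commutatorElement Pointwise

universe u

variable {G : Type u} [Group G] [Finite G]

/-- The fixed points of `H` in `M_σ`. -/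
abbrev star (M H : Subgroup G) : Subgroup G := Cfsg.sigmaCore M ⊓ centralizer (H : Set G)

theorem le_centralizer_star (M H : Subgroup G) : H ≤ centralizer (star M H : Set G) :=
  le_centralizer_iff.1 inf_le_right

theorem mem_star_sup {M H : Subgroup G} {w : G} (hw : w ∈ H ⊔ star M H) :
    ∃ b ∈ H, ∃ a ∈ star M H, Commute a b ∧ w = a * b := by
  obtain ⟨b, hb, a, ha, rfl⟩ :=
    (CfsgLib.Solvable.mem_sup_of_le_normalizer ((le_centralizer_star M H).trans (centralizer_le_normalizer _))).1 hw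
  have h : Commute a b := (mem_centralizer_iff.1 ha.2 b hb).symm
  exact ⟨b, hb, a, ha, h, h.eq.symm⟩

/-- A maximal subgroup with a Hall `κ`-subgroup `L` spanning `Z` together with its fixed points. -/
structure IsNode (Z N L : Subgroup G) : Prop where
  coatom : IsCoatom N
  hall : Cfsg.IsPiHallOf (Cfsg.kappa N) L N
  ne_bot : L ≠ ⊥
  sup_eq : L ⊔ star N L = Z

variable (hG : Cfsg.IsMinSimpleOddOrder G)
include hG

theorem primes_star {M H : Subgroup G} (hM : IsCoatom M) :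
    ∀ p : ℕ, p.Prime → p ∣ Nat.card ↥(star M H) → p ∈ Cfsg.sigma M := fun p hp hd =>
  (Sig.sigma_core hG hM).1.2.1 p hp (hd.trans (card_dvd_of_le inf_le_left))

theorem card_star_sup {M H : Subgroup G} (hM : IsCoatom M) (hH : Cfsg.IsPiHallOf (Cfsg.kappa M) H M) :
    Nat.card ↥(H ⊔ star M H) = Nat.card H * Nat.card ↥(star M H) := by
  refine FittingHall.card_complIn ⟨le_sup_left, le_sup_right, le_bot_iff.1 ?_, fun m hm => ?_⟩
  · exact le_of_eq (disjoint_iff.1 (disjoint_of_coprime_natCard (Nat.coprime_of_dvd fun p hp h1 h2 =>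
      (hH.2.1 p hp h1).2.2.1 (primes_star hG hM p hp h2))))
  · obtain ⟨b, hb, a, ha, hc, rfl⟩ := mem_star_sup hm
    exact ⟨b, hb, a, ha, hc.eq⟩

/-- In `K × K*` a subgroup of `κ(M)`-order lies in `K`. -/
theorem le_kappa_part {M H V : Subgroup G} (hM : IsCoatom M) (hH : Cfsg.IsPiHallOf (Cfsg.kappa M) H M)
    (hV : V ≤ H ⊔ star M H) (hp : ∀ p : ℕ, p.Prime → p ∣ Nat.card V → p ∈ Cfsg.kappa M) : V ≤ H := by
  refine Excep.le_of_hall le_sup_left (sup_le le_normalizer
    ((le_centralizer_iff.1 (le_centralizer_star M H)).trans (centralizer_le_normalizer _))) hV ?_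
  refine Nat.coprime_of_dvd fun p hp' h1 h2 => hH.2.2 p hp' (hp p hp' h1) (h2.trans ?_)
  exact Dvd.intro _ (relIndex_mul_relIndex H (H ⊔ star M H) M le_sup_left
    (sup_le hH.1 (inf_le_left.trans (map_subtype_le _))))

/-- In `K × K*` a subgroup of `σ(M)`-order lies in `K*`. -/
theorem le_star_part {M H V : Subgroup G} (hM : IsCoatom M) (hH : Cfsg.IsPiHallOf (Cfsg.kappa M) H M)
    (hV : V ≤ H ⊔ star M H) (hp : ∀ p : ℕ, p.Prime → p ∣ Nat.card V → p ∈ Cfsg.sigma M) : V ≤ star M H := by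
  intro v hv
  have hvK : v ∈ Cfsg.sigmaCore M :=
    Excep.le_sigmaCore hG hM (hV.trans (sup_le hH.1 (inf_le_left.trans (map_subtype_le _)))) hp hv
  obtain ⟨b, hb, a, ha, -, rfl⟩ := mem_star_sup (hV hv)
  have hbK : b ∈ Cfsg.sigmaCore M := by
    have := (Cfsg.sigmaCore M).mul_mem ((Cfsg.sigmaCore M).inv_mem ha.1) hvK
    rwa [inv_mul_cancel_left] at this
  have h1 : b ∈ H ⊓ Cfsg.sigmaCore M := ⟨hb, hbK⟩
  rw [disjoint_iff.1 (disjoint_of_coprime_natCard (H := H) (K := Cfsg.sigmaCore M)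
    (Nat.coprime_of_dvd fun p hp h1 h2 => (hH.2.1 p hp h1).2.2.1 ((Sig.sigma_core hG hM).1.2.1 p hp h2))),
    Subgroup.mem_bot] at h1
  rw [h1, mul_one]
  exact ha

variable {M H : Subgroup G} (hM : IsCoatom M) (hH : Cfsg.IsPiHallOf (Cfsg.kappa M) H M) (hH1 : H ≠ ⊥)
include hM hH hH1

theorem line_eq {x : G} (hx : x ∈ H) {r : ℕ} [hr : Fact r.Prime] (hxo : orderOf x = r) :
    M ⊓ normalizer (zpowers x : Set G) = H ⊔ star M H :=
  (line_normalizers hG hM hH hH1 (X := zpowers x) (zpowers_le.2 hx) (by rw [Nat.card_zpowers, hxo]; exact hr.out)).1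

theorem star_fixed {x : G} (hx : x ∈ H) (hx1 : x ≠ 1) :
    Cfsg.sigmaCore M ⊓ centralizer ({x} : Set G) = star M H := by
  obtain ⟨E, U, -, -, -, -, -, -, -, -, hpr, -⟩ := kappa_data hG hM hH hH1
  exact hpr x hx hx1

/-- The primes of `K*` lie in `κ(N)` for a maximal `N` over the normalizer of a line of `K`. -/
theorem star_primes {x : G} (hx : x ∈ H) {r : ℕ} [hr : Fact r.Prime] (hxo : orderOf x = r) {N : Subgroup G}
    (hN : IsCoatom N) (hNx : normalizer (zpowers x : Set G) ≤ N) :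
    x ∈ Cfsg.sigmaCore N ∧ N ≠ M ∧ ∀ s : ℕ, s.Prime → s ∣ Nat.card ↥(star M H) → s ∈ Cfsg.kappa N := by
  have hxN : x ∈ Cfsg.sigmaCore N := (line_normalizers hG hM hH hH1 (X := zpowers x) (zpowers_le.2 hx)
    (by rw [Nat.card_zpowers, hxo]; exact hr.out)).2.2 N hN hNx (mem_zpowers x)
  have hrM : r ∉ Cfsg.sigma M := (hH.2.1 r hr.out (dvd_of_mem hx hxo)).2.2.1
  have hrN : r ∈ Cfsg.sigma N := mem_sigma_of_mem_core hG hN hr.out hxN hxo
  refine ⟨hxN, fun e => hrM (e ▸ hrN), fun s hs hd => ?_⟩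
  haveI := Fact.mk hs
  obtain ⟨y₀, hy₀⟩ := exists_prime_orderOf_dvd_card' (G := ↥(star M H)) s hd
  obtain ⟨y, hy, hyo⟩ : ∃ y ∈ star M H, orderOf y = s := ⟨y₀, y₀.2, by rw [orderOf_coe, hy₀]⟩
  have hsN : s ∉ Cfsg.sigma N := fun h => by
    obtain ⟨g, rfl⟩ := conj_of_common hG hM hN (primes_star hG hM s hs hd) h
    exact hrM ((sigma_map_iff g).1 hrN)
  have hxy : Commute y x := (mem_centralizer_iff.1 hy.2 x hx).symm
  have hCN := centralizer_le_over hG hNx
  have hyN : y ∈ N := hCN (mem_centralizer_singleton_iff.2 hxy.eq)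
  have hx1 : x ≠ 1 := fun e => hr.out.ne_one (by rw [← hxo, e, orderOf_one])
  refine (mem_kappa_or_tau_two hG hN hyN hyo hsN hxN hx1 hxy).resolve_right fun hτ => ?_
  have hC := (fixed_centralizer hG hM hH hH1 hy hyo).1
  have hy1 : y ≠ 1 := fun e => hs.ne_one (by rw [← hyo, e, orderOf_one])
  have h := (Tau.tau_element_centralizer hG hN hyN hy1 (fun v hv hvd => by
    rw [hyo] at hvd; exact (Nat.prime_dvd_prime_iff_eq hv hs).1 hvd ▸ hτ) hxN hx1 hxy.eq).1
  have e := hC.2 N hN h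
  exact hrM (e ▸ hrN)

/-- The partner over the line of `x`. -/
theorem exists_node {x : G} (hx : x ∈ H) {r : ℕ} [hr : Fact r.Prime] (hxo : orderOf x = r) {N : Subgroup G}
    (hN : IsCoatom N) (hNx : normalizer (zpowers x : Set G) ≤ N) :
    ∃ L : Subgroup G, IsNode (H ⊔ star M H) N L ∧ x ∈ star N L ∧ star M H ≤ L ∧ star N L ≤ H := by
  obtain ⟨hxN, -, hπ⟩ := star_primes hG hM hH hH1 hx hxo hN hNx
  obtain ⟨s, hs, y, hy, hyo⟩ := exists_order_prime (fixed_ne_bot hG hM hH hH1)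
  haveI := Fact.mk hs
  have hxy : Commute y x := (mem_centralizer_iff.1 hy.2 x hx).symm
  have hCN := centralizer_le_over hG hNx
  have hKN : star M H ≤ N := fun c hc => hCN (mem_centralizer_singleton_iff.2 (mem_centralizer_iff.1 hc.2 x hx).symm)
  obtain ⟨L, hL, hKL⟩ := exists_hall_over (π := Cfsg.kappa N) (solvable_le hG hN le_rfl) hKN hπ
  have hyL : y ∈ L := hKL hy
  have hy1 : y ≠ 1 := fun e => hs.ne_one (by rw [← hyo, e, orderOf_one])
  have hL1 : L ≠ ⊥ := fun e => hy1 (Subgroup.mem_bot.1 (e ▸ hyL))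
  have hCy := (fixed_centralizer hG hM hH hH1 hy hyo).1
  have hNy : normalizer (zpowers y : Set G) ≤ M := line_normalizer_le hG hyo hCy.2
  have hxL : x ∈ star N L :=
    (star_fixed hG hN hL hL1 hyL hy1).le ⟨hxN, mem_centralizer_singleton_iff.2 hxy.symm.eq⟩
  -- the fixed points of `L` lie in `H`
  have hLsC : ∀ c ∈ star N L, c ∈ M := fun c hc => hCy.1 (mem_centralizer_singleton_iff.2
    (mem_centralizer_iff.1 hc.2 y hyL).symm)
  have hπ' := (star_primes hG hN hL hL1 hyL hyo hM hNy).2.2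
  obtain ⟨H', hH', hle'⟩ := exists_hall_over (π := Cfsg.kappa M) (solvable_le hG hM le_rfl)
    (show star N L ≤ M from hLsC) hπ'
  have hH'1 : H' ≠ ⊥ := fun e => hr.out.ne_one (by
    rw [← hxo, orderOf_eq_one_iff]; exact Subgroup.mem_bot.1 (e ▸ hle' hxL))
  have hH'H : H' ≤ H := by
    refine le_kappa_part hG hM hH ?_ hH'.2.1
    rw [← line_eq hG hM hH hH1 hx hxo, line_eq hG hM hH' hH'1 (hle' hxL) hxo]
    exact le_sup_left
  have hLsH : star N L ≤ H := hle'.trans hH'H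
  refine ⟨L, ⟨hN, hL, hL1, le_antisymm (sup_le ?_ (hLsH.trans le_sup_left)) (sup_le ?_ (hKL.trans le_sup_left))⟩,
    hxL, hKL, hLsH⟩
  · -- `L ≤ M ∩ N(⟨x⟩)`
    rw [← line_eq hG hM hH hH1 hx hxo]
    refine le_inf ?_ ?_
    · exact (le_sup_left.trans (line_eq hG hN hL hL1 hyL hyo).ge).trans (inf_le_right.trans hNy)
    · exact ((le_centralizer_star N L).trans (centralizer_le (zpowers_le.2 hxL))).trans (centralizer_le_normalizer _)
  · rw [← line_eq hG hN hL hL1 hyL hyo]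
    refine le_inf ?_ ?_
    · exact (le_sup_left.trans (line_eq hG hM hH hH1 hx hxo).ge).trans (inf_le_right.trans hNx)
    · exact ((le_centralizer_star M H).trans (centralizer_le (zpowers_le.2 hy))).trans (centralizer_le_normalizer _)

end CfsgLib.OddLocal.Kap
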