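import Cfsg.Agent.OddLocal.KappaExponent
import Cfsg.Agent.OddLocal.KappaDichotomy
import Cfsg.Agent.Coprime.FrobeniusFixedFormula

/-!
A Hall `κ(M)`-subgroup has prime order when `U ≠ 1` (BG 14.7 / 15).
-/

set_option autoImplicit false
set_option linter.style.haveILetI false
set_option linter.unusedSectionVars false

namespace CfsgLib.OddLocal.Kap

open Subgroup Cfsg CfsgLib.OddLocal
open scoped commutatorElement Pointwise

universe u

variable {G : Type u} [Group G] [Finite G]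

/-- Wielandt's formula for subgroups acting by conjugation. -/
theorem formula_sub {N U L : Subgroup G} (hs : Group.IsSolvable N) (hUn : U ≤ normalizer (N : Set G))
    (hLn : L ≤ normalizer (N : Set G)) (hLU : L ≤ normalizer (U : Set G)) (hinf : U ⊓ L = ⊥)
    (hfpf : ∀ k ∈ L, k ≠ 1 → U ⊓ centralizer ({k} : Set G) = ⊥)
    (hcop : (Nat.card U * Nat.card L).Coprime (Nat.card N)) :
    Nat.card ↥(N ⊓ centralizer ((U ⊔ L : Subgroup G) : Set G)) ^ Nat.card L * Nat.card N =
      Nat.card ↥(N ⊓ centralizer (L : Set G)) ^ Nat.card L * Nat.card ↥(N ⊓ centralizer (U : Set G)) := by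
  set A := U ⊔ L
  have hA : A ≤ normalizer (N : Set G) := sup_le hUn hLn
  have hUA : U ≤ A := le_sup_left
  have hLA : L ≤ A := le_sup_right
  set φ := CfsgLib.FGSA.MetacyclicAct.act hA
  have hφ : ∀ (a : A) (x : N), ((φ a x : N) : G) = a * x * (a : G)⁻¹ := fun a x => rfl
  haveI : (U.subgroupOf A).Normal :=
    (normal_subgroupOf_iff_le_normalizer hUA).2 (sup_le le_normalizer hLU)
  have hcA : (Nat.card A).Coprime (Nat.card N) := hcop.coprime_dvd_left (by
    show Nat.card ↥(U ⊔ L) ∣ _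
    rw [sup_comm, mul_comm]
    exact CfsgLib.Solvable.card_sup_dvd hLU)
  have h := CfsgLib.Coprime.frobenius_formula (A := A) (U := U.subgroupOf A) (E := L.subgroupOf A)
    (by rw [Subgroup.subgroupOf, Subgroup.subgroupOf, ← Subgroup.comap_inf, hinf]
        exact (MonoidHom.comap_bot _).trans (Subgroup.ker_subtype A))
    (by rw [← Subgroup.subgroupOf_sup hUA hLA]; exact Subgroup.subgroupOf_self _)
    (fun e he he1 u hu h => Subtype.ext (Subgroup.mem_bot.1
      ((hfpf e he (fun h0 => he1 (Subtype.ext h0))).le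
        ⟨hu, mem_centralizer_singleton_iff.2 (congrArg Subtype.val h).symm⟩)))
    (Nat.card N) rfl hs hcA φ
  have hfix : ∀ (S : Subgroup G) (hS : S ≤ A),
      Nat.card (CfsgLib.Coprime.fixedSub φ (S.subgroupOf A)) = Nat.card ↥(N ⊓ centralizer (S : Set G)) := by
    intro S hS
    refine Nat.card_congr ⟨fun x => ⟨(x : N), (x : N).2, mem_centralizer_iff.2 fun s hs => ?_⟩,
      fun y => ⟨⟨(y : G), y.2.1⟩, fun s hs => Subtype.ext ?_⟩, fun x => rfl, fun y => rfl⟩
    · have h1 := congrArg Subtype.val (x.2 ⟨s, hS hs⟩ hs)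
      rw [hφ] at h1
      exact mul_inv_eq_iff_eq_mul.1 h1
    · rw [hφ]
      exact mul_inv_eq_iff_eq_mul.2 (mem_centralizer_iff.1 y.2.2 (s : G) hs)
  have htop : (⊤ : Subgroup A) = A.subgroupOf A := (Subgroup.subgroupOf_self A).symm
  rw [htop, hfix A le_rfl, hfix L hLA, hfix U hUA, Nat.card_congr (Subgroup.subgroupOfEquivOfLe hLA).toEquiv] at h
  exact h

/-- A Frobenius group acting with equal fixed points for a proper subgroup of the complement: the kernel acts
trivially. -/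
theorem prime_action_kills {N U K L : Subgroup G} (hs : Group.IsSolvable N) (hUn : U ≤ normalizer (N : Set G))
    (hKn : K ≤ normalizer (N : Set G)) (hKU : K ≤ normalizer (U : Set G)) (hinf : U ⊓ K = ⊥)
    (hfpf : ∀ k ∈ K, k ≠ 1 → U ⊓ centralizer ({k} : Set G) = ⊥)
    (hcop : (Nat.card U * Nat.card K).Coprime (Nat.card N)) (hLK : L ≤ K) (hne : Nat.card L ≠ Nat.card K)
    (hfix : N ⊓ centralizer (L : Set G) ≤ centralizer (K : Set G)) : N ≤ centralizer (U : Set G) := by
  have h1 := formula_sub hs hUn hKn hKU hinf hfpf hcop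
  have h2 := formula_sub hs hUn (hLK.trans hKn) (hLK.trans hKU) (le_bot_iff.1 ((inf_le_inf_left U hLK).trans hinf.le))
    (fun k hk => hfpf k (hLK hk)) (hcop.coprime_dvd_left (mul_dvd_mul_left _ (card_dvd_of_le hLK)))
  have eL : N ⊓ centralizer (L : Set G) = N ⊓ centralizer (K : Set G) :=
    le_antisymm (le_inf inf_le_left hfix) (inf_le_inf_left N (centralizer_le hLK))
  have eUL : N ⊓ centralizer ((U ⊔ L : Subgroup G) : Set G) = N ⊓ centralizer ((U ⊔ K : Subgroup G) : Set G) := by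
    refine le_antisymm (fun x hx => ⟨hx.1, le_centralizer_iff.1 (sup_le ?_ ?_) (mem_zpowers x)⟩)
      (inf_le_inf_left N (centralizer_le (sup_le_sup_left hLK U)))
    · exact le_centralizer_iff.1 (zpowers_le.2 (centralizer_le (le_sup_left : U ≤ U ⊔ L) hx.2))
    · exact le_centralizer_iff.1 (zpowers_le.2
        (hfix ⟨hx.1, centralizer_le (le_sup_right : L ≤ U ⊔ L) hx.2⟩))
  rw [eUL, eL] at h2
  set d := Nat.card ↥(N ⊓ centralizer ((U ⊔ K : Subgroup G) : Set G))
  set c := Nat.card ↥(N ⊓ centralizer (K : Set G))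
  set a := Nat.card ↥(N ⊓ centralizer (U : Set G))
  set n := Nat.card N
  set k := Nat.card K
  set l := Nat.card L
  have hd : 0 < d := Nat.card_pos
  have hc : 0 < c := Nat.card_pos
  have ha : 0 < a := Nat.card_pos
  have hn : 0 < n := Nat.card_pos
  have hkey : d ^ l * c ^ k = c ^ l * d ^ k := by
    have : (d ^ l * c ^ k) * (n * a) = (c ^ l * d ^ k) * (n * a) := by
      calc (d ^ l * c ^ k) * (n * a) = (d ^ l * n) * (c ^ k * a) := by ring
        _ = (c ^ l * a) * (d ^ k * n) := by rw [h2, ← h1]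
        _ = (c ^ l * d ^ k) * (n * a) := by ring
    exact Nat.eq_of_mul_eq_mul_right (Nat.mul_pos hn ha) this
  have hlk : l ≤ k := Nat.le_of_dvd Nat.card_pos (card_dvd_of_le hLK)
  have hpow : c ^ (k - l) = d ^ (k - l) := by
    refine Nat.eq_of_mul_eq_mul_left (Nat.mul_pos (pow_pos hd l) (pow_pos hc l)) ?_
    calc d ^ l * c ^ l * c ^ (k - l) = d ^ l * (c ^ l * c ^ (k - l)) := by ring
      _ = d ^ l * c ^ k := by rw [← pow_add, Nat.add_sub_cancel' hlk]
      _ = c ^ l * d ^ k := hkey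
      _ = c ^ l * (d ^ l * d ^ (k - l)) := by rw [← pow_add d l (k - l), Nat.add_sub_cancel' hlk]
      _ = d ^ l * c ^ l * d ^ (k - l) := by ring
  have hcd : c = d := Nat.pow_left_injective (by omega) hpow
  rw [hcd] at h1
  have hna : n = a := Nat.eq_of_mul_eq_mul_left (pow_pos hd k) h1
  exact le_trans (ge_of_eq (eq_of_le_of_card_ge inf_le_left hna.le)) inf_le_right

variable (hG : Cfsg.IsMinSimpleOddOrder G)
include hG

/-- `U` acts faithfully enough on `M_σ`. -/
theorem core_not_le_centralizer {M U : Subgroup G} (hM : IsCoatom M)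
    (hUH : Cfsg.IsPiHallOf {q | q.Prime ∧ q ∉ Cfsg.kappa M ∧ q ∉ Cfsg.sigma M} U M)
    (hU1 : U ≠ ⊥) : ¬ Cfsg.sigmaCore M ≤ centralizer (U : Set G) := by
  intro hle
  set S := Cfsg.sigmaCore M
  obtain ⟨r, hr, u, hu, huo⟩ := exists_order_prime hU1
  haveI := Fact.mk hr
  obtain ⟨-, hrκ, hrσ⟩ := hUH.2.1 r hr (dvd_of_mem hu huo)
  obtain ⟨x, hx, hx1⟩ := (bot_or_exists_ne_one S).resolve_left
    (Tau.sigmaCore_ne_bot hG hM (one_lt_card_coatom hG hM))
  have hτ : r ∈ Cfsg.tau2 M := (mem_kappa_or_tau_two hG hM (hUH.1 hu) huo hrσ hx hx1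
    (show Commute u x from mem_centralizer_iff.1 (hle hx) u hu)).resolve_left hrκ
  obtain ⟨B, hBM, hB, hB2⟩ := Uniq.exists_elementary hτ.2.2.2
  set C := M ⊓ centralizer (S : Set G)
  have hBC : B ≤ C := by
    refine Excep.le_of_hall inf_le_left ((le_inf le_normalizer ((TH.le_normalizer_core M).trans
      (TH.normalizer_le_normalizer_centralizer _))).trans inf_normalizer_le_normalizer_inf) hBM ?_
    rw [hB2]
    refine Nat.Coprime.pow_left _ (hr.coprime_iff_not_dvd.2 fun h => hUH.2.2 r hr ⟨hr, hrκ, hrσ⟩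
      (h.trans (relIndex_dvd_of_le_left M (le_inf hUH.1 (le_centralizer_iff.1 hle)))))
  have h := (Cfsg.Agent.S1417.result hG M hM r hτ B ⟨hBM, hB, hB2⟩).2.2.2.1
  exact hx1 (Subgroup.mem_bot.1 (h.le ⟨hx, le_centralizer_iff.1 (hBC.trans inf_le_right) hx⟩))

/-- With a prime outside `σ(M)` and `κ(M)` a Hall `κ(M)`-subgroup has prime order. -/
theorem kappa_prime {M H : Subgroup G} (hM : IsCoatom M) (hH : Cfsg.IsPiHallOf (Cfsg.kappa M) H M) (hH1 : H ≠ ⊥)
    (hout : ∃ t : ℕ, t.Prime ∧ t ∣ Nat.card M ∧ t ∉ Cfsg.sigma M ∧ t ∉ Cfsg.kappa M) : (Nat.card H).Prime := by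
  obtain ⟨l, hl, h, hh, hho⟩ := exists_order_prime hH1
  set L := zpowers h
  have hLc : Nat.card L = l := by rw [Nat.card_zpowers, hho]
  by_contra hk
  obtain ⟨E, U, hE, hHE, hUE, hEU, -, hUH, hU, hfpf, hpr, -⟩ := kappa_data hG hM hH hH1
  have hU1 : U ≠ ⊥ := fun e => by
    obtain ⟨t, ht, htd, htσ, htκ⟩ := hout
    exact hUH.2.2 t ht ⟨ht, htκ, htσ⟩ (by rw [e, relIndex_bot_left]; exact htd)
  refine core_not_le_centralizer hG hM hUH hU1 (prime_action_kills (K := H) (L := L)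
    (solvable_le hG hM (map_subtype_le _)) (hUH.1.trans (TH.le_normalizer_core M))
    (hH.1.trans (TH.le_normalizer_core M)) (hHE.trans hEU) hU.2.2.1
    hfpf ?_ (zpowers_le.2 hh) (fun e => hk ?_) ?_)
  · refine Nat.Coprime.mul_left ?_ ?_ <;> refine Nat.coprime_of_dvd fun p hp h1 h2 => ?_
    · exact (hUH.2.1 p hp h1).2.2 ((Sig.sigma_core hG hM).1.2.1 p hp h2)
    · exact (hH.2.1 p hp h1).2.2.1 ((Sig.sigma_core hG hM).1.2.1 p hp h2)
  · rw [← e, hLc]; exact hl
  · exact ((inf_le_inf_left _ (FixedLine.centralizer_zpowers_le h)).trans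
      (hpr h hh (fun e => hl.ne_one (by rw [← hho, e, orderOf_one]))).le).trans inf_le_right

/-- With a prime outside `σ(M)` and `κ(M)` the subgroup `M_σ` is nilpotent. -/
theorem nilpotent_of_outer {M : Subgroup G} (hM : IsCoatom M)
    (hout : ∃ t : ℕ, t.Prime ∧ t ∣ Nat.card M ∧ t ∉ Cfsg.sigma M ∧ t ∉ Cfsg.kappa M) :
    Group.IsNilpotent (Cfsg.sigmaCore M) := by
  obtain ⟨t, ht, htd, htσ, htκ⟩ := hout
  haveI := Fact.mk ht
  by_cases hτ : t ∈ Cfsg.tau2 M
  · obtain ⟨B, hBM, hB, hB2⟩ := Uniq.exists_elementary hτ.2.2.2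
    exact (Cfsg.Agent.S1417.result hG M hM t hτ B ⟨hBM, hB, hB2⟩).1
  obtain ⟨u, hu⟩ := exists_prime_orderOf_dvd_card' (G := M) t htd
  have huo : orderOf (u : G) = t := by rw [orderOf_coe, hu]
  refine nilpotent_of_fpf hG hM u.2 huo (by_contra fun hne => ?_)
  obtain ⟨x, hx, hx1⟩ := (bot_or_exists_ne_one _).resolve_left hne
  rcases mem_kappa_or_tau_two hG hM u.2 huo htσ hx.1 hx1
    (show Commute (u : G) x from (mem_centralizer_singleton_iff.1 hx.2).symm) with h | h
  exacts [htκ h, hτ h]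

/-- With `U ≠ 1` the group `K` has prime order. -/
theorem decomp_prime {M K U : Subgroup G} (hM : IsCoatom M) (hKU : Cfsg.IsSigmaDecomposition M K U)
    (hK1 : K ≠ ⊥) (hU1 : U ≠ ⊥) : (Nat.card K).Prime := by
  refine kappa_prime hG hM hKU.hall hK1 ?_
  obtain ⟨r, hr, u, hu, huo⟩ := exists_order_prime hU1
  have hUH := decomp_hall hG hM hKU
  exact ⟨r, hr, dvd_of_mem (hUH.1 hu) huo, (hUH.2.1 r hr (dvd_of_mem hu huo)).2.2,
    (hUH.2.1 r hr (dvd_of_mem hu huo)).2.1⟩

end CfsgLib.OddLocal.Kap
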