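import Cfsg.Agent.OddLocal.KappaMover
import Cfsg.Agent.OddLocal.KappaOmega

/-!
The structure of a maximal subgroup over a Hall `κ(M)`-subgroup.
-/

set_option autoImplicit false
set_option linter.style.haveILetI false
set_option linter.unusedSectionVars false

namespace CfsgLib.OddLocal.Kap

open Subgroup Cfsg CfsgLib.OddLocal
open scoped commutatorElement Pointwise

universe u

variable {G : Type u} [Group G] [Finite G]

theorem exists_prime_root {H : Subgroup G} {k : G} (hk : k ∈ H) (hk1 : k ≠ 1) :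
    ∃ p : ℕ, p.Prime ∧ ∃ x ∈ H, orderOf x = p ∧ centralizer ({k} : Set G) ≤ centralizer ({x} : Set G) := by
  have hne : orderOf k ≠ 1 := fun e => hk1 (orderOf_eq_one_iff.1 e)
  refine ⟨_, Nat.minFac_prime hne, k ^ (orderOf k / (orderOf k).minFac), pow_mem hk _,
    orderOf_pow_orderOf_div (orderOf_pos k).ne' (Nat.minFac_dvd _), fun c hc => mem_centralizer_singleton_iff.2 ?_⟩
  exact ((show Commute c k from mem_centralizer_singleton_iff.1 hc).pow_right _).eq

/-- Every prime of `κ(M)` has rank one. -/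
theorem kappa_rank {M : Subgroup G} {p : ℕ} (hp : p ∈ Cfsg.kappa M) : Cfsg.PRankLE p 1 M := by
  obtain ⟨hpp, -, -, hcyc⟩ := hp
  haveI := Fact.mk hpp
  intro A hA hAe
  obtain ⟨P, hP⟩ := (CfsgLib.Signalizer.isPGroup (⟨hA, hAe⟩ : Cfsg.IsElementaryAbelian p A)).exists_le_sylow
  haveI := (hcyc P).1
  haveI : IsCyclic A := Subgroup.isCyclic_of_le hP
  exact (PLenZ.card_le_of_cyclic_exp inferInstance hAe).trans (le_of_eq (pow_one p).symm)

/-- Elements of prime order of `κ(M)` have fixed points. -/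
theorem kappa_fixed {M : Subgroup G} {p : ℕ} [hp : Fact p.Prime] (hpκ : p ∈ Cfsg.kappa M) {x : G} (hxM : x ∈ M)
    (hxo : orderOf x = p) : Cfsg.sigmaCore M ⊓ centralizer ({x} : Set G) ≠ ⊥ := by
  obtain ⟨-, -, -, hcyc⟩ := hpκ
  set x' : M := ⟨x, hxM⟩
  have hx'o : orderOf x' = p := by rw [← hxo, ← orderOf_coe]
  obtain ⟨P, hP⟩ := (IsPGroup.of_card (n := 1) (by rw [Nat.card_zpowers, hx'o, pow_one]) :
    IsPGroup p (zpowers x')).exists_le_sylow
  obtain ⟨hc, x₀, hx₀, hx₀1, y, hy, hy1, hxy⟩ := hcyc P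
  obtain ⟨k, hk⟩ := IsPGroup.iff_orderOf.1 P.2 ⟨x₀, hx₀⟩
  rw [Subgroup.orderOf_mk] at hk
  rcases k with - | k
  · exact absurd (orderOf_eq_one_iff.1 (by rw [hk, pow_zero])) hx₀1
  have e : zpowers x' = zpowers (x₀ ^ p ^ k) := UTool.zpowers_eq_of_cyclic hc (zpowers_le.1 hP) (pow_mem hx₀ _) hx'o
    (orderOf_pow_bottom hk)
  obtain ⟨i, hi⟩ := mem_zpowers_iff.1 (e.le (mem_zpowers x'))
  have h1 : Commute x y := by
    have h2 := ((show Commute (x₀ : G) y from hxy).pow_left (p ^ k)).zpow_left i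
    have h3 : ((x₀ : G) ^ p ^ k) ^ i = x := by
      rw [show x = ((x' : M) : G) from rfl, ← hi]
      push_cast
      rfl
    rwa [h3] at h2
  exact fun e' => hy1 (mem_bot.1 (e'.le ⟨hy, mem_centralizer_singleton_iff.2 h1.symm.eq⟩))

variable (hG : Cfsg.IsMinSimpleOddOrder G)
include hG

theorem mem_kappa {M : Subgroup G} (hM : IsCoatom M) {p : ℕ} [Fact p.Prime] (hσ : p ∉ Cfsg.sigma M)
    (hr : Cfsg.PRankLE p 1 M) {x : G} (hxM : x ∈ M) (hxo : orderOf x = p)
    (hfix : Cfsg.sigmaCore M ⊓ centralizer ({x} : Set G) ≠ ⊥) : p ∈ Cfsg.kappa M := by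
  by_contra hκ
  have hx'o : orderOf (⟨x, hxM⟩ : M) = p := by rw [← hxo, ← orderOf_coe]
  obtain ⟨P, hP⟩ := (IsPGroup.of_card (n := 1) (by rw [Nat.card_zpowers, hx'o, pow_one]) :
    IsPGroup p (zpowers (⟨x, hxM⟩ : M))).exists_le_sylow
  exact hfix (fpf_of_not_kappa hG hM (dvd_of_mem hxM hxo) hσ hκ hr P (zpowers_le.1 hP) fun e =>
    (Fact.out : p.Prime).ne_one (by rw [← hx'o, e, orderOf_one]))

theorem dvd_complement {M E : Subgroup G} (hM : IsCoatom M) (hE : Cfsg.IsComplIn E (Cfsg.sigmaCore M) M) {p : ℕ}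
    (hp : p.Prime) (hσ : p ∉ Cfsg.sigma M) (hd : p ∣ Nat.card M) : p ∣ Nat.card E := by
  rw [← CfsgLib.InvariantHall.relIndex_mul_card (show Cfsg.sigmaCore M ≤ M from map_subtype_le _),
    ← (Compl.card_eq hG hM hE).1] at hd
  exact (hp.dvd_mul.1 hd).resolve_left (not_dvd_core hG hM hp hσ)

theorem relIndex_complement {M E : Subgroup G} (hM : IsCoatom M) (hE : Cfsg.IsComplIn E (Cfsg.sigmaCore M) M) :
    E.relIndex M = Nat.card (Cfsg.sigmaCore M) := by
  have h3 := CfsgLib.InvariantHall.relIndex_mul_card hE.1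
  rw [← CfsgLib.InvariantHall.relIndex_mul_card (show Cfsg.sigmaCore M ≤ M from map_subtype_le _),
    ← (Compl.card_eq hG hM hE).1, mul_comm (Nat.card (Cfsg.sigmaCore M))] at h3
  exact Nat.eq_of_mul_eq_mul_left Nat.card_pos h3

/-- Prime action from the elements of prime order. -/
theorem prime_action {M E H : Subgroup G} (hM : IsCoatom M) (hE : Cfsg.IsComplIn E (Cfsg.sigmaCore M) M)
    (hHE : H ≤ E) (hrank : ∀ p : ℕ, p.Prime → p ∣ Nat.card H → Cfsg.PRankLE p 1 M)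
    (hpair : ∀ x ∈ H, ∀ b ∈ H, (orderOf x).Prime → (orderOf b).Prime →
      Cfsg.sigmaCore M ⊓ centralizer ({x} : Set G) ≤ centralizer ({b} : Set G))
    {k : G} (hk : k ∈ H) (hk1 : k ≠ 1) :
    Cfsg.sigmaCore M ⊓ centralizer ({k} : Set G) = Cfsg.sigmaCore M ⊓ centralizer (H : Set G) := by
  obtain ⟨q, hq, x, hx, hxo, hkx⟩ := exists_prime_root hk hk1
  refine le_antisymm (le_inf inf_le_left ((inf_le_inf_left _ hkx).trans (le_centralizer_iff.1 ?_)))
    (inf_le_inf_left _ (centralizer_le (Set.singleton_subset_iff.2 hk)))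
  refine PrimeFit.le_of_prime_power fun t ht b hb ⟨j, hbo⟩ => mem_centralizer_iff.2 fun c hc => ?_
  haveI := Fact.mk ht
  rcases j with - | i
  · rw [pow_zero, orderOf_eq_one_iff] at hbo
    subst hbo; simp
  have hb₀ := orderOf_pow_bottom hbo
  have h1 := hpair x hx _ (pow_mem hb (t ^ i)) (hxo ▸ hq) (by rw [hb₀]; exact ht) hc
  exact mem_centralizer_singleton_iff.1 (fixed_le_zpowers hG hM hE
    (hrank t ht ((dvd_pow_self t (Nat.succ_ne_zero i)).trans (dvd_of_mem hb hbo))) (hHE hb) hbo ⟨hc.1, h1⟩)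

/-- BG Theorem 14.2: the structure over a nontrivial Hall `κ(M)`-subgroup. -/
theorem kappa_data {M H : Subgroup G} (hM : IsCoatom M) (hH : Cfsg.IsPiHallOf (Cfsg.kappa M) H M) (hH1 : H ≠ ⊥) :
    ∃ E U : Subgroup G, Cfsg.IsComplIn E (Cfsg.sigmaCore M) M ∧ H ≤ E ∧ U ≤ E ∧ E ≤ normalizer (U : Set G) ∧
      IsMulCommutative U ∧ Cfsg.IsPiHallOf {q | q.Prime ∧ q ∉ Cfsg.kappa M ∧ q ∉ Cfsg.sigma M} U M ∧
      Cfsg.IsComplIn U H E ∧ (∀ k ∈ H, k ≠ 1 → U ⊓ centralizer ({k} : Set G) = ⊥) ∧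
      (∀ k ∈ H, k ≠ 1 → Cfsg.sigmaCore M ⊓ centralizer ({k} : Set G) = Cfsg.sigmaCore M ⊓ centralizer (H : Set G)) ∧
      (∀ x ∈ H, (orderOf x).Prime → H ≤ normalizer (zpowers x : Set G)) ∧
      ∃ q : ℕ, q ∈ Cfsg.tau1 M ∧ ∃ a ∈ H, orderOf a = q := by
  classical
  set K := Cfsg.sigmaCore M with hK
  set π' : Set ℕ := {q | q.Prime ∧ q ∉ Cfsg.kappa M ∧ q ∉ Cfsg.sigma M} with hπ'
  obtain ⟨E, hE, hHE⟩ := Tau.exists_complement_of hG hM hH.1 fun p hp hd => (hH.2.1 p hp hd).2.2.1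
  have hEs := solvable_le hG hM hE.1
  have hEσ := (Compl.card_eq hG hM hE).2.2
  have hHκ : ∀ p : ℕ, p.Prime → p ∈ Cfsg.kappa M → ¬ p ∣ H.relIndex E := fun p hp hκ hd =>
    hH.2.2 p hp hκ (hd.trans (Dvd.intro _ (relIndex_mul_relIndex H E M hHE hE.1)))
  have hrank : ∀ p : ℕ, p.Prime → p ∣ Nat.card H → Cfsg.PRankLE p 1 M := fun p hp hd => kappa_rank (hH.2.1 p hp hd)
  by_cases h3 : ∃ r, r ∈ Cfsg.tau3 M ∧ r ∈ Cfsg.kappa M
  · -- the case `κ(M) ∩ τ₃(M) ≠ ∅`
    obtain ⟨r, hr3, hrκ⟩ := h3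
    haveI := Fact.mk hr3.1
    obtain ⟨u₀, hu₀⟩ := exists_prime_orderOf_dvd_card' (G := E) r (dvd_complement hG hM hE hr3.1 hr3.2.1 hrκ.2.1)
    obtain ⟨u, hu, huo⟩ : ∃ u ∈ E, orderOf u = r := ⟨u₀, u₀.2, by rw [orderOf_coe, hu₀]⟩
    have hY := kappa_fixed hrκ (hE.1 hu) huo
    obtain ⟨L, hL, hNL⟩ := (eq_top_or_exists_le_coatom (normalizer (zpowers u : Set G))).resolve_left
      (Excep.normalizer_line_ne_top hG (by rw [Nat.card_zpowers, huo]))
    obtain ⟨g, hg, t, ht, ⟨j, hgo⟩, hmove⟩ := tau_three_moved hG hM hE hr3 hu huo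
    haveI := Fact.mk ht
    obtain ⟨i, rfl⟩ := exists_pow_succ hgo hmove
    obtain ⟨-, -, hgY⟩ := mover_sigma hG hM hE hr3 hu huo hY hL hNL hg hgo hmove
    have ht1 := mover_tau_one hG hM hE hr3 hu huo hY hg hgo hmove
    set Y := K ⊓ centralizer ({u} : Set G) with hYdef
    set g₀ := g ^ t ^ i with hg₀
    have hg₀E : g₀ ∈ E := pow_mem hg _
    have hg₀o : orderOf g₀ = t := orderOf_pow_bottom hgo
    have hEu : E ≤ normalizer (zpowers u : Set G) := normalizes_line hG hM hE hr3 hu huo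
    have hEY : E ≤ normalizer (Y : Set G) := le_trans (le_inf (hE.1.trans (TH.le_normalizer_core M))
      (hEu.trans ?_)) inf_normalizer_le_normalizer_inf
    swap
    · rw [show centralizer ({u} : Set G) = centralizer (zpowers u : Set G) from
        le_antisymm (FixedLine.le_centralizer_zpowers le_rfl) (FixedLine.centralizer_zpowers_le u)]
      intro n hn
      refine Uniq.mem_normalizer_of_map_le ?_
      rintro _ ⟨c, hc, rfl⟩
      refine mem_centralizer_iff.2 fun z hz => ?_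
      have h1 := mem_centralizer_iff.1 hc (n⁻¹ * z * n) ((mem_normalizer_iff''.1 hn z).1 hz)
      show z * (n * c * n⁻¹) = n * c * n⁻¹ * z
      calc z * (n * c * n⁻¹) = n * ((n⁻¹ * z * n) * c) * n⁻¹ := by group
        _ = n * (c * (n⁻¹ * z * n)) * n⁻¹ := by rw [h1]
        _ = n * c * n⁻¹ * z := by group
    -- every element of prime order has the fixed points `Y`
    have hprime : ∀ x ∈ E, ∀ {p : ℕ}, p.Prime → orderOf x = p →
        K ⊓ centralizer ({x} : Set G) = Y ∧ Cfsg.PRankLE p 1 M := by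
      intro x hx p hp hxo
      haveI := Fact.mk hp
      rcases Tau.tau_cases hG hM hE hp (dvd_of_mem hx hxo) with h1 | h2 | hp3
      · obtain ⟨-, hpσ, -, hpd, hpr⟩ := id h1
        refine ⟨le_antisymm (le_inf inf_le_left ?_) (le_inf inf_le_left ?_), hpr⟩
        · exact Tau.tau_one_fixed hG hM hE hpσ hpd hpr hxo hx huo hu
            (tau_one_centralizes hG hM hE hr3 hu huo hY h1 hx hxo).symm
        obtain ⟨E₁, hE₁, hgE₁⟩ := exists_hall_over (π := Cfsg.tau1 M) hEs (zpowers_le.2 hg₀E) fun v hv hd => by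
          rw [Nat.card_zpowers, hg₀o] at hd
          exact (Nat.prime_dvd_prime_iff_eq hv ht).1 hd ▸ ht1
        rw [zpowers_le] at hgE₁
        haveI := (Compl.tau_structure hG hM hE).1 E₁ hE₁
        letI := IsCyclic.commGroup (α := E₁)
        obtain ⟨d, hd, hdx⟩ := Tau.exists_conj_mem hE₁.1 (hE₁.2.2 p hp h1) hx (k := 1) (by rw [hxo, pow_one])
        have hc : Commute (d * x * d⁻¹) g₀ := congrArg Subtype.val (mul_comm (⟨_, hdx⟩ : E₁) ⟨_, hgE₁⟩)
        have h4 : Y ≤ centralizer ({d * x * d⁻¹} : Set G) := hgY ▸ Tau.tau_one_fixed hG hM hE ht1.2.1 ht1.2.2.2.1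
          ht1.2.2.2.2 hg₀o hg₀E (by rw [← MulAut.conj_apply, MulEquiv.orderOf_eq, hxo]) (hE₁.1 hdx) hc
        intro y hy
        have h5 := h4 ((mem_normalizer_iff.1 (hEY hd) y).1 hy)
        have h6 := (show Commute (d * y * d⁻¹) (d * x * d⁻¹) from mem_centralizer_singleton_iff.1 h5).map
          (MulAut.conj d⁻¹).toMonoidHom
        simp only [MulEquiv.toMonoidHom_eq_coe, MonoidHom.coe_coe, MulAut.conj_apply, inv_inv] at h6
        rw [show d⁻¹ * (d * y * d⁻¹) * d = y by group, show d⁻¹ * (d * x * d⁻¹) * d = x by group] at h6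
        exact mem_centralizer_singleton_iff.2 h6.eq
      · exact absurd h2 (tau_two_empty hG hM hE hr3 hu huo hY p)
      · refine ⟨?_, hp3.2.2.2⟩
        have h1 := fixed_le_tau_three hG hM hE hr3 hu huo hY hp3 hx hxo
        have hY' : K ⊓ centralizer ({x} : Set G) ≠ ⊥ := fun e =>
          hY (le_bot_iff.1 ((le_inf inf_le_left h1).trans e.le))
        exact le_antisymm (le_inf inf_le_left (fixed_le_tau_three hG hM hE hp3 hx hxo hY' hr3 hu huo))
          (le_inf inf_le_left h1)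
    have hκ : ∀ p : ℕ, p.Prime → p ∣ Nat.card E → p ∈ Cfsg.kappa M := fun p hp hd => by
      haveI := Fact.mk hp
      obtain ⟨x, hx⟩ := exists_prime_orderOf_dvd_card' (G := E) p hd
      have hxo : orderOf (x : G) = p := by rw [orderOf_coe, hx]
      obtain ⟨h1, h2⟩ := hprime x x.2 hp hxo
      exact mem_kappa hG hM (hEσ p hp hd) h2 (hE.1 x.2) hxo (h1 ▸ hY)
    have hEH : E ≤ H := relIndex_eq_one.1 (Nat.eq_one_iff_not_exists_prime_dvd.2 fun p hp hd =>
      hHκ p hp (hκ p hp (hd.trans (relIndex_dvd_card _ _))) hd)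
    have hHeq : H = E := le_antisymm hHE hEH
    subst hHeq
    refine ⟨H, ⊥, hE, le_rfl, bot_le, Excep.le_normalizer_bot _, inferInstance, ⟨bot_le, ?_, ?_⟩,
      ⟨bot_le, le_rfl, bot_inf_eq _, fun m hm => ⟨1, one_mem _, m, hm, (one_mul m).symm⟩⟩,
      fun k _ _ => bot_inf_eq _, fun k hk hk1 => prime_action hG hM hE le_rfl hrank ?_ hk hk1, ?_,
      t, ht1, g₀, hg₀E, hg₀o⟩
    · intro p hp hd
      rw [card_bot, Nat.dvd_one] at hd
      exact absurd hd hp.ne_one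
    · intro p hp hpπ hd
      rw [relIndex_bot_left] at hd
      exact hpπ.2.1 (hκ p hp (dvd_complement hG hM hE hp hpπ.2.2 hd))
    · intro x hx b hb hxp hbp
      rw [(hprime x hx hxp rfl).1, ← (hprime b hb hbp rfl).1]
      exact inf_le_right
    -- lines are normal
    intro x hx hxp
    haveI := Fact.mk hxp
    rcases Tau.tau_cases hG hM hE hxp (dvd_of_mem hx rfl) with h1 | h2 | hp3
    · refine le_trans ?_ (centralizer_le_normalizer _)
      refine le_trans ?_ (FixedLine.le_centralizer_zpowers le_rfl)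
      refine Excep.le_of_sylows fun q hq hqd => ?_
      haveI := Fact.mk hq
      rcases Tau.tau_cases hG hM hE hq hqd with q1 | q2 | q3
      · obtain ⟨E₁, hE₁, hxE₁⟩ := exists_hall_over (π := Cfsg.tau1 M) hEs (zpowers_le.2 hx) fun v hv hd => by
          rw [Nat.card_zpowers] at hd
          exact (Nat.prime_dvd_prime_iff_eq hv hxp).1 hd ▸ h1
        rw [zpowers_le] at hxE₁
        haveI := (Compl.tau_structure hG hM hE).1 E₁ hE₁
        letI := IsCyclic.commGroup (α := E₁)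
        exact ⟨E₁, le_inf hE₁.1 fun e he => mem_centralizer_singleton_iff.2
          (congrArg Subtype.val (mul_comm (⟨e, he⟩ : E₁) ⟨x, hxE₁⟩)), hE₁.2.2 q hq q1⟩
      · exact absurd q2 (tau_two_empty hG hM hE hr3 hu huo hY q)
      · obtain ⟨E₃, hE₃⟩ := CfsgLib.InvariantHall.exists_isPiHallOf (π := Cfsg.tau3 M) (G := H) hEs
        obtain ⟨hc, -, hn⟩ := (Compl.tau_structure hG hM hE).2 E₃ hE₃
        refine ⟨E₃, le_inf hE₃.1 (PrimeFit.le_of_prime_power fun v hv b hb ⟨j, hbo⟩ => ?_), hE₃.2.2 q hq q3⟩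
        haveI := Fact.mk hv
        rcases j with - | j
        · rw [pow_zero, orderOf_eq_one_iff] at hbo
          exact hbo ▸ one_mem _
        have hv3 : v ∈ Cfsg.tau3 M := hE₃.2.1 v hv ((dvd_pow_self v (Nat.succ_ne_zero j)).trans (dvd_of_mem hb hbo))
        have hb₀ := orderOf_pow_bottom hbo
        have hb₀E : b ^ v ^ j ∈ H := pow_mem (hE₃.1 hb) _
        have hYb : Cfsg.sigmaCore M ⊓ centralizer ({b ^ v ^ j} : Set G) ≠ ⊥ := (hprime _ hb₀E hv hb₀).1 ▸ hY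
        have hcomm := tau_one_centralizes hG hM hE hv3 hb₀E hb₀ hYb h1 hx rfl
        have hv2 : v ≠ 2 := CfsgLib.CN.MinSimple.p_ne_two hG
          ((dvd_of_mem hb₀E hb₀).trans (card_subgroup_dvd_card H))
        have hxv : (Nat.card (zpowers x)).Coprime v := by
          rw [Nat.card_zpowers]
          exact (Nat.coprime_primes hxp hv).2 fun e => h1.2.2.2.1 (e ▸ hv3.2.2.1)
        have h7 := Excep.centralizes_cyclic hv2 (U := zpowers b) (A := zpowers x)
          (IsPGroup.of_card (n := j + 1) (by rw [Nat.card_zpowers, hbo])) inferInstance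
          ((zpowers_le.2 hx).trans (hn.trans (UTool.normalizer_le_normalizer_zpowers hc hb))) hxv
          (pow_mem (mem_zpowers b) _) hb₀
          (zpowers_le.2 (mem_centralizer_singleton_iff.2 hcomm.eq))
        exact mem_centralizer_singleton_iff.2
          (mem_centralizer_iff.1 (h7 (mem_zpowers x)) b (mem_zpowers b))
    · exact absurd h2 (tau_two_empty hG hM hE hr3 hu huo hY _)
    · exact normalizes_line hG hM hE hp3 hx rfl
  -- the case `κ(M) ⊆ τ₁(M)`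
  push Not at h3
  have hκ1 : ∀ p : ℕ, p ∈ Cfsg.kappa M → p ∈ Cfsg.tau1 M := fun p hp => by
    haveI := Fact.mk hp.1
    rcases Tau.tau_cases hG hM hE hp.1 (dvd_complement hG hM hE hp.1 hp.2.2.1 hp.2.1) with h | h | h
    · exact h
    · exact absurd (kappa_rank hp) h.2.2.2
    · exact absurd hp (h3 p h)
  obtain ⟨q, hq, a, ha, hao⟩ := exists_order_prime hH1
  haveI := Fact.mk hq
  have hqκ : q ∈ Cfsg.kappa M := hH.2.1 q hq (dvd_of_mem ha hao)
  have hq1 := hκ1 q hqκ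
  have hfixa := kappa_fixed hqκ (hH.1 ha) hao
  obtain ⟨E₁, hE₁, hHE₁⟩ := exists_hall_over (π := Cfsg.tau1 M) hEs hHE fun p hp hd => hκ1 p (hH.2.1 p hp hd)
  haveI := (Compl.tau_structure hG hM hE).1 E₁ hE₁
  letI := IsCyclic.commGroup (α := E₁)
  have hcomm : ∀ {x y : G}, x ∈ E₁ → y ∈ E₁ → Commute x y := fun hx hy =>
    congrArg Subtype.val (mul_comm (⟨_, hx⟩ : E₁) ⟨_, hy⟩)
  have hτκ : ∀ p : ℕ, p.Prime → p ∣ Nat.card E → p ∈ Cfsg.tau1 M → p ∈ Cfsg.kappa M := fun p hp hd hp1 => by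
    haveI := Fact.mk hp
    have hd1 : p ∣ Nat.card E₁ := by
      rw [← CfsgLib.InvariantHall.relIndex_mul_card hE₁.1] at hd
      exact (hp.dvd_mul.1 hd).resolve_right (hE₁.2.2 p hp hp1)
    obtain ⟨x, hx⟩ := exists_prime_orderOf_dvd_card' (G := E₁) p hd1
    have hxo : orderOf (x : G) = p := by rw [orderOf_coe, hx]
    refine mem_kappa hG hM hp1.2.1 hp1.2.2.2.2 (hE.1 (hE₁.1 x.2)) hxo fun e => hfixa (le_bot_iff.1 ?_)
    exact (le_inf inf_le_left (Tau.tau_one_fixed hG hM hE hq1.2.1 hq1.2.2.2.1 hq1.2.2.2.2 hao (hHE ha) hxo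
      (hE₁.1 x.2) (hcomm x.2 (hHE₁ ha)))).trans e.le
  have hd' : ∀ p : ℕ, p.Prime → p ∣ Nat.card ↥⁅E, E⁆ → p ∈ π' := fun p hp hd =>
    ⟨hp, fun h => (hκ1 p h).2.2.2.1 (hd.trans (card_dvd_of_le (commutator_mono hE.1 hE.1))),
      hEσ p hp (hd.trans (card_dvd_of_le (commutator_le_self E)))⟩
  obtain ⟨U, hU, hEU⟩ := exists_hall_over (π := π') hEs (commutator_le_self E) hd'
  have hUn : E ≤ normalizer (U : Set G) := fun e he => by
    refine Uniq.mem_normalizer_of_map_le ?_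
    rintro _ ⟨v, hv, rfl⟩
    show e * v * e⁻¹ ∈ U
    rw [show e * v * e⁻¹ = ⁅e, v⁆ * v by rw [commutatorElement_def]; group]
    exact mul_mem (hEU (commutator_mem_commutator he (hU.1 hv))) hv
  have hUM : Cfsg.IsPiHallOf π' U M := by
    refine ⟨hU.1.trans hE.1, hU.2.1, fun p hp hpπ hd => ?_⟩
    rw [← relIndex_mul_relIndex U E M hU.1 hE.1, relIndex_complement hG hM hE] at hd
    exact (hp.dvd_mul.1 hd).elim (hU.2.2 p hp hpπ) (not_dvd_core hG hM hp hpπ.2.2)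
  have hsup : E ≤ H ⊔ U := Excep.le_of_sylows fun p hp hd => by
    by_cases hκ : p ∈ Cfsg.kappa M
    · exact ⟨H, le_inf hHE le_sup_left, hHκ p hp hκ⟩
    · exact ⟨U, le_inf hU.1 le_sup_right, hU.2.2 p hp ⟨hp, hκ, hEσ p hp hd⟩⟩
  have hHU : H ≤ normalizer (U : Set G) := hHE.trans hUn
  have hdis : U ⊓ H = ⊥ := disjoint_iff.1 (disjoint_of_coprime_natCard (Nat.coprime_of_dvd fun p hp h1 h2 =>
    (hU.2.1 p hp h1).2.1 (hH.2.1 p hp h2)))
  have hprime : ∀ x ∈ H, ∀ {p : ℕ}, p.Prime → orderOf x = p → U ⊓ centralizer ({x} : Set G) = ⊥ := by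
    intro x hx p hp hxo
    haveI := Fact.mk hp
    have hpκ : p ∈ Cfsg.kappa M := hH.2.1 p hp (dvd_of_mem hx hxo)
    have hp1 := hκ1 p hpκ
    have hfix := kappa_fixed hpκ (hH.1 hx) hxo
    by_contra hne
    obtain ⟨s, hs, v, hv, hvo⟩ := exists_order_prime hne
    haveI := Fact.mk hs
    have hvE : v ∈ E := hU.1 hv.1
    have hsπ := hU.2.1 s hs (dvd_of_mem hv.1 hvo)
    have hvx : Commute v x := mem_centralizer_singleton_iff.1 hv.2
    rcases Tau.tau_cases hG hM hE hs (dvd_of_mem hvE hvo) with h1 | h2 | h3'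
    · exact hsπ.2.1 (hτκ s hs (dvd_of_mem hvE hvo) h1)
    · obtain ⟨A, T, hA, hA2, -, hAT, -, hTE, -⟩ :=
        Tau.exists_sylow_data hG hM hE h2 (IsPGroup.of_bot : IsPGroup s (⊥ : Subgroup G)) bot_le
      have hvA : v ∈ A := (Cfsg.Agent.S1418.result hG M hM E hE s h2 A ⟨hAT.trans hTE, hA, hA2⟩).1.2 _
        (zpowers_le.2 hvE) (by rw [Nat.card_zpowers, hvo]) (mem_zpowers v)
      have h := (tau_two_fixed hG hM hE h2 hA hA2 (hAT.trans hTE) hp1 (hHE hx) hxo hfix).le ⟨hvA, hv.2⟩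
      exact hs.ne_one (by rw [← hvo, orderOf_eq_one_iff]; exact mem_bot.1 h)
    · refine hsπ.2.1 (mem_kappa hG hM hsπ.2.2 h3'.2.2.2 (hE.1 hvE) hvo fun e => hfix (le_bot_iff.1 ?_))
      exact (le_inf inf_le_left (Tau.tau_one_fixed hG hM hE hp1.2.1 hp1.2.2.2.1 hp1.2.2.2.2 hxo (hHE hx) hvo hvE
        hvx)).trans e.le
  have haU : a ∈ normalizer (U : Set G) := hHU ha
  have hUc : IsMulCommutative U := by
    refine Tau.commutative_of_nilpotent hG hM hUM.1 (CfsgLib.FPFPrime.isNilpotent (solvable_le hG hM hUM.1) hq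
      (U.normalizerMonoidHom ⟨a, haU⟩) ?_ fun v hv => ?_) fun p hp hd => (hU.2.1 p hp hd).2.2
    · rw [← map_pow, show (⟨a, haU⟩ : normalizer (U : Set G)) ^ q = 1 from Subtype.ext (by
        rw [SubmonoidClass.coe_pow, ← hao, pow_orderOf_eq_one]; rfl), map_one]
    · have h1 : a * (v : G) * a⁻¹ = v := congrArg Subtype.val hv
      exact Subtype.ext (mem_bot.1 ((hprime a ha hq hao).le
        ⟨v.2, mem_centralizer_singleton_iff.2 (mul_inv_eq_iff_eq_mul.1 h1).symm⟩))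
  refine ⟨E, U, hE, hHE, hU.1, hUn, hUc, hUM, ⟨hU.1, hHE, hdis, fun m hm => ?_⟩, fun k hk hk1 => ?_,
    fun k hk hk1 => prime_action hG hM hE hHE hrank ?_ hk hk1, fun x hx _ => ?_, q, hq1, a, ha, hao⟩
  · obtain ⟨h, hh, v, hv, rfl⟩ := (CfsgLib.Solvable.mem_sup_of_le_normalizer hHU).1 (hsup hm)
    exact ⟨h * v * h⁻¹, (mem_normalizer_iff.1 (hHU hh) v).1 hv, h, hh, by group⟩
  · obtain ⟨p, hp, x, hx, hxo, hkx⟩ := exists_prime_root hk hk1
    exact le_bot_iff.1 ((inf_le_inf_left U hkx).trans (hprime x hx hp hxo).le)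
  · intro x hx b hb hxp hbp
    haveI := Fact.mk hxp
    haveI := Fact.mk hbp
    have hp1 := hκ1 _ (hH.2.1 _ hxp (dvd_of_mem hx rfl))
    exact Tau.tau_one_fixed hG hM hE hp1.2.1 hp1.2.2.2.1 hp1.2.2.2.2 rfl (hHE hx) rfl (hHE hb)
      (hcomm (hHE₁ hb) (hHE₁ hx))
  · exact fun h hh => centralizer_le_normalizer _ (FixedLine.le_centralizer_zpowers le_rfl
      (mem_centralizer_singleton_iff.2 (hcomm (hHE₁ hh) (hHE₁ hx)).eq))

/-- The normalizer in `M` of a subgroup of the Hall `κ(M)`-subgroup. -/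
theorem normalizer_in {M E H U R : Subgroup G} (hE : Cfsg.IsComplIn E (Cfsg.sigmaCore M) M) (hHE : H ≤ E)
    (hEU : E ≤ normalizer (U : Set G)) (hU : Cfsg.IsComplIn U H E) (hR : R ≤ H) (hHR : H ≤ normalizer (R : Set G))
    (hfix : Cfsg.sigmaCore M ⊓ centralizer (R : Set G) ≤ centralizer (H : Set G))
    (hUR : U ⊓ centralizer (R : Set G) = ⊥) :
    M ⊓ normalizer (R : Set G) = H ⊔ (Cfsg.sigmaCore M ⊓ centralizer (H : Set G)) := by
  set K := Cfsg.sigmaCore M with hK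
  have hKM : K ≤ M := map_subtype_le _
  refine le_antisymm ?_ (sup_le (le_inf (hHE.trans hE.1) hHR) (le_inf (inf_le_left.trans hKM)
    ((inf_le_right.trans (centralizer_le hR)).trans (centralizer_le_normalizer _))))
  rintro n ⟨hnM, hnR⟩
  obtain ⟨e, he, c, hc, rfl⟩ := hE.2.2.2 n hnM
  obtain ⟨v, hv, k, hk, rfl⟩ := hU.2.2.2 e he
  have hvE : v ∈ E := hU.1 hv
  have hkE : k ∈ E := hHE hk
  set c' := k * c * k⁻¹ with hc'
  have hc'K : c' ∈ K := (mem_normalizer_iff.1 (TH.le_normalizer_core M (hE.1 hkE)) c).1 hc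
  have hvc : v * c' ∈ normalizer (R : Set G) := by
    rw [show v * c' = v * k * c * k⁻¹ by rw [hc']; group]
    exact mul_mem hnR (inv_mem (hHR hk))
  have key : ∀ x ∈ R, Commute c' x ∧ Commute v x := by
    intro x hx
    have hxE : x ∈ E := hHE (hR hx)
    set x' := v * c' * x * (v * c')⁻¹ with hx'
    have hx'R : x' ∈ R := (mem_normalizer_iff.1 hvc x).1 hx
    have hx'E : x' ∈ E := hHE (hR hx'R)
    have e1 : v⁻¹ * x' * v * x⁻¹ = c' * (x * c'⁻¹ * x⁻¹) := by rw [hx']; group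
    have h0 : v⁻¹ * x' * v * x⁻¹ ∈ E ⊓ K := ⟨E.mul_mem (E.mul_mem (E.mul_mem (E.inv_mem hvE) hx'E) hvE) (E.inv_mem hxE),
      e1 ▸ K.mul_mem hc'K ((mem_normalizer_iff.1 (TH.le_normalizer_core M (hE.1 hxE)) _).1 (K.inv_mem hc'K))⟩
    rw [hE.2.2.1, mem_bot] at h0
    have hcx : Commute c' x := by
      rw [e1, mul_eq_one_iff_eq_inv] at h0
      show c' * x = x * c'
      conv_lhs => rw [h0]
      group
    have hx'v : x' = v * x * v⁻¹ := by
      rw [hx', show v * c' * x * (v * c')⁻¹ = v * (c' * x * c'⁻¹) * v⁻¹ by group, hcx.eq, mul_inv_cancel_right]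
    refine ⟨hcx, ?_⟩
    have h1 : x' * x⁻¹ ∈ U ⊓ H := by
      refine ⟨?_, H.mul_mem (hR hx'R) (H.inv_mem (hR hx))⟩
      rw [hx'v, show v * x * v⁻¹ * x⁻¹ = v * (x * v⁻¹ * x⁻¹) by group]
      exact mul_mem hv ((mem_normalizer_iff.1 (hEU hxE) _).1 (inv_mem hv))
    rw [hU.2.2.1, mem_bot, mul_inv_eq_one, hx'v, mul_inv_eq_iff_eq_mul] at h1
    exact h1
  have hv1 : v = 1 := mem_bot.1 (hUR.le ⟨hv, mem_centralizer_iff.2 fun x hx => (key x hx).2.eq.symm⟩)
  have hc'H : c' ∈ K ⊓ centralizer (H : Set G) :=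
    ⟨hc'K, hfix ⟨hc'K, mem_centralizer_iff.2 fun x hx => (key x hx).1.eq.symm⟩⟩
  rw [hv1, one_mul, show k * c = c' * k by rw [hc']; group]
  exact mul_mem (mem_sup_right hc'H) (mem_sup_left hk)

end CfsgLib.OddLocal.Kap
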