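import Cfsg.Agent.OddLocal.KappaTypeTwo
import Cfsg.Agent.S1420

/-!
BG 14.12: the second maximal subgroup `H` and `H ⊓ M*`.
-/

set_option autoImplicit false
set_option linter.style.haveILetI false
set_option linter.unusedSectionVars false

namespace CfsgLib.OddLocal.Kap

open Subgroup Cfsg CfsgLib.OddLocal
open scoped commutatorElement Pointwise

universe u

variable {G : Type u} [Group G] [Finite G]
variable (hG : Cfsg.IsMinSimpleOddOrder G)
variable {M K U : Subgroup G} (hM : IsCoatom M) (hKU : Cfsg.IsSigmaDecomposition M K U) (hK1 : K ≠ ⊥)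
variable {N : Subgroup G} (hN : IsCoatom N) (hNK : Cfsg.IsPiHallOf (Cfsg.kappa N) (star M K) N)
  (hKe : K = star N (star M K))
variable {q : ℕ} [hq : Fact q.Prime] {k : G} (hk : k ∈ K) (hko : orderOf k = q)
variable (hnU : U ≠ ⊥) {H : Subgroup G} (hH : IsCoatom H) (hnc : ∀ g : G, H ≠ M.map (MulAut.conj g).toMonoidHom)
  (hUH : U ≤ H) (hkH : k ∈ H)
include hG hM hKU hK1 hN hNK hKe hk hko hnU hH hnc hUH hkH

theorem over_ne : H ≠ N := fun e => hnU (le_bot_iff.1 ((le_inf le_rfl (e ▸ hUH)).trans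
  (meet_partner hG hM hKU hK1 hN hNK hKe hk hko).le))

/-- BG 14.12: `U ≤ H_σ`. -/
theorem over_complement_le : U ≤ Cfsg.sigmaCore H := by
  have hne := over_ne hG hM hKU hK1 hN hNK hKe hk hko hnU hH hnc hUH hkH
  have hqH := over_not_sigma hG hM hKU hK1 hN hNK hKe hk hko hH hne hkH
  have hUHall := decomp_hall hG hM hKU
  have hk1 : k ≠ 1 := fun e => hq.out.ne_one (by rw [← hko, e, orderOf_one])
  refine Excep.le_sigmaCore hG hH hUH fun s hs hsU => ?_
  by_contra hsH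
  haveI := Fact.mk hs
  have hqU : ¬ q ∣ Nat.card U := fun h =>
    (hUHall.2.1 q hq.out h).2.1 (hKU.hall.2.1 q hq.out (dvd_of_mem hk hko))
  obtain ⟨V, -, hVU, hVs, hkV, hVd⟩ := Excep.exists_inv_sylow (t := s) (K := U) (T := zpowers k)
    (zpowers_le.2 (hKU.normal hk)) (by rw [Nat.card_zpowers, hko]; exact hq.out.coprime_iff_not_dvd.2 hqU)
    (Or.inr (solvable_le hG hM hKU.compl.1)) (bot_le : (⊥ : Subgroup G) ≤ _) IsPGroup.of_bot
    (Excep.le_normalizer_bot _)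
  have hV1 : V ≠ ⊥ := fun e => hVd (by rw [e, relIndex_bot_left]; exact hsU)
  obtain ⟨t, ht, u, hu, huo⟩ := exists_order_prime hV1
  obtain ⟨j, hj⟩ := IsPGroup.iff_card.1 hVs
  obtain rfl : t = s :=
    (Nat.prime_dvd_prime_iff_eq ht hs).1 (ht.dvd_of_dvd_pow (hj ▸ dvd_of_mem hu huo))
  have hu1 : u ≠ 1 := fun e => ht.ne_one (by rw [← huo, e, orderOf_one])
  have hcop : (Nat.card V).Coprime (Nat.card (Cfsg.sigmaCore H)) :=
    Excep.coprime_of_pgroup hVs (not_dvd_core hG hH hs hsH)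
  have hkills := over_kills hG hM hKU hK1 hN hNK hKe hk hko hnU hH hnc hne hkH (hVU.trans hUH)
    (zpowers_le.1 hkV) (le_bot_iff.1 ((inf_le_inf_right _ hVU).trans (decomp_fpf hG hM hKU hk hk1).le)) hcop
  obtain ⟨x, hx, hx1⟩ := (bot_or_exists_ne_one (Cfsg.sigmaCore H)).resolve_left
    (Tau.sigmaCore_ne_bot hG hH (one_lt_card_coatom hG hH))
  have hτ := over_tau_two hG hM hKU hK1 hN hNK hKe hk hko hnU hH hnc hne hkH (hUH (hVU hu)) huo hsH hx hx1
    (show Commute u x from mem_centralizer_iff.1 (hkills hx) u hu)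
  obtain ⟨E, hE, hXE⟩ := Tau.exists_complement_of hG hH (X := zpowers k ⊔ V)
    (sup_le (zpowers_le.2 hkH) (hVU.trans hUH)) (fun r hr hd => by
      rcases hr.dvd_mul.1 (hd.trans (CfsgLib.Solvable.card_sup_dvd hkV)) with h | h
      · rw [Nat.card_zpowers, hko] at h
        exact (Nat.prime_dvd_prime_iff_eq hr hq.out).1 h ▸ hqH
      · exact ((Nat.prime_dvd_prime_iff_eq hr hs).1 (hr.dvd_of_dvd_pow (hj ▸ h))) ▸ hsH)
  obtain ⟨B, hBH, hB, hB2⟩ := Uniq.exists_elementary hτ.2.2.2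
  obtain ⟨g, hg, hgB⟩ := Tau.conj_into_of_product (π := {t}) (solvable_le hG hH le_rfl) hE.1
    (map_subtype_le _ : Cfsg.sigmaCore H ≤ H) (TH.le_normalizer_core H)
    (by rw [sup_comm]; exact (Compl.card_eq hG hH hE).2.1.ge)
    (fun r hr hrt => hrt.symm ▸ not_dvd_core hG hH hs hsH) hBH fun r hr hd => by
      rw [hB2] at hd
      exact (Nat.prime_dvd_prime_iff_eq hr hs).1 (hr.dvd_of_dvd_pow hd)
  have hA2 : Nat.card ↥(B.map (MulAut.conj g).toMonoidHom) = t ^ 2 := by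
    rw [card_map_of_injective (MulAut.conj g).injective, hB2]
  have hA := Tau.elementary_map hB (MulAut.conj g).toMonoidHom
  obtain ⟨hAk, -⟩ := over_plane hG hM hKU hK1 hN hNK hKe hk hko hnU hH hnc hne hkH hE
    (hXE (mem_sup_left (mem_zpowers k))) hτ hgB hA hA2
  obtain ⟨⟨-, hlines⟩, -, -⟩ := Cfsg.Agent.S1418.result hG H hH E hE t hτ _ ⟨hgB, hA, hA2⟩
  have huA := hlines (zpowers u) (zpowers_le.2 (hXE (mem_sup_right hu))) (by rw [Nat.card_zpowers, huo])
    (mem_zpowers u)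
  exact hu1 (Subgroup.mem_bot.1 ((decomp_fpf hG hM hKU hk hk1).le ⟨hVU hu, hAk huA⟩))

/-- BG 14.12: `M ⊓ H = U ⊔ K`. -/
theorem over_meet (hKq : K = zpowers k) : M ⊓ H = U ⊔ K := by
  have hne := over_ne hG hM hKU hK1 hN hNK hKe hk hko hnU hH hnc hUH hkH
  have hUσ := over_complement_le hG hM hKU hK1 hN hNK hKe hk hko hnU hH hnc hUH hkH
  have hk1 : k ≠ 1 := fun e => hq.out.ne_one (by rw [← hko, e, orderOf_one])
  have hkM : k ∈ M := hKU.hall.1 hk
  have hHM : H ≠ M := fun e => hnc 1 (by rw [e]; ext z; simp [mem_map_conj_iff])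
  have hdis : ∀ p ∈ Cfsg.sigma H, p ∉ Cfsg.sigma M := by
    rcases sigma_eq_or_disjoint hG hM hH with h | h
    · intro p hp
      exfalso
      obtain ⟨s, hs, u, hu, huo⟩ := exists_order_prime hnU
      have hsH := sigma_of_order hG hH (hUσ hu) s hs (dvd_of_eq huo.symm)
      exact ((decomp_hall hG hM hKU).2.1 s hs (dvd_of_mem hu huo)).2.2 (h ▸ hsH)
    · exact h
  have hco : (Nat.card (Cfsg.sigmaCore M)).Coprime (Nat.card (Cfsg.sigmaCore H)) :=
    Nat.coprime_of_dvd fun p hp h1 h2 => hdis p ((Sig.sigma_core hG hH).1.2.1 p hp h2)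
      ((Sig.sigma_core hG hM).1.2.1 p hp h1)
  set V := Cfsg.sigmaCore M ⊓ H
  have hVU : ∀ v ∈ V, ∀ u ∈ U, Commute u v := fun v hv u hu => by
    have hc : ⁅u, v⁆ ∈ Cfsg.sigmaCore M ⊓ Cfsg.sigmaCore H := by
      refine ⟨?_, ?_⟩
      · rw [commutatorElement_def]
        exact (Cfsg.sigmaCore M).mul_mem ((mem_normalizer_iff.1 (TH.le_normalizer_core M (hKU.compl.1 hu)) v).1 hv.1)
          ((Cfsg.sigmaCore M).inv_mem hv.1)
      · rw [commutatorElement_def, show u * v * u⁻¹ * v⁻¹ = u * (v * u⁻¹ * v⁻¹) by group]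
        exact (Cfsg.sigmaCore H).mul_mem (hUσ hu) ((mem_normalizer_iff.1 (TH.le_normalizer_core H hv.2) _).1
          ((Cfsg.sigmaCore H).inv_mem (hUσ hu)))
    rw [disjoint_iff.1 (disjoint_of_coprime_natCard hco), Subgroup.mem_bot] at hc
    exact commutatorElement_eq_one_iff_mul_comm.1 hc
  obtain ⟨s₀, hs₀, u₀, hu₀, hu₀o⟩ := exists_order_prime hnU
  have hu₀1 : u₀ ≠ 1 := fun e => hs₀.ne_one (by rw [← hu₀o, e, orderOf_one])
  have honly : ∀ v ∈ V, ∀ t : ℕ, t.Prime → orderOf v = t →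
      centralizer ({v} : Set G) ≤ H ∧ ∀ L : Subgroup G, IsCoatom L → centralizer ({v} : Set G) ≤ L → L = H := by
    intro v hv t ht hvo
    haveI := Fact.mk ht
    have hv1 : v ≠ 1 := fun e => ht.ne_one (by rw [← hvo, e, orderOf_one])
    have htH : t ∉ Cfsg.sigma H := fun h => hdis t h (sigma_of_order hG hM hv.1 t ht (dvd_of_eq hvo.symm))
    have hτ := over_tau_two hG hM hKU hK1 hN hNK hKe hk hko hnU hH hnc hne hkH hv.2 hvo htH (hUσ hu₀) hu₀1
      (hVU v hv u₀ hu₀).symm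
    exact Tau.tau_element_centralizer hG hH hv.2 hv1
      (fun r hr hd => by rw [hvo] at hd; exact (Nat.prime_dvd_prime_iff_eq hr ht).1 hd ▸ hτ) (hUσ hu₀) hu₀1
      (hVU v hv u₀ hu₀).symm.eq
  have hVbot : V = ⊥ := by
    by_contra hV
    have hfp : V ⊓ centralizer ({k} : Set G) = ⊥ := by
      by_contra h
      obtain ⟨t, ht, y, hy, hyo⟩ := exists_order_prime h
      haveI := Fact.mk ht
      have hys : y ∈ star M K := (star_fixed hG hM hKU.hall hK1 hk hk1).le ⟨hy.1.1, hy.2⟩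
      exact hHM ((honly y hy.1 t ht hyo).2 M hM (fixed_centralizer hG hM hKU.hall hK1 hys hyo).1.1).symm
    obtain ⟨t, ht, v, hv, hvo⟩ := exists_order_prime hV
    have hv1 : v ≠ 1 := fun e => ht.ne_one (by rw [← hvo, e, orderOf_one])
    obtain ⟨h1, h2⟩ := honly v hv t ht hvo
    by_cases hvM : centralizer ({v} : Set G) ≤ M
    · exact hHM (h2 M hM hvM).symm
    obtain ⟨L, hL, hCL, -, -, hcompl, -, -, -⟩ := exists_over hG hM hv.1 hv1 hvM
    obtain rfl := h2 L hL hCL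
    exact hu₀1 (Subgroup.mem_bot.1 (hcompl.2.2.1.le ⟨⟨hKU.compl.1 hu₀, hUH hu₀⟩, hUσ hu₀⟩))
  refine le_antisymm (fun m hm => ?_) (sup_le (le_inf hKU.compl.1 hUH)
    (le_inf hKU.hall.1 (hKq ▸ zpowers_le.2 hkH)))
  obtain ⟨a, ha, b, hb, rfl⟩ := hKU.compl.2.2.2 m hm.1
  obtain ⟨c, hc, w, hw, rfl⟩ := (CfsgLib.Solvable.mem_sup_of_le_normalizer
    (hKU.hall.1.trans (TH.le_normalizer_core M))).1 hb
  have hcH : c ∈ H := (hKq ▸ zpowers_le.2 hkH : K ≤ H) hc
  have hwV : w ∈ V := ⟨hw, by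
    rw [show w = c⁻¹ * (a⁻¹ * (a * (c * w))) by group]
    exact H.mul_mem (H.inv_mem hcH) (H.mul_mem (H.inv_mem (hUH ha)) hm.2)⟩
  rw [hVbot, Subgroup.mem_bot] at hwV
  rw [hwV, mul_one]
  exact mul_mem (mem_sup_left ha) (mem_sup_right hc)

/-- BG 14.12: `N_H(U)` is not inside `M`. -/
theorem over_normalizer (hKq : K = zpowers k) : ¬ H ⊓ normalizer (U : Set G) ≤ M := by
  intro hle
  have hne := over_ne hG hM hKU hK1 hN hNK hKe hk hko hnU hH hnc hUH hkH
  have hUσ := over_complement_le hG hM hKU hK1 hN hNK hKe hk hko hnU hH hnc hUH hkH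
  have hmeet := over_meet hG hM hKU hK1 hN hNK hKe hk hko hnU hH hnc hUH hkH hKq
  have hqH := over_not_sigma hG hM hKU hK1 hN hNK hKe hk hko hH hne hkH
  have hHM : H ≠ M := fun e => hnc 1 (by rw [e]; ext z; simp [mem_map_conj_iff])
  haveI hnil : Group.IsNilpotent (Cfsg.sigmaCore H) := nilpotent_of_outer hG hH ⟨q, hq.out, dvd_of_mem hkH hko,
    hqH, by rw [over_kappa hG hM hKU hK1 hN hNK hKe hk hko hnU hH hnc hne hkH]; exact id⟩
  by_cases hU : U.subgroupOf (Cfsg.sigmaCore H) = ⊤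
  · have e : U = Cfsg.sigmaCore H := le_antisymm hUσ (subgroupOf_eq_top.1 hU)
    refine hHM ((hH.le_iff.1 ?_).resolve_left hM.1).symm
    exact fun h hh => hle ⟨hh, e ▸ TH.le_normalizer_core H hh⟩
  have hlt := Group.normalizerCondition_of_isNilpotent _ (lt_top_iff_ne_top.2 hU)
  obtain ⟨n, hn, hnU'⟩ := SetLike.exists_of_lt hlt
  have hnN : (n : G) ∈ normalizer (U : Set G) := by
    refine Uniq.mem_normalizer_of_map_le ?_
    rintro _ ⟨u, hu, rfl⟩
    exact mem_subgroupOf.1 ((mem_normalizer_iff.1 hn ⟨u, hUσ hu⟩).1 (mem_subgroupOf.2 hu))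
  have hnUK : (n : G) ∈ U ⊔ K := hmeet ▸ ⟨hle ⟨map_subtype_le _ n.2, hnN⟩, map_subtype_le _ n.2⟩
  rw [sup_comm] at hnUK
  obtain ⟨c, hc, a, ha, e⟩ := (CfsgLib.Solvable.mem_sup_of_le_normalizer hKU.normal).1 hnUK
  have hcσ : c ∈ Cfsg.sigmaCore H := by
    rw [show c = c * a * a⁻¹ by group, e]
    exact (Cfsg.sigmaCore H).mul_mem n.2 ((Cfsg.sigmaCore H).inv_mem (hUσ ha))
  have hc1 : c = 1 := by
    rw [← orderOf_eq_one_iff]
    refine Nat.eq_one_of_dvd_coprimes (a := q) ((hq.out.coprime_iff_not_dvd).2 (not_dvd_core hG hH hq.out hqH)) ?_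
      ((Cfsg.sigmaCore H).orderOf_dvd_natCard hcσ)
    rw [← hko, ← Nat.card_zpowers k, ← hKq]
    exact K.orderOf_dvd_natCard hc
  rw [hc1, one_mul] at e
  exact hnU' (mem_subgroupOf.2 (e ▸ ha))

/-- A `p`-subgroup of a complement containing `k`, normalized by `k`, is centralized by `k`. -/
theorem over_centralized {E : Subgroup G} (hE : Cfsg.IsComplIn E (Cfsg.sigmaCore H) H) (hkE : k ∈ E) {s : ℕ}
    [hs : Fact s.Prime] {P : Subgroup G} (hP : IsPGroup s P) (hPE : P ≤ E) (hkP : k ∈ normalizer (P : Set G)) :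
    P ≤ centralizer ({k} : Set G) := by
  have hne := over_ne hG hM hKU hK1 hN hNK hKe hk hko hnU hH hnc hUH hkH
  have hEσ : ∀ r : ℕ, r.Prime → r ∣ Nat.card E → r ∉ Cfsg.sigma H := (Compl.card_eq hG hH hE).2.2
  by_cases hsq : s = q
  · subst hsq
    have hW : IsPGroup s (zpowers k ⊔ P : Subgroup G) := IsPGroup.to_sup_of_normal_right'
      (IsPGroup.of_card (n := 1) (by rw [Nat.card_zpowers, hko, pow_one])) hP (zpowers_le.2 hkP)
    have hWE : zpowers k ⊔ P ≤ E := sup_le (zpowers_le.2 hkE) hPE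
    haveI := Tau.commutative_of_nilpotent hG hH (hWE.trans hE.1) hW.isNilpotent
      fun r hr hd => hEσ r hr (hd.trans (card_dvd_of_le hWE))
    exact ((le_centralizer_iff_isMulCommutative.2 this).trans (centralizer_le
      (Set.singleton_subset_iff.2 (mem_sup_left (mem_zpowers k) : k ∈ zpowers k ⊔ P)))).trans'
      le_sup_right
  suffices h : zpowers k ≤ centralizer (P : Set G) from
    fun x hx => mem_centralizer_singleton_iff.2 (mem_centralizer_iff.1 (h (mem_zpowers k)) x hx)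
  by_cases hP1 : P = ⊥
  · rw [hP1]
    exact fun x _ => mem_centralizer_iff.2 fun y hy => by
      rw [SetLike.mem_coe, Subgroup.mem_bot] at hy
      rw [hy, one_mul, mul_one]
  have hsP : s ∣ Nat.card P := Excep.isPGroup_ne_bot_dvd hP hP1
  have hs2 : s ≠ 2 := CfsgLib.CN.MinSimple.p_ne_two hG (hsP.trans P.card_subgroup_dvd_card)
  have hsσ : s ∉ Cfsg.sigma H := hEσ s hs.out (hsP.trans (card_dvd_of_le hPE))
  refine Cfsg.Agent.S1443.result s hs2 P ⊥ (zpowers k) hP bot_le ⟨inferInstance, fun a ha => by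
    rw [Subgroup.mem_bot.1 ha, one_pow]⟩ (zpowers_le.2 hkP) (by
    rw [Nat.card_zpowers, hko]; exact (Nat.coprime_primes hq.out hs.out).2 (Ne.symm hsq)) fun x hx hxo => ?_
  refine zpowers_le.2 (mem_centralizer_singleton_iff.2 ?_)
  have hxH : x ∈ H := hE.1 (hPE hx.1)
  have hx1 : x ≠ 1 := fun e => hs.out.ne_one (by rw [← hxo, e, orderOf_one])
  by_contra hkx
  by_cases hr1 : Cfsg.PRankLE s 1 H
  · haveI hPc := Tau.commutative_of_nilpotent hG hH (hPE.trans hE.1) hP.isNilpotent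
      fun r hr hd => hEσ r hr (hd.trans (card_dvd_of_le hPE))
    have hyP : k * x * k⁻¹ ∈ P := (mem_normalizer_iff.1 hkP x).1 hx.1
    have hyo : orderOf (k * x * k⁻¹) = s := by rw [conj_orderOf, hxo]
    have hWP : zpowers x ⊔ zpowers (k * x * k⁻¹) ≤ P := sup_le (zpowers_le.2 hx.1) (zpowers_le.2 hyP)
    have hW : Cfsg.IsElementaryAbelian s (zpowers x ⊔ zpowers (k * x * k⁻¹) : Subgroup G) :=
      CfsgLib.Thompson.elab_sup (CfsgLib.Thompson.elab_zpowers (by rw [← hxo, pow_orderOf_eq_one]))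
        (CfsgLib.Thompson.elab_zpowers (by rw [← hyo, pow_orderOf_eq_one])) fun e he =>
          mem_centralizer_iff.2 fun y hy => congrArg Subtype.val
            (hPc.is_comm.comm ⟨y, zpowers_le.2 hyP hy⟩ ⟨e, zpowers_le.2 hx.1 he⟩)
    have heq := eq_of_le_of_card_ge (le_sup_left : zpowers x ≤ zpowers x ⊔ zpowers (k * x * k⁻¹))
      ((Uniq.rankLE_elementary hr1 (hWP.trans (hPE.trans hE.1)) hW).trans (by
        rw [pow_one, Nat.card_zpowers, hxo]))
    have hkn : k ∈ normalizer (zpowers x : Set G) := by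
      refine Uniq.mem_normalizer_of_map_le ?_
      rw [MonoidHom.map_zpowers, zpowers_le]
      exact heq.ge (mem_sup_right (mem_zpowers _))
    have hfp : zpowers x ⊓ centralizer ({k} : Set G) = ⊥ := by
      by_contra h
      obtain ⟨t, ht, y, hy, hyo'⟩ := exists_order_prime h
      haveI := Fact.mk ht
      have h1 : zpowers y = zpowers x := eq_of_le_of_card_ge (zpowers_le.2 hy.1) (by
        rw [Nat.card_zpowers, Nat.card_zpowers, hyo', hxo]
        refine le_of_eq ((Nat.prime_dvd_prime_iff_eq ht hs.out).1 ?_).symm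
        rw [← hxo, ← hyo', ← Nat.card_zpowers x]
        exact (zpowers x).orderOf_dvd_natCard hy.1)
      exact hkx (mem_centralizer_singleton_iff.1 ((zpowers_le.2 hy.2 : zpowers y ≤ centralizer ({k} : Set G))
        (h1.ge (mem_zpowers x)))).symm
    have hkills := over_kills hG hM hKU hK1 hN hNK hKe hk hko hnU hH hnc hne hkH (zpowers_le.2 hxH) hkn hfp (by
      rw [Nat.card_zpowers, hxo]; exact hs.out.coprime_iff_not_dvd.2 (not_dvd_core hG hH hs.out hsσ))
    obtain ⟨w, hw, hw1⟩ := (bot_or_exists_ne_one (Cfsg.sigmaCore H)).resolve_left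
      (Tau.sigmaCore_ne_bot hG hH (one_lt_card_coatom hG hH))
    exact (over_tau_two hG hM hKU hK1 hN hNK hKe hk hko hnU hH hnc hne hkH hxH hxo hsσ hw hw1
      (show Commute x w from mem_centralizer_iff.1 (hkills hw) x (mem_zpowers x))).2.2.2 hr1
  have hτ : s ∈ Cfsg.tau2 H :=
    ⟨hs.out, hsσ, by_contra fun h => hsσ (Sig.alpha_subset_sigma hG hH ⟨hs.out, h⟩), hr1⟩
  obtain ⟨B, hBH, hB, hB2⟩ := Uniq.exists_elementary hr1
  obtain ⟨g, hg, hgB⟩ := Tau.conj_into_of_product (π := {s}) (solvable_le hG hH le_rfl) hE.1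
    (map_subtype_le _ : Cfsg.sigmaCore H ≤ H) (TH.le_normalizer_core H)
    (by rw [sup_comm]; exact (Compl.card_eq hG hH hE).2.1.ge)
    (fun r hr hrt => hrt.symm ▸ not_dvd_core hG hH hs.out hsσ) hBH fun r hr hd => by
      rw [hB2] at hd
      exact (Nat.prime_dvd_prime_iff_eq hr hs.out).1 (hr.dvd_of_dvd_pow hd)
  have hA2 : Nat.card ↥(B.map (MulAut.conj g).toMonoidHom) = s ^ 2 := by
    rw [card_map_of_injective (MulAut.conj g).injective, hB2]
  have hA := Tau.elementary_map hB (MulAut.conj g).toMonoidHom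
  obtain ⟨hAk, -⟩ := over_plane hG hM hKU hK1 hN hNK hKe hk hko hnU hH hnc hne hkH hE hkE hτ hgB hA hA2
  obtain ⟨⟨-, hlines⟩, -, -⟩ := Cfsg.Agent.S1418.result hG H hH E hE s hτ _ ⟨hgB, hA, hA2⟩
  exact hkx (mem_centralizer_singleton_iff.1 (hAk (hlines (zpowers x) (zpowers_le.2 (hPE hx.1))
    (by rw [Nat.card_zpowers, hxo]) (mem_zpowers x)))).symm

end CfsgLib.OddLocal.Kap
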