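import Cfsg.Agent.OddLocal.KappaFree
import Cfsg.Agent.OddLocal.SigmaOrderP

/-!
Elements of prime order of `M_σ` fixed by an element of prime order of `τ₁(M)` lie under a unique maximal
subgroup.
-/

set_option autoImplicit false
set_option linter.style.haveILetI false
set_option linter.unusedSectionVars false

namespace CfsgLib.OddLocal.Kap

open Subgroup Cfsg CfsgLib.OddLocal
open scoped commutatorElement Pointwise

universe u

theorem prank_congr {p k : ℕ} {R R' : Type*} [Group R] [Finite R] [Group R'] [Finite R'] (e : R ≃* R')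
    (h : Cfsg.PRankLE p k R) : Cfsg.PRankLE p k R' := by
  intro A hA hAe
  haveI := hA
  have h' := h (A.map e.symm.toMonoidHom) (Subgroup.map_isMulCommutative _ _) (by
    rintro _ ⟨a, ha, rfl⟩; rw [← map_pow, hAe a ha, map_one])
  rwa [card_map_of_injective (MulEquiv.injective _)] at h'

theorem narrow_congr {p : ℕ} {R R' : Type*} [Group R] [Finite R] [Group R'] [Finite R'] (e : R ≃* R')
    (h : Cfsg.IsNarrow p R) : Cfsg.IsNarrow p R' := by
  rcases h with h | ⟨R₀, R₁, h0, h1, h2, h3, h4⟩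
  · exact Or.inl (prank_congr e h)
  · refine Or.inr ⟨R₀.map e.toMonoidHom, R₁.map e.toMonoidHom, ?_, ?_, ?_, ?_, ?_⟩
    · rw [card_map_of_injective (MulEquiv.injective _), h0]
    · haveI := h1
      exact isCyclic_of_surjective _ (e.toMonoidHom.subgroupMap_surjective R₁)
    · rw [← map_inf _ _ _ (MulEquiv.injective _), h2, Subgroup.map_bot]
    · rintro _ ⟨a, ha, rfl⟩ _ ⟨b, hb, rfl⟩
      rw [← map_mul, h3 a ha b hb, map_mul]
    · rw [← Subgroup.map_sup, h4]
      ext y
      constructor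
      · rintro ⟨x, hx, rfl⟩
        refine mem_centralizer_iff.2 ?_
        rintro _ ⟨a, ha, rfl⟩
        rw [← map_mul, mem_centralizer_iff.1 hx a ha, map_mul]
      · intro hy
        refine ⟨e.symm y, mem_centralizer_iff.2 fun a ha => e.injective ?_, e.apply_symm_apply y⟩
        rw [map_mul, map_mul, e.apply_symm_apply]
        exact mem_centralizer_iff.1 hy _ ⟨a, ha, rfl⟩

variable {G : Type u} [Group G] [Finite G]

/-- Fixed points of an element of prime order modulo a normal subgroup of coprime order lift. -/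
theorem lift_fixed {N : Subgroup G} {q : ℕ} [hq : Fact q.Prime] (hqN : ¬ q ∣ Nat.card N) {a w : G}
    (hao : orderOf a = q) (ha : a ∈ normalizer (N : Set G)) (hw : w * a * w⁻¹ * a⁻¹ ∈ N) :
    ∃ n ∈ N, Commute (n * w) a := by
  set b := w * a * w⁻¹ with hb
  have hA : zpowers a ≤ normalizer (N : Set G) := zpowers_le.2 ha
  set H := zpowers a ⊔ N with hH
  have haH : a ∈ H := mem_sup_left (mem_zpowers a)
  have hbH : b ∈ H := by
    rw [show b = (w * a * w⁻¹ * a⁻¹) * a by rw [hb]; group]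
    exact mul_mem (mem_sup_right hw) haH
  have hbo : orderOf b = q := by rw [hb, ← MulAut.conj_apply, MulEquiv.orderOf_eq, hao]
  have hdvd : Nat.card H ∣ q * Nat.card N := by
    have h := CfsgLib.Solvable.card_sup_dvd hA
    rwa [Nat.card_zpowers, hao] at h
  have hpg : ∀ {c : G}, orderOf c = q → c ∈ H → ∃ P : Sylow q H, (P : Subgroup H).map H.subtype = zpowers c := by
    intro c hc hcH
    have hp : IsPGroup q (zpowers c) := IsPGroup.of_card (n := 1) (by rw [Nat.card_zpowers, hc, pow_one])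
    refine ⟨(hp.comap_subtype (K := H)).toSylow fun hd => ?_, map_subgroupOf_eq_of_le (zpowers_le.2 hcH)⟩
    have h1 := CfsgLib.InvariantHall.relIndex_mul_card (zpowers_le.2 hcH)
    rw [Nat.card_zpowers, hc] at h1
    have h3 : (zpowers c).relIndex H ∣ Nat.card N := Nat.dvd_of_mul_dvd_mul_left hq.out.pos (by rw [h1]; exact hdvd)
    exact hqN (hd.trans h3)
  obtain ⟨P₁, hP₁⟩ := hpg hao haH
  obtain ⟨P₂, hP₂⟩ := hpg hbo hbH
  obtain ⟨⟨h, hhH⟩, hh⟩ := MulAction.exists_smul_eq H P₂ P₁
  have hmem : h * b * h⁻¹ ∈ zpowers a := by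
    rw [← hP₁, ← hh, Sylow.coe_subgroup_smul]
    obtain ⟨b', hb', e⟩ := (hP₂.ge (mem_zpowers b) : b ∈ (P₂ : Subgroup H).map H.subtype)
    exact ⟨MulAut.conj ⟨h, hhH⟩ b', smul_mem_pointwise_smul _ _ _ hb', by rw [← e]; rfl⟩
  obtain ⟨c, hc, m, hm, rfl⟩ := (CfsgLib.Solvable.mem_sup_of_le_normalizer hA).1 hhH
  refine ⟨m, hm, ?_⟩
  have h1 : m * b * m⁻¹ ∈ zpowers a := by
    have := mul_mem (mul_mem (inv_mem hc) hmem) hc
    rwa [show c⁻¹ * (c * m * b * (c * m)⁻¹) * c = m * b * m⁻¹ by group] at this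
  have h2 : m * b * m⁻¹ * a⁻¹ ∈ zpowers a ⊓ N := by
    refine ⟨(zpowers a).mul_mem h1 ((zpowers a).inv_mem (mem_zpowers a)), ?_⟩
    rw [show m * b * m⁻¹ * a⁻¹ = m * (b * a⁻¹) * (a * m⁻¹ * a⁻¹) by group]
    exact N.mul_mem (N.mul_mem hm hw) ((mem_normalizer_iff.1 ha _).1 (N.inv_mem hm))
  rw [disjoint_iff.1 (disjoint_of_coprime_natCard (show (Nat.card (zpowers a)).Coprime (Nat.card N) by
    rw [Nat.card_zpowers, hao]; exact hq.out.coprime_iff_not_dvd.2 hqN)), mem_bot, mul_inv_eq_one] at h2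
  show m * w * a = a * (m * w)
  calc m * w * a = (m * b * m⁻¹) * (m * w) := by rw [hb]; group
    _ = a * (m * w) := by rw [h2]

variable (hG : Cfsg.IsMinSimpleOddOrder G)
include hG

/-- A `p'`-group over a `τ₁`-element normalizing a Sylow subgroup of `M_σ` centralizes its fixed points,
for primes outside `β(M)`. -/
theorem complement_centralizes {M : Subgroup G} (hM : IsCoatom M) {q : ℕ} [hq : Fact q.Prime]
    (hq1 : q ∈ Cfsg.tau1 M) {a : G} (hao : orderOf a = q) {s : ℕ} [hs : Fact s.Prime] {S V : Subgroup G}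
    (hSK : S ≤ Cfsg.sigmaCore M) (hSp : IsPGroup s S) (hsσ : s ∈ Cfsg.sigma M) (hβ : s ∉ Cfsg.beta M)
    (hnar : Cfsg.IsNarrow s S) (hVM : V ≤ M) (hVS : V ≤ normalizer (S : Set G)) (haV : a ∈ V)
    (hsV : ¬ s ∣ Nat.card V) {x : G} (hxS : x ∈ S) (hx1 : x ≠ 1) (hxa : Commute x a) :
    V ≤ centralizer ({x} : Set G) := by
  classical
  set K := Cfsg.sigmaCore M with hK
  have hKM : K ≤ M := map_subtype_le _
  have hxK : x ∈ K := hSK hxS
  have hsM : s ∣ Nat.card M := hsσ.2.1
  have hs2 : s ≠ 2 := CfsgLib.CN.MinSimple.p_ne_two hG (hsM.trans M.card_subgroup_dvd_card)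
  have hac : Nat.card (zpowers a) = q := by rw [Nat.card_zpowers, hao]
  have hVd := derived_centralizes hs2 hSp hnar hVS (hG.1.of_dvd_nat (card_subgroup_dvd_card _)) hsV
  -- the `σ'`-part
  have hVs : Group.IsSolvable V := solvable_le hG hM hVM
  obtain ⟨W, hW, haW⟩ := exists_hall_over (π := {r | r ∉ Cfsg.sigma M}) hVs (zpowers_le.2 haV) fun r hr hd =>
    (Nat.prime_dvd_prime_iff_eq hr hq.out).1 (hac ▸ hd) ▸ hq1.2.1
  rw [zpowers_le] at haW
  have hWM : W ≤ M := hW.1.trans hVM
  obtain ⟨E, hE, hWE⟩ := Tau.exists_complement_of hG hM hWM hW.2.1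
  have hCW : W ≤ centralizer ({x} : Set G) := by
    set D := ⁅W, W⁆ with hD
    have hDx : D ≤ centralizer ({x} : Set G) := ((commutator_mono hW.1 hW.1).trans hVd).trans
      (centralizer_le (Set.singleton_subset_iff.2 hxS))
    have hqD : ¬ q ∣ Nat.card D := fun h => hq1.2.2.2.1 (h.trans (card_dvd_of_le (commutator_mono hWM hWM)))
    have hCa : W ⊓ centralizer ({a} : Set G) ≤ centralizer ({x} : Set G) :=
      PrimeFit.le_of_prime_power fun t ht c hc ⟨j, hco⟩ => by
        haveI := Fact.mk ht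
        rcases Nat.eq_zero_or_pos j with hj | hj
        · rw [hj, pow_zero, orderOf_eq_one_iff] at hco
          exact hco ▸ one_mem _
        have htE : t ∣ Nat.card E := (dvd_pow_self t hj.ne').trans
          (hco ▸ (by rw [← Nat.card_zpowers]; exact card_dvd_of_le (zpowers_le.2 (hWE hc.1))))
        have hca : Commute c a := mem_centralizer_singleton_iff.1 hc.2
        refine mem_centralizer_singleton_iff.2 ?_
        have hfin : Cfsg.PRankLE t 1 M → c * x = x * c := fun hr => (mem_centralizer_singleton_iff.1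
          (fixed_le_prime_power hG hM hE hq1 (hWE haW) hao hr (hWE hc.1) hco hca
            ⟨hxK, mem_centralizer_singleton_iff.2 hxa.eq⟩)).symm
        rcases Tau.tau_cases hG hM hE ht htE with h1 | h2 | h3
        · exact hfin h1.2.2.2.2
        · exfalso
          obtain ⟨A, T, hA, hA2, hT, hAT, hcT, hTE, hTd⟩ := Tau.exists_sylow_data hG hM hE h2
            (IsPGroup.of_card (n := j) (by rw [Nat.card_zpowers, hco])) (zpowers_le.2 (hWE hc.1))
          obtain ⟨i, rfl⟩ := Nat.exists_eq_add_of_le hj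
          rw [add_comm] at hco
          have hdo := orderOf_pow_bottom hco
          have hdA : c ^ t ^ i ∈ A := (Cfsg.Agent.S1418.result hG M hM E hE t h2 A ⟨hAT.trans hTE, hA, hA2⟩).1.2 _
            (zpowers_le.2 (pow_mem (hWE hc.1) _)) (by rw [Nat.card_zpowers, hdo]) (mem_zpowers _)
          have hbot := tau_two_fixed hG hM hE h2 hA hA2 (hAT.trans hTE) hq1 (hWE haW) hao
            fun e => hx1
              (mem_bot.1 (e.le ⟨hxK, mem_centralizer_singleton_iff.2 hxa.eq⟩))
          have := hbot.le ⟨hdA, mem_centralizer_singleton_iff.2 (hca.pow_left _).eq⟩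
          rw [mem_bot, ← orderOf_eq_one_iff, hdo] at this
          exact ht.ne_one this
        · exact hfin h3.2.2.2
    intro w hw
    obtain ⟨n, hn, hnw⟩ := lift_fixed hqD hao (normalizer_commutator_ge_left W W haW)
      (N := D) (w := w) (by rw [← commutatorElement_def]; exact commutator_mem_commutator hw haW)
    have hnW : n ∈ W := commutator_le.2 (fun g₁ h₁ g₂ h₂ =>
      W.mul_mem (W.mul_mem (W.mul_mem h₁ h₂) (W.inv_mem h₁)) (W.inv_mem h₂)) hn
    have h := hCa ⟨W.mul_mem hnW hw, mem_centralizer_singleton_iff.2 hnw.eq⟩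
    have := mul_mem (inv_mem (hDx hn)) h
    rwa [inv_mul_cancel_left] at this
  refine Excep.le_of_sylows fun t ht htV => ?_
  haveI := Fact.mk ht
  by_cases htσ : t ∈ Cfsg.sigma M
  · obtain ⟨P⟩ : Nonempty (Sylow t V) := inferInstance
    set T := (P : Subgroup V).map V.subtype
    refine ⟨T, le_inf (map_subtype_le _) ?_, by
      rw [relIndex, ← comap_subtype, comap_map_eq_self_of_injective V.subtype_injective]
      exact P.not_dvd_index⟩
    have hTV : T ≤ V := map_subtype_le _
    have hTp : IsPGroup t T := P.2.map _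
    have hTK : T ≤ K := Excep.le_sigmaCore hG hM (hTV.trans hVM) (Excep.primes_of_pgroup hTp htσ)
    have hts : t ≠ s := fun e => hsV (e ▸ htV)
    obtain ⟨k, hk⟩ := Beta.npc_index (Beta.npc_sigma hG hM hs.out hsM hβ)
    have hTO : T ≤ Excep.opc s K := Excep.pgroup_le_opc hTp hTK fun h =>
      hts ((Nat.prime_dvd_prime_iff_eq ht hs.out).1 (ht.dvd_of_dvd_pow (hk ▸ h)))
    have hc1 : ⁅T, S⁆ ≤ S := by
      rw [commutator_comm]
      exact le_normalizer_iff_commutator_le_left.1 (hTV.trans hVS)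
    have hc2 : ⁅T, S⁆ ≤ Excep.opc s K := (commutator_mono hTO le_rfl).trans
      (le_normalizer_iff_commutator_le_left.1 (hSK.trans (Excep.le_normalizer_opc s K)))
    have hdis : S ⊓ Excep.opc s K = ⊥ := disjoint_iff.1 (disjoint_of_coprime_natCard (Excep.coprime_of_pgroup hSp
      (hs.out.coprime_iff_not_dvd.1 (Excep.opc_coprime s K).symm)))
    exact (commutator_eq_bot_iff_le_centralizer.1 (le_bot_iff.1 ((le_inf hc1 hc2).trans hdis.le))).trans
      (centralizer_le (Set.singleton_subset_iff.2 hxS))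
  · obtain ⟨P⟩ : Nonempty (Sylow t W) := inferInstance
    set T := (P : Subgroup W).map W.subtype
    have hTW : T ≤ W := map_subtype_le _
    refine ⟨T, le_inf (hTW.trans hW.1) (hTW.trans hCW), ?_⟩
    rw [← relIndex_mul_relIndex T W V hTW hW.1]
    intro hd
    rcases ht.dvd_mul.1 hd with h | h
    · rw [relIndex, ← comap_subtype, comap_map_eq_self_of_injective W.subtype_injective] at h
      exact P.not_dvd_index h
    · exact hW.2.2 t ht htσ h

/-- Above the centralizer of an element of prime order of `M_σ` fixed by a `τ₁`-element there is only `M`. -/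
theorem fixed_unique {M : Subgroup G} (hM : IsCoatom M) {q : ℕ} [hq : Fact q.Prime] (hq1 : q ∈ Cfsg.tau1 M)
    {a : G} (haM : a ∈ M) (hao : orderOf a = q) {s : ℕ} [hs : Fact s.Prime] {x : G} (hxK : x ∈ Cfsg.sigmaCore M)
    (hxo : orderOf x = s) (hxa : Commute x a) :
    (centralizer ({x} : Set G) ≤ M ∧ ∀ L : Subgroup G, IsCoatom L → centralizer ({x} : Set G) ≤ L → L = M) ∧
      ∀ P : Subgroup G, IsPGroup s P → P ≤ Cfsg.sigmaCore M → ¬ s ∣ P.relIndex (Cfsg.sigmaCore M) →
        Cfsg.InUniqueMaximal P := by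
  classical
  set K := Cfsg.sigmaCore M with hK
  have hKM : K ≤ M := map_subtype_le _
  have hsσ : s ∈ Cfsg.sigma M := (Sig.sigma_core hG hM).1.2.1 s hs.out
    (hxo ▸ (by rw [← Nat.card_zpowers]; exact card_dvd_of_le (zpowers_le.2 hxK)))
  have hsM : s ∣ Nat.card M := hsσ.2.1
  have hs2 : s ≠ 2 := CfsgLib.CN.MinSimple.p_ne_two hG (hsM.trans M.card_subgroup_dvd_card)
  have hqs : q ≠ s := fun e => hq1.2.1 (e ▸ hsσ)
  have hX : Nat.card (zpowers x) = s := by rw [Nat.card_zpowers, hxo]
  suffices h : s ∈ Cfsg.beta M ∨ zpowers x ≤ ⁅K, K⁆ by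
    have hmain := fun P hP hPK hPd => Tau.order_p_unique hG hM hsσ (zpowers_le.2 (hKM hxK)) hX (P := P) hP hPK hPd h
    have hCx : centralizer (zpowers x : Set G) = centralizer ({x} : Set G) :=
      le_antisymm (FixedLine.centralizer_zpowers_le x) (FixedLine.le_centralizer_zpowers le_rfl)
    refine ⟨?_, fun P hP hPK hPd => (hmain P hP hPK hPd).2⟩
    obtain ⟨S₀⟩ : Nonempty (Sylow s K) := inferInstance
    rw [← hCx]
    exact (hmain _ (S₀.2.map K.subtype) (map_subtype_le _) (by
      rw [relIndex, ← comap_subtype, comap_map_eq_self_of_injective K.subtype_injective]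
      exact S₀.not_dvd_index)).1
  by_cases hβ : s ∈ Cfsg.beta M
  · exact Or.inl hβ
  refine Or.inr (zpowers_le.2 ?_)
  -- an invariant Sylow subgroup over `x`
  have hKs : Group.IsSolvable K := solvable_le hG hM hKM
  have haK : a ∈ normalizer (K : Set G) := TH.le_normalizer_core M haM
  have hac : Nat.card (zpowers a) = q := by rw [Nat.card_zpowers, hao]
  obtain ⟨S, hxS, hSK, hSp, haS, hSd⟩ := Excep.exists_inv_sylow (t := s) (zpowers_le.2 haK)
    (by rw [hac]; exact hq.out.coprime_iff_not_dvd.2 (not_dvd_core hG hM hq.out hq1.2.1)) (Or.inr hKs)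
    (zpowers_le.2 hxK) (IsPGroup.of_card (n := 1) (by rw [hX, pow_one])) (zpowers_le.2
      (centralizer_le_normalizer _ (FixedLine.le_centralizer_zpowers le_rfl
        (mem_centralizer_singleton_iff.2 hxa.symm.eq))))
  rw [zpowers_le] at hxS haS
  have hSM : S ≤ M := hSK.trans hKM
  have hSi : ¬ s ∣ S.index := Excep.index_not_dvd hSK hSd ((Sig.sigma_core hG hM).2.1.2 s hs.out hsσ)
  let R : Sylow s G := hSp.toSylow hSi
  have hR1 : (R : Subgroup G) ≠ ⊥ := Sig.sylow_ne_bot hsσ R
  have hNM : normalizer (S : Set G) ≤ M := Sig.normalizer_sylow_le hsσ R hSM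
  have hnar : Cfsg.IsNarrow s S := by
    have hd : ¬ s ∣ (S.subgroupOf M).index := fun h =>
      hSi (h.trans (Dvd.intro _ (relIndex_mul_index hSM)))
    exact narrow_congr (subgroupOfEquivOfLe hSM)
      (Beta.narrow_of_not_beta hG hM hsM hβ ((hSp.comap_subtype (K := M)).toSylow hd))
  obtain ⟨V, hVS, haV, hsV, -, hfix⟩ := exists_normalizer_complement hG R hR1 (X := zpowers a) (zpowers_le.2 haS)
    (by rw [hac]; exact fun hd => hqs ((Nat.prime_dvd_prime_iff_eq hs.out hq.out).1 hd).symm)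
  rw [zpowers_le] at haV
  have hVM : V ≤ M := hVS.trans hNM
  have hVx := complement_centralizes hG hM hq1 hao hSK hSp hsσ hβ hnar hVM hVS haV hsV hxS
    (fun e => hs.out.ne_one (by rw [← hxo, e, orderOf_one])) hxa
  exact commutator_mono hSK hSK (hfix ⟨hxS, le_centralizer_iff.1 (hVx.trans (FixedLine.le_centralizer_zpowers le_rfl))
    (mem_zpowers x)⟩)

end CfsgLib.OddLocal.Kap
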