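import Cfsg.Agent.OddLocal.KappaPairApps

/-!
The conjugates of the mixed elements inside `M` (BG Theorem C).
-/

set_option autoImplicit false
set_option linter.style.haveILetI false
set_option linter.unusedSectionVars false

namespace CfsgLib.OddLocal.Kap

open Subgroup Cfsg CfsgLib.OddLocal
open scoped commutatorElement Pointwise

universe u

variable {G : Type u} [Group G] [Finite G]
variable (hG : Cfsg.IsMinSimpleOddOrder G)
include hG

/-- The mixed elements, described without nodes. -/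
theorem mixed_eq_diff {M H : Subgroup G} (hM : IsCoatom M) (hH : Cfsg.IsPiHallOf (Cfsg.kappa M) H M) (hH1 : H ≠ ⊥) :
    mixed (H ⊔ star M H) = ((H ⊔ star M H : Subgroup G) : Set G) \ ((H : Set G) ∪ (star M H : Set G)) := by
  obtain ⟨N, hN, hNH, hHe, -, -⟩ := exists_partner hG hM hH hH1
  exact mixed_eq hG hM hH hH1 hN hNH hHe

/-- The elements of `M` outside `U M_σ` not conjugate into `K`. -/
theorem zhat_eq {M K U : Subgroup G} (hM : IsCoatom M) (hKU : Cfsg.IsSigmaDecomposition M K U) (hK1 : K ≠ ⊥) :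
    {a : G | ∃ m ∈ M, ∃ z ∈ ((↑(K ⊔ star M K) : Set G) \ ((K : Set G) ∪ ↑(star M K))), a = m * z * m⁻¹}
      = Cfsg.sigmaA0 M K \ Cfsg.sigmaA M U := by
  have hH := hKU.hall
  have hn := decomp_normal hG hM hKU
  have hUM : U ⊔ Cfsg.sigmaCore M ≤ M := sup_le hKU.compl.1 (map_subtype_le _)
  have hUH := decomp_hall hG hM hKU
  have hKd : ∀ k ∈ K, k ∈ U ⊔ Cfsg.sigmaCore M → k = 1 := fun k hk hk' => by
    have hco : (Nat.card K).Coprime (Nat.card ↥(U ⊔ Cfsg.sigmaCore M)) := Nat.coprime_of_dvd fun q hq h1 h2 => by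
      have hκ := hH.2.1 q hq h1
      rcases hq.dvd_mul.1 (h2.trans (CfsgLib.Solvable.card_sup_dvd (hUH.1.trans (TH.le_normalizer_core M)))) with h | h
      · exact (hUH.2.1 q hq h).2.1 hκ
      · exact not_dvd_core hG hM hq hκ.2.2.1 h
    have h1 : k ∈ K ⊓ (U ⊔ Cfsg.sigmaCore M) := ⟨hk, hk'⟩
    rwa [disjoint_iff.1 (disjoint_of_coprime_natCard hco), Subgroup.mem_bot] at h1
  refine Set.ext fun a => ⟨?_, ?_⟩
  · rintro ⟨m, hm, z, ⟨hz, hzn⟩, rfl⟩
    obtain ⟨b, hb, c, hc, hcomm, rfl⟩ := mem_star_sup hz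
    have hb1 : b ≠ 1 := fun e => hzn (Or.inr (by rw [e, mul_one]; exact hc))
    have hc1 : c ≠ 1 := fun e => hzn (Or.inl (by rw [e, one_mul]; exact hb))
    have hcS : c ∈ Cfsg.sigmaCore M := hc.1
    have hnS : ∀ v : G, v ∈ Cfsg.sigmaCore M ↔ m * v * m⁻¹ ∈ Cfsg.sigmaCore M :=
      mem_normalizer_iff.1 (TH.le_normalizer_core M hm)
    have hnot : m * (c * b) * m⁻¹ ∉ U ⊔ Cfsg.sigmaCore M := fun h => by
      have h' := (mem_normalizer_iff.1 (hn hm) _).2 h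
      refine hb1 (hKd b hb ?_)
      have := (U ⊔ Cfsg.sigmaCore M).mul_mem (inv_mem (mem_sup_right hcS : c ∈ U ⊔ Cfsg.sigmaCore M)) h'
      rwa [inv_mul_cancel_left] at this
    refine ⟨⟨⟨?_, m * c * m⁻¹, (hnS c).1 hcS, fun e => hc1 (conj_eq_one_iff.1 e), ?_⟩, ?_⟩, fun h => hnot h.2⟩
    · exact M.mul_mem (M.mul_mem hm (M.mul_mem (map_subtype_le _ hcS) (hH.1 hb))) (M.inv_mem hm)
    · exact ((((Commute.refl c).mul_left hcomm.symm)).map (MulAut.conj m).toMonoidHom).eq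
    · rintro ⟨k, hk, hk1, m', hm', e⟩
      obtain ⟨p, hp, hpd⟩ := Nat.exists_prime_and_dvd (fun e => hc1 (orderOf_eq_one_iff.1 e))
      have hco : (orderOf c).Coprime (orderOf b) := Nat.coprime_of_dvd fun q hq h1 h2 =>
        (hH.2.1 q hq (h2.trans (K.orderOf_dvd_natCard hb))).2.2.1 (sigma_of_order hG hM hcS q hq h1)
      have hd : p ∣ orderOf k := by
        rw [← conj_orderOf m' k, ← e, conj_orderOf, hcomm.orderOf_mul_eq_mul_orderOf_of_coprime hco]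
        exact hpd.trans (dvd_mul_right _ _)
      exact (hH.2.1 p hp (hd.trans (K.orderOf_dvd_natCard hk))).2.2.1 (sigma_of_order hG hM hcS p hp hpd)
  · rintro ⟨⟨⟨haM, y, hy, hy1, hay⟩, hnK⟩, hnA⟩
    have haA : a ∉ U ⊔ Cfsg.sigmaCore M := fun h => hnA ⟨⟨haM, y, hy, hy1, hay⟩, h⟩
    obtain ⟨b, c, hb, hc, -, e, hbκ, hcκ⟩ := exists_pi_parts (Cfsg.kappa M) a
    have hbM : b ∈ M := zpowers_le.2 haM hb
    have hcM : c ∈ M := zpowers_le.2 haM hc
    have hcA : c ∈ U ⊔ Cfsg.sigmaCore M := Excep.le_of_hall hUM hn (zpowers_le.2 hcM : zpowers c ≤ M)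
      (Nat.coprime_of_dvd fun q hq h1 h2 => by
        rw [Nat.card_zpowers] at h1
        have hσ : q ∉ Cfsg.sigma M := fun hs =>
          (Sig.sigma_core hG hM).1.2.2 q hq hs (h2.trans (relIndex_dvd_of_le_left M le_sup_right))
        exact hUH.2.2 q hq ⟨hq, hcκ q hq h1, hσ⟩ (h2.trans (relIndex_dvd_of_le_left M le_sup_left))) (mem_zpowers c)
    have hb1 : b ≠ 1 := fun h => haA (by rw [e, h, one_mul]; exact hcA)
    obtain ⟨m, hm, hmK⟩ := kappa_conj_into hG hM hH (Y := zpowers b) (zpowers_le.2 hbM)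
      (fun q hq hd => hbκ q hq (by rwa [Nat.card_zpowers] at hd))
    have hbK : m * b * m⁻¹ ∈ K := hmK ⟨b, mem_zpowers b, rfl⟩
    have hab : Commute a b := by
      obtain ⟨i, rfl⟩ := mem_zpowers_iff.1 hb
      exact (Commute.refl a).zpow_right i
    have hz : m * a * m⁻¹ ∈ K ⊔ star M K := by
      rw [← meet_centralizer hG hM hH hK1 hbK (fun h => hb1 (conj_eq_one_iff.1 h))]
      exact ⟨M.mul_mem (M.mul_mem hm haM) (M.inv_mem hm),
        mem_centralizer_singleton_iff.2 (hab.map (MulAut.conj m).toMonoidHom).eq⟩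
    refine ⟨m⁻¹, M.inv_mem hm, m * a * m⁻¹, ⟨hz, ?_⟩, by group⟩
    rintro (h | h)
    · refine hnK ⟨m * a * m⁻¹, h, fun h1 => haA ?_, m⁻¹, M.inv_mem hm, by group⟩
      rw [conj_eq_one_iff.1 h1]
      exact one_mem _
    · exact haA ((mem_normalizer_iff.1 (hn hm) a).2 (mem_sup_right h.1))

/-- `A₀(M) \ A(M)` is a TI-set. -/
theorem zhat_ti {M K U : Subgroup G} (hM : IsCoatom M) (hKU : Cfsg.IsSigmaDecomposition M K U) (hK1 : K ≠ ⊥) :
    Cfsg.IsTISubset (Cfsg.sigmaA0 M K \ Cfsg.sigmaA M U) := by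
  have hH := hKU.hall
  rw [← zhat_eq hG hM hKU hK1, ← mixed_eq_diff hG hM hH hK1]
  intro g hg w hw hgw
  refine absurd ?_ hg
  obtain ⟨m, hm, z, hz, rfl⟩ := hw
  obtain ⟨m', hm', z', hz', e⟩ := hgw
  have hmem : m'⁻¹ * g * m ∈ K ⊔ star M K := (isNode_self hG hM hH hK1).mixed_ti hG hz (by
    rw [show m'⁻¹ * g * m * z * (m'⁻¹ * g * m)⁻¹ = m'⁻¹ * (g * (m * z * m⁻¹) * g⁻¹) * m' by group, e]
    rwa [show m'⁻¹ * (m' * z' * m'⁻¹) * m' = z' by group])
  have hgM : g ∈ M := by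
    rw [show g = m' * (m'⁻¹ * g * m) * m⁻¹ by group]
    exact M.mul_mem (M.mul_mem hm' (sup_le hH.1 (inf_le_left.trans (map_subtype_le _)) hmem)) (M.inv_mem hm)
  refine Subgroup.mem_set_normalizer_iff.2 fun a => ⟨?_, ?_⟩
  · rintro ⟨n, hn, v, hv, rfl⟩
    exact ⟨g * n, M.mul_mem hgM hn, v, hv, by group⟩
  · rintro ⟨n, hn, v, hv, e'⟩
    exact ⟨g⁻¹ * n, M.mul_mem (M.inv_mem hgM) hn, v, hv, by
      rw [show a = g⁻¹ * (g * a * g⁻¹) * g by group, e']; group⟩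

end CfsgLib.OddLocal.Kap
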