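import Cfsg.Agent.OddLocal.TauTwoNonabelian

/-!
Noncyclic `p`-subgroups for `p ∈ σ(M)`, and uniqueness of the maximal subgroup above a nonabelian `p`-subgroup.
-/

set_option autoImplicit false
set_option linter.style.haveILetI false
set_option linter.unusedSectionVars false

namespace CfsgLib.OddLocal.Tau

open Subgroup Cfsg CfsgLib.OddLocal
open scoped commutatorElement

universe u

variable {G : Type u} [Group G] [Finite G] {p : ℕ} [hp : Fact p.Prime] (hG : Cfsg.IsMinSimpleOddOrder G)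
include hG

/-- The normalizer of a noncyclic `p`-subgroup of `M`, `p ∈ σ(M)`, lies in `M`. -/
theorem normalizer_le_of_noncyclic {M P : Subgroup G} (hM : IsCoatom M) (hpσ : p ∈ Cfsg.sigma M)
    (hP : IsPGroup p P) (hPM : P ≤ M) (hnc : ¬ IsCyclic P) : normalizer (P : Set G) ≤ M := by
  have hp2 : p ≠ 2 := CfsgLib.CN.MinSimple.p_ne_two hG (hpσ.2.1.trans M.card_subgroup_dvd_card)
  obtain ⟨E, hEP, hE, hE2⟩ := Uniq.exists_sq hp2 hP hnc
  intro g hg
  have e : P.map (MulAut.conj g).toMonoidHom = P := mem_normalizer_iff_map_conj_eq.1 hg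
  obtain ⟨m, hm, c, hc, rfl⟩ := Sig.fusion_in hG hM hpσ hP hPM g (e.le.trans hPM)
  exact mul_mem hm (centralizer_le_coatom hG hE hE2 hM (hEP.trans hPM) (centralizer_le hEP hc))

/-- Subgroups of prime power order prime to `σ(M)` are abelian. -/
theorem commutative_of_not_sigma {M U : Subgroup G} (hM : IsCoatom M) (hpσ : p ∉ Cfsg.sigma M)
    (hU : IsPGroup p U) (hUM : U ≤ M) : IsMulCommutative U := by
  by_cases hU1 : U = ⊥
  · subst hU1
    exact ⟨⟨fun a b => Subtype.ext (by simp [Subgroup.mem_bot.1 a.2, Subgroup.mem_bot.1 b.2])⟩⟩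
  have hp2 : p ≠ 2 := CfsgLib.CN.MinSimple.p_ne_two hG
    ((Excep.isPGroup_ne_bot_dvd hU hU1).trans U.card_subgroup_dvd_card)
  have hr2 : Cfsg.PRankLE p 2 M := by_contra fun h => hpσ (Sig.alpha_subset_sigma hG hM ⟨hp.out, h⟩)
  by_cases hr1 : Cfsg.PRankLE p 1 M
  · haveI := Compl.cyclic_of_rank_one hp2 hU (Uniq.rankLE_mono hUM hr1)
    infer_instance
  · obtain ⟨A, hAM, hA, hA2⟩ := Uniq.exists_elementary hr1
    replace hA2 : Nat.card A = p ^ 2 := hA2
    exact commutative_of_le hA hA2 hG hM hAM hpσ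
      ((Cfsg.Agent.S1408.result hG M hM p hpσ hr2 hr1).2 A hAM hA hA2) hr2 hU hUM

theorem sigma_of_nonabelian {M P : Subgroup G} (hM : IsCoatom M) (hP : IsPGroup p P) (hPM : P ≤ M)
    (hna : ¬ IsMulCommutative P) : p ∈ Cfsg.sigma M :=
  by_contra fun h => hna (commutative_of_not_sigma hG hM h hP hPM)

theorem not_cyclic_of_nonabelian {P : Subgroup G} (hna : ¬ IsMulCommutative P) : ¬ IsCyclic P := fun h => hna (by
  haveI := h; infer_instance)

/-- A nonabelian Sylow subgroup of rank two, as a central product. -/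
theorem rank_two_sylow (Ps : Sylow p G) (hr : Cfsg.PRankLE p 2 (Ps : Subgroup G))
    (hna : ¬ IsMulCommutative (Ps : Subgroup G)) :
    ∃ R₁ : Subgroup G, R₁ ≤ Ps ∧ ¬ IsMulCommutative R₁ ∧ (∀ x ∈ R₁, x ^ p = 1) ∧
      (∀ c ∈ ⁅R₁, R₁⁆, ∀ h ∈ (Ps : Subgroup G), Commute h c) ∧
      ⁅(Ps : Subgroup G), (Ps : Subgroup G)⁆ ≤ ⁅R₁, R₁⁆ := by
  classical
  set R := (Ps : Subgroup G) with hR
  have hR1 : R ≠ ⊥ := fun e => hna ⟨⟨fun a b => Subtype.ext (by
    simp [Subgroup.mem_bot.1 (e.le a.2), Subgroup.mem_bot.1 (e.le b.2)])⟩⟩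
  have hp2 : p ≠ 2 := CfsgLib.CN.MinSimple.p_ne_two hG
    ((Excep.isPGroup_ne_bot_dvd Ps.2 hR1).trans R.card_subgroup_dvd_card)
  set N := normalizer (R : Set G)
  have hidx : ¬ p ∣ R.relIndex N := fun h =>
    Ps.not_dvd_index (h.trans (Dvd.intro _ (relIndex_mul_index (le_normalizer : R ≤ N))))
  haveI : (R.subgroupOf N).Normal := normal_in_normalizer
  have hcopN : (Nat.card (R.subgroupOf N)).Coprime (R.subgroupOf N).index := by
    rw [Nat.card_congr (subgroupOfEquivOfLe (le_normalizer : R ≤ N)).toEquiv]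
    exact Excep.coprime_of_pgroup Ps.2 hidx
  obtain ⟨V₀, hV₀⟩ := Subgroup.exists_right_complement'_of_coprime hcopN
  have hV : Cfsg.IsComplIn R (V₀.map N.subtype) N := by
    refine ⟨le_normalizer, map_subtype_le _, (eq_bot_iff_forall _).2 ?_, fun m hm => ?_⟩
    · rintro _ ⟨hx, y, hy, rfl⟩
      have hy1 : y = 1 := Subgroup.mem_bot.1 (hV₀.disjoint.le_bot ⟨hx, hy⟩)
      rw [hy1, map_one]
    · obtain ⟨⟨r, v⟩, hrv, -⟩ := hV₀.existsUnique ⟨m, hm⟩
      exact ⟨_, r.2, _, mem_map_of_mem _ v.2, (congrArg Subtype.val hrv).symm⟩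
  have hVd : ¬ p ∣ Nat.card (V₀.map N.subtype) := by
    rw [card_map_of_injective N.subtype_injective, ← hV₀.symm.index_eq_card]
    exact hidx
  obtain ⟨-, hcase⟩ := Cfsg.Agent.S1448.result p hp2 R (V₀.map N.subtype) Ps.2 hR1 hr (map_subtype_le _)
    ((hp.out.coprime_iff_not_dvd.2 hVd).symm) (hG.1.of_dvd_nat (card_subgroup_dvd_card _))
    (PLenOne.sylow_commutator hG Ps hV).1.symm
  rcases hcase with hc | ⟨R₁, R₂, hsup, hcomm, hnc, -, hexp, hcyc, hclo⟩
  · exact absurd hc hna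
  haveI := hcyc
  refine ⟨R₁, hsup ▸ le_sup_left, hnc, fun x hx => ?_, fun c hc h hh => ?_, ?_⟩
  · have := Monoid.pow_exponent_eq_one (⟨x, hx⟩ : R₁)
    rw [hexp] at this
    exact congrArg Subtype.val this
  · have hc2 : c ∈ R₂ := closure_le (K := R₂) |>.2 (fun y hy => hy.1) (hclo ▸ hc)
    have hle : R₁ ⊔ R₂ ≤ centralizer ({c} : Set G) := sup_le
      (fun x hx => mem_centralizer_singleton_iff.2 (hcomm x hx c hc2))
      fun x hx => mem_centralizer_singleton_iff.2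
        (congrArg Subtype.val (IsMulCommutative.is_comm.comm (⟨x, hx⟩ : R₂) ⟨c, hc2⟩))
    exact mem_centralizer_singleton_iff.1 (hle (hsup.ge hh))
  · have hn : R₁ ≤ normalizer (R₂ : Set G) := le_trans
      (fun a ha => mem_centralizer_iff.2 fun b hb => (hcomm a ha b hb).symm) (centralizer_le_normalizer _)
    rw [commutator_le]
    intro x hx y hy
    rw [← hsup] at hx hy
    obtain ⟨r, hr', s, hs, rfl⟩ := (CfsgLib.Solvable.mem_sup_of_le_normalizer hn).1 hx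
    obtain ⟨r', hr'', s', hs', rfl⟩ := (CfsgLib.Solvable.mem_sup_of_le_normalizer hn).1 hy
    have e1 : Commute s r' := (hcomm r' hr'' s hs).symm
    have e2 : Commute r s' := hcomm r hr' s' hs'
    have e3 : Commute s s' := congrArg Subtype.val (IsMulCommutative.is_comm.comm (⟨s, hs⟩ : R₂) ⟨s', hs'⟩)
    have e4 : Commute r' s := e1.symm
    have e5 : Commute r' s' := hcomm r' hr'' s' hs'
    have e : ⁅r * s, r' * s'⁆ = ⁅r, r'⁆ := by
      rw [commutatorElement_def, commutatorElement_def]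
      calc r * s * (r' * s') * (r * s)⁻¹ * (r' * s')⁻¹ = r * (s * (r' * s') * s⁻¹) * r⁻¹ * (r' * s')⁻¹ := by group
        _ = r * r' * (s' * r⁻¹ * s'⁻¹) * r'⁻¹ := by rw [(e1.mul_right e3).eq, mul_inv_cancel_right]; group
        _ = r * r' * r⁻¹ * r'⁻¹ := by rw [(e2.symm.inv_right).eq, mul_inv_cancel_right]
    rw [e]
    exact commutator_mem_commutator hr' hr''

/-- A nonabelian group of exponent `p` acting coprimely through an abelian quotient is generated by centralizers. -/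
theorem le_of_extraspecial {R₁ K X : Subgroup G} (hR₁ : IsPGroup p R₁) (hna : ¬ IsMulCommutative R₁)
    (hK : R₁ ≤ normalizer (K : Set G)) (hpK : ¬ p ∣ Nat.card K) (hZK : ⁅R₁, R₁⁆ ≤ centralizer (K : Set G))
    (hcen : ∀ c ∈ ⁅R₁, R₁⁆, ∀ h ∈ R₁, Commute h c)
    (h : ∀ a ∈ R₁, a ∉ ⁅R₁, R₁⁆ → K ⊓ centralizer ({a} : Set G) ≤ X) : K ≤ X := by
  classical
  let φ : R₁ →* MulAut K := K.normalizerMonoidHom.comp (Subgroup.inclusion hK)
  have hker : commutator R₁ ≤ φ.ker := fun x hx => MonoidHom.mem_ker.2 (MulEquiv.ext fun k => Subtype.ext (by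
    have hx' : (x : G) ∈ ⁅R₁, R₁⁆ := by rw [← map_subtype_commutator R₁]; exact mem_map_of_mem _ hx
    show (x : G) * k * (x : G)⁻¹ = k
    rw [← mem_centralizer_iff.1 (hZK hx') k k.2, mul_inv_cancel_right]))
  let ψ : Abelianization R₁ →* MulAut K := QuotientGroup.lift _ φ hker
  letI : MulDistribMulAction (Abelianization R₁) K := MulDistribMulAction.compHom K ψ
  have hnc : ¬ IsCyclic (Abelianization R₁) := fun hc => hna (by
    haveI := hc
    refine ⟨⟨commutative_of_cyclic_center_quotient (Abelianization.of (G := R₁)) ?_⟩⟩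
    intro x hx
    have hx' : (x : G) ∈ ⁅R₁, R₁⁆ := by
      rw [← map_subtype_commutator R₁]
      exact mem_map_of_mem _ ((QuotientGroup.eq_one_iff x).1 hx)
    exact Subgroup.mem_center_iff.2 fun y => Subtype.ext (hcen _ hx' y y.2).eq)
  have hcop : (Nat.card (Abelianization R₁)).Coprime (Nat.card K) :=
    (Excep.coprime_of_pgroup hR₁ hpK).coprime_dvd_left (Subgroup.card_quotient_dvd_card _)
  have htop := CfsgLib.Coprime.closure_fixed_eq_top (G := K) (A := Abelianization R₁) hnc hcop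
  intro k hk
  have hmem : (⟨k, hk⟩ : K) ∈ (⊤ : Subgroup K) := mem_top _
  rw [← htop] at hmem
  refine closure_le (K := X.subgroupOf K) |>.2 ?_ hmem
  rintro y ⟨a, ha, hy⟩
  obtain ⟨a, rfl⟩ := QuotientGroup.mk'_surjective (commutator R₁) a
  have hy' : (a : G) * y * (a : G)⁻¹ = y := congrArg Subtype.val hy
  refine h a a.2 (fun hc => ha ?_) ⟨y.2, mem_centralizer_singleton_iff.2 (mul_inv_eq_iff_eq_mul.1 hy').symm⟩
  refine (QuotientGroup.eq_one_iff a).2 ?_
  rw [← map_subtype_commutator R₁] at hc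
  obtain ⟨b, hb, hba⟩ := hc
  exact R₁.subtype_injective hba ▸ hb

/-- A nonabelian `p`-subgroup lies in a unique maximal subgroup. -/
theorem nonabelian_unique {P : Subgroup G} (hP : IsPGroup p P) (hna : ¬ IsMulCommutative P) :
    Cfsg.InUniqueMaximal P := by
  classical
  have hPtop : P ≠ ⊤ := CfsgLib.CN.MinSimple.ne_top hG hP.isNilpotent
  obtain ⟨L₁, hL₁, hPL₁⟩ := (eq_top_or_exists_le_coatom P).resolve_left hPtop
  refine ⟨L₁, ⟨hL₁, hPL₁⟩, ?_⟩
  rintro L₂ ⟨hL₂, hPL₂⟩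
  by_contra hne
  have hne' : L₁ ≠ L₂ := Ne.symm hne
  -- a common Sylow subgroup
  obtain ⟨S, ⟨hSp, hPS, hSL⟩, hSmax⟩ := (Set.toFinite {S : Subgroup G | IsPGroup p S ∧ P ≤ S ∧ S ≤ L₁ ⊓ L₂}).exists_maximalFor
    (fun S : Subgroup G => Nat.card S) _ ⟨P, hP, le_rfl, le_inf hPL₁ hPL₂⟩
  have hSna : ¬ IsMulCommutative S := fun h => hna (by
    haveI := h
    exact ⟨⟨fun a b => Subtype.ext (congrArg Subtype.val
      (IsMulCommutative.is_comm.comm (⟨a.1, hPS a.2⟩ : S) ⟨b.1, hPS b.2⟩) :)⟩⟩)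
  have hσ₁ := sigma_of_nonabelian hG hL₁ hSp (hSL.trans inf_le_left) hSna
  have hσ₂ := sigma_of_nonabelian hG hL₂ hSp (hSL.trans inf_le_right) hSna
  have hNS : normalizer (S : Set G) ≤ L₁ ⊓ L₂ := le_inf
    (normalizer_le_of_noncyclic hG hL₁ hσ₁ hSp (hSL.trans inf_le_left) (not_cyclic_of_nonabelian hG hSna))
    (normalizer_le_of_noncyclic hG hL₂ hσ₂ hSp (hSL.trans inf_le_right) (not_cyclic_of_nonabelian hG hSna))
  obtain ⟨Ps, hPs⟩ := hSp.exists_le_sylow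
  have hSeq : S = (Ps : Subgroup G) := by
    by_contra hne''
    have hlt := CfsgLib.Fusion.lt_inf_normalizer Ps.2 (lt_of_le_of_ne hPs hne'')
    have hc := CfsgLib.Solvable.card_lt_of_lt hlt
    have := hSmax (j := (Ps : Subgroup G) ⊓ normalizer (S : Set G))
      ⟨Ps.2.to_le inf_le_left, hPS.trans hlt.le, inf_le_right.trans hNS⟩ hc.le
    exact absurd this (not_le.2 hc)
  subst hSeq
  set S := (Ps : Subgroup G)
  have hSr : Cfsg.PRankLE p 2 S := by_contra fun h => hne'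
    (Uniq.eq_of (UThm.rank_three_unique hG Ps.2 h) hL₁ (hSL.trans inf_le_left) hL₂ (hSL.trans inf_le_right))
  have hnotα : ∀ L : Subgroup G, p ∉ Cfsg.alpha L := fun L h =>
    Excep.rank_of_full Ps.2 Ps.not_dvd_index h hSr
  -- neither core is trivial
  have hαne : ∀ L L' : Subgroup G, IsCoatom L → IsCoatom L' → L ≠ L' → S ≤ L → p ∈ Cfsg.sigma L →
      normalizer (S : Set G) ≤ L' → ∃ r, r ∈ Cfsg.alpha L := by
    intro L L' hL hL' hLL' hSL hσ hNS'
    by_contra hα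
    push Not at hα
    haveI := Bender.nilpotent_fitting L
    have hSq : S ≤ Bender.qc p L := fun x hx => by
      have hxσ := Excep.le_sigmaCore hG hL hSL (Excep.primes_of_pgroup Ps.2 hσ) hx
      obtain ⟨k, hk⟩ := Ps.2 ⟨x, hx⟩
      obtain ⟨j, -, hj⟩ := (Nat.dvd_prime_pow hp.out).1 (orderOf_dvd_of_pow_eq_one (congrArg Subtype.val hk))
      exact Bender.mem_qc (Excep.derived_le_fitting hG hL hα ((Sig.sigma_core hG hL).2.2 hxσ)) hj
    have heq : Bender.qc p L = S := Ps.3 (Bender.isPGroup_qc L) hSq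
    have hle : L ≤ L' := (Bender.le_normalizer_qc p L).trans ((le_of_eq (by rw [heq])).trans hNS')
    exact hLL' ((hL.le_iff.1 hle).resolve_left hL'.1).symm
  obtain ⟨R₁, hR₁S, hR₁na, hR₁exp, hR₁c, -⟩ := rank_two_sylow hG Ps hSr hSna
  obtain ⟨a₀, ha₀, b₀, hb₀, hab₀⟩ : ∃ a ∈ R₁, ∃ b ∈ R₁, a * b ≠ b * a := by
    by_contra hcon
    push Not at hcon
    exact hR₁na ⟨⟨fun a b => Subtype.ext (hcon a a.2 b b.2)⟩⟩
  obtain ⟨z, hzS, hzo, hzc⟩ := Excep.exists_central_order Ps.2 le_rfl le_normalizer fun e : S = ⊥ => hSna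
    ⟨⟨fun a b => Subtype.ext (by simp [Subgroup.mem_bot.1 (e.le a.2), Subgroup.mem_bot.1 (e.le b.2)])⟩⟩
  have hzp : z ^ p = 1 := by rw [← hzo, pow_orderOf_eq_one]
  have hzcard : Nat.card (zpowers z) = p := by rw [Nat.card_zpowers, hzo]
  -- the elementary subgroups above the centre
  have hE : ∀ a ∈ R₁, a ∉ zpowers z → ∃ E : Subgroup G, Cfsg.IsElementaryAbelian p E ∧ Nat.card E = p ^ 2 ∧
      E ≤ S ∧ z ∈ E ∧ a ∈ E ∧ ∀ B : Subgroup G, Cfsg.IsElementaryAbelian p B → E ≤ B → B = E := by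
    intro a ha haz
    have hEe : Cfsg.IsElementaryAbelian p (zpowers z ⊔ zpowers a : Subgroup G) := by
      refine CfsgLib.Thompson.elab_sup (CfsgLib.Thompson.elab_zpowers hzp)
        (CfsgLib.Thompson.elab_zpowers (hR₁exp a ha)) ?_
      rintro _ ⟨i, rfl⟩
      refine mem_centralizer_iff.2 fun y hy => ?_
      obtain ⟨j, rfl⟩ := mem_zpowers_iff.1 hy
      exact (((hzc a (hR₁S ha)).zpow_zpow j i)).eq
    have hEle : zpowers z ⊔ zpowers a ≤ S := sup_le (zpowers_le.2 hzS) (zpowers_le.2 (hR₁S ha))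
    obtain ⟨k, hk⟩ := IsPGroup.iff_card.1 (Ps.2.to_le hEle)
    have hlt : p < Nat.card ↥(zpowers z ⊔ zpowers a : Subgroup G) := hzcard ▸ CfsgLib.Solvable.card_lt_of_lt
      (lt_of_le_of_ne le_sup_left fun e => haz (e.ge (mem_sup_right (mem_zpowers a))))
    have hle := Uniq.rankLE_elementary hSr hEle hEe
    rw [hk] at hlt hle
    have hk2 : k = 2 := by
      have h1 := (Nat.pow_le_pow_iff_right hp.out.one_lt).1 hle
      by_contra hk2
      have h2 : p ^ k ≤ p ^ 1 := Nat.pow_le_pow_right hp.out.pos (by omega)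
      rw [pow_one] at h2
      omega
    subst hk2
    refine ⟨_, hEe, hk, hEle, mem_sup_left (mem_zpowers z), mem_sup_right (mem_zpowers a),
      Excep.maxElem_of_not_unique hG hEe hk fun hU => hne' ?_⟩
    exact Uniq.eq_of hU hL₁ (hEle.trans (hSL.trans inf_le_left)) hL₂ (hEle.trans (hSL.trans inf_le_right))
  have hcen : ∀ c ∈ R₁, (∀ y ∈ R₁, Commute y c) → c ∈ zpowers z := by
    intro c hc hcy
    have ha₀z : a₀ ∉ zpowers z := fun h => hab₀ (by
      obtain ⟨i, rfl⟩ := mem_zpowers_iff.1 h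
      exact ((hzc b₀ (hR₁S hb₀)).zpow_right i).eq.symm)
    obtain ⟨E, hEe, hE2, hES, hzE, ha₀E, hmax⟩ := hE a₀ ha₀ ha₀z
    have hEc : E ≤ centralizer ({c} : Set G) := by
      rw [← Excep.line_sup hE2 (zpowers_le.2 hzE) hzcard ha₀E ha₀z]
      exact sup_le (zpowers_le.2 (mem_centralizer_singleton_iff.2 (hzc c (hR₁S hc)).eq.symm))
        (zpowers_le.2 (mem_centralizer_singleton_iff.2 (hcy a₀ ha₀).eq))
    have hcE : c ∈ E := Excep.mem_of_commute hEe hmax (hR₁exp c hc)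
      fun e he => mem_centralizer_singleton_iff.1 (hEc he)
    by_contra hne''
    refine hab₀ ?_
    have hle : E ≤ centralizer ({b₀} : Set G) := by
      rw [← Excep.line_sup hE2 (zpowers_le.2 hzE) hzcard hcE hne'']
      exact sup_le (zpowers_le.2 (mem_centralizer_singleton_iff.2 (hzc b₀ (hR₁S hb₀)).eq.symm))
        (zpowers_le.2 (mem_centralizer_singleton_iff.2 (hcy b₀ hb₀).eq.symm))
    exact mem_centralizer_singleton_iff.1 (hle ha₀E)
  have hcz : ∀ c ∈ ⁅R₁, R₁⁆, c ∈ zpowers z := fun c hc =>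
    hcen c (commutator_le_self R₁ hc) fun y hy => hR₁c c hc y (hR₁S hy)
  have hzR₁ : z ∈ ⁅R₁, R₁⁆ := by
    have hc : ⁅a₀, b₀⁆ ∈ ⁅R₁, R₁⁆ := commutator_mem_commutator ha₀ hb₀
    have hc1 : ⁅a₀, b₀⁆ ≠ 1 := fun e => hab₀ (commutatorElement_eq_one_iff_mul_comm.1 e)
    have hco : orderOf ⁅a₀, b₀⁆ = p := orderOf_eq_prime (hR₁exp _ (commutator_le_self R₁ hc)) hc1
    exact (zpowers_le.2 hc) ((eq_of_le_of_card_ge (zpowers_le.2 (hcz _ hc))
      (by rw [hzcard, Nat.card_zpowers, hco])).ge (mem_zpowers z))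
  -- the two types
  have htype : ∀ a ∈ R₁, a ∉ ⁅R₁, R₁⁆ → ∃ E : Subgroup G, ∃ L : Subgroup G, (L = L₁ ∨ L = L₂) ∧
      Cfsg.IsElementaryAbelian p E ∧ Nat.card E = p ^ 2 ∧ E ≤ S ∧ z ∈ E ∧ a ∈ E ∧
      (∀ B : Subgroup G, Cfsg.IsElementaryAbelian p B → E ≤ B → B = E) ∧
      ∀ B : Subgroup G, B ≤ E → Nat.card B = p → B ≠ zpowers z → normalizer (B : Set G) ≤ L := by
    intro a ha hac
    have haz : a ∉ zpowers z := fun h => hac (zpowers_le.2 hzR₁ h)
    obtain ⟨E, hEe, hE2, hES, hzE, haE, hmax⟩ := hE a ha haz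
    have hgood : ∀ L L' : Subgroup G, IsCoatom L → IsCoatom L' → L ≠ L' → S ≤ L → p ∈ Cfsg.sigma L →
        normalizer (S : Set G) ≤ L' → ∃ B : Subgroup G, B ≤ E ∧ Nat.card B = p ∧ normalizer (B : Set G) ≤ L ∧
          ∀ K : Subgroup G, IsCoatom K → normalizer (B : Set G) ≤ K → K = L := by
      intro L L' hL hL' h1 h2 h3 h4
      obtain ⟨r, hr⟩ := hαne L L' hL hL' h1 h2 h3 h4
      by_contra hcon
      push Not at hcon
      refine Excep.NoLine.alpha_empty hG hEe hE2 hmax (fun A₀ hA₀ hA₀c hu => ?_) hL (hES.trans h2) r hr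
      obtain ⟨K, hK, hK', hKne⟩ := hcon A₀ hA₀ hA₀c hu.1
      exact hKne (hu.2 K hK hK')
    obtain ⟨B₁, hB₁E, hB₁, hN₁, hu₁⟩ := hgood L₁ L₂ hL₁ hL₂ hne' (hSL.trans inf_le_left) hσ₁
      (hNS.trans inf_le_right)
    obtain ⟨B₂, hB₂E, hB₂, hN₂, hu₂⟩ := hgood L₂ L₁ hL₂ hL₁ hne (hSL.trans inf_le_right) hσ₂
      (hNS.trans inf_le_left)
    have hB12 : B₁ ≠ B₂ := fun e => hne (hu₁ L₂ hL₂ (e ▸ hN₂))
    obtain ⟨B, L, hLL, hSL', hBE, hB, hBz, hNB⟩ : ∃ B L : Subgroup G, (L = L₁ ∨ L = L₂) ∧ S ≤ L ∧ B ≤ E ∧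
        Nat.card B = p ∧ B ≠ zpowers z ∧ normalizer (B : Set G) ≤ L := by
      by_cases h : B₁ = zpowers z
      · exact ⟨B₂, L₂, Or.inr rfl, hSL.trans inf_le_right, hB₂E, hB₂, fun e => hB12 (h.trans e.symm), hN₂⟩
      · exact ⟨B₁, L₁, Or.inl rfl, hSL.trans inf_le_left, hB₁E, hB₁, h, hN₁⟩
    obtain ⟨b, hbR, hab⟩ : ∃ b ∈ R₁, a * b ≠ b * a := by
      by_contra hcon
      push Not at hcon
      exact haz (hcen a ha fun y hy => (hcon y hy).symm)
    have hEconj : ∀ e ∈ E, b * e * b⁻¹ ∈ E := by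
      intro e he
      have hle : E ≤ E.comap (MulAut.conj b).toMonoidHom := by
        conv_lhs => rw [← Excep.line_sup hE2 (zpowers_le.2 hzE) hzcard haE haz]
        refine sup_le (zpowers_le.2 ?_) (zpowers_le.2 ?_)
        · show b * z * b⁻¹ ∈ E
          rw [(hzc b (hR₁S hbR)).eq, mul_inv_cancel_right]
          exact hzE
        · show b * a * b⁻¹ ∈ E
          have h1 : ⁅b, a⁆ ∈ E := (zpowers_le.2 hzE) (hcz _ (commutator_mem_commutator hbR ha))
          have := mul_mem h1 haE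
          rwa [commutatorElement_def, inv_mul_cancel_right] at this
      exact hle he
    have hbN : b ∈ normalizer (E : Set G) := Uniq.mem_normalizer_of_map_le (by
      rintro _ ⟨e, he, rfl⟩; exact hEconj e he)
    have hbC : b ∉ centralizer (E : Set G) := fun h => hab (mem_centralizer_iff.1 h a haE)
    refine ⟨E, L, hLL, hEe, hE2, hES, hzE, haE, hmax, fun B' hB'E hB' hB'z => ?_⟩
    obtain ⟨k, hk⟩ := exists_line_map hEe hE2 Ps.2 (hR₁S hbR) hbN hzE hzo (hzc b (hR₁S hbR)) hbC hBE hB hBz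
      hB'E hB' hB'z
    have hm : b ^ k ∈ L := pow_mem (hSL' (hR₁S hbR)) k
    have h1 : normalizer (B' : Set G) ≤ L.map (MulAut.conj (b ^ k)).toMonoidHom := by
      rw [← hk]
      exact (map_equiv_normalizer_eq B (MulAut.conj (b ^ k))).ge.trans (map_mono hNB)
    refine h1.trans ?_
    rintro _ ⟨y, hy, rfl⟩
    exact mul_mem (mul_mem hm hy) (inv_mem hm)
  -- the cores
  have hαp : ∀ L : Subgroup G, IsCoatom L → ¬ p ∣ Nat.card (Cfsg.alphaCore L) := fun L hL h =>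
    hnotα L ((Sig.alpha_core hG hL).1.2.1 p hp.out h)
  have hcore : ∀ L L' : Subgroup G, IsCoatom L → IsCoatom L' → L' ≠ L → S ≤ L → p ∈ Cfsg.sigma L → S ≤ L' →
      ∀ (r : ℕ) [Fact r.Prime], r ∈ Cfsg.alpha L' → ∃ R : Subgroup G, R ≤ L' ∧ Cfsg.InUniqueMaximal R ∧
        S ≤ normalizer (R : Set G) ∧ ¬ p ∣ Nat.card R ∧
        (∀ a : G, ∀ E : Subgroup G, a ∈ E → a ∉ zpowers z → z ∈ E → E ≤ S → Cfsg.IsElementaryAbelian p E →
          Nat.card E = p ^ 2 → (∀ B : Subgroup G, Cfsg.IsElementaryAbelian p B → E ≤ B → B = E) →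
          (∀ B : Subgroup G, B ≤ E → Nat.card B = p → B ≠ zpowers z → normalizer (B : Set G) ≤ L) →
          R ≤ centralizer (zpowers z : Set G)) := by
    intro L L' hL hL' hne₀ hSL₀ hσ hSL' r _ hr
    have hrp : r ≠ p := fun e => hnotα L' (e ▸ hr)
    haveI : Group.IsSolvable S := hG.2.2.2 S (CfsgLib.CN.MinSimple.ne_top hG Ps.2.isNilpotent)
    obtain ⟨R, -, hRα, hRp, hSR, hRd⟩ := Excep.exists_inv_sylow (t := r) (hSL'.trans (TH.le_normalizer_core L'))
      (Excep.coprime_of_pgroup Ps.2 (hαp L' hL')) (Or.inl inferInstance) (bot_le : (⊥ : Subgroup G) ≤ _)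
      IsPGroup.of_bot (Excep.le_normalizer_bot _)
    have hRL : R ≤ L' := hRα.trans (map_subtype_le _)
    have hRd' : ¬ r ∣ R.index := Excep.index_not_dvd hRα hRd ((Sig.alpha_hall hG hL').2 r Fact.out hr)
    have hRu : Cfsg.InUniqueMaximal R := UThm.rank_three_unique hG hRp (Excep.rank_of_full hRp hRd' hr)
    have hpR : ¬ p ∣ Nat.card R := fun h => hαp L' hL' (h.trans (card_dvd_of_le hRα))
    refine ⟨R, hRL, hRu, hSR, hpR, fun a E haE haz hzE hES hEe hE2 hmax hlines => ?_⟩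
    refine Excep.le_of_lines hEe hE2 (hES.trans hSR) hpR fun Y hYE hY => ?_
    by_cases hYz : Y = zpowers z
    · rw [hYz]; exact inf_le_right
    by_cases hU : R ⊓ centralizer (Y : Set G) = ⊥
    · rw [hU]; exact bot_le
    have hNY := hlines Y hYE hY hYz
    have hrL : r ∉ Cfsg.alpha L := Excep.not_alpha_of_meet hG hEe hE2 hmax hrp hL' hL (Ne.symm hne₀) hRp hRL hRd'
      (hES.trans hSR) hRu hYE hNY hU
    have hc : R ⊓ centralizer (Y : Set G) ≤ centralizer (E : Set G) := by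
      refine commutator_eq_bot_iff_le_centralizer.1 (by_contra fun hne'' => hrL ?_)
      exact Excep.alpha_of_sigma hG hrp hL hσ (IsPGroup.of_card hE2) (hES.trans hSL₀) (hRp.to_le inf_le_left)
        (inf_le_right.trans ((centralizer_le_normalizer _).trans hNY))
        (Excep.normalizes_inf_centralizer hEe hE2 hYE (hES.trans hSR)) hne''
    exact hc.trans (centralizer_le (zpowers_le.2 hzE))
  obtain ⟨r₁, hr₁⟩ := hαne L₁ L₂ hL₁ hL₂ hne' (hSL.trans inf_le_left) hσ₁ (hNS.trans inf_le_right)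
  obtain ⟨r₂, hr₂⟩ := hαne L₂ L₁ hL₂ hL₁ hne (hSL.trans inf_le_right) hσ₂ (hNS.trans inf_le_left)
  haveI := Fact.mk hr₁.1
  haveI := Fact.mk hr₂.1
  obtain ⟨Q, hQL, hQu, hSQ, hpQ, hQz⟩ := hcore L₂ L₁ hL₂ hL₁ hne' (hSL.trans inf_le_right) hσ₂
    (hSL.trans inf_le_left) r₁ hr₁
  obtain ⟨R, hRL, hRu, hSR, hpR, hRz⟩ := hcore L₁ L₂ hL₁ hL₂ hne (hSL.trans inf_le_left) hσ₁
    (hSL.trans inf_le_right) r₂ hr₂
  -- all lines of one type
  have hone : ∀ L L' R : Subgroup G, IsCoatom L → IsCoatom L' → L ≠ L' → R ≤ L' → Cfsg.InUniqueMaximal R →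
      S ≤ normalizer (R : Set G) → ¬ p ∣ Nat.card R → R ≤ centralizer (zpowers z : Set G) →
      (∀ a ∈ R₁, a ∉ ⁅R₁, R₁⁆ → centralizer ({a} : Set G) ≤ L) → False := by
    intro L L' R hL hL' hne₀ hRL' hRu hSR hpR hRz' hall
    refine hne₀ (Uniq.eq_of hRu hL ?_ hL' hRL')
    refine le_of_extraspecial hG (Ps.2.to_le hR₁S) hR₁na (hR₁S.trans hSR) hpR
      (fun c hc => le_centralizer_iff.1 hRz' (hcz c hc)) (fun c hc h hh => hR₁c c hc h (hR₁S hh))
      fun a ha hac => inf_le_right.trans (hall a ha hac)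
  have hCa : ∀ (a : G) (E L : Subgroup G), a ∈ E → Cfsg.IsElementaryAbelian p E → a ∉ zpowers z →
      (∀ B : Subgroup G, B ≤ E → Nat.card B = p → B ≠ zpowers z → normalizer (B : Set G) ≤ L) →
      centralizer ({a} : Set G) ≤ L := by
    intro a E L haE hEe haz hlines
    obtain ⟨hle, hc⟩ := Excep.line_of_mem hEe haE fun e => haz (e ▸ one_mem _)
    refine le_trans ?_ (hlines _ hle hc fun e => haz (e ▸ mem_zpowers a))
    exact (FixedLine.le_centralizer_zpowers le_rfl).trans (centralizer_le_normalizer _)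
  have hz1 : zpowers z ≠ ⊥ := fun e => hp.out.ne_one (by rw [← hzcard, e, card_bot])
  by_cases h₁ : ∃ a ∈ R₁, a ∉ ⁅R₁, R₁⁆ ∧ ∀ E : Subgroup G, a ∈ E → z ∈ E → E ≤ S → Cfsg.IsElementaryAbelian p E →
      Nat.card E = p ^ 2 → ¬ ∀ B : Subgroup G, B ≤ E → Nat.card B = p → B ≠ zpowers z → normalizer (B : Set G) ≤ L₁
  · obtain ⟨a, ha, hac, hnot⟩ := h₁
    obtain ⟨E, L, hLL, hEe, hE2, hES, hzE, haE, hmax, hlines⟩ := htype a ha hac
    have haz : a ∉ zpowers z := fun h => hac (zpowers_le.2 hzR₁ h)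
    rcases hLL with h | h
    · exact hnot E haE hzE hES hEe hE2 (h ▸ hlines)
    rw [h] at hlines
    have hQC : Q ≤ centralizer (zpowers z : Set G) := hQz a E haE haz hzE hES hEe hE2 hmax hlines
    by_cases h₂ : ∃ a ∈ R₁, a ∉ ⁅R₁, R₁⁆ ∧ ∃ E : Subgroup G, a ∈ E ∧ z ∈ E ∧ E ≤ S ∧
        Cfsg.IsElementaryAbelian p E ∧ Nat.card E = p ^ 2 ∧
        (∀ B : Subgroup G, Cfsg.IsElementaryAbelian p B → E ≤ B → B = E) ∧
        ∀ B : Subgroup G, B ≤ E → Nat.card B = p → B ≠ zpowers z → normalizer (B : Set G) ≤ L₁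
    · obtain ⟨a', -, ha'c, E', ha'E, hzE', hE'S, hE'e, hE'2, hmax', hlines'⟩ := h₂
      have hRC : R ≤ centralizer (zpowers z : Set G) := hRz a' E' ha'E (fun h => ha'c (zpowers_le.2 hzR₁ h))
        hzE' hE'S hE'e hE'2 hmax' hlines'
      obtain ⟨K, hK, hNK⟩ := (eq_top_or_exists_le_coatom (normalizer (zpowers z : Set G))).resolve_left
        (CfsgLib.CN.MinSimple.normalizer_ne_top hG (CfsgLib.CN.nilpotent_zpowers z) hz1)
      have h1 := Uniq.eq_of hQu hK ((hQC.trans (centralizer_le_normalizer _)).trans hNK) hL₁ hQL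
      have h2 := Uniq.eq_of hRu hK ((hRC.trans (centralizer_le_normalizer _)).trans hNK) hL₂ hRL
      exact hne' (h1.symm.trans h2)
    · refine hone L₂ L₁ Q hL₂ hL₁ hne hQL hQu hSQ hpQ hQC fun a' ha' ha'c => ?_
      obtain ⟨E', L', hLL', hE'e, hE'2, hE'S, hzE', ha'E, hmax', hlines'⟩ := htype a' ha' ha'c
      have ha'z : a' ∉ zpowers z := fun h => ha'c (zpowers_le.2 hzR₁ h)
      rcases hLL' with h | h <;> rw [h] at hlines'
      · exact absurd ⟨a', ha', ha'c, E', ha'E, hzE', hE'S, hE'e, hE'2, hmax', hlines'⟩ h₂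
      · exact hCa a' E' _ ha'E hE'e ha'z hlines'
  · push Not at h₁
    have ha₀c : a₀ ∉ ⁅R₁, R₁⁆ := fun h => hab₀ ((hR₁c a₀ h b₀ (hR₁S hb₀)).eq.symm)
    obtain ⟨E, haE, hzE, hES, hEe, hE2, hlines⟩ := h₁ a₀ ha₀ ha₀c
    have ha₀z : a₀ ∉ zpowers z := fun h => ha₀c (zpowers_le.2 hzR₁ h)
    have hmaxE : ∀ B : Subgroup G, Cfsg.IsElementaryAbelian p B → E ≤ B → B = E :=
      Excep.maxElem_of_not_unique hG hEe hE2 fun hU => hne'
        (Uniq.eq_of hU hL₁ (hES.trans (hSL.trans inf_le_left)) hL₂ (hES.trans (hSL.trans inf_le_right)))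
    refine hone L₁ L₂ R hL₁ hL₂ hne' hRL hRu hSR hpR (hRz a₀ E haE ha₀z hzE hES hEe hE2 hmaxE hlines)
      fun a ha hac => ?_
    obtain ⟨E', haE', -, -, hE'e, -, hlines'⟩ := h₁ a ha hac
    exact hCa a E' L₁ haE' hE'e (fun h => hac (zpowers_le.2 hzR₁ h)) hlines'

end CfsgLib.OddLocal.Tau
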