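import Cfsg.Agent.OddLocal.PLengthZGroup
import Cfsg.Agent.OddLocal.SigmaLocal
import Cfsg.Agent.S1407

/-!
Proper subgroups of a minimal simple group of odd order have `p`-length one; Sylow normalizers control fusion.
-/

set_option autoImplicit false
set_option linter.style.haveILetI false
set_option linter.unusedSectionVars false

namespace CfsgLib.OddLocal.PLenOne

open Subgroup Cfsg CfsgLib.OddLocal
open scoped commutatorElement

universe u

/-- A normal subgroup inside the derived subgroup with a coprime complement is its commutator with the complement. -/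
theorem commutator_eq_of_le_derived {X : Type u} [Group X] [Finite X] [Group.IsSolvable X] {O E : Subgroup X} [O.Normal]
    (hsup : O ⊔ E = ⊤) (hcop : (Nat.card O).Coprime (Nat.card E)) (hO : O ≤ commutator X) : ⁅O, E⁆ = O := by
  have hKO : ⁅O, E⁆ ≤ O := commutator_le_left O E
  haveI : (⁅O, E⁆ : Subgroup X).Normal := normalizer_eq_top_iff.1 (top_le_iff.1 (hsup.ge.trans
    (sup_le (normalizer_commutator_ge_left _ _) (normalizer_commutator_ge_right _ _))))
  let f := QuotientGroup.mk' ⁅O, E⁆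
  have hf : Function.Surjective f := QuotientGroup.mk'_surjective _
  haveI : Group.IsSolvable (X ⧸ ⁅O, E⁆) := Group.isSolvable_of_surjective hf
  haveI hOn : (O.map f).Normal := Subgroup.Normal.map inferInstance f hf
  refine le_antisymm hKO ?_
  suffices hbot : O.map f = ⊥ by
    rwa [Subgroup.map_eq_bot_iff, QuotientGroup.ker_mk'] at hbot
  by_contra hne
  refine (Group.IsSolvable.commutator_lt_of_ne_bot hne).ne (le_antisymm (commutator_le_left _ _) ?_)
  have hc : ∀ a ∈ O.map f, ∀ b ∈ E.map f, a * b = b * a := by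
    rintro _ ⟨a, ha, rfl⟩ _ ⟨b, hb, rfl⟩
    refine commutatorElement_eq_one_iff_mul_comm.1 ?_
    rw [← map_commutatorElement]
    exact (QuotientGroup.eq_one_iff _).2 (commutator_mem_commutator ha hb)
  have hsup' : O.map f ⊔ E.map f = ⊤ := by rw [← Subgroup.map_sup, hsup, map_top_of_surjective f hf]
  have hmem : ∀ y : X ⧸ ⁅O, E⁆, ∃ a ∈ O.map f, ∃ e ∈ E.map f, y = a * e := by
    intro y
    have hn : E.map f ≤ normalizer (O.map f : Set (X ⧸ ⁅O, E⁆)) := by rw [normalizer_eq_top]; exact le_top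
    obtain ⟨e, he, a, ha, h⟩ := (CfsgLib.Solvable.mem_sup_of_le_normalizer hn).1
      (show y ∈ E.map f ⊔ O.map f by rw [sup_comm, hsup']; exact mem_top _)
    exact ⟨a, ha, e, he, by rw [hc a ha e he, h]⟩
  have hnn : ⁅E.map f, E.map f⁆ ≤ normalizer ((⁅O.map f, O.map f⁆ : Subgroup (X ⧸ ⁅O, E⁆)) : Set (X ⧸ ⁅O, E⁆)) := by
    haveI : (⁅O.map f, O.map f⁆ : Subgroup (X ⧸ ⁅O, E⁆)).Normal := commutator_normal _ _
    rw [normalizer_eq_top]; exact le_top
  have hder : commutator (X ⧸ ⁅O, E⁆) ≤ ⁅E.map f, E.map f⁆ ⊔ ⁅O.map f, O.map f⁆ := by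
    rw [_root_.commutator_def, commutator_le]
    intro y _ z _
    obtain ⟨a, ha, e, he, rfl⟩ := hmem y
    obtain ⟨b, hb, g, hg, rfl⟩ := hmem z
    have h1 : Commute a g := hc a ha g hg
    have h2 : Commute e b := (hc b hb e he).symm
    have heq : ⁅a * e, b * g⁆ = ⁅a, b⁆ * ⁅e, g⁆ := by
      have h3 : Commute e a := (hc a ha e he).symm
      have h4 : Commute g b := (hc b hb g hg).symm
      simp only [commutatorElement_def, mul_inv_rev]
      calc a * e * (b * g) * (e⁻¹ * a⁻¹) * (g⁻¹ * b⁻¹)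
          = a * (e * b) * g * e⁻¹ * (a⁻¹ * g⁻¹) * b⁻¹ := by group
        _ = a * (b * e) * g * e⁻¹ * (g⁻¹ * a⁻¹) * b⁻¹ := by rw [h2.eq, h1.inv_inv.eq]
        _ = a * b * (e * g * e⁻¹ * g⁻¹) * (a⁻¹ * b⁻¹) := by group
        _ = a * b * ((a⁻¹ * b⁻¹) * (e * g * e⁻¹ * g⁻¹)) := by
          have h5 : Commute (e * g * e⁻¹ * g⁻¹) (a⁻¹ * b⁻¹) :=
            (((h3.mul_left h1.symm).mul_left h3.inv_left).mul_left h1.symm.inv_left).inv_right.mul_right
              (((h2.mul_left h4).mul_left h2.inv_left).mul_left h4.inv_left).inv_right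
          rw [mul_assoc, h5.eq]
        _ = a * b * a⁻¹ * b⁻¹ * (e * g * e⁻¹ * g⁻¹) := by group
    rw [heq]
    exact mul_mem (mem_sup_right (commutator_mem_commutator ha hb)) (mem_sup_left (commutator_mem_commutator he hg))
  intro y hy
  obtain ⟨w, hw, u, hu, rfl⟩ := (CfsgLib.Solvable.mem_sup_of_le_normalizer hnn).1
    (hder (by
      have : (commutator X).map f ≤ commutator (X ⧸ ⁅O, E⁆) := by
        rw [_root_.commutator_def, map_commutator, _root_.commutator_def]
        exact commutator_mono le_top le_top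
      exact this (map_mono hO hy)))
  have hwO : w ∈ O.map f ⊓ E.map f := by
    refine ⟨?_, commutator_le_self _ hw⟩
    have := mul_mem hy (inv_mem (commutator_le_self _ hu))
    rwa [mul_inv_cancel_right] at this
  have hcop' : (Nat.card (O.map f)).Coprime (Nat.card (E.map f)) :=
    (hcop.coprime_dvd_left (card_map_dvd _ _)).coprime_dvd_right (card_map_dvd _ _)
  rw [disjoint_iff.1 (disjoint_of_coprime_natCard hcop'), mem_bot] at hwO
  rw [hwO, one_mul]
  exact hu

variable {G : Type u} [Group G] [Finite G] {p : ℕ} [Fact p.Prime]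
variable (hG : Cfsg.IsMinSimpleOddOrder G)
include hG

/-- Maximal subgroups have `p`-length one. -/
theorem coatom_pLength {M : Subgroup G} (hM : IsCoatom M) : Cfsg.PLengthLE p 1 M := by
  have hodd : Odd (Nat.card M) := hG.1.of_dvd_nat (card_subgroup_dvd_card M)
  haveI : Group.IsSolvable M := hG.2.2.2 M hM.1
  by_cases hpM : ¬ p ∣ Nat.card M
  · exact CfsgLib.FGSA.PLen.pLengthLE_mono (Nat.zero_le 1) (CfsgLib.FGSA.PLen.pLengthLE_zero_of_coprime
      ((Fact.out : p.Prime).coprime_iff_not_dvd.2 hpM).symm)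
  push Not at hpM
  by_cases hr : Cfsg.PRankLE p 2 M
  · exact Sig.pLengthLE_one_of_index (Cfsg.Agent.S1450.result hodd p hpM hr).2.2.2.2.2
  have hpα : p ∈ Cfsg.alpha M := ⟨Fact.out, hr⟩
  obtain ⟨hαh, -, -⟩ := Sig.alpha_core hG hM
  obtain ⟨hσh, -, hσM'⟩ := Sig.sigma_core hG hM
  have hασ := Sig.alphaCore_le_sigmaCore hG hM
  set Oα := Cfsg.piCore (Cfsg.alpha M) ↥M with hOα
  have hOcard : Nat.card (Cfsg.alphaCore M) = Nat.card Oα := card_map_of_injective M.subtype_injective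
  have hOidx : (Cfsg.alphaCore M).relIndex M = Oα.index := by
    rw [relIndex, alphaCore, ← comap_subtype, comap_map_eq_self_of_injective M.subtype_injective]
  have hα1 : Cfsg.alphaCore M ≠ ⊥ := fun h => hαh.2.2 p Fact.out hpα (by
    rwa [h, relIndex_bot_left])
  haveI : Nontrivial M := Finite.one_lt_card_iff_nontrivial.1
    (lt_of_lt_of_le (Fact.out : p.Prime).one_lt (Nat.le_of_dvd Nat.card_pos hpM))
  have hM' : ⁅M, M⁆ = (commutator M).map M.subtype := by
    rw [_root_.commutator_def, map_commutator, ← MonoidHom.range_eq_map, range_subtype]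
  obtain ⟨r, hr', hrM, hrσ⟩ : ∃ r, r.Prime ∧ r ∣ Nat.card M ∧ r ∉ Cfsg.sigma M := by
    by_contra hall
    push Not at hall
    have h1 : (Cfsg.sigmaCore M).relIndex M = 1 := by
      by_contra hne
      obtain ⟨q, hq, hqd⟩ := Nat.exists_prime_and_dvd hne
      exact hσh.2.2 q hq (hall q hq (hqd.trans (relIndex_dvd_card _ _))) hqd
    have h2 : M ≤ (commutator M).map M.subtype := hM' ▸ (relIndex_eq_one.1 h1).trans hσM'
    refine (Group.IsSolvable.commutator_lt_top_of_nontrivial M).ne (eq_top_iff.2 fun y _ => ?_)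
    obtain ⟨z, hz, hzy⟩ := h2 y.2
    rwa [← M.subtype_injective hzy]
  haveI := Fact.mk hr'
  haveI : Oα.Normal := Cfsg.piCore_normal _ _
  have hOcop : (Nat.card Oα).Coprime Oα.index := Nat.coprime_of_dvd fun q hq h1 h2 =>
    hαh.2.2 q hq (hαh.2.1 q hq (hOcard ▸ h1)) (hOidx ▸ h2)
  obtain ⟨E, hE⟩ := exists_right_complement'_of_coprime hOcop
  have hcop : (Nat.card Oα).Coprime (Nat.card E) := by rwa [← hE.symm.index_eq_card]
  obtain ⟨S₀⟩ : Nonempty (Sylow r E) := inferInstance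
  set Q := (S₀ : Subgroup E).map E.subtype with hQ
  have hrO : ¬ r ∣ Nat.card Oα := fun h =>
    hrσ (Sig.alpha_subset_sigma hG hM (hαh.2.1 r hr' (hOcard ▸ h)))
  let P : Sylow r M := (S₀.2.map E.subtype).toSylow (by
    rw [← hQ, ← relIndex_mul_index (map_subtype_le _ : Q ≤ E)]
    intro h
    rcases (Nat.Prime.dvd_mul hr').1 h with h | h
    · rw [relIndex, ← comap_subtype, comap_map_eq_self_of_injective E.subtype_injective] at h
      exact S₀.not_dvd_index h
    · rw [hE.index_eq_card] at h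
      exact hrO h)
  obtain ⟨x, hxP, hxo, hZ, -⟩ := Cfsg.Agent.S1407.result hG M hM hα1 r hrM hrσ P
  obtain ⟨xM, hxM, rfl⟩ := hxP
  have hxE : xM ∈ E := map_subtype_le _ (map_subtype_le _ hxM : xM ∈ (P : Subgroup M))
  have hxo' : orderOf xM = r := by rw [← orderOf_coe]; exact hxo
  have hZ' : IsZGroup ↥(Oα ⊓ centralizer ({xM} : Set M)) := by
    haveI : IsZGroup ↥(Cfsg.alphaCore M ⊓ centralizer ({(xM : G)} : Set G)) := hZ
    let g : ↥(Oα ⊓ centralizer ({xM} : Set M)) →* ↥(Cfsg.alphaCore M ⊓ centralizer ({(xM : G)} : Set G)) :=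
      { toFun := fun y => ⟨((y : M) : G), mem_map_of_mem M.subtype (mem_inf.1 y.2).1, mem_centralizer_singleton_iff.2
          (congrArg Subtype.val (mem_centralizer_singleton_iff.1 (mem_inf.1 y.2).2))⟩
        map_one' := rfl
        map_mul' := fun a b => rfl }
    refine IsZGroup.of_injective (f := g) fun a b h => ?_
    exact Subtype.ext (Subtype.ext (congrArg (Subtype.val : ↥(Cfsg.alphaCore M ⊓ centralizer ({(xM : G)} : Set G)) → G) h))
  have hder : Oα ≤ commutator M := by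
    intro y hy
    have h := hσM' (hασ (mem_map_of_mem M.subtype hy))
    rw [hM'] at h
    obtain ⟨z, hz, hzy⟩ := h
    rwa [← M.subtype_injective hzy]
  have h := PLenZ.pLengthLE_commutator hodd (p := p) Oα E hcop hE hxE hxo' hZ'
  rw [commutator_eq_of_le_derived hE.sup_eq_top hcop hder] at h
  refine CfsgLib.FGSA.PLen.pLengthLE_add (a := 1) (b := 0) Oα h (CfsgLib.FGSA.PLen.pLengthLE_zero_of_coprime ?_)
  rw [← index_eq_card]
  exact ((Fact.out : p.Prime).coprime_iff_not_dvd.2 (hOidx ▸ hαh.2.2 p Fact.out hpα)).symm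

/-- Proper subgroups have `p`-length one. -/
theorem proper_pLength {H : Subgroup G} (hH : H ≠ ⊤) : Cfsg.PLengthLE p 1 H := by
  obtain ⟨M, hM, hHM⟩ := (eq_top_or_exists_le_coatom H).resolve_left hH
  exact CfsgLib.FGSA.PLen.pLengthLE_of_surjective (subgroupOfEquivOfLe hHM).toMonoidHom (MulEquiv.surjective _)
    (Sig.pLengthLE_subgroup (coatom_pLength hG hM) (H.subgroupOf M))

/-- `N(P)` strongly controls fusion in a Sylow subgroup `P`. -/
theorem control_normalizer (P : Sylow p G) (hP : (P : Subgroup G) ≠ ⊥) {B : Set G} (hB : B ⊆ (P : Subgroup G)) (g : G)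
    (hg : (fun a => g * a * g⁻¹) '' B ⊆ (P : Subgroup G)) :
    ∃ n ∈ normalizer ((P : Subgroup G) : Set G), ∀ a ∈ B, g * a * g⁻¹ = n * a * n⁻¹ := by
  have hN := CfsgLib.CN.MinSimple.normalizer_ne_top hG P.2.isNilpotent hP
  obtain ⟨M, hM, hNM⟩ := (eq_top_or_exists_le_coatom _).resolve_left hN
  have hPM : (P : Subgroup G) ≤ M := le_normalizer.trans hNM
  have hpM : p ∣ Nat.card M :=
    ((P.2.card_eq_or_dvd).resolve_left fun e => hP (eq_bot_of_card_eq _ e)).trans (card_dvd_of_le hPM)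
  have hσ : p ∈ Cfsg.sigma M := ⟨Fact.out, hpM, P.subtype hPM, by
    rwa [show ((P.subtype hPM : Sylow p M) : Subgroup M).map M.subtype = (P : Subgroup G) from map_subgroupOf_eq_of_le hPM]⟩
  obtain ⟨x, hx, hxe⟩ := Sig.control hG hM hσ P hPM hB g hg
  haveI : Group.IsSolvable M := hG.2.2.2 M hM.1
  obtain ⟨n, hn, c, hc, hnc⟩ := (Cfsg.Agent.S1461.result p (coatom_pLength (p := p) hG hM) (P.subtype hPM)).2.1
    {a : M | (a : G) ∈ B} ⟨x, hx⟩ (fun a ha => hB ha) (by
      rintro _ ⟨a, ha, rfl⟩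
      show x * (a : G) * x⁻¹ ∈ (P : Subgroup G)
      rw [← hxe _ ha]
      exact hg ⟨a, ha, rfl⟩)
  refine ⟨n, ?_, fun a ha => ?_⟩
  · refine mem_normalizer_iff.2 fun y => ⟨fun hy => ?_, fun hy => ?_⟩
    · exact (mem_normalizer_iff.1 hn ⟨y, hPM hy⟩).1 hy
    · have hyM : y ∈ M := by simpa [mul_assoc] using mul_mem (mul_mem (inv_mem n.2) (hPM hy)) n.2
      exact (mem_normalizer_iff.1 hn ⟨y, hyM⟩).2 hy
  rw [hxe a ha]
  have hxn : x = (n : G) * (c : G) := (congrArg Subtype.val hnc).symm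
  have hca : a * (c : G) = c * a := congrArg Subtype.val (mem_centralizer_iff.1 hc ⟨a, hPM (hB ha)⟩ ha)
  rw [hxn]
  calc (n : G) * c * a * ((n : G) * c)⁻¹ = n * (c * a) * (c : G)⁻¹ * (n : G)⁻¹ := by group
    _ = n * (a * c) * (c : G)⁻¹ * (n : G)⁻¹ := by rw [hca]
    _ = n * a * (n : G)⁻¹ := by group

/-- A Sylow subgroup is the commutator with a complement in its normalizer. -/
theorem sylow_commutator (P : Sylow p G) {V : Subgroup G}
    (hV : Cfsg.IsComplIn (P : Subgroup G) V (normalizer ((P : Subgroup G) : Set G))) :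
    (P : Subgroup G) = ⁅(P : Subgroup G), V⁆ ∧
      (P : Subgroup G) ≤ ⁅normalizer ((P : Subgroup G) : Set G), normalizer ((P : Subgroup G) : Set G)⁆ := by
  by_cases hP : (P : Subgroup G) = ⊥
  · exact ⟨by rw [hP, commutator_bot_left], hP.le.trans bot_le⟩
  haveI := CfsgLib.CN.MinSimple.nontrivial hG
  set N := normalizer ((P : Subgroup G) : Set G) with hNdef
  have hN : N ≠ ⊤ := CfsgLib.CN.MinSimple.normalizer_ne_top hG P.2.isNilpotent hP
  haveI : Group.IsSolvable N := hG.2.2.2 N hN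
  have hidx : ¬ p ∣ N.index := fun h => P.not_dvd_index (h.trans (index_dvd_of_le le_normalizer))
  have hmemP : ∀ g ∈ N, (∃ k : ℕ, orderOf g = p ^ k) → g ∈ (P : Subgroup G) := by
    rintro g hg ⟨k, hk⟩
    haveI : ((P.subtype (le_normalizer : (P : Subgroup G) ≤ N) : Sylow p N) : Subgroup N).Normal := by
      rw [Sylow.coe_subtype]; exact normal_in_normalizer
    have hgp : IsPGroup p (zpowers (⟨g, hg⟩ : N)) :=
      IsPGroup.of_card (n := k) (by rw [Nat.card_zpowers, orderOf_mk, hk])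
    obtain ⟨T, hT⟩ := hgp.exists_le_sylow
    haveI := Sylow.unique_of_normal (P.subtype (le_normalizer : (P : Subgroup G) ≤ N)) inferInstance
    rw [Subsingleton.elim T (P.subtype le_normalizer)] at hT
    exact hT (mem_zpowers _)
  have hPN' : (P : Subgroup G) ≤ ⁅N, N⁆ := by
    refine Sig.le_derived_of_fusion (CfsgLib.CN.MinSimple.perfect hG)
      ((Fact.out : p.Prime).coprime_iff_not_dvd.2 hidx) ?_ P.2 le_normalizer
    rintro g hg hgk a ha
    obtain ⟨k, hk⟩ := hgk
    have ha' : a * g * a⁻¹ ∈ (P : Subgroup G) :=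
      hmemP _ ha ⟨k, by rw [← hk]; exact (MulAut.conj a).orderOf_eq g⟩
    obtain ⟨n, hn, hne⟩ := control_normalizer hG P hP (B := {g})
      (Set.singleton_subset_iff.2 (hmemP g hg ⟨k, hk⟩)) a (by rintro _ ⟨b, hb, rfl⟩; rw [Set.mem_singleton_iff.1 hb]; exact ha')
    exact ⟨n, hn, (hne g rfl).symm⟩
  refine ⟨?_, hPN'⟩
  obtain ⟨hPle, hVle, hinf, hprod⟩ := hV
  haveI : ((P : Subgroup G).subgroupOf N).Normal := normal_in_normalizer
  have hsup : (P : Subgroup G).subgroupOf N ⊔ V.subgroupOf N = ⊤ := by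
    refine eq_top_iff.2 fun m _ => ?_
    obtain ⟨a, ha, b, hb, hab⟩ := hprod m m.2
    rw [show m = (⟨a, hPle ha⟩ : N) * ⟨b, hVle hb⟩ from Subtype.ext hab]
    exact mul_mem_sup ha hb
  have hcop : (Nat.card ((P : Subgroup G).subgroupOf N)).Coprime (Nat.card (V.subgroupOf N)) := by
    rw [Nat.card_congr (subgroupOfEquivOfLe hPle).toEquiv, Nat.card_congr (subgroupOfEquivOfLe hVle).toEquiv]
    obtain ⟨k, hk⟩ := IsPGroup.iff_card.1 P.2
    rw [hk]
    refine Nat.Coprime.pow_left k ((Fact.out : p.Prime).coprime_iff_not_dvd.2 fun hd => ?_)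
    obtain ⟨b, hb⟩ := exists_prime_orderOf_dvd_card' p hd
    have hbP : (b : G) ∈ (P : Subgroup G) := hmemP b (hVle b.2) ⟨1, by rw [orderOf_coe, hb, pow_one]⟩
    have hb1 : (b : G) ∈ (P : Subgroup G) ⊓ V := ⟨hbP, b.2⟩
    rw [hinf, mem_bot] at hb1
    rw [← orderOf_coe, hb1, orderOf_one] at hb
    exact (Fact.out : p.Prime).one_lt.ne hb
  have hder : (P : Subgroup G).subgroupOf N ≤ commutator N := by
    intro y hy
    have h := hPN' hy
    rw [show ⁅N, N⁆ = (commutator N).map N.subtype by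
      rw [_root_.commutator_def, map_commutator, ← MonoidHom.range_eq_map, range_subtype]] at h
    obtain ⟨z, hz, hzy⟩ := h
    rwa [← N.subtype_injective hzy]
  have h := congrArg (Subgroup.map N.subtype) (commutator_eq_of_le_derived hsup hcop hder)
  rw [map_commutator, map_subgroupOf_eq_of_le hPle, map_subgroupOf_eq_of_le hVle] at h
  exact h.symm

/-- Fusion of subgroups is controlled by `N(P)`. -/
theorem control_subgroup (P : Sylow p G) (Q : Subgroup G) (x : G) (hQ : Q ≤ (P : Subgroup G))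
    (hx : Q.map (MulAut.conj x).toMonoidHom ≤ (P : Subgroup G)) :
    ∃ y ∈ normalizer ((P : Subgroup G) : Set G), Q.map (MulAut.conj x).toMonoidHom = Q.map (MulAut.conj y).toMonoidHom := by
  by_cases hP : (P : Subgroup G) = ⊥
  · refine ⟨1, one_mem _, ?_⟩
    have : Q = ⊥ := le_bot_iff.1 (hQ.trans hP.le)
    simp [this]
  obtain ⟨n, hn, hne⟩ := control_normalizer hG P hP (B := (Q : Set G)) hQ x (by
    rintro _ ⟨a, ha, rfl⟩; exact hx ⟨a, ha, rfl⟩)
  exact ⟨n, hn, map_congr_on Q _ _ hne⟩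
where
  map_congr_on {G : Type u} [Group G] (Q : Subgroup G) (x n : G) (h : ∀ a ∈ (Q : Set G), x * a * x⁻¹ = n * a * n⁻¹) :
      Q.map (MulAut.conj x).toMonoidHom = Q.map (MulAut.conj n).toMonoidHom := by
    ext y
    constructor
    · rintro ⟨a, ha, rfl⟩; exact ⟨a, ha, (h a ha).symm⟩
    · rintro ⟨a, ha, rfl⟩; exact ⟨a, ha, h a ha⟩

theorem normalizer_index (P : Sylow p G) (Q : Subgroup G) (hQ : Q ≤ (P : Subgroup G)) :
    ¬ p ∣ ((P : Subgroup G) ⊓ normalizer (Q : Set G)).relIndex (normalizer (Q : Set G)) := by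
  set N := normalizer (Q : Set G)
  obtain ⟨S, hS⟩ := ((P.2.to_le (inf_le_left : (P : Subgroup G) ⊓ N ≤ P)).comap_subtype (K := N)).exists_le_sylow
  set S' := (S : Subgroup N).map N.subtype
  have hS'p : IsPGroup p S' := S.2.map _
  obtain ⟨T, hT⟩ := hS'p.exists_le_sylow
  obtain ⟨g, hg⟩ := MulAction.exists_smul_eq G T P
  have hgP : ∀ t ∈ T, g * t * g⁻¹ ∈ (P : Subgroup G) := by
    intro t ht
    rw [← hg, Sylow.coe_subgroup_smul]
    exact smul_mem_pointwise_smul t (MulAut.conj g) _ ht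
  have hQT : Q ≤ S' := fun y hy => ⟨⟨y, le_normalizer hy⟩, hS (show (⟨y, le_normalizer hy⟩ : N) ∈ _ from
    ⟨hQ hy, le_normalizer hy⟩), rfl⟩
  obtain ⟨y, hy, hye⟩ := control_subgroup hG P Q g hQ (by
    rintro _ ⟨a, ha, rfl⟩; exact hgP a (hT (hQT ha)))
  have hh : y⁻¹ * g ∈ N := mem_normalizer_iff_map_conj_eq.2 (by
    show Q.map (MulAut.conj (y⁻¹ * g)).toMonoidHom = Q
    rw [← TH.map_conj_map_conj, hye, Uniq.map_conj_inv])
  have hle : S'.map (MulAut.conj (y⁻¹ * g)).toMonoidHom ≤ (P : Subgroup G) ⊓ N := by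
    rintro _ ⟨a, ha, rfl⟩
    refine ⟨?_, N.mul_mem (N.mul_mem hh (map_subtype_le _ ha)) (N.inv_mem hh)⟩
    show y⁻¹ * g * a * (y⁻¹ * g)⁻¹ ∈ (P : Subgroup G)
    have h := (mem_normalizer_iff.1 (inv_mem hy) _).1 (hgP a (hT ha))
    simpa [mul_assoc] using h
  have heq : ((P : Subgroup G) ⊓ N).subgroupOf N = (S : Subgroup N) := by
    refine eq_of_le_of_card_ge hS ?_
    rw [Nat.card_congr (subgroupOfEquivOfLe inf_le_right).toEquiv, ← card_map_of_injective N.subtype_injective,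
      ← card_map_of_injective (f := (MulAut.conj (y⁻¹ * g)).toMonoidHom) (MulAut.conj (y⁻¹ * g)).injective]
    exact card_le_of_le hle
  rw [relIndex, heq]
  exact S.not_dvd_index

theorem normalizer_le_of_weakly_closed (P : Sylow p G) {R Q : Subgroup G} (hR : IsPGroup p R)
    (hQ : Q ≤ (P : Subgroup G) ⊓ R)
    (hN : normalizer ((P : Subgroup G) : Set G) ≤ normalizer (Q : Set G)) :
    normalizer (R : Set G) ≤ normalizer (Q : Set G) := by
  obtain ⟨T, hT⟩ := hR.exists_le_sylow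
  obtain ⟨g, hg⟩ := MulAction.exists_smul_eq G T P
  have hgP : ∀ t ∈ R, g * t * g⁻¹ ∈ (P : Subgroup G) := by
    intro t ht
    rw [← hg, Sylow.coe_subgroup_smul]
    exact smul_mem_pointwise_smul t (MulAut.conj g) _ (hT ht)
  have key : ∀ m : G, (∀ t ∈ Q, m * t * m⁻¹ ∈ (P : Subgroup G)) → m ∈ normalizer (Q : Set G) := by
    intro m hm
    obtain ⟨y, hy, hye⟩ := control_subgroup hG P Q m (hQ.trans inf_le_left) (by
      rintro _ ⟨a, ha, rfl⟩; exact hm a ha)
    refine mem_normalizer_iff_map_conj_eq.2 ?_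
    show Q.map (MulAut.conj m).toMonoidHom = Q
    rw [hye]
    exact mem_normalizer_iff_map_conj_eq.1 (hN hy)
  intro n hn
  have h1 := key g fun t ht => hgP t (hQ ht).2
  have h2 := key (g * n) fun t ht => by
    have h := hgP _ ((mem_normalizer_iff.1 hn t).1 (hQ ht).2)
    simpa [mul_assoc] using h
  have := mul_mem (inv_mem h1) h2
  rwa [inv_mul_cancel_left] at this

end CfsgLib.OddLocal.PLenOne
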