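import Cfsg.Prelude.Def_OddOrderLocal
import Cfsg.Agent.InvChar.UniqueInvolution

/-!
Elementary properties of the Puig series.
-/

set_option autoImplicit false
set_option linter.style.haveILetI false

namespace CfsgLib.OddLocal.Puig

open Subgroup Cfsg

variable {G : Type*} [Group G]

theorem step_antitone {X Y : Subgroup G} (h : X ≤ Y) : puigStep Y ≤ puigStep X :=
  sSup_le_sSup fun _ hA => ⟨hA.1, h.trans hA.2⟩

theorem le_step {X A : Subgroup G} (hA : IsMulCommutative A) (hX : X ≤ normalizer (A : Set G)) :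
    A ≤ puigStep X :=
  le_sSup ⟨hA, hX⟩

theorem seq_one : puigSeq G 1 = ⊤ := by
  refine eq_top_iff.2 fun x _ => le_step (X := puigSeq G 0) (A := zpowers x) ?_ (fun y hy => ?_) (mem_zpowers x)
  · exact ⟨⟨fun a b => Subtype.ext (setLike_mul_comm a.2 b.2)⟩⟩
  · rw [show puigSeq G 0 = ⊥ from rfl, mem_bot] at hy
    rw [hy]
    exact one_mem _

theorem seq_shift {a b : ℕ} (h : puigSeq G a ≤ puigSeq G b) : ∀ n : ℕ,
    (Even n → puigSeq G (a + n) ≤ puigSeq G (b + n)) ∧ (Odd n → puigSeq G (b + n) ≤ puigSeq G (a + n)) := by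
  intro n
  induction n with
  | zero => exact ⟨fun _ => h, fun h' => absurd h' (by simp)⟩
  | succ n ih =>
    refine ⟨fun hev => ?_, fun hod => ?_⟩
    · exact step_antitone (ih.2 (Nat.not_even_iff_odd.1 fun h' => Nat.even_add_one.1 hev h'))
    · exact step_antitone (ih.1 (by obtain ⟨k, hk⟩ := hod; exact ⟨k, by omega⟩))

theorem even_mono (n : ℕ) : puigSeq G (2 * n) ≤ puigSeq G (2 * n + 2) := by
  have h := (seq_shift (G := G) (a := 0) (b := 2) bot_le (2 * n)).1 (even_two_mul n)
  rwa [Nat.zero_add, Nat.add_comm 2] at h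

theorem odd_anti (m : ℕ) : puigSeq G (2 * m + 3) ≤ puigSeq G (2 * m + 1) := by
  have h := (seq_shift (G := G) (a := 0) (b := 2) bot_le (2 * m + 1)).2 (odd_two_mul_add_one m)
  rwa [Nat.zero_add, show 2 + (2 * m + 1) = 2 * m + 3 by omega] at h

theorem even_monotone : Monotone fun n => puigSeq G (2 * n) :=
  monotone_nat_of_le_succ fun n => even_mono n

theorem odd_antitone : Antitone fun n => puigSeq G (2 * n + 1) :=
  antitone_nat_of_succ_le fun n => odd_anti n

theorem even_le_odd (n m : ℕ) : puigSeq G (2 * n) ≤ puigSeq G (2 * m + 1) := by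
  have h := (seq_shift (G := G) (a := 0) (b := 2 * (max n m - n) + 1) bot_le (2 * n)).1 (even_two_mul n)
  rw [Nat.zero_add, show 2 * (max n m - n) + 1 + 2 * n = 2 * max n m + 1 by omega] at h
  exact h.trans (odd_antitone (le_max_right n m))

theorem exists_stable [Finite G] :
    ∃ k : ℕ, ∀ n : ℕ, k ≤ n → puigSeq G (2 * n) = puigLower G ∧ puigSeq G (2 * n + 1) = puigSubgroup G := by
  obtain ⟨a, ha⟩ := WellFoundedGT.monotone_chain_condition ⟨fun n => puigSeq G (2 * n), even_monotone⟩
  obtain ⟨b, hb⟩ := WellFoundedGT.monotone_chain_condition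
    (α := (Subgroup G)ᵒᵈ) ⟨fun n => OrderDual.toDual (puigSeq G (2 * n + 1)), fun _ _ h => odd_antitone h⟩
  refine ⟨max a b, fun n hn => ⟨le_antisymm (le_iSup (fun n => puigSeq G (2 * n)) n) (iSup_le fun m => ?_),
    le_antisymm (le_iInf fun m => ?_) (iInf_le (fun n => puigSeq G (2 * n + 1)) n)⟩⟩
  · refine (even_monotone (le_max_right n m)).trans ?_
    have h1 : puigSeq G (2 * a) = puigSeq G (2 * max n m) := ha _ (by omega)
    have h2 : puigSeq G (2 * a) = puigSeq G (2 * n) := ha _ (by omega)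
    exact (h1.symm.trans h2).le
  · refine le_trans ?_ (odd_antitone (le_max_right n m))
    have h1 : puigSeq G (2 * b + 1) = puigSeq G (2 * max n m + 1) := hb _ (by omega)
    have h2 : puigSeq G (2 * b + 1) = puigSeq G (2 * n + 1) := hb _ (by omega)
    exact (h2.symm.trans h1).le

theorem step_lower [Finite G] : puigStep (puigLower G) = puigSubgroup G := by
  obtain ⟨k, hk⟩ := exists_stable (G := G)
  rw [← (hk k le_rfl).1, ← (hk k le_rfl).2]
  rfl

theorem step_subgroup [Finite G] : puigStep (puigSubgroup G) = puigLower G := by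
  obtain ⟨k, hk⟩ := exists_stable (G := G)
  rw [← (hk k le_rfl).2, ← (hk (k + 1) (by omega)).1]
  rfl

/-- In a nontrivial `p`-group every step contains the centralizer of itself. -/
theorem centralizer_step_le [Finite G] [Nontrivial G] {p : ℕ} [Fact p.Prime] (hG : IsPGroup p G) (X : Subgroup G) :
    centralizer ((puigStep X : Subgroup G) : Set G) ≤ puigStep X ∧ puigStep X ≠ ⊥ := by
  obtain ⟨A, hAn, hAc, hAC⟩ := CfsgLib.UniqueInvol.exists_self_centralizing hG
  haveI := hAn
  have hA : IsMulCommutative A := ⟨⟨fun a b => Subtype.ext (hAc a a.2 b b.2)⟩⟩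
  have hle : A ≤ puigStep X := le_step hA le_normalizer_of_normal
  refine ⟨fun x hx => hle (hAC (mem_centralizer_iff.2 fun a ha => mem_centralizer_iff.1 hx a (hle ha))), fun h => ?_⟩
  rw [h, le_bot_iff] at hle
  obtain ⟨x, hx⟩ := exists_ne (1 : G)
  refine hx (mem_bot.1 (hle ▸ hAC (mem_centralizer_iff.2 fun a ha => ?_)))
  have ha' : a = 1 := mem_bot.1 (hle ▸ ha)
  rw [ha', mul_one, one_mul]

end CfsgLib.OddLocal.Puig
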