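import Cfsg.Agent.OddLocal.PuigBasic

/-!
The Puig series of a subgroup, computed inside the ambient group.
-/

set_option autoImplicit false
set_option linter.style.haveILetI false
set_option linter.unusedSectionVars false

namespace CfsgLib.OddLocal.Puig

open Subgroup Cfsg

variable {G : Type*} [Group G]

/-- The Puig step of `R` at `X`, as a subgroup of the ambient group. -/
def stepIn (R X : Subgroup G) : Subgroup G :=
  sSup {A : Subgroup G | A ≤ R ∧ IsMulCommutative A ∧ X ≤ normalizer (A : Set G)}

/-- The Puig series of `R` inside the ambient group. -/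
def seqIn (R : Subgroup G) : ℕ → Subgroup G
  | 0 => ⊥
  | n + 1 => stepIn R (seqIn R n)

def upIn (R : Subgroup G) : Subgroup G := ⨅ n : ℕ, seqIn R (2 * n + 1)

def lowIn (R : Subgroup G) : Subgroup G := ⨆ n : ℕ, seqIn R (2 * n)

/-- `Z(L(R))` inside the ambient group. -/
def centerUp (R : Subgroup G) : Subgroup G := upIn R ⊓ centralizer (upIn R : Set G)

theorem stepIn_le (R X : Subgroup G) : stepIn R X ≤ R := sSup_le fun _ hA => hA.1

theorem stepIn_anti {R X Y : Subgroup G} (h : X ≤ Y) : stepIn R Y ≤ stepIn R X :=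
  sSup_le_sSup fun _ hA => ⟨hA.1, hA.2.1, h.trans hA.2.2⟩

theorem stepIn_mono {R S X : Subgroup G} (h : R ≤ S) : stepIn R X ≤ stepIn S X :=
  sSup_le_sSup fun _ hA => ⟨hA.1.trans h, hA.2⟩

theorem seqIn_le (R : Subgroup G) : ∀ n, seqIn R n ≤ R
  | 0 => bot_le
  | _ + 1 => stepIn_le _ _

theorem le_stepIn {R X A : Subgroup G} (hR : A ≤ R) (hA : IsMulCommutative A)
    (hX : X ≤ normalizer (A : Set G)) : A ≤ stepIn R X :=
  le_sSup ⟨hR, hA, hX⟩

theorem comap_comm {H : Type*} [Group H] {f : G →* H} (hf : Function.Injective f) {B : Subgroup H}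
    (hB : IsMulCommutative B) : IsMulCommutative (B.comap f) :=
  ⟨⟨fun a b => Subtype.ext (hf (by
    rw [show ((a * b : B.comap f) : G) = a * b from rfl, show ((b * a : B.comap f) : G) = b * a from rfl,
      map_mul, map_mul]
    exact congrArg Subtype.val (hB.is_comm.comm ⟨f a, a.2⟩ ⟨f b, b.2⟩)))⟩⟩

section Map

variable {R : Type*} [Group R] {f : R →* G}

theorem map_step (hf : Function.Injective f) (X : Subgroup R) :
    (puigStep X).map f = stepIn f.range (X.map f) := by
  refine le_antisymm (map_le_iff_le_comap.2 (sSup_le fun A hA => map_le_iff_le_comap.1 ?_))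
    (sSup_le fun B hB => ?_)
  · haveI := hA.1
    exact le_stepIn (map_le_range f A) (Subgroup.map_isMulCommutative A f)
      ((map_mono hA.2).trans (le_normalizer_map f))
  · obtain ⟨hBr, hBc, hBn⟩ := hB
    rw [← map_comap_eq_self hBr]
    refine map_mono (le_step (comap_comm hf hBc) fun x hx => mem_normalizer_iff.2 fun y => ?_)
    rw [mem_comap, mem_comap, map_mul, map_mul, map_inv]
    exact mem_normalizer_iff.1 (hBn (mem_map_of_mem f hx)) (f y)

theorem map_seq (hf : Function.Injective f) : ∀ n, (puigSeq R n).map f = seqIn f.range n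
  | 0 => Subgroup.map_bot f
  | n + 1 => by
    show (puigStep (puigSeq R n)).map f = stepIn f.range (seqIn f.range n)
    rw [map_step hf, map_seq hf n]

theorem map_lower (hf : Function.Injective f) : (puigLower R).map f = lowIn f.range := by
  rw [puigLower, Subgroup.map_iSup]
  exact iSup_congr fun n => map_seq hf _

theorem map_upper (hf : Function.Injective f) : (puigSubgroup R).map f = upIn f.range := by
  rw [puigSubgroup, Subgroup.map_iInf f hf]
  exact iInf_congr fun n => map_seq hf _

theorem map_inf_centralizer (hf : Function.Injective f) (H : Subgroup R) :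
    (H ⊓ centralizer (H : Set R)).map f = H.map f ⊓ centralizer (H.map f : Set G) := by
  refine le_antisymm ?_ ?_
  · rintro _ ⟨x, ⟨hx, hxc⟩, rfl⟩
    refine ⟨mem_map_of_mem f hx, mem_centralizer_iff.2 ?_⟩
    rintro _ ⟨y, hy, rfl⟩
    rw [← map_mul, ← map_mul, mem_centralizer_iff.1 hxc y hy]
  · rintro _ ⟨⟨x, hx, rfl⟩, hxc⟩
    refine mem_map_of_mem f ⟨hx, mem_centralizer_iff.2 fun y hy => hf ?_⟩
    rw [map_mul, map_mul]
    exact mem_centralizer_iff.1 hxc (f y) (mem_map_of_mem f hy)

theorem map_centerUp (hf : Function.Injective f) :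
    (puigSubgroup R ⊓ centralizer (puigSubgroup R : Set R)).map f = centerUp f.range := by
  rw [map_inf_centralizer hf, map_upper hf, centerUp]

end Map

theorem center_map_subtype (H : Subgroup G) :
    (center H).map H.subtype = H ⊓ centralizer (H : Set G) := by
  refine le_antisymm ?_ ?_
  · rintro _ ⟨x, hx, rfl⟩
    exact ⟨x.2, mem_centralizer_iff.2 fun y hy => congrArg Subtype.val (mem_center_iff.1 hx ⟨y, hy⟩)⟩
  · rintro x ⟨hx, hxc⟩
    exact ⟨⟨x, hx⟩, mem_center_iff.2 fun y => Subtype.ext (mem_centralizer_iff.1 hxc y y.2), rfl⟩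

variable [Finite G] (R : Subgroup G)

theorem lowIn_le_upIn : lowIn R ≤ upIn R := by
  have h : puigLower R ≤ puigSubgroup R := iSup_le fun n => le_iInf fun m => even_le_odd n m
  have h' := map_mono (f := R.subtype) h
  rwa [map_lower R.subtype_injective, map_upper R.subtype_injective, range_subtype] at h'

theorem stepIn_lowIn : stepIn R (lowIn R) = upIn R := by
  have h := congrArg (Subgroup.map R.subtype) (step_lower (G := R))
  rwa [map_step R.subtype_injective, map_upper R.subtype_injective, map_lower R.subtype_injective,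
    range_subtype] at h

theorem stepIn_upIn : stepIn R (upIn R) = lowIn R := by
  have h := congrArg (Subgroup.map R.subtype) (step_subgroup (G := R))
  rwa [map_step R.subtype_injective, map_upper R.subtype_injective, map_lower R.subtype_injective,
    range_subtype] at h

theorem upIn_le : upIn R ≤ R := (iInf_le _ 0).trans (seqIn_le R _)

variable {R}

theorem centralizer_stepIn_le {p : ℕ} [Fact p.Prime] (hR : IsPGroup p R) {X : Subgroup G} (hX : X ≤ R) :
    R ⊓ centralizer (stepIn R X : Set G) ≤ stepIn R X := by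
  rcases eq_or_ne R ⊥ with h | h
  · intro x hx
    have h1 : x = 1 := mem_bot.1 (h ▸ (mem_inf.1 hx).1)
    exact h1 ▸ one_mem _
  haveI : Nontrivial R := (nontrivial_iff_ne_bot R).2 h
  have h1 := (centralizer_step_le hR (X.subgroupOf R)).1
  have h2 : (puigStep (X.subgroupOf R)).map R.subtype = stepIn R X := by
    rw [map_step R.subtype_injective, range_subtype, map_subgroupOf_eq_of_le hX]
  rintro x ⟨hxR, hxc⟩
  refine h2 ▸ mem_map_of_mem R.subtype (h1 (show (⟨x, hxR⟩ : R) ∈ centralizer _ from
    mem_centralizer_iff.2 fun y hy => Subtype.ext (mem_centralizer_iff.1 hxc y ?_)))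
  rw [SetLike.mem_coe, ← h2]
  exact mem_map_of_mem R.subtype hy

theorem map_stepIn_le (φ : G ≃* G) (X : Subgroup G) (hφ : R.map φ.toMonoidHom = R) :
    (stepIn R X).map φ.toMonoidHom ≤ stepIn R (X.map φ.toMonoidHom) := by
  refine map_le_iff_le_comap.2 (sSup_le fun A hA => map_le_iff_le_comap.1 ?_)
  haveI := hA.2.1
  exact le_stepIn ((map_mono hA.1).trans hφ.le) (Subgroup.map_isMulCommutative A _)
    ((map_mono hA.2.2).trans (le_normalizer_map _))

theorem normalizer_le_seqIn : ∀ n, normalizer (R : Set G) ≤ normalizer (seqIn R n : Set G)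
  | 0 => by
    intro g _
    show g ∈ normalizer ((⊥ : Subgroup G) : Set G)
    rw [normalizer_eq_top]
    exact mem_top g
  | n + 1 => by
    have key : ∀ g ∈ normalizer (R : Set G), ∀ x ∈ seqIn R (n + 1), g * x * g⁻¹ ∈ seqIn R (n + 1) := by
      intro g hg x hx
      have hconj : ∀ H : Subgroup G, g ∈ normalizer (H : Set G) → H.map (MulAut.conj g).toMonoidHom = H := by
        intro H hgH
        ext y
        constructor
        · rintro ⟨z, hz, rfl⟩
          exact (mem_normalizer_iff.1 hgH z).1 hz
        · intro hy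
          refine ⟨g⁻¹ * y * g, (mem_normalizer_iff.1 hgH _).2 ?_, ?_⟩
          · simpa [mul_assoc] using hy
          · simp [mul_assoc]
      have h := map_stepIn_le (MulAut.conj g) (seqIn R n) (hconj R hg) (mem_map_of_mem _ hx)
      rwa [hconj _ (normalizer_le_seqIn n hg)] at h
    intro g hg
    refine mem_normalizer_iff.2 fun x => ⟨key g hg x, fun h => ?_⟩
    have h' := key g⁻¹ (inv_mem hg) _ h
    simpa [mul_assoc] using h'

theorem normalizer_le_upIn : normalizer (R : Set G) ≤ normalizer (upIn R : Set G) := by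
  intro g hg
  refine mem_normalizer_iff.2 fun x => ?_
  simp only [upIn, SetLike.mem_coe, Subgroup.mem_iInf]
  exact forall_congr' fun n => mem_normalizer_iff.1 (normalizer_le_seqIn _ hg) x

omit [Finite G] in
theorem normalizer_le_inf_centralizer (H : Subgroup G) :
    normalizer (H : Set G) ≤ normalizer ((H ⊓ centralizer (H : Set G) : Subgroup G) : Set G) := by
  have key : ∀ g ∈ normalizer (H : Set G), ∀ x ∈ H ⊓ centralizer (H : Set G),
      g * x * g⁻¹ ∈ H ⊓ centralizer (H : Set G) := by
    rintro g hg x ⟨hx, hxc⟩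
    refine ⟨(mem_normalizer_iff.1 hg x).1 hx, mem_centralizer_iff.2 fun h hh => ?_⟩
    have h1 := mem_centralizer_iff.1 hxc (g⁻¹ * h * g) ((mem_normalizer_iff.1 hg _).2 (by simpa [mul_assoc] using hh))
    have h2 := congrArg (fun w => g * w * g⁻¹) h1
    simpa [mul_assoc] using h2
  intro g hg
  refine mem_normalizer_iff.2 fun x => ⟨key g hg x, fun h => ?_⟩
  have h' := key g⁻¹ (inv_mem hg) _ h
  simpa [mul_assoc] using h'

theorem normalizer_le_centerUp : normalizer (R : Set G) ≤ normalizer (centerUp R : Set G) :=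
  normalizer_le_upIn.trans (normalizer_le_inf_centralizer _)

/-- The Puig subgroup is unchanged on passing to a subgroup containing it. -/
theorem upIn_eq_of_le {S : Subgroup G} (hRS : R ≤ S) (hR : upIn S ≤ R) : upIn R = upIn S := by
  have h1 : ∀ n, seqIn R (2 * n) ≤ lowIn S ∧ upIn S ≤ seqIn R (2 * n + 1) := by
    have hodd : ∀ m, seqIn R m ≤ lowIn S → upIn S ≤ seqIn R (m + 1) := fun m hm => by
      rw [← stepIn_lowIn S]
      refine sSup_le fun A hA => le_stepIn ?_ hA.2.1 (hm.trans hA.2.2)
      exact (le_stepIn hA.1 hA.2.1 hA.2.2).trans ((stepIn_lowIn S).le.trans hR)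
    intro n
    induction n with
    | zero => exact ⟨bot_le, hodd 0 bot_le⟩
    | succ n ih =>
      have h : seqIn R (2 * (n + 1)) ≤ lowIn S :=
        ((stepIn_anti ih.2).trans (stepIn_mono hRS)).trans (stepIn_upIn S).le
      exact ⟨h, hodd _ h⟩
  have h2 : ∀ n, seqIn S (2 * n) ≤ seqIn R (2 * n) ∧ seqIn R (2 * n + 1) ≤ seqIn S (2 * n + 1) := by
    intro n
    induction n with
    | zero => exact ⟨le_rfl, stepIn_mono hRS⟩
    | succ n ih =>
      have h : seqIn S (2 * (n + 1)) ≤ seqIn R (2 * (n + 1)) := by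
        refine sSup_le fun A hA => le_stepIn ?_ hA.2.1 (ih.2.trans hA.2.2)
        exact ((le_stepIn hA.1 hA.2.1 hA.2.2 : A ≤ seqIn S (2 * (n + 1))).trans
          (le_iSup (fun k => seqIn S (2 * k)) (n + 1))).trans ((lowIn_le_upIn S).trans hR)
      exact ⟨h, (stepIn_mono hRS).trans (stepIn_anti h)⟩
  exact le_antisymm (iInf_mono fun n => (h2 n).2) (le_iInf fun n => (h1 n).2)

end CfsgLib.OddLocal.Puig
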