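import Cfsg.Agent.OddLocal.PuigRelative
import Cfsg.Agent.OddLocal.OddStability

/-!
Puig's theorem on `Z(L(S))` for solvable groups of odd order.
-/

set_option autoImplicit false
set_option linter.style.haveILetI false
set_option linter.unusedSectionVars false

namespace CfsgLib.OddLocal.Puig

open Subgroup Cfsg

universe u

variable {G : Type u} [Group G] [Finite G] [Group.IsSolvable G] {p : ℕ} [Fact p.Prime]

theorem chain (hodd : Odd (Nat.card G)) (hp : p ≠ 2) (hO : Cfsg.pPrimeCore p G = ⊥) (S : Sylow p G) :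
    lowIn (S : Subgroup G) ≤ lowIn (Cfsg.pCore p G) ∧ upIn (Cfsg.pCore p G) ≤ upIn (S : Subgroup G) := by
  set T := Cfsg.pCore p G
  haveI hTn : T.Normal := CfsgLib.Solvable.pCore_normal p
  have hTp : IsPGroup p T := CfsgLib.Solvable.isPGroup_pCore p
  have hTS : T ≤ S := CfsgLib.Fitting.pCore_le_sylow S
  have key : ∀ n, seqIn (S : Subgroup G) (2 * n) ≤ seqIn T (2 * n) ∧
      seqIn T (2 * n + 1) ≤ seqIn (S : Subgroup G) (2 * n + 1) := by
    have hodd' : ∀ m, seqIn (S : Subgroup G) m ≤ seqIn T m → seqIn T (m + 1) ≤ seqIn (S : Subgroup G) (m + 1) :=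
      fun m hm => sSup_le fun A hA => le_stepIn (hA.1.trans hTS) hA.2.1 (hm.trans hA.2.2)
    intro n
    induction n with
    | zero => exact ⟨le_rfl, hodd' 0 le_rfl⟩
    | succ n ih =>
      have h : seqIn (S : Subgroup G) (2 * (n + 1)) ≤ seqIn T (2 * (n + 1)) := by
        set P := seqIn T (2 * n + 1) with hP
        haveI : P.Normal := normalizer_eq_top_iff.1 (top_le_iff.1
          ((normalizer_eq_top (H := T)).ge.trans (normalizer_le_seqIn _)))
        set 𝒮 : Set (Subgroup G) :=
          {A | A ≤ (S : Subgroup G) ∧ IsMulCommutative A ∧ seqIn (S : Subgroup G) (2 * n + 1) ≤ normalizer (A : Set G)}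
        have hst := (CfsgLib.OddLocal.Stability.generated_stable hodd hp P (hTp.to_le (seqIn_le T _)) 𝒮
          fun B hB => ⟨hB.2.1, S.2.to_le hB.1, ih.2.trans hB.2.2⟩).2 hO
          (centralizer_stepIn_le hTp (seqIn_le T _))
        exact sSup_le fun A hA => le_stepIn ((le_sSup hA).trans hst) hA.2.1 (ih.2.trans hA.2.2)
      exact ⟨h, hodd' _ h⟩
  exact ⟨iSup_mono fun n => (key n).1, iInf_mono fun n => (key n).2⟩

theorem centerUp_normal (hodd : Odd (Nat.card G)) (hp : p ≠ 2) (hO : Cfsg.pPrimeCore p G = ⊥) (S : Sylow p G) :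
    (centerUp (S : Subgroup G)).Normal := by
  obtain ⟨hlow, hup⟩ := chain hodd hp hO S
  set T := Cfsg.pCore p G
  haveI hTn : T.Normal := CfsgLib.Solvable.pCore_normal p
  have hTp : IsPGroup p T := CfsgLib.Solvable.isPGroup_pCore p
  have hupT : T ⊓ centralizer (upIn T : Set G) ≤ upIn T := by
    rw [← stepIn_lowIn T]
    exact centralizer_stepIn_le hTp ((lowIn_le_upIn T).trans (upIn_le T))
  have hlowS : (S : Subgroup G) ⊓ centralizer (lowIn (S : Subgroup G) : Set G) ≤ lowIn (S : Subgroup G) := by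
    rw [← stepIn_upIn (S : Subgroup G)]
    exact centralizer_stepIn_le S.2 (upIn_le _)
  set Y := centerUp (S : Subgroup G) with hY
  set Z := centerUp T with hZ
  haveI hZn : Z.Normal := normalizer_eq_top_iff.1 (top_le_iff.1
    ((normalizer_eq_top (H := T)).ge.trans normalizer_le_centerUp))
  have hYT : Y ≤ T := by
    refine le_trans (fun y hy => ?_) (hlow.trans ((lowIn_le_upIn T).trans (upIn_le T)))
    exact hlowS ⟨upIn_le _ (mem_inf.1 hy).1,
      centralizer_le (SetLike.coe_subset_coe.2 (lowIn_le_upIn _)) (mem_inf.1 hy).2⟩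
  have hYZ : Y ≤ Z := fun y hy => by
    have h : y ∈ centralizer (upIn T : Set G) := centralizer_le (SetLike.coe_subset_coe.2 hup) (mem_inf.1 hy).2
    exact mem_inf.2 ⟨hupT ⟨hYT hy, h⟩, h⟩
  have hZlow : Z ≤ lowIn (S : Subgroup G) := fun z hz =>
    hlowS ⟨CfsgLib.Fitting.pCore_le_sylow S (upIn_le T (mem_inf.1 hz).1),
      centralizer_le (SetLike.coe_subset_coe.2 (hlow.trans (lowIn_le_upIn T))) (mem_inf.1 hz).2⟩
  set C := centralizer (Z : Set G) with hC
  haveI hCn : C.Normal := Subgroup.normal_centralizer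
  set K := (Cfsg.pCore p (G ⧸ C)).comap (QuotientGroup.mk' C) with hK
  haveI hKn : K.Normal := (CfsgLib.Solvable.pCore_normal p).comap _
  have hupK : upIn (S : Subgroup G) ≤ K := by
    rw [← stepIn_lowIn (S : Subgroup G)]
    refine map_le_iff_le_comap.1 (CfsgLib.OddLocal.Stability.generated_stable hodd hp Z
      (hTp.to_le (inf_le_left.trans (upIn_le T))) _ fun B hB => ?_).1
    exact ⟨hB.2.1, S.2.to_le hB.1, hZlow.trans hB.2.2⟩
  set S1 := (S : Subgroup G) ⊓ K with hS1
  have heq : upIn S1 = upIn (S : Subgroup G) := upIn_eq_of_le inf_le_left (le_inf (upIn_le _) hupK)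
  have hidx : ¬ p ∣ (S1.subgroupOf K).index := by
    intro h
    refine S.not_dvd_index (h.trans ?_)
    have h1 := CfsgLib.Solvable.card_sup_mul_card_inf (A := (S : Subgroup G)) (K := K) le_normalizer_of_normal
    have h2 : Nat.card S1 * (S1.subgroupOf K).index = Nat.card K := by
      rw [← relIndex, ← relIndex_bot_left, ← relIndex_bot_left, relIndex_mul_relIndex _ _ _ bot_le inf_le_right]
    have h3 : Nat.card ↥((S : Subgroup G) ⊔ K) = Nat.card (S : Subgroup G) * (S1.subgroupOf K).index := by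
      refine Nat.eq_of_mul_eq_mul_right (Nat.card_pos (α := S1)) ?_
      rw [hS1, h1, ← hS1, ← h2]; ring
    refine Nat.dvd_of_mul_dvd_mul_left (Nat.card_pos (α := (S : Subgroup G))) ?_
    rw [← h3, card_mul_index]
    exact card_subgroup_dvd_card _
  have hfr := Sylow.normalizer_sup_eq_top
    ((S.2.to_le inf_le_left).comap_of_injective K.subtype K.subtype_injective |>.toSylow hidx)
  change normalizer (((S1.subgroupOf K).map K.subtype : Subgroup G) : Set G) ⊔ K = ⊤ at hfr
  rw [map_subgroupOf_eq_of_le inf_le_right] at hfr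
  have hKC : K ≤ normalizer (S1 : Set G) ⊔ C := by
    set D := S1 ⊔ C
    refine le_trans ?_ (sup_le_sup le_normalizer le_rfl : D ≤ _)
    have hCK : C ≤ K := fun x hx => by
      simp [hK, mem_comap, (QuotientGroup.eq_one_iff x).2 hx, one_mem]
    refine relIndex_eq_one.1 ?_
    obtain ⟨i, hi⟩ := IsPGroup.iff_card.1 (CfsgLib.Solvable.isPGroup_pCore (G := G ⧸ C) p)
    have hci : C.relIndex K = p ^ i := by
      have h1 := relIndex_ker (f := QuotientGroup.mk' C) K
      rw [QuotientGroup.ker_mk', map_comap_eq_self_of_surjective (QuotientGroup.mk'_surjective C)] at h1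
      rw [h1, hi]
    refine Nat.eq_one_of_dvd_coprimes (?_ : (p ^ i).Coprime (S1.relIndex K)) ?_ ?_
    · exact ((Fact.out : p.Prime).coprime_iff_not_dvd.2 hidx).pow_left i
    · rw [← hci, ← relIndex_mul_relIndex C D K le_sup_right (sup_le inf_le_right hCK)]
      exact dvd_mul_left _ _
    · rw [← relIndex_mul_relIndex S1 D K le_sup_left (sup_le inf_le_right hCK)]
      exact dvd_mul_left _ _
  refine normalizer_eq_top_iff.1 (top_le_iff.1 ?_)
  calc (⊤ : Subgroup G) ≤ normalizer (S1 : Set G) ⊔ K := hfr.ge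
    _ ≤ normalizer (S1 : Set G) ⊔ C := sup_le le_sup_left hKC
    _ ≤ normalizer (Y : Set G) := sup_le (by
        refine normalizer_le_centerUp.trans ?_
        rw [centerUp, heq, hY, centerUp])
      ((centralizer_le (SetLike.coe_subset_coe.2 hYZ)).trans (centralizer_le_normalizer _))

theorem main (hodd : Odd (Nat.card G)) (hp : p ≠ 2) (S : Sylow p G) :
    Cfsg.pPrimeCore p G ⊔ normalizer (centerUp (S : Subgroup G) : Set G) = ⊤ := by
  set N := Cfsg.pPrimeCore p G with hN
  haveI : N.Normal := CfsgLib.Solvable.pPrimeCore_normal p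
  set π := QuotientGroup.mk' N
  have hπ : Function.Surjective π := QuotientGroup.mk'_surjective N
  set g := π.comp (S : Subgroup G).subtype
  have hinj : Function.Injective g := by
    rw [injective_iff_map_eq_one]
    intro x hx
    have hxN : (x : G) ∈ (S : Subgroup G) ⊓ N := ⟨x.2, (QuotientGroup.eq_one_iff _).1 hx⟩
    rw [CfsgLib.ZJ.isPGroup_inf_coprime S.2 (CfsgLib.Solvable.coprime_card_pPrimeCore p), mem_bot] at hxN
    exact Subtype.ext hxN
  set H := Cfsg.puigSubgroup (S : Subgroup G) ⊓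
    centralizer (Cfsg.puigSubgroup (S : Subgroup G) : Set (S : Subgroup G))
  have h1 : centerUp (S : Subgroup G) = H.map (S : Subgroup G).subtype := by
    rw [map_centerUp (S : Subgroup G).subtype_injective, range_subtype]
  have h2 : (centerUp (S : Subgroup G)).map π = centerUp ((S.mapSurjective hπ : Sylow p (G ⧸ N)) : Subgroup (G ⧸ N)) := by
    rw [h1, Subgroup.map_map, map_centerUp hinj]
    congr 1
    rw [MonoidHom.range_comp, range_subtype]
    rfl
  set Y := centerUp (S : Subgroup G)
  have hn : (Y.map π).Normal := h2 ▸ centerUp_normal (hodd.of_dvd_nat (card_quotient_dvd_card N)) hp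
    (CfsgLib.Fitting.pPrimeCore_quotient_eq_bot p) (S.mapSurjective hπ)
  haveI hM : (Y ⊔ N).Normal := by
    have := hn.comap π
    rwa [comap_map_eq, QuotientGroup.ker_mk'] at this
  have hYp : IsPGroup p Y := S.2.to_le (inf_le_left.trans (upIn_le _))
  have hidx : ¬ p ∣ (Y.subgroupOf (Y ⊔ N)).index := by
    intro h
    refine (Fact.out : p.Prime).coprime_iff_not_dvd.1 (CfsgLib.Solvable.coprime_card_pPrimeCore (G := G) p).symm
      (h.trans ?_)
    refine Nat.dvd_of_mul_dvd_mul_left (Nat.card_pos (α := Y)) ?_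
    rw [← relIndex, ← relIndex_bot_left, relIndex_mul_relIndex _ _ _ bot_le le_sup_left, relIndex_bot_left]
    simp only [relIndex_bot_left]
    exact CfsgLib.Solvable.card_sup_dvd (A := Y) (K := N) le_normalizer_of_normal
  have hfr := Sylow.normalizer_sup_eq_top
    ((hYp.comap_of_injective (Y ⊔ N).subtype (Y ⊔ N).subtype_injective).toSylow hidx)
  change normalizer (((Y.subgroupOf (Y ⊔ N)).map (Y ⊔ N).subtype : Subgroup G) : Set G) ⊔ (Y ⊔ N) = ⊤ at hfr
  rw [map_subgroupOf_eq_of_le le_sup_left] at hfr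
  refine top_le_iff.1 (hfr.ge.trans (sup_le le_sup_right (sup_le (le_normalizer.trans le_sup_right) le_sup_left)))

end CfsgLib.OddLocal.Puig
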