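import Cfsg.Agent.OddLocal.TauTwoMeet
import Cfsg.Agent.FGSA.FPFPrime
import Cfsg.Agent.S1408
import Cfsg.Agent.S1448
import Cfsg.Agent.S1453
import Mathlib.GroupTheory.SchurZassenhaus

/-!
The primes in `τ₂(M)`: lines without fixed points in `M_σ`, nilpotency of `M_σ`, and commutativity of the
Sylow subgroups.
-/

set_option autoImplicit false
set_option linter.style.haveILetI false
set_option linter.unusedSectionVars false

namespace CfsgLib.OddLocal.Tau

open Subgroup Cfsg CfsgLib.OddLocal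
open scoped commutatorElement

universe u

variable {G : Type u} [Group G] [Finite G] {p : ℕ} [hp : Fact p.Prime] {A : Subgroup G}
  (hG : Cfsg.IsMinSimpleOddOrder G)
include hG

omit hp in
theorem sigma_nonempty {M : Subgroup G} (hM : IsCoatom M) (hd : 1 < Nat.card M) :
    ∃ q, q.Prime ∧ q ∈ Cfsg.sigma M := by
  obtain ⟨r, hr, hrd⟩ := Nat.exists_prime_and_dvd (n := Nat.card M) (by omega)
  by_cases hα : ∀ r, r ∉ Cfsg.alpha M
  · haveI := Fact.mk hr
    obtain ⟨q, -, hq, -, -, hqσ, -⟩ := Excep.exists_top_prime (p := r) hG hM hα ⟨hr, hrd⟩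
    exact ⟨q, hq, hqσ⟩
  · push Not at hα
    obtain ⟨q, hq⟩ := hα
    exact ⟨q, hq.1, Sig.alpha_subset_sigma hG hM hq⟩

omit hp in
theorem sigmaCore_ne_bot {M : Subgroup G} (hM : IsCoatom M) (hd : 1 < Nat.card M) : Cfsg.sigmaCore M ≠ ⊥ := by
  obtain ⟨q, hq, hqσ⟩ := sigma_nonempty hG hM hd
  intro e
  have h := (Sig.sigma_core hG hM).1.2.2 q hq hqσ
  rw [e, relIndex_bot_left] at h
  exact h hqσ.2.1

variable (hA : Cfsg.IsElementaryAbelian p A) (hA2 : Nat.card A = p ^ 2)
  {M : Subgroup G} (hM : IsCoatom M) (hAM : A ≤ M) (hpσ : p ∉ Cfsg.sigma M)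
  (hmax : ∀ B : Subgroup G, Cfsg.IsElementaryAbelian p B → A ≤ B → B = A)
include hA hA2 hM hAM

omit hA in
theorem one_lt_card : 1 < Nat.card M :=
  lt_of_lt_of_le (hA2 ▸ Nat.one_lt_pow two_ne_zero hp.out.one_lt) (card_le_of_le hAM)

include hpσ hmax

/-- Not all lines are fixed point free on `M_σ`. -/
theorem exists_good {Z : Subgroup G} (hZA : Z ≤ A) (hZ : Nat.card Z = p)
    (hfix : Cfsg.sigmaCore M ⊓ centralizer (Z : Set G) = ⊥) :
    ∃ B : Subgroup G, B ≤ A ∧ Nat.card B = p ∧ B ≠ Z ∧ Cfsg.sigmaCore M ⊓ centralizer (B : Set G) ≠ ⊥ := by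
  by_contra hall
  push Not at hall
  refine sigmaCore_ne_bot hG hM (one_lt_card hG hA2 hM hAM) (le_bot_iff.1 (Excep.le_of_lines hA hA2
    (hAM.trans (TH.le_normalizer_core M)) (not_dvd_sigmaCore hG hM hpσ) fun Y hYA hY => ?_))
  by_cases hYZ : Y = Z
  · exact (hYZ ▸ hfix).le
  · exact (hall Y hYA hY hYZ).le

omit hA hA2 hAM hpσ hmax in
/-- Elements of `M` preserve fixed points in `M_σ`. -/
theorem good_map {m : G} (hm : m ∈ M) {B : Subgroup G}
    (h : Cfsg.sigmaCore M ⊓ centralizer (B.map (MulAut.conj m).toMonoidHom : Set G) = ⊥) :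
    Cfsg.sigmaCore M ⊓ centralizer (B : Set G) = ⊥ := by
  refine (eq_bot_iff_forall _).2 fun x hx => ?_
  have h1 : (MulAut.conj m).toMonoidHom x ∈
      Cfsg.sigmaCore M ⊓ centralizer (B.map (MulAut.conj m).toMonoidHom : Set G) := by
    refine ⟨(mem_normalizer_iff.1 (TH.le_normalizer_core M hm) x).1 hx.1, mem_centralizer_iff.2 ?_⟩
    rintro _ ⟨b, hb, rfl⟩
    rw [← map_mul, ← map_mul, mem_centralizer_iff.1 hx.2 b hb]
  rw [h, Subgroup.mem_bot] at h1
  exact (MulEquiv.map_eq_one_iff (MulAut.conj m)).1 h1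

/-- Under a transvection in `M`, a line other than the fixed one has fixed points in `M_σ`. -/
theorem lines_good {S : Subgroup G} (hS : IsPGroup p S) {g z : G} (hgS : g ∈ S) (hgM : g ∈ M)
    (hgA : g ∈ normalizer (A : Set G)) (hzA : z ∈ A) (hzo : orderOf z = p) (hgz : Commute g z)
    (hgC : g ∉ centralizer (A : Set G)) (hfix : Cfsg.sigmaCore M ⊓ centralizer (zpowers z : Set G) = ⊥)
    {B' : Subgroup G} (hB'A : B' ≤ A) (hB' : Nat.card B' = p) (hne : B' ≠ zpowers z) :
    Cfsg.sigmaCore M ⊓ centralizer (B' : Set G) ≠ ⊥ := by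
  intro h
  haveI := hA.1
  have hz : Nat.card (zpowers z) = p := by rw [Nat.card_zpowers, hzo]
  obtain ⟨B, hBA, hB, hBz, hBgood⟩ := exists_good hG hA hA2 hM hAM hpσ hmax (zpowers_le.2 hzA) hz hfix
  obtain ⟨b', hb', hb'z⟩ : ∃ b' ∈ B', b' ∉ zpowers z := by
    by_contra hno
    push Not at hno
    exact hne (eq_of_le_of_card_ge hno (by rw [hz, hB']))
  obtain ⟨b, hbB, hbz⟩ : ∃ b ∈ B, b ∉ zpowers z := by
    by_contra hno
    push Not at hno
    exact hBz (eq_of_le_of_card_ge hno (by rw [hz, hB]))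
  obtain ⟨n, hn⟩ := transvection hA hA2 hS hgS hgA hzA hzo hgz hgC (hB'A hb') hb'z
  have hb'' : zpowers b' = B' := by
    obtain ⟨-, hc⟩ := Excep.line_of_mem hA (hB'A hb') fun e => hb'z (e ▸ one_mem _)
    exact eq_of_le_of_card_ge (zpowers_le.2 hb') (by rw [hc, hB'])
  have hmem := hBA hbB
  rw [← Excep.line_sup hA2 (zpowers_le.2 hzA) hz (hB'A hb') hb'z] at hmem
  obtain ⟨u, hu, v, hv, huv⟩ := (CfsgLib.Solvable.mem_sup_of_le_normalizer
    (((zpowers_le.2 hzA).trans (le_centralizer_iff_isMulCommutative.2 hA.1)).trans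
      ((centralizer_le (zpowers_le.2 (hB'A hb'))).trans (centralizer_le_normalizer _)))).1 hmem
  obtain ⟨j, rfl⟩ := (isOfFinOrder_of_finite b').mem_powers_iff_mem_zpowers.2 hv
  obtain ⟨i, rfl⟩ := (isOfFinOrder_of_finite z).mem_powers_iff_mem_zpowers.2 hu
  -- `z ^ i * b' ^ j` generates `B`
  have hj : ¬ p ∣ j := fun ⟨k, hk⟩ => hbz (by
    rw [← huv]
    show z ^ i * b' ^ j ∈ zpowers z
    rw [hk, pow_mul, hA.2 b' (hB'A hb'), one_pow, mul_one]
    exact pow_mem (mem_zpowers z) i)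
  obtain ⟨l, hl⟩ := exists_pow_eq_self_of_coprime
    (show j.Coprime (orderOf b') by
      rw [← Nat.card_zpowers, hb'', hB']; exact (hp.out.coprime_iff_not_dvd.2 hj).symm)
  have hzb : Commute z b' := congrArg Subtype.val (hA.1.is_comm.comm ⟨z, hzA⟩ ⟨b', hB'A hb'⟩)
  have hb1 : z ^ (i * l) * b' ∈ B := by
    have h1 := pow_mem hbB l
    rw [← huv] at h1
    simpa [(hzb.pow_pow i j).mul_pow, ← pow_mul, hl] using h1
  set m := g ^ (n * (i * l)) with hm
  have hkey : ∀ k : ℕ, g ^ (n * k) * b' * (g ^ (n * k))⁻¹ = z ^ k * b' := by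
    intro k
    induction k with
    | zero => simp
    | succ k ih =>
      have hzn : g ^ n * z ^ k * (g ^ n)⁻¹ = z ^ k := by rw [(hgz.pow_pow n k).eq, mul_inv_cancel_right]
      calc g ^ (n * (k + 1)) * b' * (g ^ (n * (k + 1)))⁻¹
          = g ^ n * (g ^ (n * k) * b' * (g ^ (n * k))⁻¹) * (g ^ n)⁻¹ := by
            rw [show n * (k + 1) = n + n * k by ring, pow_add]; group
        _ = (g ^ n * z ^ k * (g ^ n)⁻¹) * (g ^ n * b' * (g ^ n)⁻¹) := by rw [ih]; group
        _ = z ^ (k + 1) * b' := by rw [hzn, hn, pow_succ]; group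
  have hmap : B'.map (MulAut.conj m).toMonoidHom = B := by
    refine eq_of_le_of_card_ge ?_ (by rw [card_map_of_injective (MulAut.conj m).injective, hB, hB'])
    rw [← hb'', MonoidHom.map_zpowers, zpowers_le]
    show m * b' * m⁻¹ ∈ B
    rw [hm, hkey]
    exact hb1
  have hmM : m⁻¹ ∈ M := inv_mem (pow_mem (hgM) _)
  refine hBgood (good_map hG hM hmM ?_)
  rw [← hmap, Uniq.map_conj_inv]
  exact h

/-- `A` is central in every Sylow `p`-subgroup of `M` containing it. -/
theorem central {P : Sylow p M} (hAP : A ≤ (P : Subgroup M).map M.subtype) :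
    (P : Subgroup M).map M.subtype ≤ centralizer (A : Set G) := by
  set S := (P : Subgroup M).map M.subtype with hS
  have hSM : S ≤ M := map_subtype_le _
  obtain ⟨Ps, hPs⟩ := (P.2.map M.subtype : IsPGroup p S).exists_le_sylow
  rcases dichotomy hA hA2 hmax hG.1 (P.2.map M.subtype : IsPGroup p S) hAP with
    ⟨h, -⟩ | ⟨z, hzA, hzo, hSz, hNSz, -, g, hgS, hgA, hgC⟩
  · exact h
  exfalso
  rcases dichotomy hA hA2 hmax hG.1 Ps.2 (hAP.trans hPs) with ⟨h, -⟩ | ⟨z', hz'A, hz'o, hPz, hNz, -⟩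
  · exact hgC (h (hPs hgS))
  have hgz : Commute g z := mem_centralizer_singleton_iff.1 (hSz hgS)
  have hz : Nat.card (zpowers z) = p := by rw [Nat.card_zpowers, hzo]
  have hgz' : Commute g z' := mem_centralizer_singleton_iff.1 (hPz (hPs hgS))
  have hzz : zpowers z' = zpowers z := by
    refine eq_of_le_of_card_ge (zpowers_le.2 ?_) (by rw [hz, Nat.card_zpowers, hz'o])
    by_contra hne
    refine hgC (mem_centralizer_iff.2 fun a ha => ?_)
    rw [← Excep.line_sup hA2 (zpowers_le.2 hzA) hz hz'A hne] at ha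
    have hle : zpowers z ⊔ zpowers z' ≤ centralizer ({g} : Set G) := sup_le
      (zpowers_le.2 (mem_centralizer_singleton_iff.2 hgz.eq.symm))
      (zpowers_le.2 (mem_centralizer_singleton_iff.2 hgz'.eq.symm))
    exact mem_centralizer_singleton_iff.1 (hle ha)
  rw [hzz] at hNz
  obtain ⟨H, hH, hNH⟩ := (eq_top_or_exists_le_coatom (normalizer (zpowers z : Set G))).resolve_left
    (Excep.normalizer_line_ne_top hG hz)
  haveI := hA.1
  have hCH : centralizer (zpowers z : Set G) ≤ H := (centralizer_le_normalizer _).trans hNH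
  have hAH : A ≤ H :=
    ((le_centralizer_iff_isMulCommutative.2 hA.1).trans (centralizer_le (zpowers_le.2 hzA))).trans hCH
  have hpH : p ∈ Cfsg.sigma H := Excep.mem_sigma_of_sylow Ps ((le_normalizer.trans hNz).trans hNH) (hNz.trans hNH)
    ((dvd_pow_self p two_ne_zero).trans (hA2 ▸ card_dvd_of_le hAH))
  have hfix : Cfsg.sigmaCore M ⊓ centralizer (zpowers z : Set G) = ⊥ :=
    le_bot_iff.1 ((inter_sigma_eq_bot hG hA hA2 hM hAM hpσ hmax hH hAH hpH) ▸ inf_le_inf_left _ hCH)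
  obtain ⟨B, hBA, hB, hBz, hBgood⟩ := exists_good hG hA hA2 hM hAM hpσ hmax (zpowers_le.2 hzA) hz hfix
  obtain ⟨nn, hnn, hnnM⟩ := SetLike.not_le_iff_exists.1 fun h : normalizer (S : Set G) ≤ M =>
    hpσ ⟨hp.out, (dvd_pow_self p two_ne_zero).trans (hA2 ▸ card_dvd_of_le hAM), P, h⟩
  set φ := (MulAut.conj nn).toMonoidHom with hφ
  have hφz : (zpowers z).map φ = zpowers z := mem_normalizer_iff_map_conj_eq.1 (hNSz hnn)
  have hBne : B.map φ ≠ zpowers z := fun e => hBz (map_injective (MulAut.conj nn).injective (e.trans hφz.symm))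
  have hAS : A.map φ ≤ S := (map_mono hAP).trans (mem_normalizer_iff_map_conj_eq.1 hnn).le
  set A' := A.map φ with hA'
  have hA'e : Cfsg.IsElementaryAbelian p A' := Excep.conj_elementary hA nn
  have hA'2 : Nat.card A' = p ^ 2 := by rw [card_map_of_injective (MulAut.conj nn).injective, hA2]
  have hA'M : A' ≤ M := hAS.trans hSM
  have hmax' : ∀ C : Subgroup G, Cfsg.IsElementaryAbelian p C → A' ≤ C → C = A' := by
    intro C hC hle
    have h1 := hmax _ (Excep.conj_elementary hC nn⁻¹) (by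
      rw [← Uniq.map_conj_inv A nn]; exact map_mono hle)
    refine le_antisymm ?_ hle
    intro x hx
    refine ⟨nn⁻¹ * x * nn, h1.le ⟨x, hx, by simp⟩, by simp [φ, mul_assoc]⟩
  have hzA' : z ∈ A' := map_mono (zpowers_le.2 hzA) (hφz.ge (mem_zpowers z))
  have hBc : Nat.card (B.map φ) = p := by rw [card_map_of_injective (MulAut.conj nn).injective, hB]
  have hg'S : φ g ∈ S := (mem_normalizer_iff.1 hnn g).1 hgS
  have hg'C : φ g ∉ centralizer (A' : Set G) := fun h => hgC (mem_centralizer_iff.2 fun a ha => by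
    have h2 := mem_centralizer_iff.1 h _ (mem_map_of_mem φ ha)
    rw [← map_mul, ← map_mul] at h2
    exact (MulAut.conj nn).injective h2)
  have hgood := lines_good hG hA'e hA'2 hM hA'M hpσ hmax' (P.2.map M.subtype) hg'S (hSM hg'S)
    ((le_normalizer_map φ) (mem_map_of_mem φ hgA)) hzA' hzo
    (mem_centralizer_singleton_iff.1 (hSz hg'S)) hg'C hfix (map_mono hBA) hBc hBne
  have hN := good_normalizer_le hG hA hA2 hM hAM hpσ hmax hBA hB hBgood
  have := good_line hG hA'e hA'2 hM hA'M hpσ hmax' (map_mono hBA) hBc hgood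
    (Uniq.coatom_conj hM nn) ((map_equiv_normalizer_eq B (MulAut.conj nn)).ge.trans (map_mono hN))
  refine hnnM ?_
  rw [← Uniq.coatom_normalizer_eq hG hM le_rfl le_normalizer fun e => ne_bot hA hA2 (le_bot_iff.1 (hAM.trans e.le))]
  exact mem_normalizer_iff_map_conj_eq.2 this

/-- A Sylow `p`-subgroup of `M` contains a given one. -/
theorem exists_sylow_over : ∃ P : Sylow p M, A ≤ (P : Subgroup M).map M.subtype := by
  obtain ⟨P, hP⟩ := ((IsPGroup.of_card hA2 : IsPGroup p A).comap_subtype (K := M)).exists_le_sylow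
  exact ⟨P, by rw [← map_subgroupOf_eq_of_le hAM]; exact map_mono hP⟩

/-- The elements of order dividing `p` of such a Sylow subgroup form `A`. -/
theorem omega {P : Sylow p M} (hAP : A ≤ (P : Subgroup M).map M.subtype) {x : G}
    (hx : x ∈ (P : Subgroup M).map M.subtype) : x ^ p = 1 ↔ x ∈ A :=
  ⟨fun h => Excep.mem_of_commute hA hmax h fun a ha =>
    mem_centralizer_iff.1 (central hG hA hA2 hM hAM hpσ hmax hAP hx) a ha, fun h => hA.2 x h⟩

/-- The normalizer of `A` is not contained in `M`. -/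
theorem not_normalizer_le : ¬ normalizer (A : Set G) ≤ M := by
  obtain ⟨P, hP⟩ := exists_sylow_over hG hA hA2 hM hAM hpσ hmax
  exact fun h => hpσ ⟨hp.out, (dvd_pow_self p two_ne_zero).trans (hA2 ▸ card_dvd_of_le hAM), P,
    (normalizer_le_of_central hA hmax hP (central hG hA hA2 hM hAM hpσ hmax hP)).trans h⟩

/-- There are two lines without fixed points in `M_σ`. -/
theorem exists_two_fpf : ∃ X Y : Subgroup G, X ≤ A ∧ Nat.card X = p ∧ Y ≤ A ∧ Nat.card Y = p ∧ X ≠ Y ∧
    Cfsg.sigmaCore M ⊓ centralizer (X : Set G) = ⊥ ∧ Cfsg.sigmaCore M ⊓ centralizer (Y : Set G) = ⊥ := by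
  obtain ⟨g, hgA, hgM⟩ := SetLike.not_le_iff_exists.1 (not_normalizer_le hG hA hA2 hM hAM hpσ hmax)
  set φ := (MulAut.conj g).toMonoidHom with hφ
  have hAφ : A.map φ = A := mem_normalizer_iff_map_conj_eq.1 hgA
  have hmove : ∀ B : Subgroup G, B ≤ A → Nat.card B = p → Cfsg.sigmaCore M ⊓ centralizer (B : Set G) ≠ ⊥ →
      (B.map φ ≤ A ∧ Nat.card (B.map φ) = p ∧ Cfsg.sigmaCore M ⊓ centralizer (B.map φ : Set G) = ⊥) := by
    intro B hBA hB hgood
    have hle : B.map φ ≤ A := (map_mono hBA).trans hAφ.le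
    have hc : Nat.card (B.map φ) = p := by rw [card_map_of_injective (MulAut.conj g).injective, hB]
    refine ⟨hle, hc, by_contra fun hne => hgM ?_⟩
    have := good_line hG hA hA2 hM hAM hpσ hmax hle hc hne (Uniq.coatom_conj hM g)
      ((map_equiv_normalizer_eq B (MulAut.conj g)).ge.trans
        (map_mono (good_normalizer_le hG hA hA2 hM hAM hpσ hmax hBA hB hgood)))
    rw [← Uniq.coatom_normalizer_eq hG hM le_rfl le_normalizer fun e => ne_bot hA hA2 (le_bot_iff.1 (hAM.trans e.le))]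
    exact mem_normalizer_iff_map_conj_eq.2 this
  obtain ⟨a, ha, ha1⟩ := (bot_or_exists_ne_one A).resolve_left (ne_bot hA hA2)
  obtain ⟨hle, hc⟩ := Excep.line_of_mem hA ha ha1
  obtain ⟨Z, Z', hZA, hZ, hZ'A, hZ', h1, h2, h3⟩ := exists_line_not_mem hG hA hA2 hM hAM hpσ hc
  have pair : ∀ B B' : Subgroup G, B ≤ A → Nat.card B = p → B' ≤ A → Nat.card B' = p → B ≠ B' →
      Cfsg.sigmaCore M ⊓ centralizer (B : Set G) ≠ ⊥ → Cfsg.sigmaCore M ⊓ centralizer (B' : Set G) ≠ ⊥ →
      ∃ X Y : Subgroup G, X ≤ A ∧ Nat.card X = p ∧ Y ≤ A ∧ Nat.card Y = p ∧ X ≠ Y ∧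
        Cfsg.sigmaCore M ⊓ centralizer (X : Set G) = ⊥ ∧ Cfsg.sigmaCore M ⊓ centralizer (Y : Set G) = ⊥ := by
    intro B B' hBA hB hB'A hB' hne hg hg'
    obtain ⟨u1, u2, u3⟩ := hmove B hBA hB hg
    obtain ⟨v1, v2, v3⟩ := hmove B' hB'A hB' hg'
    exact ⟨B.map φ, B'.map φ, u1, u2, v1, v2, fun e => hne (map_injective (MulAut.conj g).injective e), u3, v3⟩
  by_cases hgZ : Cfsg.sigmaCore M ⊓ centralizer (Z : Set G) = ⊥
  · by_cases hgZ' : Cfsg.sigmaCore M ⊓ centralizer (Z' : Set G) = ⊥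
    · exact ⟨Z, Z', hZA, hZ, hZ'A, hZ', h3, hgZ, hgZ'⟩
    · by_cases hga : Cfsg.sigmaCore M ⊓ centralizer (zpowers a : Set G) = ⊥
      · exact ⟨Z, zpowers a, hZA, hZ, hle, hc, h1, hgZ, hga⟩
      · exact pair Z' (zpowers a) hZ'A hZ' hle hc h2 hgZ' hga
  · by_cases hgZ' : Cfsg.sigmaCore M ⊓ centralizer (Z' : Set G) = ⊥
    · by_cases hga : Cfsg.sigmaCore M ⊓ centralizer (zpowers a : Set G) = ⊥
      · exact ⟨Z', zpowers a, hZ'A, hZ', hle, hc, h2, hgZ', hga⟩
      · exact pair Z (zpowers a) hZA hZ hle hc h1 hgZ hga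
    · exact pair Z Z' hZA hZ hZ'A hZ' h3 hgZ hgZ'

/-- `M_σ` is nilpotent. -/
theorem nilpotent : Group.IsNilpotent (Cfsg.sigmaCore M) := by
  obtain ⟨X, -, hXA, hX, -, -, -, hfix, -⟩ := exists_two_fpf hG hA hA2 hM hAM hpσ hmax
  obtain ⟨a, ha, ha1⟩ := (bot_or_exists_ne_one X).resolve_left fun e => hp.out.ne_one (by rw [← hX, e, card_bot])
  set K := Cfsg.sigmaCore M with hK
  have haN : a ∈ normalizer (K : Set G) := hAM.trans (TH.le_normalizer_core M) (hXA ha)
  have hX' : zpowers a = X := by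
    obtain ⟨-, hc⟩ := Excep.line_of_mem hA (hXA ha) ha1
    exact eq_of_le_of_card_ge (zpowers_le.2 ha) (by rw [hc, hX])
  refine CfsgLib.FPFPrime.isNilpotent (hG.2.2.2 K (ne_top_of_le_ne_top hM.1 (map_subtype_le _))) hp.out
    (K.normalizerMonoidHom ⟨a, haN⟩) ?_ fun x hx => ?_
  · rw [← map_pow, show (⟨a, haN⟩ : normalizer (K : Set G)) ^ p = 1 from Subtype.ext (hA.2 a (hXA ha)), map_one]
  · have h1 : a * (x : G) * a⁻¹ = x := congrArg Subtype.val hx
    have hmem : (x : G) ∈ K ⊓ centralizer (X : Set G) := by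
      refine ⟨x.2, ?_⟩
      rw [← hX']
      refine mem_centralizer_iff.2 fun y hy => ?_
      obtain ⟨i, rfl⟩ := mem_zpowers_iff.1 hy
      exact ((show Commute a (x : G) from mul_inv_eq_iff_eq_mul.1 h1).zpow_left i).eq
    rw [hfix, Subgroup.mem_bot] at hmem
    exact Subtype.ext hmem

variable (hr : Cfsg.PRankLE p 2 M)
include hr

/-- The Sylow `p`-subgroups of `M` are abelian, and their `p`-th powers form part of a cyclic group unless `A`
is central in a Sylow `p`-subgroup of `G`. -/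
theorem abelian_structure {P : Sylow p M} (hAP : A ≤ (P : Subgroup M).map M.subtype) (Ps : Sylow p G)
    (hPs : (P : Subgroup M).map M.subtype ≤ (Ps : Subgroup G)) :
    IsMulCommutative ↥((P : Subgroup M).map M.subtype) ∧
      (¬ IsMulCommutative (Ps : Subgroup G) →
        ∃ C : Subgroup G, IsCyclic C ∧ ∀ x ∈ (P : Subgroup M).map M.subtype, x ^ p ∈ C) := by
  classical
  set S := (P : Subgroup M).map M.subtype with hS
  have hSM : S ≤ M := map_subtype_le _
  have hSp : IsPGroup p S := P.2.map _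
  have hScen := central hG hA hA2 hM hAM hpσ hmax hAP
  have hpdvd : p ∣ Nat.card G := (dvd_pow_self p two_ne_zero).trans (hA2 ▸ A.card_subgroup_dvd_card)
  have hp2 : p ≠ 2 := CfsgLib.CN.MinSimple.p_ne_two hG hpdvd
  set R := (Ps : Subgroup G) with hR
  have hAR : A ≤ R := hAP.trans hPs
  have hR1 : R ≠ ⊥ := fun e => ne_bot hA hA2 (le_bot_iff.1 (hAR.trans e.le))
  have hSd : ¬ p ∣ S.relIndex M := by
    rw [relIndex, hS, ← comap_subtype, comap_map_eq_self_of_injective M.subtype_injective]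
    exact P.not_dvd_index
  have hfullS : ∀ X : Subgroup G, S ≤ X → X ≤ M → IsPGroup p X → S = X := fun X hSX hXM hX => by
    refine eq_of_le_of_card_ge hSX (Nat.le_of_dvd Nat.card_pos
      ((Nat.Coprime.dvd_mul_right (Excep.coprime_of_pgroup hX hSd)).1 ?_))
    rw [CfsgLib.InvariantHall.relIndex_mul_card hSM]
    exact card_dvd_of_le hXM
  by_cases hRr : Cfsg.PRankLE p 2 R
  · -- rank two
    set N := normalizer (R : Set G)
    have hidx : ¬ p ∣ R.relIndex N := fun h =>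
      Ps.not_dvd_index (h.trans (Dvd.intro _ (relIndex_mul_index (le_normalizer : R ≤ N))))
    haveI : (R.subgroupOf N).Normal := normal_in_normalizer
    have hcopN : (Nat.card (R.subgroupOf N)).Coprime (R.subgroupOf N).index := by
      rw [Nat.card_congr (subgroupOfEquivOfLe (le_normalizer : R ≤ N)).toEquiv]
      exact Excep.coprime_of_pgroup Ps.2 hidx
    obtain ⟨V₀, hV₀⟩ := Subgroup.exists_right_complement'_of_coprime hcopN
    have hV : Cfsg.IsComplIn R (V₀.map N.subtype) N := by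
      refine ⟨le_normalizer, map_subtype_le _, (eq_bot_iff_forall _).2 ?_, fun m hm => ?_⟩
      · rintro _ ⟨hx, y, hy, rfl⟩
        have hy1 : y = 1 := Subgroup.mem_bot.1 (hV₀.disjoint.le_bot ⟨hx, hy⟩)
        rw [hy1, map_one]
      · obtain ⟨⟨r, v⟩, hrv, -⟩ := hV₀.existsUnique ⟨m, hm⟩
        exact ⟨_, r.2, _, mem_map_of_mem _ v.2, (congrArg Subtype.val hrv).symm⟩
    have hVd : ¬ p ∣ Nat.card (V₀.map N.subtype) := by
      rw [card_map_of_injective N.subtype_injective, ← hV₀.symm.index_eq_card]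
      exact hidx
    obtain ⟨-, hcase⟩ := Cfsg.Agent.S1448.result p hp2 R (V₀.map N.subtype) Ps.2 hR1 hRr (map_subtype_le _)
      ((hp.out.coprime_iff_not_dvd.2 hVd).symm) (hG.1.of_dvd_nat (card_subgroup_dvd_card _))
      (PLenOne.sylow_commutator hG Ps hV).1.symm
    rcases hcase with hc | ⟨R₁, R₂, hsup, hcomm, hnc, -, hexp, hcyc, hclo⟩
    · haveI := hc
      exact ⟨⟨⟨fun a b => Subtype.ext (congrArg Subtype.val
        (IsMulCommutative.is_comm.comm (⟨a.1, hPs a.2⟩ : R) ⟨b.1, hPs b.2⟩) :)⟩⟩, fun h => absurd hc h⟩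
    haveI := hA.1
    haveI := hcyc
    have hR₁ : ∀ r ∈ R₁, r ^ p = 1 := fun r hr => by
      have := Monoid.pow_exponent_eq_one (⟨r, hr⟩ : R₁)
      rw [hexp] at this
      exact congrArg Subtype.val this
    have hn : R₁ ≤ normalizer (R₂ : Set G) := le_trans
      (fun a ha => mem_centralizer_iff.2 fun b hb => (hcomm a ha b hb).symm) (centralizer_le_normalizer _)
    have hdec : ∀ x ∈ R, ∃ r ∈ R₁, ∃ s ∈ R₂, x = r * s := fun x hx => by
      rw [← hsup] at hx
      obtain ⟨r, hr, s, hs, h⟩ := (CfsgLib.Solvable.mem_sup_of_le_normalizer hn).1 hx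
      exact ⟨r, hr, s, hs, h.symm⟩
    have homega : ∀ x ∈ R, x ^ p = 1 → x ∈ R₁ := by
      intro x hx hxp
      obtain ⟨r, hr, s, hs, rfl⟩ := hdec x hx
      have hsp : s ^ p = 1 := by
        rw [(show Commute r s from hcomm r hr s hs).mul_pow, hR₁ r hr, one_mul] at hxp
        exact hxp
      refine mul_mem hr (commutator_le_self R₁ ?_)
      rw [← hclo]
      exact subset_closure ⟨hs, hsp⟩
    have hkey : ∀ x ∈ S, ∃ r ∈ A, ∃ s ∈ R₂, x = r * s := by
      intro x hx
      obtain ⟨r, hr, s, hs, rfl⟩ := hdec x (hPs hx)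
      refine ⟨r, Excep.mem_of_commute hA hmax (hR₁ r hr) fun a ha => ?_, s, hs, rfl⟩
      have h1 : Commute a (r * s) := mem_centralizer_iff.1 (hScen hx) a ha
      have h2 : Commute a s := hcomm a (homega a (hAR ha) (hA.2 a ha)) s hs
      simpa using (h1.mul_right h2.inv_right).eq
    refine ⟨⟨⟨fun x y => Subtype.ext ?_⟩⟩, fun _ => ⟨R₂, hcyc, fun x hx => ?_⟩⟩
    swap
    · obtain ⟨r, hr, s, hs, rfl⟩ := hkey x hx
      have c : Commute r s := hcomm r (homega r (hAR hr) (hA.2 r hr)) s hs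
      rw [c.mul_pow, hA.2 r hr, one_mul]
      exact pow_mem hs p
    obtain ⟨r, hr, s, hs, ex⟩ := hkey x x.2
    obtain ⟨r', hr', s', hs', ey⟩ := hkey y y.2
    show (x : G) * y = y * x
    rw [ex, ey]
    have c1 : Commute r r' := congrArg Subtype.val (hA.1.is_comm.comm ⟨r, hr⟩ ⟨r', hr'⟩)
    have c2 : Commute r s' := hcomm r (homega r (hAR hr) (hA.2 r hr)) s' hs'
    have c3 : Commute s r' := (hcomm r' (homega r' (hAR hr') (hA.2 r' hr')) s hs).symm
    have c4 : Commute s s' := congrArg Subtype.val (IsMulCommutative.is_comm.comm (⟨s, hs⟩ : R₂) ⟨s', hs'⟩)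
    exact ((c1.mul_right c2).mul_left (c3.mul_right c4)).eq
  · -- rank at least three
    have hEc : Nat.card (A.subgroupOf R) = p ^ 2 := by
      rw [Nat.card_congr (subgroupOfEquivOfLe hAR).toEquiv, hA2]
    have hEe : Cfsg.IsElementaryAbelian p (A.subgroupOf R) := by
      haveI := hA.1
      exact ⟨inferInstance, fun x hx => Subtype.ext (hA.2 (x : G) hx)⟩
    have hEmax : ∀ B : Subgroup R, Cfsg.IsElementaryAbelian p B → A.subgroupOf R ≤ B → B = A.subgroupOf R := by
      intro B hB hle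
      haveI := hB.1
      have h1 : Cfsg.IsElementaryAbelian p (B.map R.subtype) := by
        refine ⟨Subgroup.map_isMulCommutative B _, ?_⟩
        rintro _ ⟨b, hb, rfl⟩
        rw [← map_pow, hB.2 b hb, map_one]
      have h2 := hmax _ h1 ((map_subgroupOf_eq_of_le hAR).ge.trans (map_mono hle))
      rw [← h2, ← comap_subtype, comap_map_eq_self_of_injective R.subtype_injective]
    obtain ⟨hnle, -, -, hchar, hidx⟩ := Cfsg.Agent.S1453.result p hp2 Ps.2 hRr (A.subgroupOf R) hEe hEc hEmax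
    set T := Subgroup.centralizer ((Subgroup.closure {x : R | x ∈ Subgroup.upperCentralSeries R 2 ∧ x ^ p = 1} :
      Subgroup R) : Set R)
    haveI : T.Characteristic := hchar
    obtain ⟨a₀, ha₀, ha₀T⟩ := SetLike.not_le_iff_exists.1 hnle
    set T' := T.map R.subtype ⊓ S with hT'
    have hATlt : A ⊓ T.map R.subtype < A := lt_of_le_of_ne inf_le_left fun e => ha₀T (by
      obtain ⟨y, hy, hyx⟩ := (e.ge ha₀).2
      exact Subtype.ext hyx ▸ hy)
    have hT'cyc : IsCyclic T' := by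
      refine Compl.cyclic_of_rank_one hp2 (hSp.to_le inf_le_right) fun B _ hBe => ?_
      have hle : B.map T'.subtype ≤ A ⊓ T.map R.subtype := by
        rintro _ ⟨b, hb, rfl⟩
        exact ⟨(omega hG hA hA2 hM hAM hpσ hmax hAP b.2.2).1 (congrArg Subtype.val (hBe b hb)), b.2.1⟩
      have h1 := card_le_of_le hle
      rw [card_map_of_injective T'.subtype_injective] at h1
      have h2 := CfsgLib.Solvable.card_lt_of_lt hATlt
      obtain ⟨k, -, hk⟩ := (Nat.dvd_prime_pow hp.out).1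
        (hA2 ▸ card_dvd_of_le (inf_le_left : A ⊓ T.map R.subtype ≤ A))
      rw [hA2, hk, Nat.pow_lt_pow_iff_right hp.out.one_lt] at h2
      rw [hk] at h1
      exact h1.trans (Nat.pow_le_pow_right hp.out.pos (by omega))
    have hdec : ∀ x ∈ S, ∃ t ∈ T', ∃ a ∈ A, x = t * a := by
      intro x hx
      haveI : Fact (Nat.card (R ⧸ T)).Prime := ⟨by
        rw [← index_eq_card, hidx]; exact hp.out⟩
      obtain ⟨k, hk⟩ := mem_zpowers_iff.1 (mem_zpowers_of_prime_card (h := (rfl : Nat.card (R ⧸ T) = _))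
        (g := (a₀ : R ⧸ T)) (g' := ((⟨x, hPs hx⟩ : R) : R ⧸ T))
        fun h => ha₀T ((QuotientGroup.eq_one_iff a₀).1 h))
      refine ⟨x * ((a₀ : G) ^ k)⁻¹, ⟨⟨⟨x, hPs hx⟩ * (a₀ ^ k)⁻¹, ?_, by simp⟩,
        S.mul_mem hx (S.inv_mem (S.zpow_mem (hAP ha₀) k))⟩, (a₀ : G) ^ k, zpow_mem ha₀ k, by simp⟩
      apply (QuotientGroup.eq_one_iff _).1
      rw [QuotientGroup.mk_mul, QuotientGroup.mk_inv, QuotientGroup.mk_zpow, hk, mul_inv_cancel]
    haveI := hT'cyc
    refine ⟨⟨⟨fun x y => Subtype.ext ?_⟩⟩, fun _ => ⟨T', hT'cyc, fun x hx => ?_⟩⟩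
    swap
    · obtain ⟨t, ht, a, ha, rfl⟩ := hdec x hx
      have c : Commute t a := (mem_centralizer_iff.1 (hScen ht.2) a ha).symm
      rw [c.mul_pow, hA.2 a ha, mul_one]
      exact pow_mem ht p
    obtain ⟨t, ht, a, ha, ex⟩ := hdec x x.2
    obtain ⟨t', ht', a', ha', ey⟩ := hdec y y.2
    show (x : G) * y = y * x
    rw [ex, ey]
    have c1 : Commute t t' := congrArg Subtype.val (IsMulCommutative.is_comm.comm (⟨t, ht⟩ : T') ⟨t', ht'⟩)
    have c2 : Commute t a' := (mem_centralizer_iff.1 (hScen ht.2) a' ha').symm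
    have c3 : Commute a t' := mem_centralizer_iff.1 (hScen ht'.2) a ha
    have c4 : Commute a a' := congrArg Subtype.val (hA.1.is_comm.comm ⟨a, ha⟩ ⟨a', ha'⟩)
    exact ((c1.mul_right c2).mul_left (c3.mul_right c4)).eq

/-- The Sylow `p`-subgroups of `M` are abelian. -/
theorem abelian {P : Sylow p M} (hAP : A ≤ (P : Subgroup M).map M.subtype) :
    IsMulCommutative ↥((P : Subgroup M).map M.subtype) := by
  obtain ⟨Ps, hPs⟩ := (P.2.map M.subtype : IsPGroup p ↥((P : Subgroup M).map M.subtype)).exists_le_sylow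
  exact (abelian_structure hG hA hA2 hM hAM hpσ hmax hr hAP Ps hPs).1

end CfsgLib.OddLocal.Tau
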