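import Cfsg.Agent.OddLocal.TauTwoBase

/-!
For `p ∉ σ(M)` and a maximal elementary abelian `A ≤ M` of order `p ^ 2`, the centralizer of `A` in `M_σ` is
trivial.
-/

set_option autoImplicit false
set_option linter.style.haveILetI false
set_option linter.unusedSectionVars false

namespace CfsgLib.OddLocal.Tau

open Subgroup Cfsg CfsgLib.OddLocal
open scoped commutatorElement

universe u

variable {G : Type u} [Group G] [Finite G] {p q : ℕ} [hp : Fact p.Prime] {A : Subgroup G}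
  (hG : Cfsg.IsMinSimpleOddOrder G) (hA : Cfsg.IsElementaryAbelian p A) (hA2 : Nat.card A = p ^ 2)

include hG hA hA2

theorem centralizer_le_coatom {K : Subgroup G} (hK : IsCoatom K) (hAK : A ≤ K) :
    centralizer (A : Set G) ≤ K :=
  (Cfsg.Agent.S1416.result hG K hK p A ⟨hAK, hA, hA2⟩).1

omit hG in
/-- A nontrivial coprime invariant subgroup has a nontrivial invariant subgroup of prime power order. -/
theorem exists_inv_pgroup {K : Subgroup G} (hs : Group.IsSolvable A ∨ Group.IsSolvable K)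
    (hAK : A ≤ normalizer (K : Set G)) (hpK : ¬ p ∣ Nat.card K) (hK : K ≠ ⊥) :
    ∃ (r : ℕ) (U : Subgroup G), r.Prime ∧ r ∣ Nat.card K ∧ U ≤ K ∧ U ≠ ⊥ ∧ IsPGroup r U ∧
      A ≤ normalizer (U : Set G) := by
  obtain ⟨r, hr, hrd⟩ := Nat.exists_prime_and_dvd (n := Nat.card K) fun h => hK (Subgroup.card_eq_one.1 h)
  haveI := Fact.mk hr
  obtain ⟨R, -, hRK, hRp, hAR, hRd⟩ := Excep.exists_inv_sylow (t := r) hAK
    (Excep.coprime_of_pgroup (IsPGroup.of_card hA2) hpK) hs bot_le IsPGroup.of_bot (Excep.le_normalizer_bot _)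
  exact ⟨r, R, hr, hrd, hRK, fun e => hRd (by rwa [e, relIndex_bot_left]), hRp, hAR⟩

variable {M : Subgroup G} (hM : IsCoatom M) (hAM : A ≤ M) (hpσ : p ∉ Cfsg.sigma M)
include hM hAM hpσ

omit hA hA2 hAM in
theorem not_dvd_sigmaCore : ¬ p ∣ Nat.card (Cfsg.sigmaCore M) := fun h =>
  hpσ ((Sig.sigma_core hG hM).1.2.1 p hp.out h)

omit hA hA2 hAM in
theorem ne_prime (hq : q ∈ Cfsg.sigma M) : q ≠ p := fun e => hpσ (e ▸ hq)

/-- Invariant Sylow subgroups for the primes in `σ(M)`. -/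
theorem inv_sylow_sigma [Fact q.Prime] (hq : q ∈ Cfsg.sigma M) {U : Subgroup G}
    (hUM : U ≤ M) (hU : IsPGroup q U) (hAU : A ≤ normalizer (U : Set G)) :
    ∃ Q : Subgroup G, U ≤ Q ∧ Q ≤ Cfsg.sigmaCore M ∧ Q ≤ M ∧ IsPGroup q Q ∧ A ≤ normalizer (Q : Set G) ∧
      ¬ q ∣ Q.index ∧ normalizer (Q : Set G) ≤ M := by
  obtain ⟨Q, hUQ, hQσ, hQp, hAQ, hQd⟩ := Excep.exists_inv_sylow (hAM.trans (TH.le_normalizer_core M))
    (Excep.coprime_of_pgroup (IsPGroup.of_card hA2) (not_dvd_sigmaCore hG hM hpσ))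
    (Or.inl (hG.2.2.2 A (ne_top_of_le_ne_top hM.1 hAM)))
    (Excep.le_sigmaCore hG hM hUM (Excep.primes_of_pgroup hU hq)) hU hAU
  have hQd' := Excep.index_not_dvd hQσ hQd ((Sig.sigma_core hG hM).2.1.2 q Fact.out hq)
  have hQM : Q ≤ M := hQσ.trans (map_subtype_le _)
  refine ⟨Q, hUQ, hQσ, hQM, hQp, hAQ, hQd', ?_⟩
  exact Sig.normalizer_sylow_le hq (hQp.toSylow hQd') hQM

variable (hmax : ∀ B : Subgroup G, Cfsg.IsElementaryAbelian p B → A ≤ B → B = A)
include hmax

/-- A maximal subgroup meeting an invariant Sylow subgroup for a prime in `α(M)`. -/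
theorem meet [hqf : Fact q.Prime] (hqα : q ∈ Cfsg.alpha M) {Q K : Subgroup G} (hQp : IsPGroup q Q) (hQM : Q ≤ M)
    (hAQ : A ≤ normalizer (Q : Set G)) (hQd : ¬ q ∣ Q.index) (hK : IsCoatom K) (hKM : K ≠ M) (hAK : A ≤ K)
    (hne : Q ⊓ K ≠ ⊥) : q ∉ Cfsg.alpha K := by
  intro hα
  have hqp : q ≠ p := ne_prime hG hM hpσ (Sig.alpha_subset_sigma hG hM hqα)
  have hσ := Sig.alpha_subset_sigma hG hK hα
  have hpK : p ∣ Nat.card K := (dvd_pow_self p two_ne_zero).trans (hA2 ▸ card_dvd_of_le hAK)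
  obtain ⟨k, hk⟩ := Beta.npc_index (Beta.npc_sigma hG hK hp.out hpK (Excep.not_beta hA hA2 hmax K))
  set N₀ := Excep.opc p (Cfsg.sigmaCore K) with hN₀
  have hN₀i : ¬ q ∣ N₀.relIndex (Cfsg.sigmaCore K) := by
    rw [relIndex, hN₀, Excep.opc_subgroupOf, hk]
    exact fun h => hqp ((Nat.prime_dvd_prime_iff_eq hqf.out hp.out).1 (hqf.out.dvd_of_dvd_pow h))
  have hAN : A ≤ normalizer (N₀ : Set G) :=
    (hAK.trans (TH.le_normalizer_core K)).trans (Excep.normalizer_le_normalizer_opc _ _)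
  have hUp : IsPGroup q ↥(Q ⊓ K) := hQp.to_le inf_le_left
  have hUN : Q ⊓ K ≤ N₀ := Excep.le_of_hall (Excep.opc_le _ _) (Excep.le_normalizer_opc _ _)
    (Excep.le_sigmaCore hG hK inf_le_right (Excep.primes_of_pgroup hUp hσ)) (Excep.coprime_of_pgroup hUp hN₀i)
  obtain ⟨R, hUR, hRN, hRp, hAR, hRd⟩ := Excep.exists_inv_sylow hAN
    (Excep.coprime_of_pgroup (IsPGroup.of_card hA2) (hp.out.coprime_iff_not_dvd.1 (Excep.opc_coprime p _).symm))
    (Or.inl (hG.2.2.2 A (ne_top_of_le_ne_top hM.1 hAM))) hUN hUp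
    (le_trans (le_inf hAQ (hAK.trans le_normalizer)) inf_normalizer_le_normalizer_inf)
  have hRd' : ¬ q ∣ R.index := Excep.index_not_dvd hRN hRd
    (Excep.index_not_dvd (Excep.opc_le _ _) hN₀i ((Sig.sigma_core hG hK).2.1.2 q hqf.out hσ))
  obtain ⟨c, hc, hRQ⟩ := Excep.le_conj_sylow hA hA2 hmax hG hqp hQp hQd hAQ hRp hAR
    fun h => hne (le_bot_iff.1 (h ▸ le_inf hUR inf_le_left))
  have hReq := Excep.eq_of_full_le (hQp.map _) hRd' hRQ
  have hcK : c ∈ K := centralizer_le_coatom hG hA hA2 hK hAK hc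
  have hQK : Q ≤ K := by
    have h := map_mono (f := (MulAut.conj c⁻¹).toMonoidHom)
      (hReq ▸ (hRN.trans ((Excep.opc_le _ _).trans (map_subtype_le _))) :
        Q.map (MulAut.conj c).toMonoidHom ≤ K)
    rw [Uniq.map_conj_inv] at h
    refine h.trans ?_
    rintro _ ⟨y, hy, rfl⟩
    exact mul_mem (mul_mem (inv_mem hcK) hy) (inv_mem (inv_mem hcK))
  exact hKM (Uniq.eq_of (UThm.rank_three_unique hG hQp (Excep.rank_of_full hQp hQd hqα)) hK hQK hM hQM)

/-- Primes of `σ(M)` in invariant sections of another maximal subgroup are outside its `α`. -/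
theorem not_alpha_of_inter [Fact q.Prime] (hq : q ∈ Cfsg.sigma M) {U K : Subgroup G} (hU : IsPGroup q U)
    (hU1 : U ≠ ⊥) (hUM : U ≤ M) (hAU : A ≤ normalizer (U : Set G)) (hK : IsCoatom K) (hKM : K ≠ M) (hAK : A ≤ K)
    (hUK : U ≤ K) : q ∉ Cfsg.alpha K := by
  by_cases hα : q ∈ Cfsg.alpha M
  · obtain ⟨Q, hUQ, -, hQM, hQp, hAQ, hQd, -⟩ := inv_sylow_sigma hG hA hA2 hM hAM hpσ hq hUM hU hAU
    exact meet hG hA hA2 hM hAM hpσ hmax hα hQp hQM hAQ hQd hK hKM hAK
      fun e => hU1 (le_bot_iff.1 (e ▸ le_inf hUQ hUK))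
  · exact Excep.not_alpha_of_sigma hG hM hq hα K

/-- `A` centralizes the invariant parts of `M_σ` in a maximal subgroup with `p` in `σ`. -/
theorem centralizes_of_sigma [Fact q.Prime] (hq : q ∈ Cfsg.sigma M) {U K : Subgroup G} (hU : IsPGroup q U)
    (hUM : U ≤ M) (hAU : A ≤ normalizer (U : Set G)) (hK : IsCoatom K) (hKM : K ≠ M) (hAK : A ≤ K)
    (hpK : p ∈ Cfsg.sigma K) (hUK : U ≤ K) : U ≤ centralizer (A : Set G) := by
  refine commutator_eq_bot_iff_le_centralizer.1 (by_contra fun hne => ?_)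
  exact not_alpha_of_inter hG hA hA2 hM hAM hpσ hmax hq hU (fun e => hne (by rw [e, commutator_bot_left]))
    hUM hAU hK hKM hAK hUK
    (Excep.alpha_of_sigma hG (ne_prime hG hM hpσ hq) hK hpK (IsPGroup.of_card hA2) hAK hU hUK hAU hne)

/-- No nontrivial subgroup of `M_σ` centralized by `A` has its centralizer in `M`. -/
theorem centralizer_not_le [Fact q.Prime] (hq : q ∈ Cfsg.sigma M) {X : Subgroup G} (hX : IsPGroup q X)
    (hXA : X ≤ centralizer (A : Set G)) : ¬ centralizer (X : Set G) ≤ M := by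
  intro hCX
  have hXM : X ≤ M := hXA.trans (centralizer_le_coatom hG hA hA2 hM hAM)
  obtain ⟨P, hP⟩ := ((IsPGroup.of_card hA2 : IsPGroup p A).comap_subtype (K := M)).exists_le_sylow
  set S := (P : Subgroup M).map M.subtype
  have hAS : A ≤ S := by rw [← map_subgroupOf_eq_of_le hAM]; exact map_mono hP
  obtain ⟨n, hn, hnM⟩ := SetLike.not_le_iff_exists.1 fun h : normalizer (S : Set G) ≤ M =>
    hpσ ⟨hp.out, (dvd_pow_self p two_ne_zero).trans (hA2 ▸ card_dvd_of_le hAM), P, h⟩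
  set A' := A.map (MulAut.conj n).toMonoidHom with hA'
  have hA'M : A' ≤ M := ((map_mono hAS).trans (mem_normalizer_iff_map_conj_eq.1 hn).le).trans (map_subtype_le _)
  have hC' := centralizer_le_coatom hG (Excep.conj_elementary hA n)
    (by rw [card_map_of_injective (MulAut.conj n).injective, hA2]) hM hA'M
  have hXn : X.map (MulAut.conj n).toMonoidHom ≤ M := by
    rintro _ ⟨x, hx, rfl⟩
    refine hC' (mem_centralizer_iff.2 ?_)
    rintro _ ⟨a, ha, rfl⟩
    rw [← map_mul, ← map_mul, mem_centralizer_iff.1 (hXA hx) a ha]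
  obtain ⟨m, hm, c, hc, rfl⟩ := Sig.fusion_in hG hM hq hX hXM n hXn
  exact hnM (mul_mem hm (hCX hc))

/-- `A` acts on `M_σ` without common fixed points. -/
theorem inf_centralizer_eq_bot : Cfsg.sigmaCore M ⊓ centralizer (A : Set G) = ⊥ := by
  haveI hAs : Group.IsSolvable A := hG.2.2.2 A (ne_top_of_le_ne_top hM.1 hAM)
  have hAp : IsPGroup p A := IsPGroup.of_card hA2
  have hσM : Cfsg.sigmaCore M ≤ M := map_subtype_le _
  haveI := hA.1
  have hAC : A ≤ centralizer (A : Set G) := le_centralizer_iff_isMulCommutative.2 hA.1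
  by_contra hne
  obtain ⟨q, hq, hqd⟩ := Nat.exists_prime_and_dvd (n := Nat.card ↥(Cfsg.sigmaCore M ⊓ centralizer (A : Set G)))
    fun h => hne (Subgroup.card_eq_one.1 h)
  haveI := Fact.mk hq
  obtain ⟨w', hw'⟩ := exists_prime_orderOf_dvd_card' q hqd
  set w : G := (w' : G) with hw
  obtain ⟨hwσ, hwA⟩ : w ∈ Cfsg.sigmaCore M ∧ w ∈ centralizer (A : Set G) := w'.2
  have hwo : orderOf w = q := by rw [hw, orderOf_coe, hw']
  have hwC : zpowers w ≤ centralizer (A : Set G) := zpowers_le.2 hwA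
  have hqσ : q ∈ Cfsg.sigma M :=
    (Sig.sigma_core hG hM).1.2.1 q hq (hwo ▸ (Cfsg.sigmaCore M).orderOf_dvd_natCard hwσ)
  have hqp : q ≠ p := ne_prime hG hM hpσ hqσ
  have hq2 : q ≠ 2 := CfsgLib.CN.MinSimple.p_ne_two hG (hwo ▸ orderOf_dvd_natCard w)
  have hwp : IsPGroup q (zpowers w) := IsPGroup.of_card (n := 1) (by rw [Nat.card_zpowers, hwo, pow_one])
  have hcopA : (Nat.card A).Coprime q := by
    rw [hA2]; exact ((Nat.coprime_primes hp.out hq).2 (Ne.symm hqp)).pow_left 2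
  obtain ⟨Q, hwQ, hQσ, hQM, hQp, hAQ, hQd, hNQ⟩ := inv_sylow_sigma hG hA hA2 hM hAM hpσ hqσ
    (zpowers_le.2 (hσM hwσ)) hwp ((le_centralizer_iff.1 hwC).trans (centralizer_le_normalizer _))
  have hwQ' : w ∈ Q := hwQ (mem_zpowers w)
  have hQA : ¬ Q ≤ centralizer (A : Set G) := fun h =>
    centralizer_not_le hG hA hA2 hM hAM hpσ hmax hqσ hQp h ((centralizer_le_normalizer _).trans hNQ)
  obtain ⟨H, hH, hpH, hNH, hAH⟩ := exists_sigma_over hA hA2 hmax hG
  have hHM : H ≠ M := fun e => hpσ (e ▸ hpH)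
  have hCH : centralizer (A : Set G) ≤ H := (centralizer_le_normalizer _).trans hNH
  -- the fixed points in `Q` are cyclic
  have hcyc : IsCyclic ↥(Q ⊓ centralizer (A : Set G)) := by
    by_contra hnc
    obtain ⟨E, hE, hEe, hEc⟩ := Uniq.exists_sq hq2 (hQp.to_le inf_le_left) hnc
    by_cases hα : q ∈ Cfsg.alpha M
    · have hr : ¬ Cfsg.RankLE 1 ↥(Cfsg.alphaCore M ⊓ centralizer (A : Set G)) := fun hr => by
        have := Uniq.rankLE_elementary (hr q hq) (hE.trans (inf_le_inf_right _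
          (Excep.le_alphaCore hG hM hQM (Excep.primes_of_pgroup hQp hα)))) hEe
        rw [hEc, pow_one] at this
        exact absurd this (not_le.2 (lt_self_pow₀ hq.one_lt one_lt_two))
      have hU := Sig.centralizer_unique hG hM hAM (fun r hr' hd => by
        have := Excep.primes_of_pgroup (π := {p}) hAp rfl r hr' hd
        exact this ▸ fun h => hpσ (Sig.alpha_subset_sigma hG hM h)) hr
      exact hHM (Uniq.eq_of hU hH (inf_le_right.trans hCH) hM inf_le_left)
    · exact hQA (le_centralizer_iff.1 (centralizes_rank_two hq2 hQp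
        (Uniq.rankLE_mono hQM (by_contra fun h => hα ⟨hq, h⟩)) (hE.trans inf_le_left) hEe hEc hAQ hcopA
        (hE.trans inf_le_right)))
  -- a large invariant subgroup centralizing `w`
  set U := Q ⊓ centralizer ({w} : Set G) with hU
  have hAw : A ≤ centralizer ({w} : Set G) := fun a ha =>
    mem_centralizer_singleton_iff.2 (mem_centralizer_iff.1 hwA a ha)
  have hwU : w ∈ U := ⟨hwQ', mem_centralizer_singleton_iff.2 rfl⟩
  have hUp : IsPGroup q U := hQp.to_le inf_le_left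
  have hAU : A ≤ normalizer (U : Set G) := le_trans (le_inf hAQ (hAw.trans le_normalizer)) inf_normalizer_le_normalizer_inf
  have hUA : ¬ U ≤ centralizer (A : Set G) := fun h => hQA (le_centralizer_iff.1
    (Cfsg.Agent.S1442.result Q A hQp.isNilpotent hAQ
      (Excep.coprime_of_pgroup hAp fun hd => hqp
        (Excep.primes_of_pgroup (π := {q}) hQp rfl p hp.out hd).symm)
      fun x hx => ⟨hx.1, h ⟨hx.1, mem_centralizer_singleton_iff.2
        (mem_centralizer_iff.1 hx.2 w ⟨hwQ', hwA⟩).symm⟩⟩))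
  have hw1 : zpowers w ≠ ⊥ := fun e => hq.ne_one (by rw [← hwo, ← Nat.card_zpowers, e, card_bot])
  obtain ⟨L, hL, hNL⟩ := (eq_top_or_exists_le_coatom (normalizer (zpowers w : Set G))).resolve_left
    (CfsgLib.CN.MinSimple.normalizer_ne_top hG hwp.isNilpotent hw1)
  have hCwN : centralizer ({w} : Set G) ≤ normalizer (zpowers w : Set G) :=
    (FixedLine.le_centralizer_zpowers le_rfl).trans (centralizer_le_normalizer _)
  have hLM : L ≠ M := fun e => centralizer_not_le hG hA hA2 hM hAM hpσ hmax hqσ hwp hwC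
    (((centralizer_le_normalizer _).trans hNL).trans e.le)
  have hAL : A ≤ L := (hAw.trans hCwN).trans hNL
  have hUL : U ≤ L := (inf_le_right.trans hCwN).trans hNL
  have hUM : U ≤ M := inf_le_left.trans hQM
  have hqL : q ∉ Cfsg.alpha L := not_alpha_of_inter hG hA hA2 hM hAM hpσ hmax hqσ hUp
    (fun e => hUA (e ▸ bot_le)) hUM hAU hL hLM hAL hUL
  set O := Excep.opc p L with hO
  have hcop' : ∀ V : Subgroup G, IsPGroup q V → (Nat.card V).Coprime p := fun V hV =>
    Excep.coprime_of_pgroup hV fun h => hqp ((Nat.prime_dvd_prime_iff_eq hq hp.out).1 h)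
  have hinv : ∀ V : Subgroup G, V ≤ L → IsPGroup q V → A ≤ normalizer (V : Set G) → V ≤ O := fun V h1 h2 h3 =>
    Excep.invariant_le_opc hA hA2 hmax hG hL.1 hAL h1 (hcop' V h2) h3
  have hAO : A ≤ normalizer (O : Set G) := hAL.trans (Excep.le_normalizer_opc p L)
  have hcopO : (Nat.card A).Coprime (Nat.card O) :=
    Excep.coprime_of_pgroup hAp (hp.out.coprime_iff_not_dvd.1 (Excep.opc_coprime p L).symm)
  obtain ⟨R, hUR, hRO, hRp, hAR, hRd⟩ :=
    Excep.exists_inv_sylow hAO hcopO (Or.inl hAs) (hinv U hUL hUp hAU) hUp hAU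
  have hRr : Cfsg.PRankLE q 2 R := Uniq.rankLE_mono (hRO.trans (Excep.opc_le p L))
    (by_contra fun h => hqL ⟨hq, h⟩)
  have hpR : ¬ p ∣ Nat.card R := fun hd => hqp (Excep.primes_of_pgroup (π := {q}) hRp rfl p hp.out hd).symm
  -- some line centralizes `R`
  obtain ⟨B, hBA, hB, hBR⟩ : ∃ B : Subgroup G, B ≤ A ∧ Nat.card B = p ∧ B ≤ centralizer (R : Set G) := by
    by_contra hall
    push Not at hall
    refine hUA (hUR.trans (Excep.le_of_lines hA hA2 hAR hpR fun Y hYA hY => ?_))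
    refine le_centralizer_iff.1 (Excep.centralizes_cyclic hq2 (hRp.to_le inf_le_left) ?_
      (Excep.normalizes_inf_centralizer hA hA2 hYA hAR) hcopA (w := w)
      ⟨hUR hwU, centralizer_le hYA hwA⟩ hwo hAw)
    by_contra hnc
    obtain ⟨E, hE, hEe, hEc⟩ := Uniq.exists_sq hq2 (hRp.to_le inf_le_left) hnc
    exact hall Y hYA hY (centralizes_rank_two hq2 hRp hRr (hE.trans inf_le_left) hEe hEc (hYA.trans hAR)
      (hcopA.coprime_dvd_left (card_dvd_of_le hYA)) (hE.trans inf_le_right))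
  -- the normalizer of `A` fixes `B`
  have hfix : ∀ g ∈ normalizer (A : Set G), g ∈ normalizer (zpowers w : Set G) → g ∈ normalizer (B : Set G) := by
    intro g hgA hgw
    by_contra hgB
    set φ := (MulAut.conj g).toMonoidHom with hφ
    have hAφ : A.map φ = A := mem_normalizer_iff_map_conj_eq.1 hgA
    have hVA : A ≤ normalizer (U.map φ : Set G) := hAφ.ge.trans ((map_mono hAU).trans (le_normalizer_map φ))
    have hUN : U.map φ ≤ normalizer (zpowers w : Set G) :=
      (map_mono (inf_le_right.trans hCwN)).trans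
        ((le_normalizer_map φ).trans (by
          have e : (zpowers w).map φ = zpowers w := mem_normalizer_iff_map_conj_eq.1 hgw
          rw [e]))
    obtain ⟨R', hVR', hR'O, hR'p, hAR', hR'd⟩ := Excep.exists_inv_sylow hAO hcopO (Or.inl hAs)
      (hinv _ (hUN.trans hNL) (hUp.map φ) hVA) (hUp.map φ) hVA
    obtain ⟨c, hc, hcR⟩ := Excep.inv_sylow_conj hAO hcopO
      (hG.2.2.2 O (ne_top_of_le_ne_top hL.1 (Excep.opc_le p L))) hRO hRp hRd hAR hR'O hR'p hR'd hAR'
    have hBR' : R' ≤ centralizer (B : Set G) := by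
      rw [← hcR]
      rintro _ ⟨x, hx, rfl⟩
      have h1 : x ∈ centralizer (B : Set G) := le_centralizer_iff.1 hBR hx
      have h2 : c ∈ centralizer (B : Set G) := centralizer_le hBA hc.2
      exact mul_mem (mul_mem h2 h1) (inv_mem h2)
    set B' := B.map φ with hB'
    have hB'A : B' ≤ A := (map_mono hBA).trans hAφ.le
    have hBB' : B' ≠ B := fun e => hgB (mem_normalizer_iff_map_conj_eq.2 e)
    obtain ⟨b, hbB', hbB⟩ : ∃ b ∈ B', b ∉ B := by
      by_contra hno
      push Not at hno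
      exact hBB' (eq_of_le_of_card_ge hno (by rw [hB', card_map_of_injective (MulAut.conj g).injective, hB]))
    refine hUA fun u hu => mem_centralizer_iff.2 fun a ha => ?_
    have h3 : φ u ∈ centralizer (A : Set G) := by
      rw [← Excep.centralizer_line_sup hA hA2 hBA hB (hB'A hbB') hbB]
      refine ⟨hBR' (hVR' (mem_map_of_mem φ hu)), mem_centralizer_singleton_iff.2 ?_⟩
      obtain ⟨b₀, hb₀, rfl⟩ := hbB'
      rw [← map_mul, ← map_mul, mem_centralizer_iff.1 (le_centralizer_iff.1 hBR (hUR hu)) b₀ hb₀]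
    have h4 := mem_centralizer_iff.1 h3 _ (hAφ.le (mem_map_of_mem φ ha))
    rw [← map_mul, ← map_mul] at h4
    exact (MulAut.conj g).injective h4
  have hNA : normalizer (A : Set G) ≤ normalizer (B : Set G) := by
    intro g hg
    set φ := (MulAut.conj g).toMonoidHom with hφ
    have hAφ : A.map φ = A := mem_normalizer_iff_map_conj_eq.1 hg
    have hw'A : φ w ∈ centralizer (A : Set G) := mem_centralizer_iff.2 fun a ha => by
      obtain ⟨a', ha', rfl⟩ := hAφ.ge ha
      rw [← map_mul, ← map_mul, mem_centralizer_iff.1 hwA a' ha']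
    have hw'C : zpowers (φ w) ≤ centralizer (A : Set G) := zpowers_le.2 hw'A
    have hw'o : orderOf (φ w) = q := (MulEquiv.orderOf_eq (MulAut.conj g) w).trans hwo
    obtain ⟨Q', hwQ'', hQ'σ, -, hQ'p, hAQ', hQ'd, -⟩ := inv_sylow_sigma hG hA hA2 hM hAM hpσ hqσ
      (hw'C.trans (centralizer_le_coatom hG hA hA2 hM hAM))
      (IsPGroup.of_card (n := 1) (by rw [Nat.card_zpowers, hw'o, pow_one]))
      ((le_centralizer_iff.1 hw'C).trans (centralizer_le_normalizer _))
    have hrel : ∀ X : Subgroup G, X ≤ Cfsg.sigmaCore M → ¬ q ∣ X.index →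
        ¬ q ∣ X.relIndex (Cfsg.sigmaCore M) := fun X hX h hd =>
      h (hd.trans (Dvd.intro _ (relIndex_mul_index hX)))
    obtain ⟨c, hc, hcQ⟩ := Excep.inv_sylow_conj (hAM.trans (TH.le_normalizer_core M))
      (Excep.coprime_of_pgroup hAp (not_dvd_sigmaCore hG hM hpσ))
      (hG.2.2.2 _ (ne_top_of_le_ne_top hM.1 hσM)) hQ'σ hQ'p (hrel _ hQ'σ hQ'd) hAQ' hQσ hQp (hrel _ hQσ hQd) hAQ
    set v := c * φ w * c⁻¹
    have hv : v ∈ Q ⊓ centralizer (A : Set G) :=
      ⟨hcQ.le ⟨φ w, hwQ'' (mem_zpowers _), rfl⟩, (centralizer (A : Set G)).mul_mem ((centralizer (A : Set G)).mul_mem hc.2 hw'A) ((centralizer (A : Set G)).inv_mem hc.2)⟩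
    have hvo : orderOf v = q := (MulEquiv.orderOf_eq (MulAut.conj c) (φ w)).trans hw'o
    have hvw : zpowers v = zpowers w := by
      refine eq_of_le_of_card_ge ?_ (by rw [Nat.card_zpowers, Nat.card_zpowers, hvo, hwo])
      rw [zpowers_le]
      by_contra hvn
      haveI := hcyc
      set W : Subgroup G := zpowers w ⊔ zpowers v with hW
      have hWle : W ≤ Q ⊓ centralizer (A : Set G) := sup_le (zpowers_le.2 ⟨hwQ', hwA⟩) (zpowers_le.2 hv)
      haveI : IsCyclic W := isCyclic_of_le hWle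
      have hcomm : Commute w v := congrArg Subtype.val
        (IsMulCommutative.is_comm.comm (⟨w, ⟨hwQ', hwA⟩⟩ : ↥(Q ⊓ centralizer (A : Set G))) ⟨v, hv⟩)
      have hexp : ∀ x ∈ W, x ^ q = 1 := by
        intro x hx
        rw [hW, sup_comm] at hx
        obtain ⟨a, ha, b, hb, rfl⟩ := (CfsgLib.Solvable.mem_sup_of_le_normalizer (by
          refine le_trans ?_ (centralizer_le_normalizer _)
          exact zpowers_le.2 (mem_centralizer_iff.2 fun y hy => by
            obtain ⟨i, rfl⟩ := mem_zpowers_iff.1 hy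
            exact (hcomm.zpow_left i).eq))).1 hx
        obtain ⟨i, rfl⟩ := mem_zpowers_iff.1 ha
        obtain ⟨j, rfl⟩ := mem_zpowers_iff.1 hb
        rw [(hcomm.symm.zpow_zpow i j).mul_pow, ← zpow_natCast (v ^ i), ← zpow_natCast (w ^ j), ← zpow_mul,
          ← zpow_mul, mul_comm i, mul_comm j, zpow_mul, zpow_mul, zpow_natCast, zpow_natCast,
          ← hvo, pow_orderOf_eq_one, one_zpow, hvo, ← hwo, pow_orderOf_eq_one, one_zpow, mul_one]
      have hWc : Nat.card W ≤ q := PLenZ.card_le_of_cyclic_exp inferInstance hexp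
      exact hvn ((eq_of_le_of_card_ge (le_sup_left : zpowers w ≤ W) (by rw [Nat.card_zpowers, hwo]; exact hWc)).ge
        (mem_sup_right (mem_zpowers v)))
    have h1 : c * g ∈ normalizer (zpowers w : Set G) := Uniq.mem_normalizer_of_map_le (by
      rw [MonoidHom.map_zpowers, zpowers_le, ← hvw]
      exact mem_zpowers_iff.2 ⟨1, by simp [v, φ, mul_assoc]⟩)
    have hcN : c ∈ normalizer (A : Set G) := centralizer_le_normalizer _ hc.2
    have h2 := hfix _ (mul_mem hcN hg) h1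
    have hcB : c ∈ normalizer (B : Set G) := centralizer_le_normalizer _ (centralizer_le hBA hc.2)
    simpa [← mul_assoc] using mul_mem (inv_mem hcB) h2
  -- contradiction at a Sylow subgroup
  obtain ⟨P, hAP⟩ := hAp.exists_le_sylow
  have hNP : normalizer ((P : Subgroup G) : Set G) ≤ normalizer (B : Set G) := by
    rcases dichotomy hA hA2 hmax hG.1 P.2 hAP with ⟨-, h⟩ | ⟨z, hzA, hzo, hPz, h, -, g, hgP, hgA, hgC⟩
    · exact h.trans hNA
    · suffices hBz : B = zpowers z by rw [hBz]; exact h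
      by_contra hBz
      obtain ⟨b, hb, hbz⟩ : ∃ b ∈ B, b ∉ zpowers z := by
        by_contra hno
        push Not at hno
        exact hBz (eq_of_le_of_card_ge hno (by rw [Nat.card_zpowers, hzo, hB]))
      have hgB := le_centralizer_of_line (P.2.to_le (zpowers_le.2 hgP)) hB (zpowers_le.2 (hNA hgA)) (mem_zpowers g)
      refine hgC (mem_centralizer_iff.2 fun a ha => ?_)
      rw [← Excep.line_sup hA2 (zpowers_le.2 hzA) (by rw [Nat.card_zpowers, hzo]) (hBA hb) hbz] at ha
      have hle : zpowers z ⊔ zpowers b ≤ centralizer ({g} : Set G) := sup_le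
        (zpowers_le.2 (mem_centralizer_singleton_iff.2 (mem_centralizer_singleton_iff.1 (hPz hgP)).symm))
        (zpowers_le.2 (mem_centralizer_singleton_iff.2 (mem_centralizer_iff.1 hgB b hb)))
      exact mem_centralizer_singleton_iff.1 (hle ha)
  have hB1 : B ≠ ⊥ := fun e => hp.out.ne_one (by rw [← hB, e, card_bot])
  obtain ⟨K, hK, hNK⟩ := (eq_top_or_exists_le_coatom (normalizer (B : Set G))).resolve_left
    (CfsgLib.CN.MinSimple.normalizer_ne_top hG (hAp.to_le hBA).isNilpotent hB1)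
  have hAK : A ≤ K := ((hAC.trans (centralizer_le hBA)).trans (centralizer_le_normalizer _)).trans hNK
  have hpK : p ∈ Cfsg.sigma K := Excep.mem_sigma_of_sylow P ((le_normalizer.trans hNP).trans hNK) (hNP.trans hNK)
    ((dvd_pow_self p two_ne_zero).trans (hA2 ▸ card_dvd_of_le hAK))
  exact hUA (centralizes_of_sigma hG hA hA2 hM hAM hpσ hmax hqσ hUp hUM hAU hK (fun e => hpσ (e ▸ hpK)) hAK hpK
    ((hUR.trans (le_centralizer_iff.1 hBR)).trans ((centralizer_le_normalizer _).trans hNK)))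

/-- A maximal subgroup with `p` in `σ` meets `M_σ` trivially. -/
theorem inter_sigma_eq_bot {K : Subgroup G} (hK : IsCoatom K) (hAK : A ≤ K) (hpK : p ∈ Cfsg.sigma K) :
    Cfsg.sigmaCore M ⊓ K = ⊥ := by
  by_contra hne
  obtain ⟨r, U, hr, hrd, hUK, hU1, hUp, hAU⟩ := exists_inv_pgroup hA hA2
    (Or.inl (hG.2.2.2 A (ne_top_of_le_ne_top hM.1 hAM)))
    (le_trans (le_inf (hAM.trans (TH.le_normalizer_core M)) (hAK.trans le_normalizer)) inf_normalizer_le_normalizer_inf)
    (fun h => not_dvd_sigmaCore hG hM hpσ (h.trans (card_dvd_of_le inf_le_left))) hne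
  haveI := Fact.mk hr
  have hrσ : r ∈ Cfsg.sigma M := (Sig.sigma_core hG hM).1.2.1 r hr (hrd.trans (card_dvd_of_le inf_le_left))
  have hUσ : U ≤ Cfsg.sigmaCore M := hUK.trans inf_le_left
  have hUC := centralizes_of_sigma hG hA hA2 hM hAM hpσ hmax hrσ hUp (hUσ.trans (map_subtype_le _)) hAU hK
    (fun e => hpσ (e ▸ hpK)) hAK hpK (hUK.trans inf_le_right)
  exact hU1 (le_bot_iff.1 (inf_centralizer_eq_bot hG hA hA2 hM hAM hpσ hmax ▸ le_inf hUσ hUC))

end CfsgLib.OddLocal.Tau
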