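import Cfsg.Agent.OddLocal.TauTwoAbelian

/-!
Elements of a complement moving all lines of an elementary subgroup for `p ∈ τ₂(M)`.
-/

set_option autoImplicit false
set_option linter.style.haveILetI false
set_option linter.unusedSectionVars false

namespace CfsgLib.OddLocal.Tau

open Subgroup Cfsg CfsgLib.OddLocal
open scoped commutatorElement Pointwise

universe u

variable {G : Type u} [Group G] [Finite G]

/-- An elementary subgroup has a conjugate in each full `p`-subgroup. -/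
theorem exists_elementary_in_full {p : ℕ} [Fact p.Prime] {U S B : Subgroup G} (hS : IsPGroup p S) (hSU : S ≤ U)
    (hSd : ¬ p ∣ S.relIndex U) (hB : Cfsg.IsElementaryAbelian p B) (hB2 : Nat.card B = p ^ 2) (hBU : B ≤ U) :
    ∃ B' : Subgroup G, B' ≤ S ∧ Cfsg.IsElementaryAbelian p B' ∧ Nat.card B' = p ^ 2 := by
  obtain ⟨T, hT⟩ := ((IsPGroup.of_card hB2 : IsPGroup p B).comap_subtype (K := U)).exists_le_sylow
  obtain ⟨n, hn⟩ := MulAction.exists_smul_eq U T ((hS.comap_subtype (K := U)).toSylow hSd)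
  refine ⟨B.map (MulAut.conj (n : G)).toMonoidHom, ?_, elementary_map hB _, by
    rw [card_map_of_injective (f := (MulAut.conj (n : G)).toMonoidHom) (MulAut.conj (n : G)).injective, hB2]⟩
  rintro _ ⟨b, hb, rfl⟩
  have h : MulAut.conj n ⟨b, hBU hb⟩ ∈ ((n • T : Sylow p U) : Subgroup U) := by
    rw [Sylow.coe_subgroup_smul]
    exact smul_mem_pointwise_smul _ _ _ (hT (show (⟨b, hBU hb⟩ : U) ∈ B.comap U.subtype from hb))
  rw [hn] at h
  exact h

variable (hG : Cfsg.IsMinSimpleOddOrder G)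
include hG

/-- An elementary subgroup and a full `p`-subgroup of a complement over a given one, `p ∈ τ₂(M)`. -/
theorem exists_sylow_data {p : ℕ} [hp : Fact p.Prime] {M E P : Subgroup G} (hM : IsCoatom M)
    (hE : Cfsg.IsComplIn E (Cfsg.sigmaCore M) M) (hpτ : p ∈ Cfsg.tau2 M) (hP : IsPGroup p P) (hPE : P ≤ E) :
    ∃ A T : Subgroup G, Cfsg.IsElementaryAbelian p A ∧ Nat.card A = p ^ 2 ∧ IsPGroup p T ∧ A ≤ T ∧ P ≤ T ∧ T ≤ E ∧
      ¬ p ∣ T.relIndex E := by
  obtain ⟨-, hpσ, -, hr1⟩ := hpτ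
  obtain ⟨T₀, hT₀⟩ := (hP.comap_subtype (K := E)).exists_le_sylow
  set T := (T₀ : Subgroup E).map E.subtype
  have hd : ¬ p ∣ T.relIndex E := by
    rw [relIndex, ← comap_subtype, comap_map_eq_self_of_injective E.subtype_injective]
    exact T₀.not_dvd_index
  obtain ⟨B, hBM, hB, hB2⟩ : ∃ B : Subgroup G, B ≤ M ∧ Cfsg.IsElementaryAbelian p B ∧ Nat.card B = p ^ 2 :=
    Uniq.exists_elementary hr1
  obtain ⟨c, -, hc⟩ := conj_into_of_product (π := {p}) (hG.2.2.2 M hM.1) hE.1 (map_subtype_le _)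
    (TH.le_normalizer_core M) ((Compl.card_eq hG hM hE).2.1.ge.trans (sup_comm _ _).le)
    (fun r hr hrp h => hpσ (Set.mem_singleton_iff.1 hrp ▸ (Sig.sigma_core hG hM).1.2.1 r hr h))
    hBM (Excep.primes_of_pgroup (IsPGroup.of_card hB2) rfl)
  obtain ⟨A, hAT, hA, hA2⟩ := exists_elementary_in_full (T₀.2.map _) (map_subtype_le _) hd (elementary_map hB _)
    (by rw [card_map_of_injective (f := (MulAut.conj c).toMonoidHom) (MulAut.conj c).injective, hB2]) hc
  refine ⟨A, T, hA, hA2, T₀.2.map _, hAT, ?_, map_subtype_le _, hd⟩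
  rw [← map_subgroupOf_eq_of_le hPE]
  exact map_mono hT₀

variable {p l : ℕ} [hp : Fact p.Prime] [hl : Fact l.Prime] {M E A : Subgroup G}
  (hM : IsCoatom M) (hE : Cfsg.IsComplIn E (Cfsg.sigmaCore M) M)
  (hA : Cfsg.IsElementaryAbelian p A) (hA2 : Nat.card A = p ^ 2) (hAE : A ≤ E) (hlp : l ≠ p)
include hM hE hA hA2 hAE hlp

/-- An element of prime order moving `A` without fixed points in `M_σ` leaves a point of `A` centralizing
`M_σ`. -/
theorem centralizing_of_moving {e : G} (heE : e ∈ E) (heA : e ∈ normalizer (A : Set G)) (heo : orderOf e = l)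
    (hmove : e ∉ centralizer (A : Set G)) (hfix : Cfsg.sigmaCore M ⊓ centralizer ({e} : Set G) = ⊥) :
    A ⊓ centralizer (Cfsg.sigmaCore M : Set G) ≠ ⊥ := by
  classical
  haveI := hA.1
  set K := Cfsg.sigmaCore M
  have hσ := (Compl.card_eq hG hM hE).2.2
  have hEM : E ≤ M := hE.1
  have hZ : IsPGroup l (zpowers e) := IsPGroup.of_card (n := 1) (by rw [Nat.card_zpowers, heo, pow_one])
  have hAp : IsPGroup p A := IsPGroup.of_card hA2
  have hZA : zpowers e ≤ normalizer (A : Set G) := zpowers_le.2 heA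
  have hcop : (Nat.card (zpowers e)).Coprime (Nat.card A) := IsPGroup.coprime_card_of_ne l p hlp _ _ hZ hAp
  set U := ⁅A, zpowers e⁆ with hUdef
  have hUA : U ≤ A := le_normalizer_iff_commutator_le_left.1 hZA
  have hU1 : U ≠ ⊥ := fun e' => hmove
    (le_centralizer_iff.1 (commutator_eq_bot_iff_le_centralizer.1 e') (mem_zpowers e))
  have hnc : U ⊓ centralizer ({e} : Set G) = ⊥ := by
    refine le_bot_iff.1 (le_trans ?_ (CfsgLib.CoprimeAct.fixed_inf_commutator_abelian hZA hcop).le)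
    exact le_inf (le_inf (inf_le_left.trans hUA) (inf_le_right.trans (FixedLine.le_centralizer_zpowers le_rfl)))
      inf_le_left
  refine fun hbot => hU1 (le_bot_iff.1 ((le_inf hUA ?_).trans hbot.le))
  refine le_centralizer_iff.1 (Excep.le_of_sylows fun t ht htd => ?_)
  haveI := Fact.mk ht
  have htσ : t ∈ Cfsg.sigma M := (Sig.sigma_core hG hM).1.2.1 t ht htd
  have hne : ∀ {r : ℕ}, r ∉ Cfsg.sigma M → r ≠ t := fun hr e' => hr (e' ▸ htσ)
  have hpσ : p ∉ Cfsg.sigma M := hσ p hp.out ((dvd_pow_self p two_ne_zero).trans (hA2 ▸ card_dvd_of_le hAE))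
  have hlσ : l ∉ Cfsg.sigma M := hσ l hl.out (by rw [← heo, ← orderOf_mk e heE]; exact orderOf_dvd_natCard _)
  have hΓM : A ⊔ zpowers e ≤ M := sup_le (hAE.trans hEM) (zpowers_le.2 (hEM heE))
  have hΓc : (Nat.card ↥(A ⊔ zpowers e)).Coprime (Nat.card K) := by
    refine Nat.coprime_of_dvd fun r hr h1 h2 => ?_
    have h3 := CfsgLib.Solvable.card_sup_mul_card_inf hZA
    have h4 : r ∣ Nat.card (zpowers e) * Nat.card A :=
      h3 ▸ ((h1.trans (card_dvd_of_le (sup_comm A (zpowers e)).le)).trans (dvd_mul_right _ _))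
    have hrσ := (Sig.sigma_core hG hM).1.2.1 r hr h2
    rcases hr.dvd_mul.1 h4 with h | h
    · exact hlσ ((Excep.primes_of_pgroup (π := {l}) hZ rfl r hr h : r = l) ▸ hrσ)
    · exact hpσ ((Excep.primes_of_pgroup (π := {p}) hAp rfl r hr h : r = p) ▸ hrσ)
  obtain ⟨T, -, hTK, hT, hΓT, hTd⟩ := Excep.exists_inv_sylow (t := t) (hΓM.trans (TH.le_normalizer_core M)) hΓc
    (Or.inl (hG.2.2.2 _ (ne_top_of_le_ne_top hM.1 hΓM))) bot_le IsPGroup.of_bot le_normalizer_of_normal
  refine ⟨T, le_inf hTK (FixedLine.le_of_frobenius (hne hlσ) hT heo ((hUA.trans le_sup_left).trans hΓT)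
    (IsPGroup.coprime_card_of_ne p t (hne hpσ) _ _ (hAp.to_le hUA) hT)
    (normalizer_commutator_ge_right A (zpowers e) (mem_zpowers e)) (hΓT (mem_sup_right (mem_zpowers e))) hnc
    inf_le_right fun v hv x hx => ?_), hTd⟩
  have hvM : v ∈ M := (hAE.trans hEM) (hUA hv)
  have h1 : v⁻¹ * x * v ∈ K ⊓ centralizer ({e} : Set G) := by
    refine ⟨?_, mem_centralizer_singleton_iff.2 ?_⟩
    · show v⁻¹ * x * v ∈ Cfsg.sigmaCore M
      have h2 : v⁻¹ * x * v⁻¹⁻¹ ∈ Cfsg.sigmaCore M :=
        (mem_normalizer_iff.1 (TH.le_normalizer_core M (inv_mem hvM)) x).1 (hTK hx.1)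
      rwa [inv_inv] at h2
    · have h2 : x * (v * e * v⁻¹) = v * e * v⁻¹ * x := mem_centralizer_singleton_iff.1 hx.2
      calc v⁻¹ * x * v * e = v⁻¹ * (x * (v * e * v⁻¹)) * v := by group
        _ = v⁻¹ * (v * e * v⁻¹ * x) * v := by rw [h2]
        _ = e * (v⁻¹ * x * v) := by group
  rw [hfix, mem_bot] at h1
  have hx1 : x = 1 := by
    calc x = v * (v⁻¹ * x * v) * v⁻¹ := by group
      _ = 1 := by rw [h1]; group
  rw [hx1]; exact one_mem _

/-- With abelian Sylow `p`-subgroups, an element moving all lines of `A` moves it already with its element of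
prime order. -/
theorem no_irreducible (hpτ : p ∈ Cfsg.tau2 M) (hab : ∀ S : Sylow p G, IsMulCommutative (S : Subgroup G))
    (hr1 : Cfsg.PRankLE l 1 M) {e : G} {j : ℕ} (heE : e ∈ E) (heo : orderOf e = l ^ (j + 1))
    (hbot : e ^ l ^ j ∈ centralizer (A : Set G))
    (hno : ∀ X : Subgroup G, X ≤ A → Nat.card X = p → e ∉ normalizer (X : Set G)) : False := by
  classical
  obtain ⟨A', T, hA', hA'2, hT, hA'T, hAT, hTE, hTd⟩ :=
    exists_sylow_data hG hM hE hpτ (IsPGroup.of_card hA2 : IsPGroup p A) hAE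
  obtain ⟨hTc, hTA, -⟩ := tau_two_sylow hG hM hE hpτ hA hA2 hT hAT hTE hTd
  obtain ⟨hTfull, hTr⟩ := tau_two_full hG hM hE hpτ hA hA2 hT hAT hTE hTd hab
  obtain ⟨-, hNAT, hENT⟩ := central_sylow hG hM hE hpτ hA hA2 hT hAT hTE hTd hab
  obtain ⟨⟨hEA, -⟩, -, -⟩ := Cfsg.Agent.S1418.result hG M hM E hE p hpτ A ⟨hAE, hA, hA2⟩
  obtain ⟨-, hpσ, hr2, hr1p⟩ := id hpτ
  have hAM : A ≤ M := hAE.trans hE.1
  have hmax := (Cfsg.Agent.S1408.result hG M hM p hpσ hr2 hr1p).2 A hAM hA hA2
  have heM : e ∈ M := hE.1 heE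
  have hAe : e ∈ normalizer (A : Set G) := hEA heE
  have hlσ : l ∉ Cfsg.sigma M := (Compl.card_eq hG hM hE).2.2 l hl.out
    ((dvd_pow_self l (Nat.succ_ne_zero j)).trans (by rw [← heo, ← orderOf_mk e heE]; exact orderOf_dvd_natCard _))
  set e₁ := e ^ l ^ j with he₁
  have he₁o : orderOf e₁ = l := by
    rw [he₁, orderOf_pow' _ (pow_ne_zero _ hl.out.ne_zero), heo,
      Nat.gcd_eq_right (pow_dvd_pow l (Nat.le_succ j)), pow_succ, Nat.mul_div_cancel_left _ (pow_pos hl.out.pos _)]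
  have hX₁ : Nat.card (zpowers e₁) = l := by rw [Nat.card_zpowers, he₁o]
  obtain ⟨H, hH, hNH⟩ := (eq_top_or_exists_le_coatom (normalizer (zpowers e₁ : Set G))).resolve_left
    (Excep.normalizer_line_ne_top hG hX₁)
  have hCH : centralizer ({e₁} : Set G) ≤ H :=
    (FixedLine.le_centralizer_zpowers le_rfl).trans ((centralizer_le_normalizer _).trans hNH)
  have hHM : H ≠ M := fun e' => (Cfsg.Agent.S1409.result hG M hM l hlσ _ hX₁ (e' ▸ hNH)).1.2 hr1
  have heH : e ∈ H := hCH (mem_centralizer_singleton_iff.2 (((Commute.refl e).pow_right _).eq))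
  have hAH : A ≤ H := fun a ha =>
    hCH (mem_centralizer_singleton_iff.2 (mem_centralizer_iff.1 hbot a ha))
  have hTH : T ≤ H := hTA.trans (centralizer_le_coatom hG hA hA2 hH hAH)
  have hAp : IsPGroup p A := IsPGroup.of_card hA2
  have hep : IsPGroup l (zpowers e) := IsPGroup.of_card (n := j + 1) (by rw [Nat.card_zpowers, heo])
  have hZA : zpowers e ≤ normalizer (A : Set G) := zpowers_le.2 hAe
  -- invariant proper subgroups of `A` are trivial
  have hirr : ∀ X : Subgroup G, X ≤ A → e ∈ normalizer (X : Set G) → X ≠ ⊥ → X = A := by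
    intro X hX heX hX1
    obtain ⟨k, hk2, hk⟩ := (Nat.dvd_prime_pow hp.out).1 (hA2 ▸ card_dvd_of_le hX)
    interval_cases k
    · exact absurd (eq_bot_of_card_eq _ (by rw [hk, pow_zero])) hX1
    · exact absurd heX (hno X hX (by rw [hk, pow_one]))
    · exact eq_of_le_of_card_ge hX (by rw [hk, hA2])
  obtain ⟨a₀, ha₀, ha₀1⟩ := (bot_or_exists_ne_one A).resolve_left (ne_bot hA hA2)
  have hmove : e ∉ centralizer (A : Set G) := fun hc => by
    obtain ⟨-, hcard⟩ := Excep.line_of_mem hA ha₀ ha₀1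
    exact hno _ (zpowers_le.2 ha₀) hcard (centralizer_le_normalizer _ (centralizer_le (zpowers_le.2 ha₀) hc))
  have hcomm : ⁅A, zpowers e⁆ = A := hirr _ (le_normalizer_iff_commutator_le_left.1 hZA)
    (normalizer_commutator_ge_right A (zpowers e) (mem_zpowers e))
    fun e' => hmove (le_centralizer_iff.1 (commutator_eq_bot_iff_le_centralizer.1 e') (mem_zpowers e))
  by_cases hpH : p ∈ Cfsg.sigma H
  · have hpα : p ∉ Cfsg.alpha H := fun h => Excep.rank_of_full hT hTfull h hTr
    have hAH' : A ≤ ⁅H, H⁆ := Sig.le_derived hG hH hpH hAp hAH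
    by_cases hlH : l ∈ Cfsg.sigma H
    · have h1 : A ≤ Cfsg.alphaCore H := hcomm.ge.trans (Excep.commutator_le_alphaCore hG hH hAH'
        (Sig.le_derived hG hH hlH hep (zpowers_le.2 heH)) (IsPGroup.coprime_card_of_ne p l (Ne.symm hlp) _ _ hAp hep))
      exact hpα ((Sig.alpha_core hG hH).1.2.1 p hp.out
        ((dvd_pow_self p two_ne_zero).trans (hA2 ▸ card_dvd_of_le h1)))
    obtain ⟨⟨-, hlr1⟩, -⟩ := Cfsg.Agent.S1409.result hG H hH l hlH _ hX₁ hNH
    obtain ⟨B₀, hB₀H, hB₀, hB₀2⟩ : ∃ B : Subgroup G, B ≤ H ∧ Cfsg.IsElementaryAbelian l B ∧ Nat.card B = l ^ 2 :=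
      Uniq.exists_elementary hlr1
    set U := H ⊓ normalizer (T : Set G)
    have hTK : T ≤ Cfsg.sigmaCore H := Excep.le_sigmaCore hG hH hTH (Excep.primes_of_pgroup hT hpH)
    obtain ⟨c, -, hc⟩ := conj_into_of_product (π := {l}) (hG.2.2.2 H hH.1) (inf_le_left : U ≤ H) (map_subtype_le _)
      (TH.le_normalizer_core H) (Excep.frattini_le (map_subtype_le _) (TH.le_normalizer_core H) hTK hT
        fun h => hTfull (h.trans (Dvd.intro _ (relIndex_mul_index hTK))))
      (fun r hr hrl h => hlH (Set.mem_singleton_iff.1 hrl ▸ (Sig.sigma_core hG hH).1.2.1 r hr h))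
      hB₀H (Excep.primes_of_pgroup (IsPGroup.of_card hB₀2) rfl)
    have heU : zpowers e ≤ U := zpowers_le.2 ⟨heH, hENT heE⟩
    obtain ⟨S₀, hS₀⟩ := (hep.comap_subtype (K := U)).exists_le_sylow
    set S := (S₀ : Subgroup U).map U.subtype
    have heS : e ∈ S := ⟨⟨e, heU (mem_zpowers e)⟩, hS₀ (mem_zpowers e : e ∈ zpowers e), rfl⟩
    obtain ⟨B, hBS, hB, hB2⟩ := exists_elementary_in_full (S₀.2.map _) (map_subtype_le _) (by
      rw [relIndex, ← comap_subtype, comap_map_eq_self_of_injective U.subtype_injective]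
      exact S₀.not_dvd_index) (elementary_map hB₀ (MulAut.conj c).toMonoidHom)
      (by rw [card_map_of_injective (f := (MulAut.conj c).toMonoidHom) (MulAut.conj c).injective, hB₀2]) hc
    have hSc := commutative_of_not_sigma hG hH hlH (S₀.2.map U.subtype : IsPGroup l S)
      ((map_subtype_le _).trans inf_le_left)
    obtain ⟨b, hbB, hbM⟩ : ∃ b ∈ B, b ∉ M := by
      refine SetLike.not_le_iff_exists.1 fun h => ?_
      have h1 := Uniq.rankLE_elementary hr1 h hB
      rw [hB2] at h1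
      exact absurd h1 (not_le.2 (Nat.pow_lt_pow_right hl.out.one_lt one_lt_two))
    have hbN : b ∈ normalizer (A : Set G) := by
      have h : b ∈ normalizer (T : Set G) := ((map_subtype_le _).trans inf_le_right) (hBS hbB)
      exact normalizer_le_of_central hA hmax (P := hT.toSylow hTfull) hAT hTA h
    -- the least power centralizing `A`
    have hex : ∃ m : ℕ, e ^ l ^ m ∈ centralizer (A : Set G) := ⟨j, hbot⟩
    obtain ⟨m, hm⟩ : ∃ m, Nat.find hex = m + 1 := by
      refine ⟨Nat.find hex - 1, ?_⟩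
      have : Nat.find hex ≠ 0 := fun h => hmove (by simpa [h] using Nat.find_spec hex)
      omega
    set e' := e ^ l ^ m with he'
    have he'C : e' ∉ centralizer (A : Set G) := Nat.find_min hex (by omega)
    have he'l : e' ^ l ∈ centralizer (A : Set G) := by
      rw [he', ← pow_mul, ← pow_succ, ← hm]; exact Nat.find_spec hex
    -- the two automorphisms
    haveI := hA.1
    letI : CommGroup A := { (inferInstance : Group A) with mul_comm := hA.1.is_comm.comm }
    set N := normalizer (A : Set G)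
    let φ : N →* MulAut A := normalizerMonoidHom A
    set β := φ ⟨b, hbN⟩ with hβ
    set ε := φ ⟨e', pow_mem hAe _⟩ with hε
    have heb : Commute e b := congrArg Subtype.val (mul_comm' (⟨e, heS⟩ : S) ⟨b, hBS hbB⟩)
    have hβε : Commute β ε := by
      rw [hβ, hε]
      refine Commute.map (show Commute (⟨b, hbN⟩ : N) ⟨e', pow_mem hAe _⟩ from Subtype.ext ?_) φ
      exact ((heb.pow_left _).symm).eq
    have hCφ : ∀ w : N, (w : G) ∈ centralizer (A : Set G) → φ w = 1 := fun w hw => MulEquiv.ext fun a => Subtype.ext (by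
      show (w : G) * a * (w : G)⁻¹ = a
      rw [← mem_centralizer_iff.1 hw a a.2, mul_inv_cancel_right])
    have hφC : ∀ w : N, φ w = 1 → (w : G) ∈ centralizer (A : Set G) := fun w hw => mem_centralizer_iff.2 fun a ha => by
      have := congrArg Subtype.val (DFunLike.congr_fun hw ⟨a, ha⟩)
      exact (mul_inv_eq_iff_eq_mul.1 (show (w : G) * a * (w : G)⁻¹ = a from this)).symm
    -- a commuting element with a fixed point is trivial on `A`
    have hfix : ∀ w : N, Commute (w : G) e → ∀ x : A, φ w x = x → x ≠ 1 → φ w = 1 := by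
      intro w hwe x hx hx1
      refine hCφ w ?_
      have h1 : (x : G) ∈ A ⊓ centralizer ({(w : G)} : Set G) := ⟨x.2, mem_centralizer_singleton_iff.2
        ((mul_inv_eq_iff_eq_mul.1 (show (w : G) * x * (w : G)⁻¹ = x from congrArg Subtype.val hx)).symm)⟩
      have hall : A ⊓ centralizer ({(w : G)} : Set G) = A := hirr _ inf_le_left
        ((le_inf hZA ((zpowers_le.2 (mem_centralizer_singleton_iff.2 hwe.eq.symm) :
          zpowers e ≤ centralizer ({(w : G)} : Set G)).trans le_normalizer)).trans inf_normalizer_le_normalizer_inf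
          (mem_zpowers e)) fun e'' => hx1 (Subtype.ext (mem_bot.1 (e'' ▸ h1)))
      exact mem_centralizer_iff.2 fun a ha =>
        mem_centralizer_singleton_iff.1 (hall.ge ha).2
    have hβl : β ^ l = 1 := by
      rw [hβ, ← map_pow]; exact hCφ _ (by simp [hB.2 b hbB])
    have hεl : ε ^ l = 1 := by
      rw [hε, ← map_pow]; exact hCφ _ he'l
    have hε1 : ∀ i ∈ Finset.range l, i ≠ 0 → ∀ x : A, ∏ k ∈ Finset.range l, (ε ^ (k * i)) x = 1 := by
      intro i hi hi0 x
      set y := ∏ k ∈ Finset.range l, (ε ^ (k * i)) x with hy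
      by_contra hy1
      have hfy : (ε ^ i) y = y := by
        rw [hy, map_prod]
        have hstep : ∀ k, (ε ^ i) ((ε ^ (k * i)) x) = (ε ^ ((k + 1) * i)) x := fun k => by
          rw [show (k + 1) * i = i + k * i by ring, pow_add]; rfl
        simp only [hstep]
        have hend : (ε ^ (l * i)) x = (ε ^ (0 * i)) x := by rw [pow_mul, hεl, one_pow, zero_mul, pow_zero]
        have h1 := Finset.prod_range_succ (fun k => (ε ^ (k * i)) x) l
        have h2 := Finset.prod_range_succ' (fun k => (ε ^ (k * i)) x) l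
        simp only [hend] at h1
        exact mul_right_cancel (h2.symm.trans h1)
      have hw := hfix (⟨e', pow_mem hAe _⟩ ^ i) (by
        rw [SubmonoidClass.coe_pow]
        exact (((Commute.refl e).pow_left _).pow_left i)) y (by rw [map_pow]; exact hfy) hy1
      rw [map_pow, ← hε] at hw
      have : ε = 1 := by
        obtain ⟨k, hk⟩ := exists_pow_eq_self_of_coprime (n := i) (x := ε) (by
          refine Nat.Coprime.coprime_dvd_right (orderOf_dvd_of_pow_eq_one hεl) ?_
          exact (hl.out.coprime_iff_not_dvd.2 fun hd =>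
            hi0 (Nat.eq_zero_of_dvd_of_lt hd (Finset.mem_range.1 hi))).symm)
        rw [← hk, hw, one_pow]
      exact he'C (hφC _ (hε ▸ this))
    have hβε1 : ∀ k : ℕ, ∀ x : A, ∏ i ∈ Finset.range l, ((β * ε ^ k) ^ i) x = 1 := by
      intro k x
      set y := ∏ i ∈ Finset.range l, ((β * ε ^ k) ^ i) x with hy
      by_contra hy1
      have hwl : (β * ε ^ k) ^ l = 1 := by
        rw [(hβε.pow_right k).mul_pow, hβl, one_mul, ← pow_mul, mul_comm k l, pow_mul, hεl, one_pow]
      have hfy : (β * ε ^ k) y = y := by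
        rw [hy, map_prod]
        have hstep : ∀ i, (β * ε ^ k) (((β * ε ^ k) ^ i) x) = ((β * ε ^ k) ^ (i + 1)) x := fun i => by
          rw [pow_succ']; rfl
        simp only [hstep]
        have h1 := Finset.prod_range_succ (fun i => ((β * ε ^ k) ^ i) x) l
        have h2 := Finset.prod_range_succ' (fun i => ((β * ε ^ k) ^ i) x) l
        rw [hwl] at h1
        simp only [pow_zero] at h2
        exact mul_right_cancel (h2.symm.trans h1)
      have hw := hfix (⟨b, hbN⟩ * ⟨e', pow_mem hAe _⟩ ^ k) (by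
        rw [Subgroup.coe_mul, SubmonoidClass.coe_pow]
        exact heb.symm.mul_left (((Commute.refl e).pow_left _).pow_left k))
        y (by rw [map_mul, map_pow]; exact hfy) hy1
      have hC := hφC _ hw
      rw [Subgroup.coe_mul, SubmonoidClass.coe_pow] at hC
      have hM1 := centralizer_le_coatom hG hA hA2 hM hAM hC
      have := mul_mem hM1 (inv_mem (pow_mem (pow_mem heM (l ^ m)) k))
      exact hbM (by simpa [he'] using this)
    -- averaging
    have key : (⟨a₀, ha₀⟩ : A) ^ l = 1 := by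
      have h1 : ∏ k ∈ Finset.range l, ∏ i ∈ Finset.range l, ((β * ε ^ k) ^ i) (⟨a₀, ha₀⟩ : A) = 1 :=
        Finset.prod_eq_one fun k _ => hβε1 k _
      rw [Finset.prod_comm, Finset.prod_eq_single 0 (fun i hi hi0 => ?_)
        (fun h => absurd (Finset.mem_range.2 hl.out.pos) h)] at h1
      · simpa using h1
      · have hstep : ∀ k, ((β * ε ^ k) ^ i) (⟨a₀, ha₀⟩ : A) = (β ^ i) ((ε ^ (k * i)) ⟨a₀, ha₀⟩) := fun k => by
          rw [(hβε.pow_right k).mul_pow, ← pow_mul]; rfl
        simp only [hstep]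
        rw [← map_prod, hε1 i hi hi0, map_one]
    have h2 : (⟨a₀, ha₀⟩ : A) ^ p = 1 := Subtype.ext (by simpa using hA.2 a₀ ha₀)
    refine ha₀1 (congrArg Subtype.val (orderOf_eq_one_iff.1 (Nat.eq_one_of_dvd_coprimes
      ((Nat.coprime_primes hl.out hp.out).2 hlp) (orderOf_dvd_of_pow_eq_one key) (orderOf_dvd_of_pow_eq_one h2))))
  -- `p ∉ σ(H)`
  by_cases hlH : l ∈ Cfsg.sigma H
  · have h1 : A ≤ Cfsg.sigmaCore H := hcomm.ge.trans ((commutator_mono le_rfl
      (Excep.le_sigmaCore hG hH (zpowers_le.2 heH) (Excep.primes_of_pgroup hep hlH))).trans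
      (le_normalizer_iff_commutator_le_right.1 (hAH.trans (TH.le_normalizer_core H))))
    exact hpH ((Sig.sigma_core hG hH).1.2.1 p hp.out ((dvd_pow_self p two_ne_zero).trans (hA2 ▸ card_dvd_of_le h1)))
  have hpτH : p ∈ Cfsg.tau2 H := ⟨hp.out, hpH, by_contra fun h => hpH (Sig.alpha_subset_sigma hG hH ⟨hp.out, h⟩),
    fun h => by
      have h1 := Uniq.rankLE_elementary h hAH hA
      rw [hA2] at h1
      exact absurd h1 (not_le.2 (Nat.pow_lt_pow_right hp.out.one_lt one_lt_two))⟩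
  have hlτH : l ∈ Cfsg.tau2 H := ⟨hl.out, hlH,
    (Cfsg.Agent.S1409.result hG H hH l hlH _ hX₁ hNH).1.1, (Cfsg.Agent.S1409.result hG H hH l hlH _ hX₁ hNH).1.2⟩
  have hπ : ∀ s : ℕ, s.Prime → s ∣ Nat.card ↥(zpowers e ⊔ A) → s ∉ Cfsg.sigma H := fun s hs hd => by
    have h3 : s ∣ Nat.card (zpowers e) * Nat.card A :=
      CfsgLib.Solvable.card_sup_mul_card_inf hZA ▸ hd.trans (dvd_mul_right _ _)
    rcases hs.dvd_mul.1 h3 with h' | h'
    · rw [Excep.primes_of_pgroup (π := {l}) hep rfl s hs h']; exact hlH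
    · rw [Excep.primes_of_pgroup (π := {p}) hAp rfl s hs h']; exact hpH
  obtain ⟨F, hF, hle⟩ := exists_complement_of hG hH (sup_le (zpowers_le.2 heH) hAH) hπ
  obtain ⟨A₂, T₂, hA₂, hA₂2, hT₂, hA₂T, hAT₂, hT₂F, hT₂d⟩ :=
    exists_sylow_data hG hH hF hpτH hAp (le_sup_right.trans hle)
  obtain ⟨B, S, hB, hB2, hS, hBS, heS, hSF, hSd⟩ :=
    exists_sylow_data hG hH hF hlτH hep (le_sup_left.trans hle)
  have habl : ∀ S : Sylow l G, IsMulCommutative (S : Subgroup G) := by
    intro P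
    by_contra hna
    obtain ⟨-, hlσH, hl2, hl1⟩ := id hlτH
    have hBH : B ≤ H := (hBS.trans hSF).trans hF.1
    have hBmax := (Cfsg.Agent.S1408.result hG H hH l hlσH hl2 hl1).2 B hBH hB hB2
    have hsing := tau_singleton hB hB2 hG hH hBH hlσH hBmax hl2 (fun P' hc => hna (by
      haveI := hc
      exact ⟨⟨fun x y => (P.equiv P').injective (by rw [map_mul, map_mul]; exact mul_comm' _ _)⟩⟩)) hlτH
    exact hlp (Set.mem_singleton_iff.1 (hsing ▸ hpτH)).symm
  obtain ⟨-, -, hFT⟩ := central_sylow hG hH hF hpτH hA₂ hA₂2 hT₂ hA₂T hT₂F hT₂d hab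
  obtain ⟨-, -, hFS⟩ := central_sylow hG hH hF hlτH hB hB2 hS hBS hSF hSd habl
  refine ne_bot hA hA2 (le_bot_iff.1 (hcomm.ge.trans (le_trans (le_inf ?_ ?_)
    (disjoint_iff.1 (disjoint_of_coprime_natCard (IsPGroup.coprime_card_of_ne p l (Ne.symm hlp) _ _ hT₂ hS))).le)))
  · exact (commutator_mono hAT₂ le_rfl).trans
      (le_normalizer_iff_commutator_le_left.1 ((le_sup_left.trans hle).trans hFT))
  · exact (commutator_mono le_rfl heS).trans
      (le_normalizer_iff_commutator_le_right.1 ((le_sup_right.trans hle).trans hFS))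

end CfsgLib.OddLocal.Tau
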