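import Cfsg.Agent.OddLocal.TauTwoCentralizer

/-!
For `p ∉ σ(M)` and a maximal elementary abelian `A ≤ M` of order `p ^ 2`, every other maximal subgroup
containing `A` meets `M_σ` trivially.
-/

set_option autoImplicit false
set_option linter.style.haveILetI false
set_option linter.unusedSectionVars false

namespace CfsgLib.OddLocal.Tau

open Subgroup Cfsg CfsgLib.OddLocal
open scoped commutatorElement

universe u

variable {G : Type u} [Group G] [Finite G] {p q : ℕ} [hp : Fact p.Prime] {A : Subgroup G}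
  (hG : Cfsg.IsMinSimpleOddOrder G) (hA : Cfsg.IsElementaryAbelian p A) (hA2 : Nat.card A = p ^ 2)
  {M : Subgroup G} (hM : IsCoatom M) (hAM : A ≤ M) (hpσ : p ∉ Cfsg.sigma M)
  (hmax : ∀ B : Subgroup G, Cfsg.IsElementaryAbelian p B → A ≤ B → B = A)

include hG hA hA2 hM hAM hpσ hmax

/-- An invariant `q`-subgroup `U ≠ 1` of `M_σ` is contained in an invariant Sylow subgroup of the core of any
other maximal subgroup above it, which lies in `M_σ` and has no fixed points. -/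
theorem invariant_core_sylow [hqf : Fact q.Prime] (hq : q ∈ Cfsg.sigma M) {U K : Subgroup G} (hU : IsPGroup q U)
    (hU1 : U ≠ ⊥) (hUM : U ≤ M) (hAU : A ≤ normalizer (U : Set G)) (hK : IsCoatom K) (hAK : A ≤ K) (hUK : U ≤ K) :
    ∃ R : Subgroup G, U ≤ R ∧ R ≤ Excep.opc p K ∧ R ≤ K ∧ R ≤ M ∧ R ≤ Cfsg.sigmaCore M ∧ IsPGroup q R ∧
      A ≤ normalizer (R : Set G) ∧ ¬ q ∣ R.relIndex (Excep.opc p K) ∧
      ∀ V : Subgroup G, V ≤ R → A ≤ normalizer (V : Set G) → ⁅V, A⁆ = V := by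
  have hAp : IsPGroup p A := IsPGroup.of_card hA2
  haveI hAs : Group.IsSolvable A := hG.2.2.2 A (ne_top_of_le_ne_top hM.1 hAM)
  have hqp : q ≠ p := ne_prime hG hM hpσ hq
  set O := Excep.opc p K
  have hUO : U ≤ O := Excep.invariant_le_opc hA hA2 hmax hG hK.1 hAK hUK
    (Excep.coprime_of_pgroup hU fun h => hqp ((Nat.prime_dvd_prime_iff_eq hqf.out hp.out).1 h)) hAU
  obtain ⟨R, hUR, hRO, hRp, hAR, hRd⟩ := Excep.exists_inv_sylow (hAK.trans (Excep.le_normalizer_opc p K))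
    (Excep.coprime_of_pgroup hAp (hp.out.coprime_iff_not_dvd.1 (Excep.opc_coprime p K).symm)) (Or.inl hAs)
    hUO hU hAU
  obtain ⟨Q, hUQ, -, hQM, hQp, hAQ, hQd, -⟩ := inv_sylow_sigma hG hA hA2 hM hAM hpσ hq hUM hU hAU
  obtain ⟨c, hc, hRQ⟩ := Excep.le_conj_sylow hA hA2 hmax hG hqp hQp hQd hAQ hRp hAR
    fun h => hU1 (le_bot_iff.1 (h ▸ le_inf hUR hUQ))
  have hcM : c ∈ M := centralizer_le_coatom hG hA hA2 hM hAM hc
  have hRM : R ≤ M := hRQ.trans (by
    rintro _ ⟨y, hy, rfl⟩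
    exact mul_mem (mul_mem hcM (hQM hy)) (inv_mem hcM))
  have hRσ : R ≤ Cfsg.sigmaCore M := Excep.le_sigmaCore hG hM hRM (Excep.primes_of_pgroup hRp hq)
  refine ⟨R, hUR, hRO, hRO.trans (Excep.opc_le p K), hRM, hRσ, hRp, hAR, hRd, fun V hVR hAV => ?_⟩
  have h1 := CfsgLib.CoprimeAct.commutator_sup_centralizer hAV
    (IsPGroup.coprime_card_of_ne p q (Ne.symm hqp) A V hAp (hRp.to_le hVR)) (Or.inl hAs)
  rwa [le_bot_iff.1 ((inf_centralizer_eq_bot hG hA hA2 hM hAM hpσ hmax) ▸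
    inf_le_inf_right _ (hVR.trans hRσ) : V ⊓ centralizer (A : Set G) ≤ ⊥), sup_bot_eq] at h1

/-- Such a Sylow subgroup cannot centralize the core of the other maximal subgroup. -/
theorem core_not_centralized [hqf : Fact q.Prime] (hq : q ∈ Cfsg.sigma M) {R K : Subgroup G} (hK : IsCoatom K)
    (hKM : K ≠ M) (hAK : A ≤ K) (hR1 : R ≠ ⊥) (hRO : R ≤ Excep.opc p K) (hRM : R ≤ M) (hRp : IsPGroup q R)
    (hAR : A ≤ normalizer (R : Set G)) (hRd : ¬ q ∣ R.relIndex (Excep.opc p K)) (hRA : ⁅R, A⁆ = R)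
    (hRC : R ≤ centralizer (Cfsg.alphaCore K : Set G)) : False := by
  have hqp : q ≠ p := ne_prime hG hM hpσ hq
  have hcop : ∀ X : Subgroup G, IsPGroup q X → (Nat.card X).Coprime p := fun X hX =>
    Excep.coprime_of_pgroup hX fun h => hqp ((Nat.prime_dvd_prime_iff_eq hqf.out hp.out).1 h)
  have hRK : R ≤ K := hRO.trans (Excep.opc_le p K)
  have hRder : R ≤ ⁅K, K⁆ := hRA.ge.trans (commutator_mono hRK hAK)
  set N₁ := centralizer (Cfsg.alphaCore K : Set G) ⊓ ⁅K, K⁆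
  have hN₁F : N₁ ≤ Cfsg.fittingOf K := Bender.le_fitting (inf_le_right.trans (commutator_le_self K))
    (le_trans (le_inf ((TH.le_normalizer_core K).trans (TH.normalizer_le_normalizer_centralizer _))
      (le_trans (le_inf (normalizer_commutator_ge_left K K) le_rfl) inf_le_left)) inf_normalizer_le_normalizer_inf)
    (Excep.nilpotent_of_centralizes hG hK inf_le_right inf_le_left)
  have hRqc : R ≤ Bender.qc q K := fun x hx => by
    obtain ⟨k, hk⟩ := hRp ⟨x, hx⟩
    obtain ⟨j, -, hj⟩ := (Nat.dvd_prime_pow hqf.out).1 (orderOf_dvd_of_pow_eq_one (congrArg Subtype.val hk))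
    exact Bender.mem_qc (hN₁F ⟨hRC hx, hRder hx⟩) hj
  have hfull : ∀ X : Subgroup G, R ≤ X → X ≤ Excep.opc p K → IsPGroup q X → R = X := fun X hRX hXO hX => by
    refine eq_of_le_of_card_ge hRX (Nat.le_of_dvd Nat.card_pos
      ((Nat.Coprime.dvd_mul_right (Excep.coprime_of_pgroup hX hRd)).1 ?_))
    rw [CfsgLib.InvariantHall.relIndex_mul_card hRO]
    exact card_dvd_of_le hXO
  have hReq : R = Bender.qc q K := hfull _ hRqc (Excep.invariant_le_opc hA hA2 hmax hG hK.1 hAK (Bender.qc_le q K)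
    (hcop _ (Bender.isPGroup_qc K)) (hAK.trans (Bender.le_normalizer_qc q K))) (Bender.isPGroup_qc K)
  have hNR : normalizer (R : Set G) = K :=
    Uniq.coatom_normalizer_eq hG hK hRK (hReq ▸ Bender.le_normalizer_qc q K) hR1
  obtain ⟨Q, hRQ, -, -, hQp, hAQ, -, hNQ⟩ := inv_sylow_sigma hG hA hA2 hM hAM hpσ hq hRM hRp hAR
  by_cases hRQ' : R = Q
  · have hle : K ≤ M := hNR.ge.trans ((le_of_eq (by rw [hRQ'])).trans hNQ)
    exact hKM ((hK.le_iff.1 hle).resolve_left hM.1).symm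
  have hlt := CfsgLib.Fusion.lt_inf_normalizer hQp (lt_of_le_of_ne hRQ hRQ')
  refine hlt.ne (hfull _ hlt.le (Excep.invariant_le_opc hA hA2 hmax hG hK.1 hAK ((inf_le_right).trans hNR.le)
    (hcop _ (hQp.to_le inf_le_left)) ?_) (hQp.to_le inf_le_left))
  exact le_trans (le_inf hAQ (hAR.trans le_normalizer)) inf_normalizer_le_normalizer_inf

/-- If a line has fixed points in `M_σ`, then `M` is the only maximal subgroup containing its normalizer. -/
theorem good_line {B H : Subgroup G} (hBA : B ≤ A) (hB : Nat.card B = p)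
    (hne : Cfsg.sigmaCore M ⊓ centralizer (B : Set G) ≠ ⊥) (hH : IsCoatom H) (hNB : normalizer (B : Set G) ≤ H) :
    H = M := by
  by_contra hHM
  haveI hAs : Group.IsSolvable A := hG.2.2.2 A (ne_top_of_le_ne_top hM.1 hAM)
  have hCB : centralizer (B : Set G) ≤ H := (centralizer_le_normalizer _).trans hNB
  haveI := hA.1
  have hAH : A ≤ H := ((le_centralizer_iff_isMulCommutative.2 hA.1).trans (centralizer_le hBA)).trans hCB
  obtain ⟨r, U, hr, hrd, hUK, hU1, hUp, hAU⟩ := exists_inv_pgroup hA hA2 (Or.inl hAs)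
    (Excep.normalizes_inf_centralizer hA hA2 hBA (hAM.trans (TH.le_normalizer_core M)))
    (fun h => not_dvd_sigmaCore hG hM hpσ (h.trans (card_dvd_of_le inf_le_left))) hne
  haveI := Fact.mk hr
  have hrσ : r ∈ Cfsg.sigma M := (Sig.sigma_core hG hM).1.2.1 r hr (hrd.trans (card_dvd_of_le inf_le_left))
  have hUM : U ≤ M := (hUK.trans inf_le_left).trans (map_subtype_le _)
  have hUB : U ≤ centralizer (B : Set G) := hUK.trans inf_le_right
  obtain ⟨R, hUR, hRO, hRH, hRM, -, hRp, hAR, hRd, hfix⟩ :=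
    invariant_core_sylow hG hA hA2 hM hAM hpσ hmax hrσ hUp hU1 hUM hAU hH hAH (hUB.trans hCB)
  have hrH : r ∉ Cfsg.alpha H := not_alpha_of_inter hG hA hA2 hM hAM hpσ hmax hrσ hUp hU1 hUM hAU hH hHM hAH
    (hUB.trans hCB)
  have hrp : r ≠ p := ne_prime hG hM hpσ hrσ
  have hUA : ⁅U, A⁆ ≠ ⊥ := by rwa [hfix U hUR hAU]
  refine core_not_centralized hG hA hA2 hM hAM hpσ hmax hrσ hH hHM hAH (fun e => hU1 (le_bot_iff.1 (e ▸ hUR)))
    hRO hRM hRp hAR hRd (hfix R le_rfl hAR) (Excep.le_of_lines hA hA2 hAR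
      (fun hd => hrp (Excep.primes_of_pgroup (π := {r}) hRp rfl p hp.out hd).symm) fun Y hYA hY => ?_)
  rw [← hfix _ inf_le_left (Excep.normalizes_inf_centralizer hA hA2 hYA hAR)]
  exact Excep.commutator_centralizes_alphaCore hG hA hA2 hmax hrp hH hAH hBA hB hNB hUp hAU hUB hUA hrH
    (hRp.to_le inf_le_left) (inf_le_left.trans hRH) (Excep.normalizes_inf_centralizer hA hA2 hYA hAR) hYA hY
    inf_le_right

/-- A line with fixed points in `M_σ` has its normalizer in `M`. -/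
theorem good_normalizer_le {B : Subgroup G} (hBA : B ≤ A) (hB : Nat.card B = p)
    (hne : Cfsg.sigmaCore M ⊓ centralizer (B : Set G) ≠ ⊥) : normalizer (B : Set G) ≤ M := by
  obtain ⟨H, hH, hNB⟩ := (eq_top_or_exists_le_coatom (normalizer (B : Set G))).resolve_left
    (Excep.normalizer_line_ne_top hG hB)
  exact hNB.trans (good_line hG hA hA2 hM hAM hpσ hmax hBA hB hne hH hNB).le

/-- The normalizer of `A` is not in `M` when `A` is central in a Sylow subgroup of `G`. -/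
theorem not_le_of_central (P : Sylow p G) (hPA : (P : Subgroup G) ≤ centralizer (A : Set G))
    (hNP : normalizer ((P : Subgroup G) : Set G) ≤ normalizer (A : Set G)) : ¬ normalizer (A : Set G) ≤ M :=
  fun h => hpσ (Excep.mem_sigma_of_sylow P (hPA.trans ((centralizer_le_normalizer _).trans h)) (hNP.trans h)
    ((dvd_pow_self p two_ne_zero).trans (hA2 ▸ card_dvd_of_le hAM)))

omit hmax in
theorem exists_line_not_mem {Y : Subgroup G} (hY : Nat.card Y = p) :
    ∃ Z Z' : Subgroup G, Z ≤ A ∧ Nat.card Z = p ∧ Z' ≤ A ∧ Nat.card Z' = p ∧ Z ≠ Y ∧ Z' ≠ Y ∧ Z ≠ Z' := by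
  obtain ⟨b, hb, hbY⟩ := Excep.exists_not_mem hA2 hY
  have hb1 : b ≠ 1 := fun e => hbY (e ▸ one_mem _)
  obtain ⟨hle, hc⟩ := Excep.line_of_mem hA hb hb1
  by_cases hYA : Y ≤ A
  · obtain ⟨y, hy, hy1⟩ := (bot_or_exists_ne_one Y).resolve_left fun e => hp.out.ne_one (by rw [← hY, e, card_bot])
    have hyb : y * b ∉ Y := fun h => hbY (by simpa using mul_mem (inv_mem hy) h)
    obtain ⟨hle', hc'⟩ := Excep.line_of_mem hA (mul_mem (hYA hy) hb) fun e => hyb (e ▸ one_mem _)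
    refine ⟨zpowers b, zpowers (y * b), hle, hc, hle', hc', fun e => hbY (e ▸ mem_zpowers b),
      fun e => hyb (e ▸ mem_zpowers _), fun e => ?_⟩
    have hy' : y ∈ zpowers b := by
      have h1 : y * b ∈ zpowers b := e.symm ▸ mem_zpowers _
      simpa using mul_mem h1 (inv_mem (mem_zpowers b))
    obtain ⟨-, hyc⟩ := Excep.line_of_mem hA (hYA hy) hy1
    refine hbY ((zpowers_le.2 hy) ?_)
    exact (eq_of_le_of_card_ge (zpowers_le.2 hy') (by rw [hyc, hc])).ge (mem_zpowers b)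
  · obtain ⟨b', hb', hb'b⟩ := Excep.exists_not_mem hA2 hc
    obtain ⟨hle', hc'⟩ := Excep.line_of_mem hA hb' fun e => hb'b (e ▸ one_mem _)
    exact ⟨zpowers b, zpowers b', hle, hc, hle', hc', fun e => hYA (e ▸ hle), fun e => hYA (e ▸ hle'),
      fun e => hb'b (e ▸ mem_zpowers b')⟩

/-- Every other maximal subgroup containing `A` meets `M_σ` trivially. -/
theorem inter_eq_bot {K : Subgroup G} (hK : IsCoatom K) (hKM : K ≠ M) (hAK : A ≤ K) :
    Cfsg.sigmaCore M ⊓ K = ⊥ := by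
  classical
  by_cases hpK : p ∈ Cfsg.sigma K
  · exact inter_sigma_eq_bot hG hA hA2 hM hAM hpσ hmax hK hAK hpK
  by_contra hne
  haveI hAs : Group.IsSolvable A := hG.2.2.2 A (ne_top_of_le_ne_top hM.1 hAM)
  have hAp : IsPGroup p A := IsPGroup.of_card hA2
  have hp2 : p ≠ 2 := CfsgLib.CN.MinSimple.p_ne_two hG
    ((dvd_pow_self p two_ne_zero).trans (hA2 ▸ A.card_subgroup_dvd_card))
  obtain ⟨r, U, hr, hrd, hUK, hU1, hUp, hAU⟩ := exists_inv_pgroup hA hA2 (Or.inl hAs)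
    (le_trans (le_inf (hAM.trans (TH.le_normalizer_core M)) (hAK.trans le_normalizer)) inf_normalizer_le_normalizer_inf)
    (fun h => not_dvd_sigmaCore hG hM hpσ (h.trans (card_dvd_of_le inf_le_left))) hne
  haveI := Fact.mk hr
  have hrσ : r ∈ Cfsg.sigma M := (Sig.sigma_core hG hM).1.2.1 r hr (hrd.trans (card_dvd_of_le inf_le_left))
  have hUM : U ≤ M := (hUK.trans inf_le_left).trans (map_subtype_le _)
  obtain ⟨R, hUR, hRO, hRK, hRM, hRσ, hRp, hAR, hRd, hfix⟩ :=
    invariant_core_sylow hG hA hA2 hM hAM hpσ hmax hrσ hUp hU1 hUM hAU hK hAK (hUK.trans inf_le_right)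
  have hrK : r ∉ Cfsg.alpha K := not_alpha_of_inter hG hA hA2 hM hAM hpσ hmax hrσ hUp hU1 hUM hAU hK hKM hAK
    (hUK.trans inf_le_right)
  have hrp : r ≠ p := ne_prime hG hM hpσ hrσ
  refine core_not_centralized hG hA hA2 hM hAM hpσ hmax hrσ hK hKM hAK (fun e => hU1 (le_bot_iff.1 (e ▸ hUR)))
    hRO hRM hRp hAR hRd (hfix R le_rfl hAR) (Excep.le_of_lines hA hA2 hAR
      (fun hd => hrp (Excep.primes_of_pgroup (π := {r}) hRp rfl p hp.out hd).symm) fun Y hYA hY => ?_)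
  set V := R ⊓ centralizer (Y : Set G) with hV
  have hVR : V ≤ R := inf_le_left
  have hAV : A ≤ normalizer (V : Set G) := Excep.normalizes_inf_centralizer hA hA2 hYA hAR
  have hVp : IsPGroup r V := hRp.to_le hVR
  by_contra hcon
  have hpα : p ∉ Cfsg.alpha K := fun h => hpK (Sig.alpha_subset_sigma hG hK h)
  have hdis : A ⊓ V = ⊥ :=
    disjoint_iff.1 (disjoint_of_coprime_natCard (IsPGroup.coprime_card_of_ne p r (Ne.symm hrp) A V hAp hVp))
  have hT₀H : A ⊔ V ≤ K := sup_le hAK (hVR.trans hRK)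
  have hT₀c : (Nat.card (A ⊔ V : Subgroup G)).Coprime (Nat.card (Cfsg.alphaCore K)) := by
    refine Nat.coprime_of_dvd fun l hl h1 h2 => ?_
    have hlα := (Sig.alpha_core hG hK).1.2.1 l hl h2
    rw [CfsgLib.Solvable.card_sup_of_disjoint hAV hdis] at h1
    rcases hl.dvd_mul.1 h1 with h | h
    · exact hpα (Excep.primes_of_pgroup (π := {p}) hAp rfl l hl h ▸ hlα)
    · exact hrK (Excep.primes_of_pgroup (π := {r}) hVp rfl l hl h ▸ hlα)
  obtain ⟨s, hs, S, hSα, hSp, hTS, hSd, hSV⟩ : ∃ s, s.Prime ∧ ∃ S : Subgroup G, S ≤ Cfsg.alphaCore K ∧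
      IsPGroup s S ∧ A ⊔ V ≤ normalizer (S : Set G) ∧ ¬ s ∣ S.relIndex (Cfsg.alphaCore K) ∧
      ¬ V ≤ centralizer (S : Set G) := by
    by_contra hall
    push Not at hall
    refine hcon (le_centralizer_iff.1 (Excep.le_of_sylows fun l hl hld => ?_))
    haveI := Fact.mk hl
    obtain ⟨S, -, h2, h3, h4, h5⟩ := Excep.exists_inv_sylow (t := l) (hT₀H.trans (TH.le_normalizer_core K)) hT₀c
      (Or.inl (hG.2.2.2 _ (ne_top_of_le_ne_top hK.1 hT₀H))) (bot_le : (⊥ : Subgroup G) ≤ _) IsPGroup.of_bot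
      (Excep.le_normalizer_bot _)
    exact ⟨S, le_inf h2 (le_centralizer_iff.1 (hall l hl S h2 h3 h4 h5)), h5⟩
  haveI := Fact.mk hs
  have hsα : s ∈ Cfsg.alpha K := by
    refine (Sig.alpha_core hG hK).1.2.1 s hs ((Excep.isPGroup_ne_bot_dvd hSp fun e => hSV ?_).trans (card_dvd_of_le hSα))
    intro g _
    rw [mem_centralizer_iff]
    intro y hy
    rw [e] at hy
    simp [Subgroup.mem_bot.1 hy]
  have hsp : s ≠ p := fun e => hpα (e ▸ hsα)
  have hsr : s ≠ r := fun e => hrK (e ▸ hsα)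
  have hAS : A ≤ normalizer (S : Set G) := le_sup_left.trans hTS
  have hSσ : S ≤ Cfsg.sigmaCore K := hSα.trans (Sig.alphaCore_le_sigmaCore hG hK)
  -- lines other than `Y` have fixed points in `K_σ`
  have hgoodK : ∀ Z : Subgroup G, Z ≤ A → Nat.card Z = p → Z ≠ Y →
      Cfsg.sigmaCore K ⊓ centralizer (Z : Set G) ≠ ⊥ := by
    intro Z hZA hZ hZY hbot
    obtain ⟨b, hbZ, hbY⟩ : ∃ b ∈ Z, b ∉ Y := by
      by_contra hno
      push Not at hno
      exact hZY (eq_of_le_of_card_ge hno (by rw [hY, hZ]))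
    have hb1 : b ≠ 1 := fun e => hbY (e ▸ one_mem _)
    obtain ⟨-, hbc⟩ := Excep.line_of_mem hA (hZA hbZ) hb1
    have hzb : zpowers b = Z := eq_of_le_of_card_ge (zpowers_le.2 hbZ) (by rw [hbc, hZ])
    haveI : Group.IsSolvable V := hG.2.2.2 V (ne_top_of_le_ne_top hK.1 (hVR.trans hRK))
    have hle := Excep.commutator_centralizes_pgroup (r := p) hp2 (Ne.symm hsp) hSp
      (by rw [← Nat.card_zpowers, hbc]) (hAS (hZA hbZ))
      (le_bot_iff.1 (hbot ▸ le_inf (inf_le_left.trans hSσ)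
        (inf_le_right.trans ((FixedLine.le_centralizer_zpowers le_rfl).trans (centralizer_le hzb.ge)))))
      (K := V) (hG.1.of_dvd_nat (card_subgroup_dvd_card V))
      (Excep.coprime_of_pgroup hVp fun h => hrp ((Nat.prime_dvd_prime_iff_eq hr hp.out).1 h))
      (Excep.coprime_of_pgroup hVp fun h => hsr ((Nat.prime_dvd_prime_iff_eq hr hs).1 h).symm)
      (le_sup_right.trans hTS) (hAV (hZA hbZ))
    refine hSV ?_
    rw [← hfix V hVR hAV]
    refine le_trans ?_ hle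
    rw [commutator_le]
    intro u hu a ha
    rw [← Excep.line_sup hA2 hYA hY (hZA hbZ) hbY] at ha
    haveI := hA.1
    obtain ⟨y, hy, w, hw, rfl⟩ := (CfsgLib.Solvable.mem_sup_of_le_normalizer
      ((hYA.trans (le_centralizer_iff_isMulCommutative.2 hA.1)).trans
        ((centralizer_le (zpowers_le.2 (hZA hbZ))).trans (centralizer_le_normalizer _)))).1 ha
    have h1 : Commute y u := mem_centralizer_iff.1 hu.2 y hy
    have h2 : Commute y w := setLike_mul_comm (hYA hy) ((zpowers_le.2 (hZA hbZ) : zpowers b ≤ A) hw)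
    have e : ⁅u, y * w⁆ = y * ⁅u, w⁆ * y⁻¹ := by
      rw [commutatorElement_def, commutatorElement_def]
      calc u * (y * w) * u⁻¹ * (y * w)⁻¹ = (u * y) * w * u⁻¹ * w⁻¹ * y⁻¹ := by group
        _ = (y * u) * w * u⁻¹ * w⁻¹ * y⁻¹ := by rw [h1.eq]
        _ = y * (u * w * u⁻¹ * w⁻¹) * y⁻¹ := by group
    have hc : Commute y ⁅u, w⁆ := by
      rw [commutatorElement_def]
      exact ((h1.mul_right h2).mul_right h1.inv_right).mul_right h2.inv_right
    rw [e, hc.eq, mul_inv_cancel_right]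
    exact commutator_mem_commutator hu hw
  -- `Y` has fixed points in `M_σ`
  have hgoodY : Cfsg.sigmaCore M ⊓ centralizer (Y : Set G) ≠ ⊥ := fun e => hcon (by
    rw [le_bot_iff.1 (e ▸ (inf_le_inf_right _ hRσ) : V ≤ ⊥)]
    exact bot_le)
  have hYM : ∀ L : Subgroup G, IsCoatom L → normalizer (Y : Set G) ≤ L → L = M := fun L hL h =>
    good_line hG hA hA2 hM hAM hpσ hmax hYA hY hgoodY hL h
  have hZK : ∀ Z : Subgroup G, Z ≤ A → Nat.card Z = p → Z ≠ Y → ∀ L : Subgroup G, IsCoatom L →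
      normalizer (Z : Set G) ≤ L → L = K := fun Z hZA hZ hZY L hL h =>
    good_line hG hA hA2 hK hAK hpK hmax hZA hZ (hgoodK Z hZA hZ hZY) hL h
  obtain ⟨P, hAP⟩ := hAp.exists_le_sylow
  rcases dichotomy hA hA2 hmax hG.1 P.2 hAP with ⟨hPA, hNP⟩ | ⟨z, hzA, hzo, -, hNP, -⟩
  · obtain ⟨g, hgA, hgM⟩ := SetLike.not_le_iff_exists.1 (not_le_of_central hG hA hA2 hM hAM hpσ hmax P hPA hNP)
    set φ := (MulAut.conj g).toMonoidHom with hφ
    have hAφ : A.map φ = A := mem_normalizer_iff_map_conj_eq.1 hgA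
    have hmapA : ∀ X : Subgroup G, X ≤ A → X.map φ ≤ A := fun X hX => (map_mono hX).trans hAφ.le
    have hcardφ : ∀ X : Subgroup G, Nat.card (X.map φ) = Nat.card X := fun X =>
      card_map_of_injective (MulAut.conj g).injective
    have htrans : ∀ X L : Subgroup G, normalizer (X : Set G) ≤ L → normalizer (X.map φ : Set G) ≤ L.map φ :=
      fun X L h => (map_equiv_normalizer_eq X (MulAut.conj g)).ge.trans (map_mono h)
    have hNY := good_normalizer_le hG hA hA2 hM hAM hpσ hmax hYA hY hgoodY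
    have hYg : Y.map φ ≠ Y := fun e => hgM (hNY (mem_normalizer_iff_map_conj_eq.2 e))
    have hMK : M.map φ = K := hZK _ (hmapA Y hYA) (by rw [hcardφ, hY]) hYg _ (Uniq.coatom_conj hM g) (htrans Y M hNY)
    have hall : ∀ Z : Subgroup G, Z ≤ A → Nat.card Z = p → Z ≠ Y → Z.map φ = Y := by
      intro Z hZA hZ hZY
      by_contra hZg
      have hNZ : normalizer (Z : Set G) ≤ K :=
        good_normalizer_le hG hA hA2 hK hAK hpK hmax hZA hZ (hgoodK Z hZA hZ hZY)
      have h1 : K.map φ = K := by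
        exact hZK _ (hmapA Z hZA) (by rw [hcardφ, hZ]) hZg _ (Uniq.coatom_conj hK g) (htrans Z K hNZ)
      exact hKM (map_injective (MulAut.conj g).injective (h1.trans hMK.symm))
    obtain ⟨Z, Z', hZA, hZ, hZ'A, hZ', hne1, hne2, hne3⟩ := exists_line_not_mem hG hA hA2 hM hAM hpσ hY
    exact hne3 (map_injective (MulAut.conj g).injective
      ((hall Z hZA hZ hne1).trans (hall Z' hZ'A hZ' hne2).symm))
  · have hz : Nat.card (zpowers z) = p := by rw [Nat.card_zpowers, hzo]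
    obtain ⟨H, hH, hNH⟩ := (eq_top_or_exists_le_coatom (normalizer (zpowers z : Set G))).resolve_left
      (Excep.normalizer_line_ne_top hG hz)
    have hpH : p ∈ Cfsg.sigma H := Excep.mem_sigma_of_sylow P ((le_normalizer.trans hNP).trans hNH) (hNP.trans hNH)
      (by
        have : zpowers z ≤ H := le_normalizer.trans hNH
        exact (hz ▸ card_dvd_of_le this))
    by_cases hzY : zpowers z = Y
    · exact hpσ ((hYM H hH (hzY ▸ hNH)) ▸ hpH)
    · exact hpK ((hZK _ (zpowers_le.2 hzA) hz hzY H hH hNH) ▸ hpH)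

end CfsgLib.OddLocal.Tau
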