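import Cfsg.Prelude.Def_OddOrderLocal
import Cfsg.Agent.Invol.AbelianSignalizer
import Cfsg.Agent.Signalizer.Transitivity
import Cfsg.Agent.Transfer.Basic

/-!
The transitivity theorem for maximal invariant `q`-subgroups when the `p`-locals are `p`-constrained.
-/

set_option autoImplicit false
set_option linter.style.haveILetI false
set_option linter.unusedSectionVars false

namespace CfsgLib.OddLocal.Transitivity

open Subgroup
open scoped commutatorElement Pointwise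

variable {X : Type*} [Group X] [Finite X] {p : ℕ} [Fact p.Prime]

/-- If `f` is moved by `a` and by `q` only inside a centralized part, then so is it by `⁅q, a⁆`. -/
theorem commute_commutator_of_classTwo {F : Subgroup X} (hF : IsPGroup p F) [F.Normal] {A Q : Subgroup X}
    (hQ : (Nat.card Q).Coprime p) (hAQ : A ≤ normalizer (Q : Set X))
    (hcent : ∀ f ∈ F, ∀ a ∈ A, (∀ a' ∈ A, Commute a' ⁅f, a⁆) ∧ ∀ q ∈ Q, Commute q ⁅f, a⁆)
    {q a f : X} (hq : q ∈ Q) (ha : a ∈ A) (hf : f ∈ F) : Commute ⁅q, a⁆ f := by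
  obtain ⟨c, hc⟩ : ∃ c, c = ⁅q, a⁆ := ⟨_, rfl⟩
  rw [← hc]
  have hcQ : c ∈ Q := by
    rw [hc, commutatorElement_def, show q * a * q⁻¹ * a⁻¹ = q * (a * q⁻¹ * a⁻¹) by group]
    exact mul_mem hq ((mem_normalizer_iff.1 (hAQ ha) _).1 (inv_mem hq))
  -- `c f c⁻¹ = f w` with `w` fixed by `c`
  obtain ⟨w, hwF, hwc, hw⟩ : ∃ w ∈ F, Commute c w ∧ c * f * c⁻¹ = f * w := by
    obtain ⟨g, hg⟩ : ∃ g, g = q⁻¹ * f * q := ⟨_, rfl⟩
    have hgF : g ∈ F := by
      have := Normal.conj_mem (inferInstance : F.Normal) f hf q⁻¹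
      rwa [inv_inv, ← hg] at this
    have hmem : ∀ {x y : X}, x ∈ F → y ∈ A → ⁅x, y⁆ ∈ F := fun {x y} hx _ => by
      rw [commutatorElement_def, show x * y * x⁻¹ * y⁻¹ = x * (y * x⁻¹ * y⁻¹) by group]
      exact mul_mem hx (Normal.conj_mem inferInstance _ (inv_mem hx) y)
    obtain ⟨w₁, hw₁⟩ : ∃ w, w = ⁅f⁻¹, a⁻¹⁆ := ⟨_, rfl⟩
    obtain ⟨w₂, hw₂⟩ : ∃ w, w = ⁅g⁻¹, a⁆ := ⟨_, rfl⟩
    obtain ⟨hA₁, hQ₁⟩ := hcent f⁻¹ (inv_mem hf) a⁻¹ (inv_mem ha)
    obtain ⟨hA₂, hQ₂⟩ := hcent g⁻¹ (inv_mem hgF) a ha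
    rw [← hw₁] at hA₁ hQ₁
    rw [← hw₂] at hA₂ hQ₂
    refine ⟨w₂ * w₁, mul_mem (hw₂ ▸ hmem (inv_mem hgF) ha) (hw₁ ▸ hmem (inv_mem hf) (inv_mem ha)),
      (hQ₂ c hcQ).mul_right (hQ₁ c hcQ), ?_⟩
    have e1 : a⁻¹ * f * a = f * w₁ := by rw [hw₁, commutatorElement_def]; group
    have e2 : a * g * a⁻¹ = g * w₂ := by rw [hw₂, commutatorElement_def]; group
    have e3 : q⁻¹ * w₁ * q = w₁ := by
      rw [mul_assoc, ← (hQ₁ q hq).eq, inv_mul_cancel_left]
    have e4 : a * w₁ * a⁻¹ = w₁ := by rw [(hA₁ a ha).eq, mul_inv_cancel_right]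
    have e5 : q * (w₂ * w₁) * q⁻¹ = w₂ * w₁ := by
      rw [((hQ₂ q hq).mul_right (hQ₁ q hq)).eq, mul_inv_cancel_right]
    calc c * f * c⁻¹ = q * (a * (q⁻¹ * (a⁻¹ * f * a) * q) * a⁻¹) * q⁻¹ := by rw [hc, commutatorElement_def]; group
      _ = q * (a * (g * (q⁻¹ * w₁ * q)) * a⁻¹) * q⁻¹ := by rw [e1, hg]; group
      _ = q * ((a * g * a⁻¹) * (a * w₁ * a⁻¹)) * q⁻¹ := by rw [e3]; group
      _ = f * (q * (w₂ * w₁) * q⁻¹) := by rw [e2, e4, hg]; group
      _ = _ := by rw [e5]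
  have hpow : ∀ n : ℕ, c ^ n * f * (c ^ n)⁻¹ = f * w ^ n := by
    intro n
    induction n with
    | zero => simp
    | succ n ih =>
      calc c ^ (n + 1) * f * (c ^ (n + 1))⁻¹ = c * (c ^ n * f * (c ^ n)⁻¹) * c⁻¹ := by rw [pow_succ']; group
        _ = (c * f * c⁻¹) * (c * w ^ n * c⁻¹) := by rw [ih]; group
        _ = f * w ^ (n + 1) := by rw [hw, (hwc.pow_right n).eq, mul_inv_cancel_right, pow_succ', mul_assoc]
  have hw1 : w = 1 := by
    have h1 : w ^ orderOf c = 1 := by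
      have := hpow (orderOf c)
      rw [pow_orderOf_eq_one, one_mul, inv_one, mul_one] at this
      exact mul_eq_left.1 this.symm
    obtain ⟨k, hk⟩ := IsPGroup.iff_card.1 hF
    exact orderOf_eq_one_iff.1 (Nat.eq_one_of_dvd_coprimes
      ((hQ.coprime_dvd_left (Q.orderOf_dvd_natCard hcQ)).pow_right k) (orderOf_dvd_of_pow_eq_one h1)
      (hk ▸ F.orderOf_dvd_natCard hwF))
  rw [hw1, mul_one, mul_inv_eq_iff_eq_mul] at hw
  exact hw

/-- In a `p`-constrained group with Sylow subgroups of class at most two, a `p'`-subgroup normalized by an abelian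
`p`-subgroup `A` containing the `p`-elements of its centralizer lies in the `p'`-core. -/
theorem le_core_of_classTwo (hX : Cfsg.IsPConstrained p X) {A : Subgroup X} (hAp : IsPGroup p A)
    (hfull : ∀ x ∈ centralizer (A : Set X), IsPGroup p (zpowers x) → x ∈ A)
    (hcl : ∀ P : Subgroup X, IsPGroup p P → ∀ x ∈ P, ∀ y ∈ P, ∀ z ∈ P, Commute ⁅x, y⁆ z)
    {Q : Subgroup X} (hQ : ¬ p ∣ Nat.card Q) (hAQ : A ≤ normalizer (Q : Set X)) :
    Q ≤ Cfsg.pPrimeCore p X := by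
  set O := Cfsg.pPrimeCore p X
  set f := QuotientGroup.mk' O
  have hfs : Function.Surjective f := QuotientGroup.mk'_surjective O
  set F := Cfsg.pCore p (X ⧸ O)
  haveI : F.Normal := CfsgLib.Solvable.pCore_normal p
  have hF : IsPGroup p F := CfsgLib.Solvable.isPGroup_pCore p
  have hQc : (Nat.card Q).Coprime p := ((Nat.Prime.coprime_iff_not_dvd Fact.out).2 hQ).symm
  have hQf : (Nat.card (Q.map f)).Coprime p := hQc.coprime_dvd_left (card_map_dvd _ _)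
  obtain ⟨kF, hkF⟩ := IsPGroup.iff_card.1 hF
  have hQF : Q.map f ⊓ F = ⊥ := inf_eq_bot_of_coprime (hkF ▸ hQf.pow_right kF)
  have hn : A.map f ≤ normalizer (Q.map f : Set (X ⧸ O)) := (map_mono hAQ).trans (le_normalizer_map f)
  -- the fixed points of `A` on `F` are centralized by `Q`
  have hkey : ∀ x ∈ F, (∀ a ∈ A.map f, Commute a x) → ∀ q ∈ Q.map f, Commute q x := by
    intro x hx hxa q hq
    obtain ⟨g, rfl⟩ := hfs x
    haveI := hAp.isNilpotent
    obtain ⟨j, hj⟩ := IsPGroup.iff_card.1 hAp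
    obtain ⟨c, hc1, hc2⟩ := CfsgLib.Coprime.exists_commute_mem_coset A O le_normalizer_of_normal
      (hj ▸ ((CfsgLib.Solvable.coprime_card_pPrimeCore p).pow_right j).symm) g (fun a ha => by
        rw [← QuotientGroup.ker_mk' O, MonoidHom.mem_ker]
        change f (g⁻¹ * (a * g * a⁻¹)) = 1
        rw [map_mul, map_mul, map_mul, map_inv, map_inv, (hxa (f a) (mem_map_of_mem f ha)).eq,
          mul_inv_cancel_right, inv_mul_cancel])
    have hcg : f c = f g := by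
      have h1 : f (g⁻¹ * c) = 1 := (QuotientGroup.eq_one_iff _).2 hc2
      rw [map_mul, map_inv, inv_mul_eq_one] at h1
      exact h1.symm
    obtain ⟨k, m, hm, hkm⟩ := Nat.exists_eq_pow_mul_and_not_dvd (orderOf_pos c).ne' p (Fact.out : p.Prime).ne_one
    have hmp : m.Coprime p := ((Nat.Prime.coprime_iff_not_dvd Fact.out).2 hm).symm
    set d := c ^ m
    have hdk : d ^ p ^ k = 1 := by rw [← pow_mul, mul_comm, ← hkm, pow_orderOf_eq_one]
    have hdA : d ∈ A := hfull d (mem_centralizer_iff.2 fun a ha => ((show Commute a c from hc1 a ha).pow_right m).eq) (by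
      obtain ⟨i, -, hi⟩ := (Nat.dvd_prime_pow Fact.out).1 (orderOf_dvd_of_pow_eq_one hdk)
      exact IsPGroup.of_card (n := i) (by rw [Nat.card_zpowers, hi]))
    have hfd : f d = f g ^ m := by rw [map_pow, hcg]
    have h2 : q * f d * q⁻¹ * (f d)⁻¹ = 1 := by
      refine mem_bot.1 (hQF ▸ mem_inf.2 ⟨?_, ?_⟩)
      · rw [show q * f d * q⁻¹ * (f d)⁻¹ = q * (f d * q⁻¹ * (f d)⁻¹) by group]
        exact mul_mem hq ((mem_normalizer_iff.1 (hn (mem_map_of_mem f hdA)) _).1 (inv_mem hq))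
      · have hdF : f d ∈ F := hfd ▸ pow_mem hx m
        exact mul_mem (Normal.conj_mem inferInstance _ hdF q) (inv_mem hdF)
    have h3 : Commute q (f g ^ m) := hfd ▸ (mul_inv_eq_iff_eq_mul.1 (mul_inv_eq_one.1 h2) : q * f d = f d * q)
    obtain ⟨j', hj'⟩ := exists_pow_eq_self_of_coprime (x := f g) (n := m)
      ((hmp.pow_right kF).coprime_dvd_right (hkF ▸ F.orderOf_dvd_natCard hx))
    rw [← hj']
    exact h3.pow_right j'
  -- commutators of `F` with `A` are central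
  have hcent : ∀ z ∈ F, ∀ a ∈ A.map f,
      (∀ a' ∈ A.map f, Commute a' ⁅z, a⁆) ∧ ∀ q ∈ Q.map f, Commute q ⁅z, a⁆ := by
    intro z hz a ha
    obtain ⟨S, hS⟩ := (hF.to_sup_of_normal_left (hAp.map f) : IsPGroup p ↥(F ⊔ A.map f)).exists_le_sylow
    obtain ⟨S₀, hS₀⟩ := Sylow.mapSurjective_surjective hfs p S
    have hS' : (F ⊔ A.map f) ≤ (S₀ : Subgroup X).map f := hS.trans (by rw [← hS₀]; rfl)
    have hA' : ∀ a' ∈ A.map f, Commute a' ⁅z, a⁆ := by
      intro a' ha'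
      obtain ⟨x, hx, rfl⟩ := hS' (mem_sup_left hz)
      obtain ⟨y, hy, rfl⟩ := hS' (mem_sup_right ha)
      obtain ⟨w, hw, rfl⟩ := hS' (mem_sup_right ha')
      rw [← map_commutatorElement]
      exact ((hcl _ S₀.2 x hx y hy w hw).map f).symm
    refine ⟨hA', hkey _ ?_ hA'⟩
    rw [commutatorElement_def, show z * a * z⁻¹ * a⁻¹ = z * (a * z⁻¹ * a⁻¹) by group]
    exact mul_mem hz (Normal.conj_mem inferInstance _ (inv_mem hz) a)
  have hcF := CfsgLib.ZJ.centralizer_pCore_quotient_le hX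
  -- `A` centralizes `Q` modulo `O`
  have hAQc : ∀ q ∈ Q.map f, ∀ a ∈ A.map f, Commute q a := by
    intro q hq a ha
    rw [← commutatorElement_eq_one_iff_commute, ← mem_bot, ← hQF]
    refine mem_inf.2 ⟨?_, hcF (mem_centralizer_iff.2 fun z hz =>
      ((commute_commutator_of_classTwo hF hQf hn hcent hq ha hz).eq).symm)⟩
    rw [commutatorElement_def, show q * a * q⁻¹ * a⁻¹ = q * (a * q⁻¹ * a⁻¹) by group]
    exact mul_mem hq ((mem_normalizer_iff.1 (hn ha) _).1 (inv_mem hq))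
  intro q hq
  rw [← QuotientGroup.eq_one_iff]
  show f q = 1
  have hqq : f q ∈ Q.map f := mem_map_of_mem f hq
  have hR := CfsgLib.CharP.centralizes_of_centralizes_fixed (hAp.map f) hF le_normalizer_of_normal
    (le_normalizer_of_normal (H := F) (K := ⊤) (mem_top _)) (mem_centralizer_iff.2 fun a ha => (hAQc _ hqq a ha).eq.symm)
    (hQf.coprime_dvd_left ((Q.map f).orderOf_dvd_natCard hqq))
    (fun z hz => mem_centralizer_singleton_iff.2
      (hkey z hz.1 (fun a ha => mem_centralizer_iff.1 hz.2 a ha) _ hqq).eq.symm)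
  exact mem_bot.1 (hQF ▸ mem_inf.2 ⟨hqq, hcF (mem_centralizer_iff.2 fun z hz => mem_centralizer_singleton_iff.1 (hR hz))⟩)

section Main

variable {G : Type*} [Group G] [Finite G] {E : Subgroup G} {q : ℕ} [Fact q.Prime]

theorem coprime_of_isPGroup (hqp : q ≠ p) {Q : Subgroup G} (hQ : IsPGroup q Q) : (Nat.card Q).Coprime p := by
  obtain ⟨k, hk⟩ := IsPGroup.iff_card.1 hQ
  exact hk ▸ (((Nat.coprime_primes Fact.out Fact.out).2 hqp).pow_left k)

theorem isPGroup_of_mem {Q : Subgroup G} (hQ : Q ∈ Cfsg.invSubgroups ⊤ E {q}) : IsPGroup q Q :=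
  IsPGroup.of_card (Nat.eq_prime_pow_of_unique_prime_dvd Nat.card_pos.ne' fun {d} hd hdd => hQ.2.1 d hd hdd)

theorem mem_inv {Q : Subgroup G} (hQ : IsPGroup q Q) (hn : E ≤ normalizer (Q : Set G)) :
    Q ∈ Cfsg.invSubgroups ⊤ E {q} := by
  refine ⟨le_top, fun r hr hdvd => ?_, hn⟩
  obtain ⟨k, hk⟩ := IsPGroup.iff_card.1 hQ
  rw [hk] at hdvd
  exact (Nat.prime_dvd_prime_iff_eq hr Fact.out).1 (hr.dvd_of_dvd_pow hdvd)

theorem exists_max_ge {Q : Subgroup G} (hQ : IsPGroup q Q) (hn : E ≤ normalizer (Q : Set G)) :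
    ∃ R, Q ≤ R ∧ R ∈ Cfsg.maxInvSubgroups ⊤ E {q} := by
  obtain ⟨R, hQR, h1, hmax⟩ := exists_maximal_ge_of_wellFoundedGT
    (fun R : Subgroup G => R ∈ Cfsg.invSubgroups ⊤ E {q}) Q (mem_inv hQ hn)
  exact ⟨R, hQR, h1, fun S hS hle => le_antisymm (hmax hS hle) hle⟩

omit [Fact q.Prime] in
theorem max_conj {c : G} (hc : c ∈ centralizer (E : Set G)) {Q : Subgroup G}
    (hQ : Q ∈ Cfsg.maxInvSubgroups ⊤ E {q}) :
    Q.map (MulAut.conj c).toMonoidHom ∈ Cfsg.maxInvSubgroups ⊤ E {q} := by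
  have hmap : ∀ {c : G}, c ∈ centralizer (E : Set G) → ∀ {Q : Subgroup G}, Q ∈ Cfsg.invSubgroups ⊤ E {q} →
      Q.map (MulAut.conj c).toMonoidHom ∈ Cfsg.invSubgroups ⊤ E {q} := by
    intro c hc Q hQ
    refine ⟨le_top, fun r hr hd => hQ.2.1 r hr (hd.trans (card_map_dvd _ _)), ?_⟩
    refine CfsgLib.Signalizer.le_normalizer_of_conj_mem fun a ha => ?_
    rintro _ ⟨u, hu, rfl⟩
    refine ⟨a * u * a⁻¹, (mem_normalizer_iff.1 (hQ.2.2 ha) u).1 hu, ?_⟩
    have h : Commute a c := mem_centralizer_iff.1 hc a ha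
    show c * (a * u * a⁻¹) * c⁻¹ = a * (c * u * c⁻¹) * a⁻¹
    rw [← mul_assoc a, ← mul_assoc a, h.eq, ← mul_assoc c, ← mul_assoc c, mul_assoc _ a⁻¹,
      (h.inv_left.inv_right).eq, ← mul_assoc]
  refine ⟨hmap hc hQ.1, fun R hR hle => ?_⟩
  have h1 := hQ.2 (R.map (MulAut.conj c⁻¹).toMonoidHom) (hmap (inv_mem hc) hR)
    (fun x hx => ⟨c * x * c⁻¹, hle ⟨x, hx, rfl⟩, by simp [mul_assoc]⟩)
  rw [← h1]
  ext x
  simp [mem_map, mul_assoc]

/-- The `p'`-subgroups of `C(E)` lie in `O_{p'}(C(E))`. -/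
theorem le_piCoreOf (hEp : IsPGroup p E) (hEc : IsMulCommutative E)
    (hEfull : ∀ x ∈ centralizer (E : Set G), IsPGroup p (zpowers x) → x ∈ E) {W : Subgroup G}
    (hW : W ≤ centralizer (E : Set G)) (hWc : (Nat.card W).Coprime p) :
    W ≤ Cfsg.piCoreOf (Cfsg.primesNotDvd p) (centralizer (E : Set G)) := by
  set C := centralizer (E : Set G)
  obtain ⟨P⟩ := (inferInstance : Nonempty (Sylow p C))
  have hPE : ∀ x ∈ (P : Subgroup C), (x : G) ∈ E := fun x hx => hEfull x x.2 (by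
    obtain ⟨k, hk⟩ := P.2 ⟨x, hx⟩
    have hk' : (x : G) ^ p ^ k = 1 := by simpa using congrArg (fun y : P => ((y : C) : G)) hk
    obtain ⟨i, -, hi⟩ := (Nat.dvd_prime_pow Fact.out).1 (orderOf_dvd_of_pow_eq_one hk')
    exact IsPGroup.of_card (n := i) (by rw [Nat.card_zpowers, hi]))
  have hle : normalizer ((P : Subgroup C) : Set C) ≤ centralizer ((P : Subgroup C) : Set C) := fun g _ =>
    mem_centralizer_iff.2 fun x hx => Subtype.ext (mem_centralizer_iff.1 g.2 _ (hPE x hx))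
  obtain ⟨P', N, hN, hcompl⟩ := CfsgLib.TransferBasic.hasNormalPComplement_of_le_centralizer P hle
  obtain ⟨k, hk⟩ := IsPGroup.iff_card.1 P'.2
  have hindex : N.index = p ^ k := by rw [hcompl.symm.index_eq_card, hk]
  have hNc : (Nat.card N).Coprime p := by
    rw [← hcompl.index_eq_card]
    exact ((Nat.Prime.coprime_iff_not_dvd Fact.out).2 P'.not_dvd_index).symm
  intro w hw
  have hwN : (⟨w, hW hw⟩ : C) ∈ N := by
    rw [← QuotientGroup.eq_one_iff]
    refine orderOf_eq_one_iff.1 (Nat.eq_one_of_dvd_coprimes ((hWc.coprime_dvd_left (W.orderOf_dvd_natCard hw)).pow_right k)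
      ?_ (hindex ▸ index_eq_card N ▸ orderOf_dvd_natCard _))
    refine (orderOf_map_dvd (QuotientGroup.mk' N) ⟨w, hW hw⟩).trans ?_
    rw [← orderOf_coe]
  refine ⟨⟨w, hW hw⟩, ?_, rfl⟩
  have hle' : N ≤ Cfsg.piCore (Cfsg.primesNotDvd p) C := le_sSup ⟨hN, fun r hr hd => ⟨hr, fun h => ?_⟩⟩
  · exact hle' hwN
  rw [Nat.prime_dvd_prime_iff_eq hr Fact.out] at h
  exact (Fact.out : p.Prime).coprime_iff_not_dvd.1 hNc.symm (h ▸ hd)

/-- Hypothesis on the centralizers of the elements of `E`: invariant `p'`-subgroups lie in one invariant `p'`-group. -/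
def HasSignalizerBound (p : ℕ) (E : Subgroup G) : Prop :=
  ∀ a ∈ E, a ≠ 1 → ∃ K : Subgroup G, (Nat.card K).Coprime p ∧ E ≤ normalizer (K : Set G) ∧
    ∀ W : Subgroup G, W ≤ centralizer {a} → (Nat.card W).Coprime p → E ≤ normalizer (W : Set G) → W ≤ K

theorem hasSignalizerBound
    (hloc : ∀ T : Subgroup G, IsPGroup p T → T ≠ ⊥ → Cfsg.IsPConstrained p ↥(normalizer (T : Set G)))
    (h2 : p = 2 → ∀ S : Sylow p G, Group.IsNilpotent (S : Subgroup G) ∧ Group.nilpotencyClass (S : Subgroup G) ≤ 2)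
    (hEp : IsPGroup p E) (hEc : IsMulCommutative E)
    (hEfull : ∀ x ∈ centralizer (E : Set G), IsPGroup p (zpowers x) → x ∈ E) : HasSignalizerBound p E := by
  intro a ha ha1
  set M := normalizer (zpowers a : Set G)
  have hEM : E ≤ M := by
    refine le_trans (fun x hx => mem_centralizer_iff.2 fun y hy => ?_) (centralizer_le_normalizer _)
    exact congrArg Subtype.val (hEc.is_comm.comm ⟨y, (zpowers_le.2 ha) hy⟩ ⟨x, hx⟩)
  have hcon := hloc (zpowers a) (hEp.to_le (zpowers_le.2 ha)) (fun h => ha1 (zpowers_eq_bot.1 h))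
  refine ⟨(Cfsg.pPrimeCore p M).map M.subtype, ?_, ?_, fun W hWa hW hEW => ?_⟩
  · rw [card_map_of_injective (subtype_injective _)]
    exact CfsgLib.Solvable.coprime_card_pPrimeCore p
  · have h := le_normalizer_map (H := Cfsg.pPrimeCore p M) M.subtype
    rw [normalizer_eq_top, ← MonoidHom.range_eq_map, range_subtype] at h
    exact hEM.trans h
  have hWM : W ≤ M := by
    refine le_trans (hWa.trans ?_) (centralizer_le_normalizer _)
    intro x hx
    rw [mem_centralizer_iff]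
    intro y hy
    obtain ⟨i, rfl⟩ := mem_zpowers_iff.1 hy
    exact ((show Commute a x from (mem_centralizer_singleton_iff.1 hx).symm).zpow_left i).eq
  have hcentE : ∀ x : M, x ∈ centralizer ((E.subgroupOf M : Subgroup M) : Set M) → (x : G) ∈ centralizer (E : Set G) :=
    fun x hx => mem_centralizer_iff.2 fun y hy =>
      congrArg Subtype.val (mem_centralizer_iff.1 hx ⟨y, hEM hy⟩ hy)
  have hEMp : IsPGroup p (E.subgroupOf M) := hEp.comap_subtype
  have hfull : ∀ x ∈ centralizer ((E.subgroupOf M : Subgroup M) : Set M), IsPGroup p (zpowers x) → x ∈ E.subgroupOf M :=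
    fun x hx hp => hEfull _ (hcentE x hx) (by
      have := hp.map M.subtype
      rwa [MonoidHom.map_zpowers] at this)
  have hnorm : E.subgroupOf M ≤ normalizer (W.subgroupOf M : Set M) := fun x hx => mem_normalizer_iff.2 fun y => by
    simpa [mem_subgroupOf] using mem_normalizer_iff.1 (hEW hx) (y : G)
  have hWd : ¬ p ∣ Nat.card (W.subgroupOf M) := by
    rw [Nat.card_congr (subgroupOfEquivOfLe hWM).toEquiv]
    exact (Fact.out : p.Prime).coprime_iff_not_dvd.1 hW.symm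
  suffices h : W.subgroupOf M ≤ Cfsg.pPrimeCore p M from fun w hw =>
    ⟨⟨w, hWM hw⟩, h (mem_subgroupOf.2 hw), rfl⟩
  by_cases hp2 : p = 2
  · refine le_core_of_classTwo hcon hEMp hfull (fun P hP x hx y hy z hz => ?_) hWd hnorm
    obtain ⟨S, hS⟩ := (hP.map M.subtype).exists_le_sylow
    obtain ⟨hnil, hclass⟩ := h2 hp2 S
    haveI := hnil
    have hlcs : Subgroup.lowerCentralSeries (⊤ : Subgroup (S : Subgroup G)) 2 = ⊥ :=
      Subgroup.lowerCentralSeries_eq_bot_iff_nilpotencyClass_le.2 hclass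
    let x' : (S : Subgroup G) := ⟨x, hS ⟨x, hx, rfl⟩⟩
    let y' : (S : Subgroup G) := ⟨y, hS ⟨y, hy, rfl⟩⟩
    let z' : (S : Subgroup G) := ⟨z, hS ⟨z, hz, rfl⟩⟩
    have hm : ⁅⁅x', y'⁆, z'⁆ ∈
        Subgroup.lowerCentralSeries (⊤ : Subgroup (S : Subgroup G)) 2 :=
      commutator_mem_commutator (commutator_mem_commutator (mem_top _) (mem_top _)) (mem_top _)
    rw [hlcs, mem_bot, commutatorElement_eq_one_iff_mul_comm] at hm
    refine Subtype.ext ?_
    have := congrArg Subtype.val hm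
    simpa [commutatorElement_def, x', y', z'] using this
  · refine CfsgLib.AbelianSignalizer.le_core hp2 hcon hEMp (fun x hx hxp => hfull x hx ?_) hWd hnorm
    exact IsPGroup.of_card (n := 1) (by rw [Nat.card_zpowers, hxp, pow_one])

/-- The transitivity theorem from the bound on centralizers. -/
theorem transitivity (hbound : HasSignalizerBound p E) (hEp : IsPGroup p E) (hEc : IsMulCommutative E)
    (hEfull : ∀ x ∈ centralizer (E : Set G), IsPGroup p (zpowers x) → x ∈ E)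
    {A : Subgroup G} (hA : Cfsg.IsElementaryAbelian p A) (hAE : A ≤ E) (hA3 : p ^ 3 ≤ Nat.card A) (hqp : q ≠ p)
    {Q₁ Q₂ : Subgroup G} (h₁ : Q₁ ∈ Cfsg.maxInvSubgroups ⊤ E {q}) (h₂ : Q₂ ∈ Cfsg.maxInvSubgroups ⊤ E {q}) :
    ∃ c ∈ Cfsg.piCoreOf (Cfsg.primesNotDvd p) (centralizer (E : Set G)),
      Q₁.map (MulAut.conj c).toMonoidHom = Q₂ := by
  set K := Cfsg.piCoreOf (Cfsg.primesNotDvd p) (centralizer (E : Set G))
  have hKC : K ≤ centralizer (E : Set G) := map_subtype_le _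
  by_contra hcon
  set T : Set (Subgroup G × Subgroup G) := {P | P.1 ∈ Cfsg.maxInvSubgroups ⊤ E {q} ∧
    P.2 ∈ Cfsg.maxInvSubgroups ⊤ E {q} ∧ ¬ ∃ c ∈ K, P.1.map (MulAut.conj c).toMonoidHom = P.2} with hT
  obtain ⟨P, hP, hmax⟩ := Set.Finite.exists_maximalFor
    (fun P : Subgroup G × Subgroup G => Nat.card ↥(P.1 ⊓ P.2)) T (Set.toFinite _)
    ⟨(Q₁, Q₂), h₁, h₂, hcon⟩
  obtain ⟨R₁, R₂⟩ := P
  obtain ⟨hR₁, hR₂, hno⟩ := hP
  simp only at hR₁ hR₂ hno hmax
  clear hcon h₁ h₂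
  set D := R₁ ⊓ R₂ with hD
  have hbig : ∀ M₁ M₂, M₁ ∈ Cfsg.maxInvSubgroups ⊤ E {q} → M₂ ∈ Cfsg.maxInvSubgroups ⊤ E {q} →
      Nat.card D < Nat.card ↥(M₁ ⊓ M₂) → ∃ c ∈ K, M₁.map (MulAut.conj c).toMonoidHom = M₂ := by
    intro M₁ M₂ hM₁ hM₂ hlt
    by_contra hc
    have h2 : Nat.card ↥(M₁ ⊓ M₂) ≤ Nat.card D := hmax (j := (M₁, M₂)) ⟨hM₁, hM₂, hc⟩ hlt.le
    omega
  have hne1 : D ≠ R₁ := by
    intro h
    have h12 : R₁ ≤ R₂ := h ▸ inf_le_right
    exact hno ⟨1, one_mem _, by rw [← hR₁.2 R₂ hR₂.1 h12]; ext; simp⟩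
  have hne2 : D ≠ R₂ := by
    intro h
    have h21 : R₂ ≤ R₁ := h ▸ inf_le_left
    exact hno ⟨1, one_mem _, by rw [hR₂.2 R₁ hR₁.1 h21]; ext; simp⟩
  have hED : E ≤ normalizer (D : Set G) :=
    (le_inf hR₁.1.2.2 hR₂.1.2.2).trans inf_normalizer_le_normalizer_inf
  have hDq : IsPGroup q D := (isPGroup_of_mem hR₁.1).to_le inf_le_left
  set N := normalizer (D : Set G) with hN
  have hgrow : ∀ R ∈ Cfsg.maxInvSubgroups ⊤ E {q}, D ≤ R → D ≠ R → ¬ N ⊓ R ≤ D := by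
    intro R hR hle hne hsub
    obtain ⟨x, hxR, hxD, hxN⟩ := CfsgLib.CharP.exists_mem_normalizer_notMem (isPGroup_of_mem hR.1)
      (lt_of_le_of_ne hle hne)
    exact hxD (hsub ⟨hxN, hxR⟩)
  have hENR : ∀ R ∈ Cfsg.maxInvSubgroups ⊤ E {q}, E ≤ normalizer ((N ⊓ R : Subgroup G) : Set G) :=
    fun R hR => (le_inf (hED.trans le_normalizer) hR.1.2.2).trans inf_normalizer_le_normalizer_inf
  have hpR : ∀ R ∈ Cfsg.maxInvSubgroups ⊤ E {q}, ¬ p ∣ Nat.card ↥(N ⊓ R) := fun R hR h =>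
    (Fact.out : p.Prime).coprime_iff_not_dvd.1 (coprime_of_isPGroup hqp (isPGroup_of_mem hR.1)).symm
      (h.trans (card_dvd_of_le inf_le_right))
  obtain ⟨a, ha, ha1, hN₁, hN₂⟩ := CfsgLib.Signalizer.exists_common_centralizer hA hA3
    (hAE.trans (hENR R₁ hR₁)) (hAE.trans (hENR R₂ hR₂)) (hpR R₁ hR₁) (hpR R₂ hR₂)
    (hgrow R₁ hR₁ inf_le_left hne1) (hgrow R₂ hR₂ inf_le_right hne2)
  obtain ⟨Ka, hKac, hKaE, hKa⟩ := hbound a (hAE ha) ha1
  set L := Ka ⊓ N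
  have hEL : E ≤ normalizer (L : Set G) :=
    (le_inf hKaE (hED.trans le_normalizer)).trans inf_normalizer_le_normalizer_inf
  have hEH : E ≤ normalizer ((D ⊔ L : Subgroup G) : Set G) :=
    (le_inf hED hEL).trans (normalizer_inf_normalizer_le_normalizer_sup _ _)
  have hH : (Nat.card ↥(D ⊔ L)).Coprime p := by
    have h := CfsgLib.Solvable.card_sup_mul_card_inf (A := L) (K := D) inf_le_right
    rw [sup_comm] at h
    refine Nat.Coprime.coprime_dvd_left (Dvd.intro _ h) (Nat.Coprime.mul_left ?_ (coprime_of_isPGroup hqp hDq))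
    exact hKac.coprime_dvd_left (card_dvd_of_le inf_le_left)
  have hEH' : (Nat.card E).Coprime (Nat.card ↥(D ⊔ L)) := by
    obtain ⟨k, hk⟩ := IsPGroup.iff_card.1 hEp
    exact hk ▸ (hH.pow_right k).symm
  have hEs : Group.IsSolvable E := by
    haveI := hEp.isNilpotent
    infer_instance
  have hnew : ∀ R ∈ Cfsg.maxInvSubgroups ⊤ E {q}, D ≤ R → ¬ N ⊓ R ⊓ centralizer {a} ≤ D →
      ∃ S : Sylow q ↥(D ⊔ L), ∃ M ∈ Cfsg.maxInvSubgroups ⊤ E {q},
        E ≤ normalizer ((S : Subgroup ↥(D ⊔ L)).map (D ⊔ L).subtype : Set G) ∧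
        (S : Subgroup ↥(D ⊔ L)).map (D ⊔ L).subtype ≤ M ∧
        Nat.card D < Nat.card ↥((S : Subgroup ↥(D ⊔ L)).map (D ⊔ L).subtype) ∧
        ∃ c ∈ K, R.map (MulAut.conj c).toMonoidHom = M := by
    intro R hR hDR hRa
    set C := N ⊓ R ⊓ centralizer {a}
    have hEa : E ≤ centralizer ({a} : Set G) := fun x hx => mem_centralizer_singleton_iff.2
      (congrArg Subtype.val (hEc.is_comm.comm ⟨x, hx⟩ ⟨a, hAE ha⟩))
    have hEC : E ≤ normalizer (C : Set G) :=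
      (le_inf (hENR R hR) (hEa.trans le_normalizer)).trans inf_normalizer_le_normalizer_inf
    have hCK : C ≤ Ka := hKa C inf_le_right ((coprime_of_isPGroup hqp (isPGroup_of_mem hR.1)).coprime_dvd_left
      (card_dvd_of_le (inf_le_left.trans inf_le_right))) hEC
    have hC : C ≤ L := le_inf hCK (inf_le_left.trans inf_le_left)
    set U := D ⊔ C
    have hUR : U ≤ R := sup_le hDR (inf_le_left.trans inf_le_right)
    have hUq : IsPGroup q U := (isPGroup_of_mem hR.1).to_le hUR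
    have hUE : E ≤ normalizer (U : Set G) :=
      (le_inf hED hEC).trans (normalizer_inf_normalizer_le_normalizer_sup _ _)
    obtain ⟨S, hUS, hSE⟩ := CfsgLib.CoprimeAct.exists_invariant_sylow_ge hEH hEH' (Or.inl hEs) q
      (sup_le_sup_left hC D) hUq hUE
    obtain ⟨M, hSM, hM⟩ := exists_max_ge (S.2.map _) hSE
    have hlt : D < U := lt_of_le_of_ne le_sup_left fun h => hRa (h ▸ le_sup_right)
    have hltc : Nat.card D < Nat.card U := CfsgLib.Solvable.card_lt_of_lt hlt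
    refine ⟨S, M, hM, hSE, hSM, hltc.trans_le (Subgroup.card_le_of_le hUS), hbig R M hR hM ?_⟩
    exact hltc.trans_le (Subgroup.card_le_of_le (le_inf hUR (hUS.trans hSM)))
  obtain ⟨S₁, M₁, hM₁, hS₁E, hS₁M, hlt₁, c₁, hc₁, he₁⟩ := hnew R₁ hR₁ inf_le_left hN₁
  obtain ⟨S₂, M₂, hM₂, hS₂E, hS₂M, hlt₂, c₂, hc₂, he₂⟩ := hnew R₂ hR₂ inf_le_right hN₂
  obtain ⟨k, hkE, hk⟩ := CfsgLib.CoprimeAct.invariant_sylow_conj hEH hEH' (Or.inl hEs) q S₁ S₂ hS₁E hS₂E
  have hkK : (k : G) ∈ K := le_piCoreOf hEp hEc hEfull (W := zpowers (k : G)) (zpowers_le.2 hkE)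
    (by rw [Nat.card_zpowers]; exact hH.coprime_dvd_left ((D ⊔ L).orderOf_dvd_natCard k.2)) (mem_zpowers _)
  have hsub : (S₂ : Subgroup ↥(D ⊔ L)).map (D ⊔ L).subtype ≤ M₁.map (MulAut.conj (k : G)).toMonoidHom := by
    rw [← hk, CfsgLib.SZ.conj_smul_map]
    exact fun x hx => map_mono hS₁M hx
  obtain ⟨c₃, hc₃, he₃⟩ := hbig _ M₂ (max_conj hkE hM₁) hM₂
    (hlt₂.trans_le (Subgroup.card_le_of_le (le_inf hsub hS₂M)))
  refine hno ⟨c₂⁻¹ * (c₃ * k * c₁), mul_mem (inv_mem hc₂) (mul_mem (mul_mem hc₃ hkK) hc₁), ?_⟩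
  have e : R₁.map (MulAut.conj (c₃ * k * c₁)).toMonoidHom = M₂ := by
    rw [← he₃, ← he₁, map_map, map_map]
    congr 1
    ext x
    simp [mul_assoc]
  have e2 : R₂ = M₂.map (MulAut.conj c₂⁻¹).toMonoidHom := by
    rw [← he₂, map_map]
    ext x
    simp [mem_map, mul_assoc]
  rw [e2, ← e, map_map]
  congr 1
  ext x
  simp [mul_assoc]

theorem exists_elementary (hEp : IsPGroup p E) (h : ¬ Cfsg.PRankLE p 2 E) :
    ∃ A : Subgroup G, Cfsg.IsElementaryAbelian p A ∧ A ≤ E ∧ p ^ 3 ≤ Nat.card A := by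
  unfold Cfsg.PRankLE at h
  push Not at h
  obtain ⟨A₀, hA₀c, hA₀p, hA₀⟩ := h
  refine ⟨A₀.map E.subtype, ⟨⟨⟨?_⟩⟩, ?_⟩, map_subtype_le _, ?_⟩
  · rintro ⟨_, x, hx, rfl⟩ ⟨_, y, hy, rfl⟩
    exact Subtype.ext (congrArg (fun z : A₀ => ((z : E) : G)) (hA₀c.is_comm.comm ⟨x, hx⟩ ⟨y, hy⟩))
  · rintro _ ⟨x, hx, rfl⟩
    rw [← map_pow, hA₀p x hx, map_one]
  · rw [card_map_of_injective (subtype_injective _)]
    obtain ⟨k, hk⟩ := IsPGroup.iff_card.1 (hEp.to_subgroup A₀)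
    rw [hk] at hA₀ ⊢
    exact Nat.pow_le_pow_right (Fact.out : p.Prime).pos ((Nat.pow_lt_pow_iff_right (Fact.out : p.Prime).one_lt).1 hA₀)

end Main

end CfsgLib.OddLocal.Transitivity
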