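import Cfsg.Agent.OddLocal.PuigTheorem
import Cfsg.Agent.OddLocal.TransitivityCases
import Cfsg.Agent.S1337
import Cfsg.Agent.S1395
import Cfsg.Agent.S1396
import Cfsg.Agent.S1450
import Cfsg.Agent.S1452

/-!
A uniqueness criterion for minimal simple groups of odd order: a noncyclic elementary abelian
subgroup of a maximal subgroup that holds all its invariant `p'`-subgroups lies in no other.
-/

set_option autoImplicit false
set_option linter.style.haveILetI false
set_option linter.unusedSectionVars false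

namespace CfsgLib.OddLocal.Uniq

open Subgroup Cfsg CfsgLib.OddLocal

universe u

variable {G : Type u} [Group G] [Finite G] {p : ℕ} [Fact p.Prime]

/-- `Z(L(R))` commutes with injective maps. -/
theorem centerUp_map {H : Type u} [Group H] [Finite H] {g : G →* H} (hg : Function.Injective g)
    (R : Subgroup G) : (Puig.centerUp R).map g = Puig.centerUp (R.map g) := by
  have h1 : Puig.centerUp R = (puigSubgroup R ⊓ centralizer (puigSubgroup R : Set R)).map R.subtype := by
    rw [Puig.map_centerUp R.subtype_injective, range_subtype]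
  have hinj : Function.Injective (g.comp R.subtype) := hg.comp R.subtype_injective
  rw [h1, Subgroup.map_map, Puig.map_centerUp hinj, MonoidHom.range_comp, range_subtype]

theorem centerUp_ne_bot {R : Subgroup G} (hR : IsPGroup p R) (hR1 : R ≠ ⊥) : Puig.centerUp R ≠ ⊥ := by
  haveI : Nontrivial R := (nontrivial_iff_ne_bot R).2 hR1
  have hU : puigSubgroup R ≠ ⊥ := by
    rw [← Puig.step_lower]
    exact (Puig.centralizer_step_le hR _).2
  obtain ⟨z, hz, hz1, hzc⟩ := CfsgLib.CN.exists_central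
    (CfsgLib.CN.nilpotent_of_le (L := (⊤ : Subgroup R)) (by haveI := hR.isNilpotent; infer_instance) le_top) hU
  intro h
  have hz' : z ∈ puigSubgroup R ⊓ centralizer (puigSubgroup R : Set R) :=
    ⟨hz, mem_centralizer_iff.2 fun y hy => (hzc y hy).eq⟩
  have hm := mem_map_of_mem R.subtype hz'
  rw [Puig.map_centerUp R.subtype_injective, range_subtype, h, mem_bot] at hm
  exact hz1 (Subtype.ext hm)

theorem conj_map_eq_of_mem {H : Subgroup G} {g : G} (h : g ∈ normalizer (H : Set G)) :
    H.map (MulAut.conj g).toMonoidHom = H :=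
  mem_normalizer_iff_map_conj_eq.1 h

theorem mem_normalizer_of_map_le {H : Subgroup G} {g : G} (h : H.map (MulAut.conj g).toMonoidHom ≤ H) :
    g ∈ normalizer (H : Set G) :=
  mem_normalizer_iff_map_conj_eq.2 (CfsgLib.Solvable.eq_of_le_of_card_le h
    (card_map_of_injective (MulAut.conj g).injective).ge)

variable (p) in
/-- `O_{p'}(H)` inside the ambient group. -/
def coreOf (H : Subgroup G) : Subgroup G := (Cfsg.pPrimeCore p H).map H.subtype

theorem coreOf_le (H : Subgroup G) : coreOf p H ≤ H := map_subtype_le _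

theorem coprime_coreOf (H : Subgroup G) : (Nat.card (coreOf p H)).Coprime p := by
  rw [coreOf, card_map_of_injective H.subtype_injective]
  exact CfsgLib.Solvable.coprime_card_pPrimeCore p

theorem le_normalizer_coreOf (H : Subgroup G) : H ≤ normalizer (coreOf p H : Set G) := by
  rw [← normal_subgroupOf_iff_le_normalizer (coreOf_le H), coreOf, ← comap_subtype,
    comap_map_eq_self_of_injective H.subtype_injective]
  exact CfsgLib.Solvable.pPrimeCore_normal p

variable (hG : Cfsg.IsMinSimpleOddOrder G)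
include hG

theorem coatom_normalizer_eq {M : Subgroup G} (hM : IsCoatom M) {K : Subgroup G} (hKM : K ≤ M)
    (hMK : M ≤ normalizer (K : Set G)) (hK : K ≠ ⊥) : normalizer (K : Set G) = M := by
  by_contra hne
  have htop := hM.2 _ (lt_of_le_of_ne hMK (Ne.symm hne))
  haveI := hG.2.1
  haveI : K.Normal := normalizer_eq_top_iff.1 htop
  rcases IsSimpleGroup.eq_bot_or_eq_top_of_normal K inferInstance with h | h
  · exact hK h
  · exact hM.1 (top_le_iff.1 (h ▸ hKM))

/-- Puig factorization of a proper subgroup. -/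
theorem factor (hp : p ≠ 2) {H : Subgroup G} (hH : H ≠ ⊤) (S : Sylow p H) :
    H ≤ coreOf p H ⊔ (H ⊓ normalizer (Puig.centerUp ((S : Subgroup H).map H.subtype) : Set G)) := by
  haveI : Group.IsSolvable H := hG.2.2.2 H hH
  have h := Puig.main (hG.1.of_dvd_nat (card_subgroup_dvd_card H)) hp S
  have h' := congrArg (Subgroup.map H.subtype) h
  rw [Subgroup.map_sup, ← MonoidHom.range_eq_map, range_subtype] at h'
  refine h'.ge.trans (sup_le_sup le_rfl (le_inf (map_subtype_le _) ?_))
  refine (le_normalizer_map H.subtype).trans ?_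
  rw [centerUp_map H.subtype_injective]

/-- All `P`-invariant `p'`-subgroups lie in one, under the standing hypothesis. -/
theorem le_coreOf_of_invariant (hp : p ≠ 2) {M : Subgroup G} (hM : IsCoatom M) {E P Y : Subgroup G}
    (hEM : E ≤ M) (hE : Cfsg.IsElementaryAbelian p E)
    (hEmax : ∀ B : Subgroup G, B ≤ M → Cfsg.IsElementaryAbelian p B → E ≤ B → B = E) (hEP : E ≤ P)
    (hinv : ∀ Z : Subgroup G, E ≤ normalizer (Z : Set G) → (Nat.card Z).Coprime p → Z ≤ M)
    (hY : P ≤ normalizer (Y : Set G)) (hYc : (Nat.card Y).Coprime p) : Y ≤ coreOf p M := by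
  have hYM := hinv Y (hEP.trans hY) hYc
  haveI : Group.IsSolvable M := hG.2.2.2 M hM.1
  haveI := hE.1
  have hE' : Cfsg.IsElementaryAbelian p (E.subgroupOf M) := by
    refine ⟨⟨⟨fun u v => Subtype.ext (Subtype.ext ?_)⟩⟩, fun u hu => Subtype.ext ?_⟩
    · exact setLike_mul_comm (s := E) (mem_subgroupOf.1 u.2) (mem_subgroupOf.1 v.2)
    · simpa using hE.2 _ hu
  have h := CfsgLib.OddLocal.Stability.invariant_le_core hp hE' (fun B hB hEB => ?_)
    (L := Y.subgroupOf M) (by rwa [Nat.card_congr (subgroupOfEquivOfLe hYM).toEquiv])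
    (fun u hu => (le_normalizer_comap M.subtype) (hY (hEP hu)))
  · exact (map_subgroupOf_eq_of_le hYM).ge.trans (map_mono h)
  · haveI := hB.1
    have hBe : Cfsg.IsElementaryAbelian p (B.map M.subtype) := by
      refine ⟨Subgroup.map_isMulCommutative B _, ?_⟩
      rintro _ ⟨b, hb, rfl⟩
      exact congrArg Subtype.val (hB.2 b hb)
    have h2 := hEmax _ (map_subtype_le B) hBe ((map_subgroupOf_eq_of_le hEM).ge.trans (map_mono hEB))
    rw [← comap_map_eq_self_of_injective M.subtype_injective B, h2]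
    rfl

omit hG in
/-- A subgroup normalized by a group and of order prime to `p` is generated by invariant
pieces of prime power order. -/
theorem le_of_forall_qgroup {A Y X : Subgroup G} (hA : Group.IsSolvable A) (hn : A ≤ normalizer (Y : Set G))
    (hcop : (Nat.card A).Coprime (Nat.card Y))
    (h : ∀ (q : ℕ) [Fact q.Prime] (Q : Subgroup G), Q ≤ Y → IsPGroup q Q → A ≤ normalizer (Q : Set G) → Q ≤ X) :
    Y ≤ X := by
  have key : ∀ q : Nat.Primes, ∃ S : Sylow (q : ℕ) Y, (S : Subgroup Y).map Y.subtype ≤ X := by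
    intro q
    haveI := Fact.mk q.2
    obtain ⟨S, -, hS⟩ := CfsgLib.CoprimeAct.exists_invariant_sylow_ge hn hcop (Or.inl hA) (q : ℕ)
      (bot_le : (⊥ : Subgroup G) ≤ Y) IsPGroup.of_bot (le_normalizer_of_normal)
    exact ⟨S, h (q : ℕ) _ (map_subtype_le _) (S.2.map _) hS⟩
  choose S hS using key
  have hsup := congrArg (Subgroup.map Y.subtype) (CfsgLib.Solvable.iSup_sylow_eq_top S)
  rw [Subgroup.map_iSup, ← MonoidHom.range_eq_map, range_subtype] at hsup
  exact hsup.ge.trans (iSup_le hS)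

/-- A self-centralizing normal abelian subgroup of rank at least three. -/
theorem exists_scn_three (hp : p ≠ 2) (P : Sylow p G) (hr : ¬ Cfsg.PRankLE p 2 ↥(P : Subgroup G)) :
    ∃ A : Subgroup G, Cfsg.IsSCN (P : Subgroup G) A ∧ ¬ Cfsg.PRankLE p 2 A ∧ IsMulCommutative A := by
  obtain ⟨U, hUn, hUe, hU2, -⟩ := Cfsg.Agent.S1337.result p P.2 hr
  haveI := hUn
  obtain ⟨A, -, hAn, hAc, hA3⟩ := Cfsg.Agent.S1452.result p hp P.2 hr U hUe hU2
  haveI := hAn
  have hcomm : IsMulCommutative A := ⟨⟨fun a b => Subtype.ext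
    (mem_centralizer_iff.1 (hAc.ge b.2) _ a.2)⟩⟩
  refine ⟨A.map (P : Subgroup G).subtype, ⟨map_subtype_le _, ?_, ?_⟩, fun h => hA3 ?_,
    haveI := hcomm; Subgroup.map_isMulCommutative A _⟩
  · rintro x hx
    exact (le_normalizer_map (P : Subgroup G).subtype)
      (mem_map_of_mem _ (le_normalizer_of_normal (H := A) (mem_top (⟨x, hx⟩ : (P : Subgroup G)))))
  · refine le_antisymm ?_ (le_inf (map_subtype_le _) ?_)
    · rintro x ⟨hx, hxc⟩
      refine ⟨⟨x, hx⟩, hAc.le (mem_centralizer_iff.2 fun a ha => Subtype.ext ?_), rfl⟩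
      exact mem_centralizer_iff.1 hxc a (mem_map_of_mem _ ha)
    · rintro _ ⟨a, ha, rfl⟩
      refine mem_centralizer_iff.2 ?_
      rintro _ ⟨b, hb, rfl⟩
      exact congrArg Subtype.val (mem_centralizer_iff.1 (hAc.ge ha) b hb)
  · intro B hB hBe
    set e := A.equivMapOfInjective (P : Subgroup G).subtype (P : Subgroup G).subtype_injective
    haveI := hB
    have h' := h (B.map e.toMonoidHom) (Subgroup.map_isMulCommutative B _) (by
      rintro _ ⟨b, hb, rfl⟩
      rw [← map_pow, hBe b hb, map_one])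
    rwa [card_map_of_injective e.injective] at h'

theorem le_of_sylow_le (hp : p ≠ 2) {M : Subgroup G} (hM : IsCoatom M) (P : Sylow p G)
    (hPM : (P : Subgroup G) ≤ M) (hP1 : (P : Subgroup G) ≠ ⊥)
    (hK : ∀ Y : Subgroup G, (P : Subgroup G) ≤ normalizer (Y : Set G) → (Nat.card Y).Coprime p → Y ≤ coreOf p M)
    (L : Subgroup G) (hL : L ≠ ⊤) (hPL : (P : Subgroup G) ≤ L) : L ≤ M := by
  have hOL : coreOf p L ≤ coreOf p M := hK _ (hPL.trans (le_normalizer_coreOf L)) (coprime_coreOf L)
  set PL : Sylow p L := P.subtype hPL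
  have hPLmap : (PL : Subgroup L).map L.subtype = (P : Subgroup G) := map_subgroupOf_eq_of_le hPL
  rcases eq_or_ne (coreOf p M) ⊥ with hK1 | hK1
  · set Z := Puig.centerUp (P : Subgroup G)
    have hZP : Z ≤ P := inf_le_left.trans (Puig.upIn_le _)
    have hN : normalizer (Z : Set G) ≠ ⊤ :=
      CfsgLib.CN.MinSimple.normalizer_ne_top hG (P.2.to_le hZP).isNilpotent (centerUp_ne_bot P.2 hP1)
    have hPM' : ((P.subtype hPM : Sylow p M) : Subgroup M).map M.subtype = (P : Subgroup G) :=
      map_subgroupOf_eq_of_le hPM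
    have hfM := factor hG hp hM.1 (P.subtype hPM)
    rw [hK1, bot_sup_eq, hPM'] at hfM
    have hfL := factor hG hp hL PL
    have hOL' : coreOf p L = ⊥ := le_bot_iff.1 (hK1 ▸ hOL)
    rw [hOL', bot_sup_eq, hPLmap] at hfL
    rw [← (hM.le_iff.1 (hfM.trans inf_le_right)).resolve_left hN]
    exact hfL.trans inf_le_right
  haveI : Group.IsSolvable L := hG.2.2.2 L hL
  have hLodd : Odd (Nat.card L) := hG.1.of_dvd_nat (card_subgroup_dvd_card L)
  set O := Cfsg.pPrimePCore p L with hO
  set N := Cfsg.pPrimeCore p L with hN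
  haveI hNn : N.Normal := CfsgLib.Solvable.pPrimeCore_normal p
  haveI hOn : O.Normal := (CfsgLib.Solvable.pCore_normal p).comap _
  set R' := (PL : Subgroup L) ⊓ O with hR'
  have hNO : N ≤ O := fun x hx => by
    show QuotientGroup.mk' N x ∈ Cfsg.pCore p (L ⧸ N)
    rw [show QuotientGroup.mk' N x = 1 from (QuotientGroup.eq_one_iff x).2 hx]
    exact one_mem _
  have hidx : ¬ p ∣ (R'.subgroupOf O).index := by
    intro h
    refine PL.not_dvd_index (h.trans ?_)
    have h1 := CfsgLib.Solvable.card_sup_mul_card_inf (A := (PL : Subgroup L)) (K := O) le_normalizer_of_normal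
    have h2 : Nat.card R' * (R'.subgroupOf O).index = Nat.card O := by
      rw [← relIndex, ← relIndex_bot_left, ← relIndex_bot_left, relIndex_mul_relIndex _ _ _ bot_le inf_le_right]
    have h3 : Nat.card ↥((PL : Subgroup L) ⊔ O) = Nat.card (PL : Subgroup L) * (R'.subgroupOf O).index := by
      refine Nat.eq_of_mul_eq_mul_right (Nat.card_pos (α := R')) ?_
      rw [hR', h1, ← hR', ← h2]; ring
    refine Nat.dvd_of_mul_dvd_mul_left (Nat.card_pos (α := (PL : Subgroup L))) ?_
    rw [← h3, card_mul_index]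
    exact card_subgroup_dvd_card _
  have hOeq : O ≤ N ⊔ R' := by
    set D := N ⊔ R'
    have hci : N.relIndex O ∣ Nat.card (Cfsg.pCore p (L ⧸ N)) := by
      have h1 := relIndex_ker (f := QuotientGroup.mk' N) O
      rw [QuotientGroup.ker_mk'] at h1
      rw [h1]
      exact card_dvd_of_le (map_comap_le _ _)
    obtain ⟨i, hi⟩ := IsPGroup.iff_card.1 (CfsgLib.Solvable.isPGroup_pCore (G := L ⧸ N) p)
    rw [hi] at hci
    refine relIndex_eq_one.1 (Nat.eq_one_of_dvd_coprimes (?_ : (p ^ i).Coprime (R'.relIndex O)) ?_ ?_)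
    · exact ((Fact.out : p.Prime).coprime_iff_not_dvd.2 hidx).pow_left i
    · refine dvd_trans ?_ hci
      rw [← relIndex_mul_relIndex N D O le_sup_left (sup_le hNO inf_le_right)]
      exact dvd_mul_left _ _
    · rw [← relIndex_mul_relIndex R' D O le_sup_right (sup_le hNO inf_le_right)]
      exact dvd_mul_left _ _
  have hfr := Sylow.normalizer_sup_eq_top
    ((PL.2.to_le inf_le_left).comap_of_injective O.subtype O.subtype_injective |>.toSylow hidx)
  change normalizer (((R'.subgroupOf O).map O.subtype : Subgroup L) : Set L) ⊔ O = ⊤ at hfr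
  rw [map_subgroupOf_eq_of_le inf_le_right] at hfr
  set R := R'.map L.subtype with hRdef
  have hRP : R ≤ P := (map_mono inf_le_left).trans hPLmap.le
  have hRY : ∀ Y : Subgroup G, R ≤ normalizer (Y : Set G) → (Nat.card Y).Coprime p → Y ≤ coreOf p M := by
    by_cases hrk : Cfsg.PRankLE p 2 ↥(P : Subgroup G)
    · intro Y hY hYc
      refine hK Y (le_trans ?_ hY) hYc
      have hrL : Cfsg.PRankLE p 2 L := by
        intro A hA hAe
        have hAp : IsPGroup p A := fun a => ⟨1, Subtype.ext (by simpa using hAe a a.2)⟩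
        obtain ⟨S, hS⟩ := hAp.exists_le_sylow
        obtain ⟨g, rfl⟩ := MulAction.exists_smul_eq L PL S
        haveI := hA
        set f : A →* (P : Subgroup G) :=
          { toFun := fun a => ⟨((g⁻¹ * a * g : L) : G), by
              have h := hS a.2
              rw [Sylow.coe_subgroup_smul, mem_pointwise_smul_iff_inv_smul_mem] at h
              simpa [MulAut.smul_def, PL, mem_subgroupOf] using h⟩
            map_one' := by ext; simp
            map_mul' := fun a b => by ext; simp [mul_assoc] } with hf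
        have hinj : Function.Injective f := fun a b h => by
          have h' := congrArg (fun w : (P : Subgroup G) => (w : G)) h
          exact Subtype.ext (Subtype.ext (by simpa [hf, mul_assoc] using h'))
        refine le_of_eq_of_le ?_ (hrk f.range ⟨⟨?_⟩⟩ ?_)
        · exact (Nat.card_range_of_injective hinj).symm
        · rintro ⟨_, a, rfl⟩ ⟨_, b, rfl⟩
          exact Subtype.ext (by
            show f a * f b = f b * f a
            rw [← map_mul, ← map_mul, hA.is_comm.comm a b])
        · rintro _ ⟨a, rfl⟩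
          rw [← map_pow, show a ^ p = 1 from Subtype.ext (by simpa using hAe a a.2), map_one]
      have hpL : p ∣ Nat.card L := by
        obtain ⟨k, hk⟩ := IsPGroup.iff_card.1 P.2
        refine dvd_trans ?_ (card_dvd_of_le hPL)
        rw [hk]
        exact dvd_pow_self p (fun h => hP1 (eq_bot_of_card_eq _ (by rw [hk, h, pow_zero])))
      have hcop := (Cfsg.Agent.S1450.result hLodd p hpL hrL).2.2.2.2.2
      refine hPLmap.ge.trans (map_mono (le_inf le_rfl (relIndex_eq_one.1 ?_)))
      obtain ⟨j, hj⟩ := PL.2.index (O.subgroupOf (PL : Subgroup L))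
      exact Nat.eq_one_of_dvd_coprimes (hcop.pow_right j)
        (relIndex_dvd_index_of_normal O (PL : Subgroup L)) hj.dvd
    · obtain ⟨A, hA, hA3, hAc⟩ := exists_scn_three hG hp P hrk
      have hAL : A ≤ L := hA.1.trans hPL
      have hAR : A ≤ R := by
        have h := CfsgLib.OddLocal.Stability.abelian_normal_le_pPrimePCore hLodd PL
          (A := A.subgroupOf L) (fun x hx => (hA.1 hx : (x : G) ∈ (P : Subgroup G)))
          (haveI := hAc; ⟨⟨fun a b => Subtype.ext (Subtype.ext
            (setLike_mul_comm (s := A) (mem_subgroupOf.1 a.2) (mem_subgroupOf.1 b.2)))⟩⟩)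
          (fun x hx => (le_normalizer_comap L.subtype) (hA.2.1 hx))
        exact (map_subgroupOf_eq_of_le hAL).ge.trans
          (map_mono (le_inf (fun x hx => (hA.1 hx : (x : G) ∈ (P : Subgroup G))) h))
      intro Y hY hYc
      have hAY : A ≤ normalizer (Y : Set G) := hAR.trans hY
      have hAp : IsPGroup p A := P.2.to_le hA.1
      obtain ⟨a, ha⟩ := IsPGroup.iff_card.1 hAp
      have ha0 : a ≠ 0 := by
        rintro rfl
        refine hA3 fun B _ _ => ?_
        calc Nat.card B ≤ Nat.card A := card_le_card_group B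
          _ ≤ p ^ 2 := by rw [ha, pow_zero]; exact Nat.one_le_pow _ _ (Fact.out : p.Prime).pos
      have hA1 : ¬ Cfsg.PRankLE p 1 A := fun h => hA3 fun B h1 h2 =>
        (h B h1 h2).trans (Nat.pow_le_pow_right (Fact.out : p.Prime).pos (by norm_num))
      have hTH := Cfsg.Agent.S1396.result hG p
        ((dvd_pow_self p ha0).trans (ha ▸ A.card_subgroup_dvd_card)) A hAp hAc (Or.inr ⟨P, hA, hA1⟩)
      have hZA : ¬ Cfsg.RankLE 2 ↥(A ⊓ centralizer (A : Set G)) := fun h => hA3 (by
        have hAeq : A ⊓ centralizer (A : Set G) = A := inf_eq_left.2 fun x hx =>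
          mem_centralizer_iff.2 fun y hy => congrArg Subtype.val (hAc.is_comm.comm ⟨y, hy⟩ ⟨x, hx⟩)
        rw [hAeq] at h
        exact h p Fact.out)
      refine le_of_forall_qgroup (haveI := hAp.isNilpotent; inferInstance) hAY
        (ha ▸ hYc.symm.pow_left a) fun q _ Q hQY hQ hAQ => ?_
      by_cases hqp : q = p
      · subst hqp
        obtain ⟨k, hk⟩ := IsPGroup.iff_card.1 hQ
        have : Nat.card Q = 1 := Nat.eq_one_of_dvd_coprimes (hYc.pow_right k) (card_dvd_of_le hQY) hk.dvd
        rw [eq_bot_of_card_eq _ this]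
        exact bot_le
      have hqA : ¬ q ∣ Nat.card A := fun h => hqp
        ((Nat.prime_dvd_prime_iff_eq Fact.out Fact.out).1 ((Fact.out : q.Prime).dvd_of_dvd_pow (ha ▸ h)))
      have hPne : (P : Subgroup G) ≠ ⊤ := CfsgLib.CN.MinSimple.ne_top hG P.2.isNilpotent
      have hPπ : ∀ r : ℕ, r.Prime → r ∣ Nat.card (P : Subgroup G) → r ∣ Nat.card A := fun r hr hrd => by
        obtain ⟨b, hb⟩ := IsPGroup.iff_card.1 P.2
        rw [(Nat.prime_dvd_prime_iff_eq hr Fact.out).1 (hr.dvd_of_dvd_pow (hb ▸ hrd)), ha]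
        exact dvd_pow_self p ha0
      have htr : ∀ Q₁ ∈ maxInvSubgroups ⊤ A {q}, ∀ Q₂ ∈ maxInvSubgroups ⊤ A {q}, TH.Rel A Q₁ Q₂ :=
        fun Q₁ h₁ Q₂ h₂ => TH.rel_of_rankThree hG hTH hqA hZA h₁ h₂
      obtain ⟨-, -, hsub, -⟩ := Cfsg.Agent.S1395.result hG A hTH q Fact.out hqA (P : Subgroup G) hPne hPπ hA.1
        ((normal_subgroupOf_iff_le_normalizer hA.1).2 hA.2.1).isSubnormal htr
      obtain ⟨Q₀, -, hQ₀⟩ := TH.exists_max_ge (q := q) (X := (P : Subgroup G)) (IsPGroup.of_bot (p := q))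
        le_normalizer_of_normal
      obtain ⟨Q₁, hQQ₁, hQ₁⟩ := TH.exists_max_ge hQ hAQ
      obtain ⟨k, hk, hk'⟩ := htr Q₀ (hsub hQ₀) Q₁ hQ₁
      obtain ⟨j, hj⟩ := IsPGroup.iff_card.1 (TH.isPGroup_of_mem hQ₀.1)
      have hQ₀K : Q₀ ≤ coreOf p M := hK Q₀ hQ₀.1.2.2
        (hj ▸ ((Nat.coprime_primes Fact.out Fact.out).2 hqp).pow_left j)
      have hKA : TH.K A ≤ coreOf p M := by
        refine hK _ (TH.normalizer_le_normalizer_core
          (hA.2.1.trans (TH.normalizer_le_normalizer_centralizer A))) ?_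
        exact (TH.coprime_of_primes (A := A) (n := p) (fun r hr hrp => by
          rw [ha, (Nat.prime_dvd_prime_iff_eq hr Fact.out).1 hrp]; exact dvd_pow_self p ha0)
          (TH.core_primes _)).symm
      refine hQQ₁.trans ?_
      rw [hk']
      rintro _ ⟨x, hx, rfl⟩
      exact mul_mem (mul_mem (hKA hk) (hQ₀K hx)) (inv_mem (hKA hk))
  have hNK : normalizer (R : Set G) ≤ M := by
    intro g hg
    rw [← coatom_normalizer_eq hG hM (coreOf_le M) (le_normalizer_coreOf M) hK1]
    refine mem_normalizer_of_map_le (hRY _ ?_ ?_)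
    · rw [← conj_map_eq_of_mem hg]
      exact (map_mono ((hRP.trans hPM).trans (le_normalizer_coreOf M))).trans (le_normalizer_map _)
    · rw [card_map_of_injective (f := (MulAut.conj g).toMonoidHom) (MulAut.conj g).injective]
      exact coprime_coreOf M
  have h' := congrArg (Subgroup.map L.subtype) hfr
  rw [Subgroup.map_sup, ← MonoidHom.range_eq_map, range_subtype] at h'
  refine h'.ge.trans (sup_le ((le_normalizer_map L.subtype).trans hNK) ?_)
  refine (map_mono hOeq).trans ?_
  rw [Subgroup.map_sup]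
  exact sup_le (hOL.trans (coreOf_le M)) (hRP.trans hPM)

/-- The uniqueness criterion. -/
theorem unique_of_invariant {M B : Subgroup G} (hM : IsCoatom M) (hBM : B ≤ M)
    (hB : Cfsg.IsElementaryAbelian p B) (hB1 : B ≠ ⊥)
    (hinv : ∀ Y : Subgroup G, B ≤ normalizer (Y : Set G) → (Nat.card Y).Coprime p → Y ≤ M) :
    Cfsg.InUniqueMaximal B := by
  have hBp : IsPGroup p B := CfsgLib.Signalizer.isPGroup hB
  have hpG : p ∣ Nat.card G := by
    obtain ⟨k, hk⟩ := IsPGroup.iff_card.1 hBp
    refine dvd_trans ?_ B.card_subgroup_dvd_card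
    rw [hk]
    exact dvd_pow_self p (fun h => hB1 (eq_bot_of_card_eq _ (by rw [hk, h, pow_zero])))
  have hp : p ≠ 2 := CfsgLib.CN.MinSimple.p_ne_two hG hpG
  obtain ⟨E, hBE, ⟨hEM, hE⟩, hEmax'⟩ := exists_maximal_ge_of_wellFoundedGT
    (fun E : Subgroup G => E ≤ M ∧ Cfsg.IsElementaryAbelian p E) B ⟨hBM, hB⟩
  have hEmax : ∀ C : Subgroup G, C ≤ M → Cfsg.IsElementaryAbelian p C → E ≤ C → C = E :=
    fun C h1 h2 h3 => le_antisymm (hEmax' ⟨h1, h2⟩ h3) h3
  obtain ⟨P0, hP0⟩ := ((CfsgLib.Signalizer.isPGroup hE).comap_subtype (K := M)).exists_le_sylow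
  set P' := (P0 : Subgroup M).map M.subtype with hP'
  have hP'M : P' ≤ M := map_subtype_le _
  have hP'p : IsPGroup p P' := P0.2.map _
  have hEP : E ≤ P' := (map_subgroupOf_eq_of_le hEM).ge.trans (map_mono hP0)
  have hP'1 : P' ≠ ⊥ := ne_bot_of_le_ne_bot hB1 (hBE.trans hEP)
  have hP'max : ∀ V : Subgroup G, IsPGroup p V → V ≤ M → P' ≤ V → V = P' := by
    intro V hV hVM hle
    have h := P0.is_maximal' (hV.comap_subtype (K := M)) fun x hx => hle (mem_map_of_mem M.subtype hx)
    rw [← map_subgroupOf_eq_of_le hVM, hP', ← h]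
    rfl
  have hK : ∀ Y : Subgroup G, P' ≤ normalizer (Y : Set G) → (Nat.card Y).Coprime p → Y ≤ coreOf p M :=
    fun Y h1 h2 => le_coreOf_of_invariant hG hp hM hEM hE hEmax hEP
      (fun Z hZ hZc => hinv Z (hBE.trans hZ) hZc) h1 h2
  have hNP : normalizer (P' : Set G) ≤ M := by
    rcases eq_or_ne (coreOf p M) ⊥ with hK1 | hK1
    · have hfM := factor hG hp hM.1 P0
      rw [hK1, bot_sup_eq] at hfM
      have hN : normalizer (Puig.centerUp P' : Set G) ≠ ⊤ :=
        CfsgLib.CN.MinSimple.normalizer_ne_top hG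
          (hP'p.to_le (inf_le_left.trans (Puig.upIn_le _))).isNilpotent (centerUp_ne_bot hP'p hP'1)
      rw [← (hM.le_iff.1 (hfM.trans inf_le_right)).resolve_left hN]
      exact Puig.normalizer_le_centerUp
    · intro g hg
      rw [← coatom_normalizer_eq hG hM (coreOf_le M) (le_normalizer_coreOf M) hK1]
      refine mem_normalizer_of_map_le (hK _ ?_ ?_)
      · rw [← conj_map_eq_of_mem hg]
        exact (map_mono (hP'M.trans (le_normalizer_coreOf M))).trans (le_normalizer_map _)
      · rw [card_map_of_injective (f := (MulAut.conj g).toMonoidHom) (MulAut.conj g).injective]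
        exact coprime_coreOf M
  obtain ⟨P, hP⟩ := hP'p.exists_le_sylow
  have hPeq : (P : Subgroup G) = P' := by
    by_contra hne
    have hlt := CfsgLib.Fusion.lt_inf_normalizer P.2 (lt_of_le_of_ne hP (Ne.symm hne))
    exact hlt.ne' (hP'max _ (P.2.to_le inf_le_left) (inf_le_right.trans hNP) hlt.le)
  have hover : ∀ L : Subgroup G, L ≠ ⊤ → P' ≤ L → L ≤ M := fun L h1 h2 =>
    le_of_sylow_le hG hp hM P (hPeq ▸ hP'M) (hPeq ▸ hP'1) (fun Y => hPeq ▸ hK Y) L h1 (hPeq ▸ h2)
  refine ⟨M, ⟨hM, hBM⟩, ?_⟩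
  rintro H₀ ⟨hH₀, hBH₀⟩
  by_contra hne₀
  obtain ⟨S, hBS, ⟨hSp, hSM, H, hH, hne, hSH⟩, hSmax'⟩ := exists_maximal_ge_of_wellFoundedGT
    (fun S : Subgroup G => IsPGroup p S ∧ S ≤ M ∧ ∃ H : Subgroup G, IsCoatom H ∧ H ≠ M ∧ S ≤ H) B
    ⟨hBp, hBM, H₀, hH₀, hne₀, hBH₀⟩
  have hSmax : ∀ (T : Subgroup G) (L : Subgroup G), IsPGroup p T → T ≤ M → IsCoatom L → T ≤ L → S < T → L = M := by
    intro T L hT hTM hL hTL hlt
    by_contra hLM
    exact hlt.not_ge (hSmax' ⟨hT, hTM, L, hL, hLM, hTL⟩ hlt.le)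
  obtain ⟨T0, hT0⟩ := (hSp.comap_subtype (K := M)).exists_le_sylow
  set T := (T0 : Subgroup M).map M.subtype with hT
  have hST : S ≤ T := (map_subgroupOf_eq_of_le hSM).ge.trans (map_mono hT0)
  rcases hST.eq_or_lt with heq | hlt
  · obtain ⟨m, hm⟩ := MulAction.exists_smul_eq M P0 T0
    set ψ := (MulAut.conj ((m : G)⁻¹)).toMonoidHom with hψ
    have hle : P' ≤ H.map ψ := by
      rintro _ ⟨x, hx, rfl⟩
      refine ⟨(m : G) * x * (m : G)⁻¹, hSH (heq.ge ?_), by simp [hψ, mul_assoc]⟩
      refine ⟨MulAut.conj m x, ?_, by simp⟩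
      rw [← hm]
      exact smul_mem_pointwise_smul _ _ _ hx
    have htop : H.map ψ ≠ ⊤ := by
      intro h
      refine hH.1 (eq_top_of_card_eq H ?_)
      rw [← card_map_of_injective (f := ψ) (MulAut.conj ((m : G)⁻¹)).injective, h, card_top]
    refine hne ((hH.le_iff.1 (?_ : H ≤ M)).resolve_left hM.1).symm
    intro h hh
    have h1 : (m : G)⁻¹ * h * m ∈ M := hover _ htop hle ⟨h, hh, by simp [hψ]⟩
    simpa [mul_assoc] using mul_mem (mul_mem m.2 h1) (inv_mem m.2)
  have hUlt := CfsgLib.Fusion.lt_inf_normalizer (T0.2.map M.subtype : IsPGroup p T) hlt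
  set U := T ⊓ normalizer (S : Set G)
  have hUp : IsPGroup p U := (T0.2.map M.subtype : IsPGroup p T).to_le inf_le_left
  have hUM : U ≤ M := inf_le_left.trans (map_subtype_le _)
  have hS1 : S ≠ ⊥ := ne_bot_of_le_ne_bot hB1 hBS
  have hinto : ∀ W : Subgroup G, W ≠ ⊤ → U ≤ W → W ≤ M := by
    intro W hW hUW
    obtain ⟨L, hL, hWL⟩ := (eq_top_or_exists_le_coatom W).resolve_left hW
    rw [← hSmax U L hUp hUM hL (hUW.trans hWL) hUlt]
    exact hWL
  have hNS : normalizer (S : Set G) ≤ M :=
    hinto _ (CfsgLib.CN.MinSimple.normalizer_ne_top hG hSp.isNilpotent hS1) inf_le_right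
  obtain ⟨V0, hV0⟩ := (hSp.comap_subtype (K := H)).exists_le_sylow
  have hSV : S = (V0 : Subgroup H).map H.subtype := by
    rcases ((map_subgroupOf_eq_of_le hSH).ge.trans (map_mono hV0) :
      S ≤ (V0 : Subgroup H).map H.subtype).eq_or_lt with h | h
    · exact h
    exfalso
    have hVlt := CfsgLib.Fusion.lt_inf_normalizer (V0.2.map H.subtype) h
    exact hne (hSmax _ H ((V0.2.map H.subtype).to_le inf_le_left) (inf_le_right.trans hNS) hH
      (inf_le_left.trans (map_subtype_le _)) hVlt)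
  have hfH := factor hG hp hH.1 V0
  rw [← hSV] at hfH
  have hNZ : normalizer (Puig.centerUp S : Set G) ≤ M :=
    hinto _ (CfsgLib.CN.MinSimple.normalizer_ne_top hG
      (hSp.to_le (inf_le_left.trans (Puig.upIn_le _))).isNilpotent (centerUp_ne_bot hSp hS1))
      (inf_le_right.trans Puig.normalizer_le_centerUp)
  have hHM : H ≤ M := hfH.trans
    (sup_le (hinv _ ((hBS.trans hSH).trans (le_normalizer_coreOf H)) (coprime_coreOf H)) (inf_le_right.trans hNZ))
  exact hne ((hH.le_iff.1 hHM).resolve_left hM.1).symm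

end CfsgLib.OddLocal.Uniq
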