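import Cfsg.Agent.OddLocal.UniquenessLemma
import Cfsg.Agent.S1399
import Cfsg.Agent.S1453

/-!
Subgroups lying in only one maximal subgroup: basic propagation rules.
-/

set_option autoImplicit false
set_option linter.style.haveILetI false
set_option linter.unusedSectionVars false

namespace CfsgLib.OddLocal.Uniq

open Subgroup Cfsg CfsgLib.OddLocal

universe u

variable {G : Type u} [Group G] [Finite G] {p : ℕ} [Fact p.Prime]

theorem eq_of {L M N : Subgroup G} (h : Cfsg.InUniqueMaximal L) (hM : IsCoatom M) (hLM : L ≤ M)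
    (hN : IsCoatom N) (hLN : L ≤ N) : M = N := by
  obtain ⟨M₀, -, hu⟩ := h
  exact (hu M ⟨hM, hLM⟩).trans (hu N ⟨hN, hLN⟩).symm

theorem le_of_uniq {L M X : Subgroup G} (h : Cfsg.InUniqueMaximal L) (hM : IsCoatom M) (hLM : L ≤ M)
    (hX : X ≠ ⊤) (hLX : L ≤ X) : X ≤ M := by
  obtain ⟨N, hN, hXN⟩ := (eq_top_or_exists_le_coatom X).resolve_left hX
  exact eq_of h hN (hLX.trans hXN) hM hLM ▸ hXN

theorem mono {L K : Subgroup G} (h : Cfsg.InUniqueMaximal L) (hLK : L ≤ K) (hK : K ≠ ⊤) :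
    Cfsg.InUniqueMaximal K := by
  obtain ⟨N, hN, hKN⟩ := (eq_top_or_exists_le_coatom K).resolve_left hK
  exact ⟨N, ⟨hN, hKN⟩, fun N' hN' => eq_of h hN'.1 (hLK.trans hN'.2) hN (hLK.trans hKN)⟩

omit [Finite G] in
theorem coatom_conj {M : Subgroup G} (hM : IsCoatom M) (g : G) :
    IsCoatom (M.map (MulAut.conj g).toMonoidHom) := by
  have h := (OrderIso.isCoatom_iff (MulAut.conj g).mapSubgroup M).2 hM
  simpa [MulEquiv.mapSubgroup] using h

theorem map_conj_inv (L : Subgroup G) (g : G) :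
    (L.map (MulAut.conj g).toMonoidHom).map (MulAut.conj g⁻¹).toMonoidHom = L := by
  rw [TH.map_conj_map_conj, inv_mul_cancel, TH.map_conj_one]

theorem conj {L : Subgroup G} (h : Cfsg.InUniqueMaximal L) (g : G) :
    Cfsg.InUniqueMaximal (L.map (MulAut.conj g).toMonoidHom) := by
  obtain ⟨M, ⟨hM, hLM⟩, hu⟩ := h
  refine ⟨M.map (MulAut.conj g).toMonoidHom, ⟨coatom_conj hM g, map_mono hLM⟩, ?_⟩
  rintro N ⟨hN, hLN⟩
  have h2 := map_mono (f := (MulAut.conj g⁻¹).toMonoidHom) hLN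
  rw [map_conj_inv] at h2
  rw [← hu _ ⟨coatom_conj hN g⁻¹, h2⟩, TH.map_conj_map_conj, mul_inv_cancel, TH.map_conj_one]

omit [Finite G] in
theorem rankLE_mono {H K : Subgroup G} {k : ℕ} (hHK : H ≤ K) (h : Cfsg.PRankLE p k K) :
    Cfsg.PRankLE p k H := by
  intro A hA hAe
  haveI := hA
  have h' := h (A.map (inclusion hHK)) (Subgroup.map_isMulCommutative A _) (by
    rintro _ ⟨a, ha, rfl⟩
    rw [← map_pow, hAe a ha, map_one])
  rwa [card_map_of_injective (inclusion_injective hHK)] at h'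

omit [Finite G] [Fact p.Prime] in
theorem rankLE_elementary {H : Subgroup G} {k : ℕ} (h : Cfsg.PRankLE p k H) {B : Subgroup G} (hBH : B ≤ H)
    (hB : Cfsg.IsElementaryAbelian p B) : Nat.card B ≤ p ^ k := by
  haveI := hB.1
  have h' := h (B.subgroupOf H) ⟨⟨fun a b => Subtype.ext (Subtype.ext
    (setLike_mul_comm (mem_subgroupOf.1 a.2) (mem_subgroupOf.1 b.2)))⟩⟩
    (fun a ha => Subtype.ext (by simpa using hB.2 _ (mem_subgroupOf.1 ha)))
  rwa [Nat.card_congr (subgroupOfEquivOfLe hBH).toEquiv] at h'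

theorem exists_elementary {H : Subgroup G} {k : ℕ} (h : ¬ Cfsg.PRankLE p k H) :
    ∃ E : Subgroup G, E ≤ H ∧ Cfsg.IsElementaryAbelian p E ∧ Nat.card E = p ^ (k + 1) := by
  unfold Cfsg.PRankLE at h
  push Not at h
  obtain ⟨A, hAc, hAe, hAcard⟩ := h
  haveI := hAc
  have hA : Cfsg.IsElementaryAbelian p (A.map H.subtype) := by
    refine ⟨Subgroup.map_isMulCommutative A _, ?_⟩
    rintro _ ⟨a, ha, rfl⟩
    exact congrArg Subtype.val (hAe a ha)
  obtain ⟨n, hn⟩ := IsPGroup.iff_card.1 (CfsgLib.Signalizer.isPGroup hA)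
  have hlt : k + 1 ≤ n := by
    rw [← card_map_of_injective H.subtype_injective, hn] at hAcard
    exact (Nat.pow_lt_pow_iff_right (Fact.out : p.Prime).one_lt).1 hAcard
  obtain ⟨E, hE⟩ := Sylow.exists_subgroup_card_pow_prime (G := A.map H.subtype) p (n := k + 1)
    (hn ▸ pow_dvd_pow p hlt)
  refine ⟨E.map (A.map H.subtype).subtype, (map_subtype_le E).trans (map_subtype_le A),
    CfsgLib.Signalizer.of_le hA (map_subtype_le E), ?_⟩
  rw [card_map_of_injective (Subgroup.subtype_injective _), hE]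

/-- A noncyclic `p`-group, `p` odd, contains an elementary abelian subgroup of order `p²`. -/
theorem exists_sq (hp : p ≠ 2) {H : Subgroup G} (hH : IsPGroup p H) (hnc : ¬ IsCyclic H) :
    ∃ E : Subgroup G, E ≤ H ∧ Cfsg.IsElementaryAbelian p E ∧ Nat.card E = p ^ 2 := by
  refine exists_elementary (k := 1) fun h => hnc ?_
  haveI : Nontrivial H := by
    by_contra hn
    haveI := not_nontrivial_iff_subsingleton.1 hn
    exact hnc inferInstance
  suffices huniq : ∀ x y : H, orderOf x = p → orderOf y = p → y ∈ zpowers x by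
    rcases CfsgLib.UniqueInvol.cyclic_or_quaternion hH huniq with hc | ⟨hp', -⟩
    · exact hc
    · exact absurd hp' hp
  intro x y hx hy
  by_contra hxy
  haveI := hH.isNilpotent
  obtain ⟨z₀, hz₀, hz₀1⟩ := (bot_or_exists_ne_one (center H)).resolve_left
    (Group.IsNilpotent.center_ne_bot (G := H))
  obtain ⟨i, hi⟩ := hH z₀
  obtain ⟨j, hj, hj'⟩ : ∃ j, (z₀ ^ p ^ j ≠ 1) ∧ (z₀ ^ p ^ j) ^ p = 1 := by
    classical
    have hex : ∃ i, z₀ ^ p ^ i = 1 := ⟨i, hi⟩
    have h0 : Nat.find hex ≠ 0 := fun e => hz₀1 (by simpa [e] using Nat.find_spec hex)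
    refine ⟨Nat.find hex - 1, Nat.find_min hex (by omega), ?_⟩
    rw [← pow_mul, ← pow_succ, Nat.sub_add_cancel (Nat.pos_of_ne_zero h0)]
    exact Nat.find_spec hex
  set z := z₀ ^ p ^ j
  have hzc : z ∈ center H := pow_mem hz₀ _
  have hoz : orderOf z = p := orderOf_eq_prime hj' hj
  obtain ⟨w, hw, hwz⟩ : ∃ w : H, orderOf w = p ∧ zpowers w ≠ zpowers z := by
    by_contra hcon
    push Not at hcon
    exact hxy ((hcon y hy).trans (hcon x hx).symm ▸ mem_zpowers y)
  have hwz' : w ∉ zpowers z := fun hm => hwz (eq_of_le_of_card_ge (zpowers_le.2 hm)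
    (by rw [Nat.card_zpowers, Nat.card_zpowers, hw, hoz]))
  have hsup : Cfsg.IsElementaryAbelian p (zpowers z ⊔ zpowers w : Subgroup H) :=
    CfsgLib.Thompson.elab_sup (CfsgLib.Thompson.elab_zpowers hj')
      (CfsgLib.Thompson.elab_zpowers (by rw [← hw, pow_orderOf_eq_one]))
      fun e he => mem_centralizer_iff.2 fun f hf => by
        obtain ⟨i, rfl⟩ := hf
        obtain ⟨l, rfl⟩ := he
        exact ((show Commute w z from mem_center_iff.1 hzc w).zpow_zpow i l).eq
  have hle := h _ hsup.1 hsup.2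
  have hlt := CfsgLib.Solvable.card_lt_of_lt (show zpowers z < zpowers z ⊔ zpowers w from
    left_lt_sup.2 fun hle' => hwz' (zpowers_le.1 hle'))
  rw [Nat.card_zpowers, hoz] at hlt
  simp at hle
  omega

/-- A subgroup of rank at least two centralizing a member of the uniqueness family is one. -/
theorem of_centralize (hG : Cfsg.IsMinSimpleOddOrder G) {L X : Subgroup G} (hL : Cfsg.InUniqueMaximal L)
    (hX : X ≤ centralizer (L : Set G)) (hXe : Cfsg.IsElementaryAbelian p X) (hX2 : p ^ 2 ≤ Nat.card X) :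
    Cfsg.InUniqueMaximal X := by
  refine Cfsg.Agent.S1399.result hG L X hL hX fun h => ?_
  have h1 := rankLE_elementary (h p Fact.out) le_rfl hXe
  have h2 := Nat.pow_lt_pow_right (Fact.out : p.Prime).one_lt (show 1 < 2 by norm_num)
  omega

theorem centralizer_ne_top (hG : Cfsg.IsMinSimpleOddOrder G) {X : Subgroup G} (hX : X ≠ ⊥) :
    centralizer (X : Set G) ≠ ⊤ := fun h => by
  obtain ⟨x, hx, hx1⟩ := (bot_or_exists_ne_one X).resolve_left hX
  refine CfsgLib.CN.MinSimple.normalizer_ne_top hG (CfsgLib.CN.nilpotent_zpowers x)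
    (fun e => hx1 (zpowers_eq_bot.1 e)) (top_unique fun g _ => centralizer_le_normalizer _ ?_)
  refine mem_centralizer_iff.2 fun z hz => ?_
  obtain ⟨i, rfl⟩ := mem_zpowers_iff.1 hz
  have hg : x * g = g * x := mem_centralizer_iff.1 (h.ge (mem_top g)) x hx
  exact ((show Commute x g from hg).zpow_left i).eq

theorem centralizer_singleton_ne_top (hG : Cfsg.IsMinSimpleOddOrder G) {x : G} (hx : x ≠ 1) :
    centralizer ({x} : Set G) ≠ ⊤ := fun h => by
  refine centralizer_ne_top hG (X := zpowers x) (fun e => hx (zpowers_eq_bot.1 e)) (top_unique ?_)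
  rw [← h]
  intro g hg
  refine mem_centralizer_iff.2 fun z hz => ?_
  obtain ⟨i, rfl⟩ := mem_zpowers_iff.1 hz
  exact ((show Commute g x from mem_centralizer_singleton_iff.1 hg).symm.zpow_left i).eq

/-- Members of the uniqueness family spread to all noncyclic subgroups of large centralizer rank. -/
theorem connect (hG : Cfsg.IsMinSimpleOddOrder G) {A B : Subgroup G} (hAp : IsPGroup p A)
    (hA3 : ¬ Cfsg.PRankLE p 2 A) (hAU : Cfsg.InUniqueMaximal A) (hAc : IsMulCommutative A)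
    (hBp : IsPGroup p B) (hBnc : ¬ IsCyclic B) (hB3 : ¬ Cfsg.PRankLE p 2 ↥(centralizer (B : Set G))) :
    Cfsg.InUniqueMaximal B := by
  obtain ⟨A₀, hA₀A, hA₀e, hA₀c⟩ := exists_elementary hA3
  have hpG : p ∣ Nat.card G := by
    refine dvd_trans ?_ A₀.card_subgroup_dvd_card
    rw [hA₀c]
    exact dvd_pow_self p (by norm_num)
  have hp : p ≠ 2 := CfsgLib.CN.MinSimple.p_ne_two hG hpG
  have hsq : p ^ 2 ≤ p ^ 3 := Nat.pow_le_pow_right (Fact.out : p.Prime).pos (by norm_num)
  have hA₀U : Cfsg.InUniqueMaximal A₀ := by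
    refine of_centralize hG hAU (fun a ha => mem_centralizer_iff.2 fun x hx => ?_) hA₀e (hA₀c ▸ hsq)
    haveI := hAc
    exact setLike_mul_comm hx (hA₀A ha)
  obtain ⟨B₀, hB₀B, hB₀e, hB₀c⟩ := exists_sq hp hBp hBnc
  obtain ⟨E, hEC, hEe, hEc⟩ := exists_elementary hB3
  have hEC' : E ≤ centralizer (B₀ : Set G) := hEC.trans (centralizer_le (SetLike.coe_subset_coe.2 hB₀B))
  have hBE : Cfsg.IsElementaryAbelian p (B₀ ⊔ E : Subgroup G) :=
    CfsgLib.Thompson.elab_sup hB₀e hEe (le_centralizer_iff.1 hEC')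
  obtain ⟨P, hP⟩ := (CfsgLib.Signalizer.isPGroup hBE).exists_le_sylow
  obtain ⟨P₀, hP₀⟩ := (CfsgLib.Signalizer.isPGroup hA₀e).exists_le_sylow
  obtain ⟨g, hg⟩ := MulAction.exists_smul_eq G P₀ P
  set X := A₀.map (MulAut.conj g).toMonoidHom
  have hXP : X ≤ P := by
    rintro _ ⟨a, ha, rfl⟩
    rw [← hg, Sylow.coe_subgroup_smul]
    exact smul_mem_pointwise_smul _ _ _ (hP₀ ha)
  have hXe : Cfsg.IsElementaryAbelian p X := by
    haveI := hA₀e.1
    refine ⟨Subgroup.map_isMulCommutative A₀ _, ?_⟩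
    rintro _ ⟨a, ha, rfl⟩
    rw [← map_pow, hA₀e.2 a ha, map_one]
  have hXc : Nat.card X = p ^ 3 := by
    rw [card_map_of_injective (f := (MulAut.conj g).toMonoidHom) (MulAut.conj g).injective, hA₀c]
  set P' := (P : Subgroup G)
  have hrkP : ¬ Cfsg.PRankLE p 2 P' := fun h => by
    have h1 := rankLE_elementary h hXP hXe
    rw [hXc] at h1
    exact absurd h1 (not_le.2 (Nat.pow_lt_pow_right (Fact.out : p.Prime).one_lt (by norm_num)))
  obtain ⟨U, -, -, -, hconn⟩ := Cfsg.Agent.S1337.result p P.2 hrkP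
  have hel : ∀ Y : Subgroup G, Cfsg.IsElementaryAbelian p Y → Y ≤ P' →
      Cfsg.IsElementaryAbelian p (Y.subgroupOf P') := fun Y hY hYP => by
    haveI := hY.1
    exact ⟨⟨⟨fun a b => Subtype.ext (Subtype.ext
      (setLike_mul_comm (mem_subgroupOf.1 a.2) (mem_subgroupOf.1 b.2)))⟩⟩,
      fun a ha => Subtype.ext (by simpa using hY.2 _ (mem_subgroupOf.1 ha))⟩
  have hcent : ∀ Y W : Subgroup G, W ≤ centralizer (Y : Set G) → W ≤ P' → Cfsg.IsElementaryAbelian p W →
      Nat.card W = p ^ 3 → Y ≤ P' → ¬ Cfsg.PRankLE p 2 ↥(centralizer (Y.subgroupOf P' : Set P')) := by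
    intro Y W hWY hWP hWe hWc hYP h
    have hW' : W.subgroupOf P' ≤ centralizer (Y.subgroupOf P' : Set P') := fun w hw =>
      mem_centralizer_iff.2 fun y hy => Subtype.ext
        (mem_centralizer_iff.1 (hWY (mem_subgroupOf.1 hw)) _ (mem_subgroupOf.1 hy))
    have h1 := rankLE_elementary h hW' (hel W hWe hWP)
    rw [Nat.card_congr (subgroupOfEquivOfLe hWP).toEquiv, hWc] at h1
    exact absurd h1 (not_le.2 (Nat.pow_lt_pow_right (Fact.out : p.Prime).one_lt (by norm_num)))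
  have hBP : B₀ ≤ P' := le_sup_left.trans hP
  have hp2X : p ^ 2 ≤ Nat.card (X.subgroupOf P') := by
    rw [Nat.card_congr (subgroupOfEquivOfLe hXP).toEquiv, hXc]; exact hsq
  have hp2B : p ^ 2 ≤ Nat.card (B₀.subgroupOf P') := by
    rw [Nat.card_congr (subgroupOfEquivOfLe hBP).toEquiv, hB₀c]
  have hXU := (hconn _ (hel X hXe hXP) hp2X).2 (hcent X X (fun a ha => mem_centralizer_iff.2 fun x hx =>
    CfsgLib.Signalizer.commute hXe hx ha) hXP hXe hXc hXP)
  have hBU := (hconn _ (hel B₀ hB₀e hBP) hp2B).2 (hcent B₀ E hEC' (le_sup_right.trans hP) hEe hEc hBP)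
  have step : ∀ W Y : Subgroup P', Cfsg.IsElementaryAbelian p Y → p ^ 2 ≤ Nat.card Y →
      (∀ a ∈ W, ∀ b ∈ Y, a * b = b * a) →
      Cfsg.InUniqueMaximal (W.map P'.subtype) → Cfsg.InUniqueMaximal (Y.map P'.subtype) := by
    intro W Y hY hY2 hcomm hWU
    refine of_centralize hG hWU ?_ ?_ (by rwa [card_map_of_injective P'.subtype_injective])
    · rintro _ ⟨b, hb, rfl⟩
      refine mem_centralizer_iff.2 ?_
      rintro _ ⟨a, ha, rfl⟩
      exact congrArg Subtype.val (hcomm a ha b hb)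
    · haveI := hY.1
      refine ⟨Subgroup.map_isMulCommutative Y _, ?_⟩
      rintro _ ⟨a, ha, rfl⟩
      rw [← map_pow, hY.2 a ha, map_one]
  have hfwd : ∀ {a b : Subgroup P'}, Relation.ReflTransGen (fun A B : Subgroup P' =>
      Cfsg.IsElementaryAbelian p A ∧ p ^ 2 ≤ Nat.card A ∧ Cfsg.IsElementaryAbelian p B ∧ p ^ 2 ≤ Nat.card B ∧
        ∀ a ∈ A, ∀ b ∈ B, a * b = b * a) a b →
      (Cfsg.InUniqueMaximal (a.map P'.subtype) → Cfsg.InUniqueMaximal (b.map P'.subtype)) ∧
        (Cfsg.InUniqueMaximal (b.map P'.subtype) → Cfsg.InUniqueMaximal (a.map P'.subtype)) := by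
    intro a b h
    induction h with
    | refl => exact ⟨id, id⟩
    | @tail c d _ hcd ih =>
      exact ⟨fun h' => step c d hcd.2.2.1 hcd.2.2.2.1 hcd.2.2.2.2 (ih.1 h'),
        fun h' => ih.2 (step d c hcd.1 hcd.2.1 (fun x hx y hy => (hcd.2.2.2.2 y hy x hx).symm) h')⟩
  have hB₀U : Cfsg.InUniqueMaximal B₀ := by
    rw [← map_subgroupOf_eq_of_le hBP]
    refine (hfwd hBU).2 ((hfwd hXU).1 ?_)
    rw [map_subgroupOf_eq_of_le hXP]
    exact conj hA₀U g
  exact mono hB₀U hB₀B (CfsgLib.CN.MinSimple.ne_top hG hBp.isNilpotent)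

/-- Coprime trick: `w` cannot shift an element by an element it centralizes. -/
theorem eq_one_of_shift {A : Subgroup G} {a w y : G} (ha : a ∈ A)
    (hco : (orderOf w).Coprime (Nat.card A)) (hwa : Commute w a) (h : w * y * w⁻¹ = a * y) : a = 1 := by
  have key : ∀ k : ℕ, w ^ k * y * (w ^ k)⁻¹ = a ^ k * y := by
    intro k
    induction k with
    | zero => simp
    | succ k ih =>
      calc w ^ (k + 1) * y * (w ^ (k + 1))⁻¹ = w * (w ^ k * y * (w ^ k)⁻¹) * w⁻¹ := by
            rw [pow_succ']; simp [mul_assoc]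
        _ = (w * a ^ k * w⁻¹) * (w * y * w⁻¹) := by rw [ih]; simp [mul_assoc]
        _ = a ^ k * (a * y) := by
            rw [h, (hwa.pow_right k).eq, mul_inv_cancel_right]
        _ = a ^ (k + 1) * y := by rw [pow_succ, mul_assoc]
  have h1 := key (orderOf w)
  rw [pow_orderOf_eq_one, one_mul, inv_one, mul_one] at h1
  have h2 : a ^ orderOf w = 1 := by
    have := congrArg (· * y⁻¹) h1
    simpa using this.symm
  exact orderOf_eq_one_iff.1 (Nat.eq_one_of_dvd_coprimes hco (orderOf_dvd_of_pow_eq_one h2)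
    (A.orderOf_dvd_natCard ha))

/-- A coprime element centralizing a self-centralizing subgroup of a nilpotent group centralizes it. -/
theorem centralizes_nilpotent {F A : Subgroup G} (hF : Group.IsNilpotent F) (hAF : A ≤ F)
    (hself : F ⊓ centralizer (A : Set G) ≤ A) {w : G} (hwA : w ∈ centralizer (A : Set G))
    (hwF : w ∈ normalizer (F : Set G)) (hco : (orderOf w).Coprime (Nat.card F)) :
    w ∈ centralizer (F : Set G) := by
  induction hn : F.index + Nat.card F - Nat.card A using Nat.strong_induction_on generalizing A with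
  | _ n ih => ?_
  rcases eq_or_ne A F with rfl | hne
  · exact hwA
  haveI := hF
  have hlt : A.subgroupOf F < ⊤ := lt_top_iff_ne_top.2 fun h => hne (le_antisymm hAF (subgroupOf_eq_top.1 h))
  have hN := Group.normalizerCondition_of_isNilpotent (A.subgroupOf F) hlt
  obtain ⟨y, hyN, hyA⟩ := SetLike.exists_of_lt hN
  have hyA' : (y : G) ∉ A := fun h => hyA (mem_subgroupOf.2 h)
  have hyN' : (y : G) ∈ normalizer (A : Set G) := by
    refine mem_normalizer_iff.2 fun x => ⟨fun hx => ?_, fun hx => ?_⟩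
    · simpa [mem_subgroupOf] using (mem_normalizer_iff.1 hyN ⟨x, hAF hx⟩).1 hx
    · have hxF : x ∈ F := by simpa [mul_assoc] using mul_mem (mul_mem (inv_mem y.2) (hAF hx)) y.2
      simpa [mem_subgroupOf] using
        (mem_normalizer_iff.1 hyN ⟨x, hxF⟩).2 (by simpa [mem_subgroupOf] using hx)
  set N := F ⊓ normalizer (A : Set G)
  have hAN : A ≤ N := le_inf hAF le_normalizer
  have hwN : w ∈ centralizer (N : Set G) := by
    refine mem_centralizer_iff.2 fun x hx => ?_
    obtain ⟨hxF, hxn⟩ := mem_inf.1 hx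
    have ha : w * x * w⁻¹ * x⁻¹ ∈ A := by
      refine hself (mem_inf.2 ⟨mul_mem ((mem_normalizer_iff.1 hwF x).1 hxF) (inv_mem hxF), mem_centralizer_iff.2 fun a ha => ?_⟩)
      have hxa : x⁻¹ * a * x ∈ A := (mem_normalizer_iff''.1 hxn a).1 ha
      have hw1 : Commute w a := (mem_centralizer_iff.1 hwA a ha).symm
      have hw2 : Commute w (x⁻¹ * a * x) := (mem_centralizer_iff.1 hwA _ hxa).symm
      calc a * (w * x * w⁻¹ * x⁻¹) = w * x * ((x⁻¹ * a * x) * w⁻¹) * x⁻¹ := by
            rw [← mul_assoc, ← mul_assoc, ← mul_assoc, ← hw1.eq]; group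
        _ = w * x * (w⁻¹ * (x⁻¹ * a * x)) * x⁻¹ := by rw [hw2.inv_left.eq]
        _ = (w * x * w⁻¹ * x⁻¹) * a := by group
    have h1 := eq_one_of_shift (y := x) ha (hco.coprime_dvd_right (card_dvd_of_le hAF))
      (mem_centralizer_iff.1 hwA _ ha).symm (by simp [mul_assoc])
    exact (mul_inv_eq_iff_eq_mul.1 (mul_inv_eq_one.1 h1)).symm
  refine ih _ ?_ (A := N) inf_le_left (le_trans ?_ (hself.trans hAN)) hwN rfl
  · have hlt2 : A < N := lt_of_le_of_ne hAN fun h => hyA' (h.ge ⟨y.2, hyN'⟩)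
    have h1 := CfsgLib.Solvable.card_lt_of_lt hlt2
    have h2 : Nat.card N ≤ Nat.card F := card_le_of_le inf_le_left
    omega
  · exact inf_le_inf_left _ (centralizer_le hAN)

omit [Finite G] in
theorem subnormal_of_nilpotent {N : Type*} [Group N] [Finite N] [Group.IsNilpotent N] (A : Subgroup N) :
    A.IsSubnormal := by
  induction hn : A.index using Nat.strong_induction_on generalizing A with
  | _ n ih => ?_
  rcases eq_or_ne A ⊤ with rfl | hne
  · exact IsSubnormal.top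
  have hlt := Group.normalizerCondition_of_isNilpotent A (lt_top_iff_ne_top.2 hne)
  refine IsSubnormal.step A (normalizer (A : Set N)) le_normalizer (ih _ ?_ _ rfl)
    ((normal_subgroupOf_iff_le_normalizer le_normalizer).2 le_rfl)
  rw [← hn]
  exact index_strictAnti hlt

variable (hG : Cfsg.IsMinSimpleOddOrder G)
include hG

/-- A `p`-subgroup lies in only one maximal subgroup if the `p'`-cores above it do. -/
theorem unique_of_core_le (hp : p ≠ 2) {M B : Subgroup G} (hM : IsCoatom M) (P : Sylow p G)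
    (hPM : (P : Subgroup G) ≤ M) (hover : ∀ L : Subgroup G, L ≠ ⊤ → (P : Subgroup G) ≤ L → L ≤ M)
    (hBp : IsPGroup p B) (hB1 : B ≠ ⊥) (hBM : B ≤ M)
    (hcore : ∀ H : Subgroup G, IsCoatom H → B ≤ H → coreOf p H ≤ M) : Cfsg.InUniqueMaximal B := by
  refine ⟨M, ⟨hM, hBM⟩, ?_⟩
  rintro H₀ ⟨hH₀, hBH₀⟩
  by_contra hne₀
  obtain ⟨S, hBS, ⟨hSp, hSM, H, hH, hne, hSH⟩, hSmax'⟩ := exists_maximal_ge_of_wellFoundedGT
    (fun S : Subgroup G => IsPGroup p S ∧ S ≤ M ∧ ∃ H : Subgroup G, IsCoatom H ∧ H ≠ M ∧ S ≤ H) B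
    ⟨hBp, hBM, H₀, hH₀, hne₀, hBH₀⟩
  have hSmax : ∀ (T : Subgroup G) (L : Subgroup G), IsPGroup p T → T ≤ M → IsCoatom L → T ≤ L → S < T → L = M := by
    intro T L hT hTM hL hTL hlt
    by_contra hLM
    exact hlt.not_ge (hSmax' ⟨hT, hTM, L, hL, hLM, hTL⟩ hlt.le)
  obtain ⟨T0, hT0⟩ := (hSp.comap_subtype (K := M)).exists_le_sylow
  set T := (T0 : Subgroup M).map M.subtype with hT
  have hST : S ≤ T := (map_subgroupOf_eq_of_le hSM).ge.trans (map_mono hT0)
  rcases hST.eq_or_lt with heq | hlt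
  · obtain ⟨m, hm⟩ := MulAction.exists_smul_eq M (P.subtype hPM) T0
    set ψ := (MulAut.conj ((m : G)⁻¹)).toMonoidHom with hψ
    have hle : (P : Subgroup G) ≤ H.map ψ := by
      intro x hx
      refine ⟨(m : G) * x * (m : G)⁻¹, hSH (heq.ge ?_), by simp [hψ, mul_assoc]⟩
      refine ⟨MulAut.conj m ⟨x, hPM hx⟩, ?_, by simp⟩
      rw [← hm]
      exact smul_mem_pointwise_smul _ _ _ (show (⟨x, hPM hx⟩ : M) ∈ ((P.subtype hPM : Sylow p M) : Subgroup M) from hx)
    refine hne ((hH.le_iff.1 (?_ : H ≤ M)).resolve_left hM.1).symm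
    intro h hh
    have h1 : (m : G)⁻¹ * h * m ∈ M := hover _ (coatom_conj hH _).1 hle ⟨h, hh, by simp [hψ]⟩
    simpa [mul_assoc] using mul_mem (mul_mem m.2 h1) (inv_mem m.2)
  have hUlt := CfsgLib.Fusion.lt_inf_normalizer (T0.2.map M.subtype : IsPGroup p T) hlt
  set U := T ⊓ normalizer (S : Set G)
  have hUp : IsPGroup p U := (T0.2.map M.subtype : IsPGroup p T).to_le inf_le_left
  have hUM : U ≤ M := inf_le_left.trans (map_subtype_le _)
  have hS1 : S ≠ ⊥ := ne_bot_of_le_ne_bot hB1 hBS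
  have hinto : ∀ W : Subgroup G, W ≠ ⊤ → U ≤ W → W ≤ M := by
    intro W hW hUW
    obtain ⟨L, hL, hWL⟩ := (eq_top_or_exists_le_coatom W).resolve_left hW
    rw [← hSmax U L hUp hUM hL (hUW.trans hWL) hUlt]
    exact hWL
  have hNS : normalizer (S : Set G) ≤ M :=
    hinto _ (CfsgLib.CN.MinSimple.normalizer_ne_top hG hSp.isNilpotent hS1) inf_le_right
  obtain ⟨V0, hV0⟩ := (hSp.comap_subtype (K := H)).exists_le_sylow
  have hSV : S = (V0 : Subgroup H).map H.subtype := by
    rcases ((map_subgroupOf_eq_of_le hSH).ge.trans (map_mono hV0) :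
      S ≤ (V0 : Subgroup H).map H.subtype).eq_or_lt with h | h
    · exact h
    exfalso
    have hVlt := CfsgLib.Fusion.lt_inf_normalizer (V0.2.map H.subtype) h
    exact hne (hSmax _ H ((V0.2.map H.subtype).to_le inf_le_left) (inf_le_right.trans hNS) hH
      (inf_le_left.trans (map_subtype_le _)) hVlt)
  have hfH := factor hG hp hH.1 V0
  rw [← hSV] at hfH
  have hNZ : normalizer (Puig.centerUp S : Set G) ≤ M :=
    hinto _ (CfsgLib.CN.MinSimple.normalizer_ne_top hG
      (hSp.to_le (inf_le_left.trans (Puig.upIn_le _))).isNilpotent (centerUp_ne_bot hSp hS1))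
      (inf_le_right.trans Puig.normalizer_le_centerUp)
  have hHM : H ≤ M := hfH.trans (sup_le (hcore H hH (hBS.trans hSH)) (inf_le_right.trans hNZ))
  exact hne ((hH.le_iff.1 hHM).resolve_left hM.1).symm

end CfsgLib.OddLocal.Uniq
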