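import Cfsg.Agent.OddLocal.Bender

/-!
The first uniqueness theorem, when the Fitting subgroup is a `p`-group, and its consequence for
maximal subgroups whose Fitting subgroup has `p`-rank at least three.
-/

set_option autoImplicit false
set_option linter.style.haveILetI false
set_option linter.unusedSectionVars false

namespace CfsgLib.OddLocal.UniqFirst

open Subgroup Cfsg CfsgLib.OddLocal

universe u

variable {G : Type u} [Group G] [Finite G] {p : ℕ} [Fact p.Prime] (hG : Cfsg.IsMinSimpleOddOrder G)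
  {M : Subgroup G} (hM : IsCoatom M) (hF : IsPGroup p ↥(fittingOf M)) (hF1 : fittingOf M ≠ ⊥)
include hG hM hF hF1

omit hF1 in
theorem core_eq_bot : Uniq.coreOf p M = ⊥ := by
  haveI : Group.IsSolvable M := hG.2.2.2 M hM.1
  refine le_bot_iff.1 fun x hx => mem_bot.2 ?_
  have hcent : x ∈ centralizer (fittingOf M : Set G) := by
    refine mem_centralizer_iff.2 fun y hy => ?_
    have h1 : y * x * y⁻¹ * x⁻¹ ∈ Uniq.coreOf p M := mul_mem
      ((mem_normalizer_iff.1 (Uniq.le_normalizer_coreOf M (Bender.fitting_le M hy)) x).1 hx) (inv_mem hx)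
    have h2 : y * x * y⁻¹ * x⁻¹ ∈ fittingOf M := by
      rw [mul_assoc y, mul_assoc y]
      exact mul_mem hy ((mem_normalizer_iff.1 (Bender.le_normalizer_fitting M (Uniq.coreOf_le M hx)) _).1 (inv_mem hy))
    exact mul_inv_eq_iff_eq_mul.1 (mul_inv_eq_one.1 (CfsgLib.CharP.eq_one_of_mem_pgroup hF h2
      ((Uniq.coprime_coreOf M).coprime_dvd_left ((Uniq.coreOf p M).orderOf_dvd_natCard h1))))
  exact CfsgLib.CharP.eq_one_of_mem_pgroup hF
    (Bender.centralizer_fitting_le inferInstance (mem_inf.2 ⟨Uniq.coreOf_le M hx, hcent⟩))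
    ((Uniq.coprime_coreOf M).coprime_dvd_left ((Uniq.coreOf p M).orderOf_dvd_natCard hx))

theorem p_ne_two : p ≠ 2 := by
  refine CfsgLib.CN.MinSimple.p_ne_two hG ?_
  obtain ⟨k, hk⟩ := IsPGroup.iff_card.1 hF
  refine dvd_trans ?_ (fittingOf M).card_subgroup_dvd_card
  rw [hk]
  exact dvd_pow_self p fun e => hF1 (eq_bot_of_card_eq _ (by rw [hk, e, pow_zero]))

theorem fitting_le_sylow (P : Sylow p M) : fittingOf M ≤ (P : Subgroup M).map M.subtype :=
  map_mono ((CfsgLib.Solvable.le_pCore p CfsgLib.Solvable.fittingSubgroup_normal (by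
    have h := hF
    rw [fittingOf] at h
    exact h.of_equiv ((Cfsg.fittingSubgroup M).equivMapOfInjective M.subtype M.subtype_injective).symm)).trans
    (CfsgLib.Fitting.pCore_le_sylow P))

theorem normalizer_sylow_le (P : Sylow p M) : normalizer (((P : Subgroup M).map M.subtype : Subgroup G) : Set G) ≤ M := by
  set P' := (P : Subgroup M).map M.subtype
  have hP'1 : P' ≠ ⊥ := ne_bot_of_le_ne_bot hF1 (fitting_le_sylow hG hM hF hF1 P)
  have hP'p : IsPGroup p P' := P.2.map _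
  have hfM := Uniq.factor hG (p_ne_two hG hM hF hF1) hM.1 P
  rw [core_eq_bot hG hM hF, bot_sup_eq] at hfM
  have hN : normalizer (Puig.centerUp P' : Set G) ≠ ⊤ :=
    CfsgLib.CN.MinSimple.normalizer_ne_top hG (hP'p.to_le (inf_le_left.trans (Puig.upIn_le _))).isNilpotent
      (Uniq.centerUp_ne_bot hP'p hP'1)
  rw [← (hM.le_iff.1 (hfM.trans inf_le_right)).resolve_left hN]
  exact Puig.normalizer_le_centerUp

theorem sylow_isSylow (P : Sylow p M) : ∃ S : Sylow p G, (S : Subgroup G) = (P : Subgroup M).map M.subtype := by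
  obtain ⟨S, hS⟩ := (P.2.map M.subtype).exists_le_sylow
  refine ⟨S, ?_⟩
  by_contra hne
  have hlt := CfsgLib.Fusion.lt_inf_normalizer S.2 (lt_of_le_of_ne hS (Ne.symm hne))
  have hle : (S : Subgroup G) ⊓ normalizer (((P : Subgroup M).map M.subtype : Subgroup G) : Set G) ≤ M :=
    inf_le_right.trans (normalizer_sylow_le hG hM hF hF1 P)
  refine hlt.ne' ?_
  rw [← map_subgroupOf_eq_of_le hle]
  exact congrArg (Subgroup.map M.subtype) (P.is_maximal' ((S.2.to_le inf_le_left).comap_subtype (K := M))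
    fun x hx => hlt.le (mem_map_of_mem M.subtype hx))

theorem index_ndvd (P : Sylow p M) : ¬ p ∣ ((P : Subgroup M).map M.subtype).index := by
  obtain ⟨S, hS⟩ := sylow_isSylow hG hM hF hF1 P
  rw [← hS]
  exact S.not_dvd_index

theorem scn_unique (S : Sylow p G) (hSM : (S : Subgroup G) ≤ M) {A : Subgroup G}
    (hA : Cfsg.IsSCN (S : Subgroup G) A) (hA3 : ¬ Cfsg.PRankLE p 2 A) :
    A ≤ fittingOf M ∧ Cfsg.InUniqueMaximal A := by
  have hp := p_ne_two hG hM hF hF1
  haveI hMs : Group.IsSolvable M := hG.2.2.2 M hM.1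
  have hAM : A ≤ M := hA.1.trans hSM
  have hAp : IsPGroup p A := S.2.to_le hA.1
  have hAc : IsMulCommutative A := ⟨⟨fun a b => Subtype.ext
    (mem_centralizer_iff.1 (mem_inf.1 (hA.2.2.ge b.2)).2 a a.2)⟩⟩
  have hAF : A ≤ fittingOf M := by
    haveI := hAc
    have h := CfsgLib.OddLocal.Stability.abelian_normal_le_pPrimePCore (hG.1.of_dvd_nat (card_subgroup_dvd_card M))
      (S.subtype hSM) (A := A.subgroupOf M) (fun x hx => (hA.1 hx : (x : G) ∈ (S : Subgroup G)))
      ⟨⟨fun a b => Subtype.ext (Subtype.ext (setLike_mul_comm (s := A) (mem_subgroupOf.1 a.2) (mem_subgroupOf.1 b.2)))⟩⟩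
      (fun x hx => (le_normalizer_comap M.subtype) (hA.2.1 hx))
    have hO : Cfsg.pPrimeCore p M = ⊥ :=
      (Subgroup.map_eq_bot_iff_of_injective _ M.subtype_injective).1 (core_eq_bot hG hM hF)
    have hle : Cfsg.pPrimePCore p M ≤ Cfsg.pCore p M := by
      haveI : (Cfsg.pPrimeCore p M).Normal := CfsgLib.Solvable.pPrimeCore_normal p
      refine CfsgLib.Solvable.le_pCore p ((CfsgLib.Solvable.pCore_normal p).comap _) ?_
      refine (CfsgLib.Solvable.isPGroup_pCore p).comap_of_ker_isPGroup _ ?_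
      rw [QuotientGroup.ker_mk', hO]
      exact IsPGroup.of_bot
    exact ((map_subgroupOf_eq_of_le hAM).ge.trans (map_mono (h.trans hle))).trans (Bender.qc_le_fitting (s := p) M)
  refine ⟨hAF, ?_⟩
  obtain ⟨a, ha⟩ := IsPGroup.iff_card.1 hAp
  have ha0 : a ≠ 0 := by
    rintro rfl
    refine hA3 fun B _ _ => (card_le_card_group B).trans ?_
    rw [ha, pow_zero]
    exact Nat.one_le_pow _ _ (Fact.out : p.Prime).pos
  have hA1 : ¬ Cfsg.PRankLE p 1 A := fun h => hA3 fun B h1 h2 =>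
    (h B h1 h2).trans (Nat.pow_le_pow_right (Fact.out : p.Prime).pos (by norm_num))
  have hTH := Cfsg.Agent.S1396.result hG p
    ((dvd_pow_self p ha0).trans (ha ▸ A.card_subgroup_dvd_card)) A hAp hAc (Or.inr ⟨S, hA, hA1⟩)
  have hrk : ¬ Cfsg.RankLE 2 ↥(A ⊓ centralizer (A : Set G)) := fun h => hA3 (by
    have hAeq : A ⊓ centralizer (A : Set G) = A := inf_eq_left.2 fun x hx =>
      mem_centralizer_iff.2 fun y hy => congrArg Subtype.val (hAc.is_comm.comm ⟨y, hy⟩ ⟨x, hx⟩)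
    rw [hAeq] at h
    exact h p Fact.out)
  have hπ : ∀ r : ℕ, r.Prime → r ∣ Nat.card (fittingOf M) → r ∣ Nat.card A := fun r hr hd => by
    obtain ⟨k, hk⟩ := IsPGroup.iff_card.1 hF
    rw [(Nat.prime_dvd_prime_iff_eq hr Fact.out).1 (hr.dvd_of_dvd_pow (hk ▸ hd)), ha]
    exact dvd_pow_self p ha0
  have hinv := Bender.no_invariant hG hM hTH hAF hrk hπ
  have hcore : ∀ H : Subgroup G, A ≤ H → Uniq.coreOf p H = ⊥ := fun H hAH =>
    hinv _ (hAH.trans (Uniq.le_normalizer_coreOf H)) fun r hr hd => ⟨hr, fun hrA => hr.not_dvd_one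
      ((Uniq.coprime_coreOf (p := p) H) ▸ Nat.dvd_gcd hd
        ((Nat.prime_dvd_prime_iff_eq hr Fact.out).1 (hr.dvd_of_dvd_pow (ha ▸ hrA)) ▸ dvd_rfl))⟩
  have hover : ∀ L : Subgroup G, L ≠ ⊤ → (S : Subgroup G) ≤ L → L ≤ M := by
    intro L hL hSL
    have hmapL : ((S.subtype hSL : Sylow p L) : Subgroup L).map L.subtype = (S : Subgroup G) :=
      map_subgroupOf_eq_of_le hSL
    have hmapM : ((S.subtype hSM : Sylow p M) : Subgroup M).map M.subtype = (S : Subgroup G) :=
      map_subgroupOf_eq_of_le hSM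
    have hfL := Uniq.factor hG hp hL (S.subtype hSL)
    rw [hcore L (hA.1.trans hSL), bot_sup_eq, hmapL] at hfL
    have hfM := Uniq.factor hG hp hM.1 (S.subtype hSM)
    rw [hcore M hAM, bot_sup_eq, hmapM] at hfM
    have hS1 : (S : Subgroup G) ≠ ⊥ := fun h => ha0 (by
      have hA0 : A = ⊥ := le_bot_iff.1 (hA.1.trans h.le)
      have h0 : Nat.card A = 1 := by rw [hA0, card_bot]
      rw [ha] at h0
      exact (Nat.pow_eq_one.1 h0).resolve_left (Fact.out : p.Prime).ne_one)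
    have hN : normalizer (Puig.centerUp (S : Subgroup G) : Set G) ≠ ⊤ :=
      CfsgLib.CN.MinSimple.normalizer_ne_top hG (S.2.to_le (inf_le_left.trans (Puig.upIn_le _))).isNilpotent
        (Uniq.centerUp_ne_bot S.2 hS1)
    rw [← (hM.le_iff.1 (hfM.trans inf_le_right)).resolve_left hN]
    exact hfL.trans inf_le_right
  refine Uniq.unique_of_core_le hG hp hM S hSM hover hAp (fun h => ha0 ?_) hAM
    fun H _ hAH => (hcore H hAH).le.trans bot_le
  rw [h, card_bot] at ha
  exact (Nat.pow_eq_one.1 ha.symm).resolve_left (Fact.out : p.Prime).ne_one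

omit hF hF1 in
/-- Large `p`-rank in the Fitting subgroup of a maximal subgroup puts every abelian `p`-subgroup of
rank at least three in only one maximal subgroup. -/
theorem unique_of_rank (hr : ¬ Cfsg.PRankLE p 2 ↥(fittingOf M)) {A : Subgroup G} (hAp : IsPGroup p A)
    (hAc : IsMulCommutative A) (hA3 : ¬ Cfsg.PRankLE p 2 A) : Cfsg.InUniqueMaximal A := by
  obtain ⟨E, hEF, hEe, hEc⟩ := Uniq.exists_elementary hr
  have hsq : p ^ 2 ≤ p ^ 3 := Nat.pow_le_pow_right (Fact.out : p.Prime).pos (by norm_num)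
  have hlt : ¬ p ^ 3 ≤ p ^ 2 := not_le.2 (Nat.pow_lt_pow_right (Fact.out : p.Prime).one_lt (by norm_num))
  obtain ⟨B, hBp, hBc, hB3, hBU⟩ : ∃ B : Subgroup G, IsPGroup p B ∧ IsMulCommutative B ∧
      ¬ Cfsg.PRankLE p 2 B ∧ Cfsg.InUniqueMaximal B := by
    by_cases hF : IsPGroup p ↥(fittingOf M)
    · have hF1 : fittingOf M ≠ ⊥ := fun h => by
        have hE0 : E = ⊥ := le_bot_iff.1 (hEF.trans h.le)
        have h1 : Nat.card E = 1 := by rw [hE0, card_bot]
        rw [hEc] at h1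
        exact (Nat.one_lt_pow (by norm_num) (Fact.out : p.Prime).one_lt).ne' h1
      obtain ⟨P₀⟩ : Nonempty (Sylow p M) := inferInstance
      obtain ⟨S, hS⟩ := sylow_isSylow hG hM hF hF1 P₀
      have hrS : ¬ Cfsg.PRankLE p 2 ↥(S : Subgroup G) := fun h =>
        hr (Uniq.rankLE_mono (hS ▸ fitting_le_sylow hG hM hF hF1 P₀) h)
      obtain ⟨B, hB, hB3, hBc⟩ := Uniq.exists_scn_three hG (p_ne_two hG hM hF hF1) S hrS
      exact ⟨B, S.2.to_le hB.1, hBc, hB3,
        (scn_unique hG hM hF hF1 S (hS ▸ map_subtype_le _) hB hB3).2⟩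
    · obtain ⟨A₀, hEA, ⟨hA₀, hA₀e⟩, hmax⟩ := exists_maximal_ge_of_wellFoundedGT
        (fun A : Subgroup G => A ≤ fittingOf M ∧ Cfsg.IsElementaryAbelian p A) E ⟨hEF, hEe⟩
      have hA₀3 : p ^ 3 ≤ Nat.card A₀ := hEc ▸ card_le_of_le hEA
      refine ⟨A₀, CfsgLib.Signalizer.isPGroup hA₀e, hA₀e.1, fun h => ?_,
        Uniq.of_centralize hG (Bender.fitting_case hG hM hA₀ hA₀e hA₀3 hF)
          (le_centralizer_iff.1 inf_le_right) hA₀e (hsq.trans hA₀3)⟩
      exact hlt (hA₀3.trans (Uniq.rankLE_elementary h le_rfl hA₀e))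
  refine Uniq.connect hG hBp hB3 hBU hBc hAp (fun hcy => ?_) fun h => ?_
  · obtain ⟨D, hDA, hDe, hDc⟩ := Uniq.exists_elementary hA3
    haveI := hcy
    exact CfsgLib.Signalizer.not_isCyclic hDe (hDc ▸ hsq)
      (isCyclic_of_injective (inclusion hDA) (inclusion_injective hDA))
  · exact hA3 (Uniq.rankLE_mono (fun a ha => mem_centralizer_iff.2 fun b hb =>
      congrArg Subtype.val (hAc.is_comm.comm ⟨b, hb⟩ ⟨a, ha⟩)) h)

end CfsgLib.OddLocal.UniqFirst
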